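import Cfsg.Agent.L0.RU7

/-! `SL_3(q)`, `q ≥ 5` odd. -/

set_option autoImplicit false
set_option linter.unusedSectionVars false
set_option linter.unusedSimpArgs false
set_option linter.unnecessarySeqFocus false
set_option linter.unusedTactic false
set_option linter.unreachableTactic false

namespace Cfsg.Agent.L0.RU

open Matrix

variable {F : Type*} [Field F]

section Gen
variable {ι : Type*} [Fintype ι] [DecidableEq ι]
variable {G : Subgroup (SpecialLinearGroup ι F)} {v : SpecialLinearGroup ι F} {a φ : ι → F}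

theorem c_new (s r : F) (m : ℤ) : c v (s • a + (1 : F) • A v a 1) (r • φ + (1 : F) • Ph v φ 1) m =
    r * s * c v a φ m + r * c v a φ (1 + m) + s * c v a φ (m - 1) + c v a φ m := by
  rw [c, A_add, A_smul, A_smul, A_A]
  simp only [add_dotProduct, dotProduct_add, smul_dotProduct, dotProduct_smul, Ph_A, smul_eq_mul,
    add_sub_cancel_left, c]
  ring

theorem odd3 {s m : F} (hs : s ≠ 0) (hm : m ≠ 0) (c0 : c v a φ 0 = m - 1)
    (c1 : c v a φ 1 = (m + 1) * s) (cm : c v a φ (-1) = (m + 1) / s)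
    (c2 : c v a φ 2 = s ^ 2 * (m - 1)) (hY : Y G v a φ 1 m⁻¹ 0) :
    R G (((m + 1) / m) • (s • a + (1 : F) • A v a 1)) ((-s⁻¹) • φ + (1 : F) • Ph v φ 1) ∧
    ∀ x : F, R G (x • A v (s • a + (1 : F) • A v a 1) 1) ((-s⁻¹) • φ + (1 : F) • Ph v φ 1) →
      R G ((x * (2 * s)) • (s • a + (1 : F) • A v a 1)) ((-s⁻¹) • φ + (1 : F) • Ph v φ 1) := by
  have hC := C2 (v := v) (a := a) (φ := φ)
  rw [c0, c1, cm] at hC
  have hν : m⁻¹ * (1 + 1 * c v a φ 0) = 1 := by rw [c0]; field_simp; ring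
  refine ⟨?_, fun x hx => ?_⟩
  · have y0 := RM_Y (r := 2) 0 1 rfl hY hC !![1, -m⁻¹ * (m + 1) * s; 0, -m⁻¹] (by
      ext i j; fin_cases i <;> fin_cases j <;> simp [Matrix.mul_apply, Fin.sum_univ_two, single] <;>
        ring)
    have yy := y0.mul hC y0 _ rfl
    have h1 := RM2 (x0 := (m + 1) / m * s) (x1 := (m + 1) / m) (y0 := -s⁻¹) (y1 := 1) yy (by
      ext i j; fin_cases i <;> fin_cases j <;> simp [Matrix.mul_apply, Fin.sum_univ_two] <;>
        field_simp <;> ring)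
    convert h1 using 1
    module
  · have h1 := R.conj hY (Y_inv hν 0) hx
    have e1 : (gg v a φ 1 0 * gg v a φ (-(1 * m⁻¹)) (0 + 1)) *ᵥ
        (x • A v (s • a + (1 : F) • A v a 1) 1) = x • A v (s • a + (1 : F) • A v a 1) 1 -
          (x * (2 * s)) • (s • a + (1 : F) • A v a 1) := by
      rw [← mulVec_mulVec, A_add, A_smul, A_smul, A_A]
      simp only [mulVec_smul, mulVec_add, gg_A, zero_add, sub_self, sub_zero, add_sub_cancel_right,
        show (1 : ℤ) + 1 = 2 by ring, show (2 : ℤ) - 1 = 1 by ring, c0, c1, c2, A_zero]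
      match_scalars <;> field_simp <;> ring
    have e2 : ((-s⁻¹) • φ + (1 : F) • Ph v φ 1) ᵥ*
        (gg v a φ 1 (0 + 1) * gg v a φ (-(1 * m⁻¹)) 0) =
          (-1 : F) • ((-s⁻¹) • φ + (1 : F) • Ph v φ 1) := by
      have e : (-s⁻¹) • φ = (-s⁻¹) • Ph v φ 0 := by rw [Ph_zero]
      rw [← vecMul_vecMul, e]
      simp only [smul_vecMul, add_vecMul, Ph_gg, zero_add, sub_self, sub_zero, zero_sub, c0, c1, cm]
      match_scalars <;> field_simp <;> ring
    rw [e1, e2, ← R.smul_iff] at h1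
    have h0 := c_new (v := v) (a := a) (φ := φ) s (-s⁻¹) 1
    rw [show (1 : ℤ) + 1 = 2 by ring, sub_self, c0, c1, c2] at h0
    have h0' : c v (s • a + (1 : F) • A v a 1) ((-s⁻¹) • φ + (1 : F) • Ph v φ 1) 1 = 0 := by
      rw [h0]; field_simp; ring
    have h2 := h1.add_left hx (by rw [dotProduct_smul, ← c, h0', smul_zero])
    convert h2 using 1
    module

end Gen

theorem sl3_odd [Fintype F] (h2 : (2 : F) ≠ 0) (hq : 4 < Fintype.card F) :
    ∃ g : SpecialLinearGroup (Fin 3) F, Subgroup.closure {Jn F 3, g * Jn F 3 * g⁻¹} = ⊤ := by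
  classical
  obtain ⟨l, hl, hl3⟩ : ∃ l : Fˣ, (∀ x, x ∈ Submonoid.powers l) ∧ (l : F) ^ 2 + 3 ≠ 0 := by
    obtain ⟨l, hl⟩ := exists_gen (F := F)
    by_cases h : (l : F) ^ 2 + 3 = 0
    · refine ⟨l⁻¹, fun x => ?_, fun h' => ?_⟩
      · obtain ⟨k, hk⟩ := hl x⁻¹
        exact ⟨k, by simp only at hk ⊢; rw [inv_pow, hk, inv_inv]⟩
      · have e : (l : F) * ((l⁻¹ : Fˣ) : F) = 1 := l.mul_inv
        have : (2 : F) ^ 3 = 0 := by
          linear_combination (3 - ((l⁻¹ : Fˣ) : F) ^ 2 - 3) * h + 3 * h' +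
            ((l : F) * ((l⁻¹ : Fˣ) : F) + 1) * e
        exact pow_ne_zero 3 h2 this
    · exact ⟨l, hl, h⟩
  have hord : orderOf l = Fintype.card F - 1 := by
    rw [← Fintype.card_units, ← Nat.card_eq_fintype_card]
    exact orderOf_eq_card_of_forall_mem_powers hl
  set s : F := (l : F) with hsl
  have hs : s ≠ 0 := l.ne_zero
  have hs2 : s ^ 2 ≠ 1 := fun h => by
    have : l ^ 2 = 1 := Units.ext (by rw [Units.val_pow_eq_pow_val]; exact h)
    have := Nat.le_of_dvd (by norm_num) (orderOf_dvd_of_pow_eq_one this)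
    omega
  have hp : s + 1 ≠ 0 := fun h => hs2 (by linear_combination (s - 1) * h)
  have hn : s - 1 ≠ 0 := fun h => hs2 (by linear_combination (s + 1) * h)
  set m : F := ((s + 1) / (s - 1)) ^ 3 with hm
  have hm0 : m ≠ 0 := pow_ne_zero _ (div_ne_zero hp hn)
  obtain ⟨c0, c1, c2, c3', -, cm, cm2⟩ := c3 (m - 1) (2 * (s ^ 4 - 1) / (s - 1) ^ 3)
    (2 * (s ^ 2 - 1) ^ 2 / (s - 1) ^ 3)
  set φ : Fin 3 → F := ![m - 1, 2 * (s ^ 4 - 1) / (s - 1) ^ 3, 2 * (s ^ 2 - 1) ^ 2 / (s - 1) ^ 3]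
    with hφ
  replace c1 : c (Jn F 3) ![1, 0, 0] φ 1 = (m + 1) * s := by rw [c1, hm]; field_simp; ring
  replace cm : c (Jn F 3) ![1, 0, 0] φ (-1) = (m + 1) / s := by rw [cm, hm]; field_simp; ring
  replace c2 : c (Jn F 3) ![1, 0, 0] φ 2 = s ^ 2 * (m - 1) := by rw [c2, hm]; field_simp; ring
  obtain ⟨g, hg⟩ := exists_g' (v := Jn F 3) (a := ![1, 0, 0]) (φ := φ) (l := 1)
    (div_ne_zero hp hn) (by rw [c0, Fintype.card_fin]; ring)
  refine ⟨g, ?_⟩
  set G := Subgroup.closure {Jn F 3, g * Jn F 3 * g⁻¹}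
  have hv : Jn F 3 ∈ G := Subgroup.subset_closure (by simp)
  have hY := hg _ hv (Subgroup.subset_closure (by simp))
  rw [Fintype.card_fin, ← hm] at hY
  obtain ⟨h1, h3⟩ := odd3 hs hm0 c0 c1 cm c2 hY
  set a' := s • ![1, 0, 0] + (1 : F) • A (Jn F 3) ![1, 0, 0] 1 with ha'
  set φ' := (-s⁻¹) • φ + (1 : F) • Ph (Jn F 3) φ 1 with hφ'
  have d0 : c (Jn F 3) a' φ' 0 = 0 := by
    rw [ha', hφ', c_new, add_zero, zero_sub, c0, c1, cm]; field_simp; ring
  have d1 : c (Jn F 3) a' φ' 1 = 0 := by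
    rw [ha', hφ', c_new, show (1 : ℤ) + 1 = 2 by ring, sub_self, c0, c1, c2]; field_simp; ring
  have dm : c (Jn F 3) a' φ' (-1) = 2 * (s + 1) ^ 3 / s := by
    rw [ha', hφ', c_new, add_neg_cancel, show (-1 : ℤ) - 1 = -2 by ring, c0, cm, cm2, hm]
    field_simp; ring
  have d2 : c (Jn F 3) a' φ' 2 = 2 * (s + 1) ^ 3 / s := by
    rw [ha', hφ', c_new, show (1 : ℤ) + 2 = 3 by ring, show (2 : ℤ) - 1 = 1 by ring, c1, c2, c3', hm]
    field_simp; ring
  have he : 2 * (s + 1) ^ 3 / s ≠ 0 := div_ne_zero (mul_ne_zero h2 (pow_ne_zero _ hp)) hs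
  set e := 2 * (s + 1) ^ 3 / s
  have hκ : (m + 1) / m ≠ 0 := by
    refine div_ne_zero ?_ hm0
    have : m + 1 = 2 * s * (s ^ 2 + 3) / (s - 1) ^ 3 := by rw [hm]; field_simp; ring
    rw [this]
    exact div_ne_zero (mul_ne_zero (mul_ne_zero h2 hs) hl3) (pow_ne_zero _ hn)
  set κ := (m + 1) / m
  have h0 : φ' ⬝ᵥ A (Jn F 3) a' 0 = 0 := d0
  have h1' : R G (κ • A (Jn F 3) a' 0) φ' := by rw [A_zero]; exact h1
  have up : ∀ x ∈ SK G _ _ h0, R G ((x * κ * e) • A (Jn F 3) a' 1) φ' := fun x hx => by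
    have := S_comm hv 1 hx h1' d0 d0 (by rw [zero_add]; exact d1)
    rwa [zero_sub, dm, zero_add] at this
  have k1 : κ * e * (2 * s) ∈ stab (SK G _ _ h0) := fun x hx => by
    have := h3 _ (up x hx)
    change R G _ _
    rw [A_zero]
    convert this using 2
    ring
  have k2 : (κ * e) ^ 3 ∈ stab (SK G _ _ h0) := fun x hx => by
    have := S_comm hv (-1) (up x hx) (up κ h1') d1 d1 (by rw [add_neg_cancel]; exact d0)
    rw [show (1 : ℤ) - -1 = 2 by ring, d2, add_neg_cancel] at this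
    change R G _ _
    convert this using 2
    ring
  have h4 : stab (SK G _ _ h0) = ⊤ := by
    refine cube_top (by omega) hl _ ?_
    have := div_mem (div_mem (pow_mem k1 3) k2) (pow_mem (natCast_mem (stab (SK G _ _ h0)) 2) 3)
    convert this using 1
    push_cast
    field_simp
    rfl
  refine fin3 hv d0 d1 (by rw [dm]; exact he) (by rw [d2]; exact he) ?_ ?_ fun x => ?_
  · have e1 := A3_succ (A_zero (v := Jn F 3) (a := ![1, 0, 0]))
    rw [zero_add] at e1
    rw [ha', e1]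
    simpa using hp
  · have e1 : Ph (Jn F 3) φ 1 2 = φ 2 := by
      have : Ph (Jn F 3) φ 1 ᵥ* (Jn F 3).1 = φ := by
        have := Ph_zp (v := Jn F 3) (φ := φ) (-1) 1
        rwa [neg_neg, zpow_one, add_neg_cancel, Ph_zero] at this
      have := congrFun this 2
      rw [J3] at this
      simpa [vecMul, dotProduct, Fin.sum_univ_three] using this
    rw [hφ', Pi.add_apply, Pi.smul_apply, Pi.smul_apply, e1]
    have : φ 2 = 2 * (s ^ 2 - 1) ^ 2 / (s - 1) ^ 3 := rfl
    rw [this, smul_eq_mul, smul_eq_mul, ← add_mul]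
    refine mul_ne_zero ?_ (div_ne_zero (mul_ne_zero h2 (pow_ne_zero _ (sub_ne_zero.2 hs2)))
      (pow_ne_zero _ hn))
    intro h
    apply hn
    field_simp at h
    linear_combination h
  · have := full_of_stab h4 h1' hκ x
    rw [← A_zero (v := Jn F 3) (a := a')]
    exact this

theorem sl3 [Fintype F] :
    ∃ g : SpecialLinearGroup (Fin 3) F, Subgroup.closure {Jn F 3, g * Jn F 3 * g⁻¹} = ⊤ := by
  by_cases h4 : Fintype.card F = 4
  · exact sl3_four h4
  by_cases h3 : Fintype.card F = 3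
  · exact sl3_three h3
  by_cases h2 : (2 : F) = 0
  · exact sl3_even h2 h4
  refine sl3_odd h2 ?_
  have := Fintype.one_lt_card (α := F)
  by_contra h
  have h5 : Fintype.card F = 2 := by omega
  have := FiniteField.cast_card_eq_zero F
  rw [h5] at this
  exact h2 (by exact_mod_cast this)

end Cfsg.Agent.L0.RU
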