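import Cfsg.Agent.L0.RU4

/-! `SL_n(q)`, `n ≥ 4`, generated by regular unipotent elements. -/

set_option autoImplicit false
set_option linter.unusedSectionVars false

namespace Cfsg.Agent.L0.RU

open Matrix

variable {F : Type*} [Field F]

section Gen
variable {ι : Type*} [Fintype ι] [DecidableEq ι]
variable {G : Subgroup (SpecialLinearGroup ι F)} {v : SpecialLinearGroup ι F} {a φ : ι → F}

theorem det_tv (x y : ι → F) : (1 + vecMulVec x y).det = 1 + y ⬝ᵥ x := by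
  rw [vecMulVec_eq Unit, det_one_add_replicateCol_mul_replicateRow]

theorem det_gg (l : F) : (gg v a φ l 0).det = 1 + l * c v a φ 0 := by
  rw [gg, det_tv, dotProduct_smul, Ph_A, sub_self, smul_eq_mul]

theorem inv_val {g : SpecialLinearGroup ι F} {N : Matrix ι ι F} (h : g.1 * N = 1) : (g⁻¹).1 = N := by
  have h1 : (g⁻¹).1 * g.1 = 1 := congrArg Subtype.val (inv_mul_cancel g)
  calc (g⁻¹).1 = (g⁻¹).1 * (g.1 * N) := by rw [h, mul_one]
    _ = N := by rw [← mul_assoc, h1, one_mul]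

theorem exists_g (l : F) (h0 : c v a φ 0 = 0) : ∃ g : SpecialLinearGroup ι F,
    ∀ G : Subgroup (SpecialLinearGroup ι F), v ∈ G → g * v * g⁻¹ ∈ G → Y G v a φ l 1 0 := by
  refine ⟨⟨gg v a φ l 0, by rw [det_gg, h0, mul_zero, add_zero]⟩, fun G hv h => Y_of hv ⟨_, h, ?_⟩⟩
  have := inv_val (g := ⟨gg v a φ l 0, by rw [det_gg, h0, mul_zero, add_zero]⟩)
    (gg_mul (v := v) (a := a) (φ := φ) (l := l) (ν := 1) (by rw [h0]; ring) 0)
  rw [← this]; rfl

theorem R_nat {x : ι → F} (hx : φ ⬝ᵥ x = 0) (h : R G x φ) (k : ℕ) : R G ((k : F) • x) φ := by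
  induction k with
  | zero => rw [Nat.cast_zero, zero_smul]; exact R.zero_left _
  | succ k ih => rw [Nat.cast_succ, add_smul, one_smul]; exact ih.add_left h hx

theorem full_of_gen {P : F → Prop} (h0 : P 0) {l : Fˣ} (hl : ∀ x, x ∈ Submonoid.powers l)
    {s : F} (hs : s ≠ 0) (h : P s) (hm : ∀ s, P s → P (s * l)) (x : F) : P x := by
  by_cases hx : x = 0
  · rwa [hx]
  obtain ⟨k, hk⟩ := hl (Units.mk0 (x / s) (div_ne_zero hx hs))
  have h1 : ∀ k : ℕ, P (s * (l : F) ^ k) := by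
    intro k
    induction k with
    | zero => simpa using h
    | succ k ih => rw [pow_succ, ← mul_assoc]; exact hm _ ih
  have h2 : (l : F) ^ k = x / s := by
    have := congrArg Units.val hk
    simpa using this
  have := h1 k
  rwa [h2, mul_div_cancel₀ _ hs] at this

end Gen

theorem exists_gen [Finite F] : ∃ l : Fˣ, ∀ x, x ∈ Submonoid.powers l :=
  IsCyclic.exists_monoid_generator

theorem nat_of_prime [Fintype F] (hp : (Fintype.card F).Prime) (s : F) : ∃ k : ℕ, s = k := by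
  haveI := Fact.mk hp
  obtain ⟨z, rfl⟩ := (ZMod.ringEquivOfPrime F hp rfl).surjective s
  exact ⟨z.val, by rw [← map_natCast (ZMod.ringEquivOfPrime F hp rfl), ZMod.natCast_zmod_val]⟩

variable {k : ℕ}

abbrev dd (F : Type*) [Field F] (n : ℕ) : Fin n → F := A (Jn F n) (e0 F n) (-1)

theorem c_win (γ γ' : F) (m : ℤ) (h1 : 1 ≤ m) (h2 : m ≤ ((k + 2 : ℕ) : ℤ) - 2) :
    c (Jn F (k + 2)) (dd F _) (eps (k + 2) (by omega) γ γ') m = 0 := by
  rw [c, A_A, show -1 + m = ((m - 1).toNat : ℕ) by omega, B_nat, eps_vec,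
    Nat.choose_eq_zero_of_lt (by omega), Nat.choose_eq_zero_of_lt (by omega)]
  simp

theorem c_last (γ γ' : F) :
    c (Jn F (k + 2)) (dd F _) (eps (k + 2) (by omega) γ γ') (((k + 2 : ℕ) : ℤ) - 1) = γ := by
  rw [c, A_A, show -1 + (((k + 2 : ℕ) : ℤ) - 1) = (k : ℕ) by omega, B_nat, eps_vec]
  simp

theorem c_zero (γ γ' : F) :
    c (Jn F (k + 2)) (dd F _) (eps (k + 2) (by omega) γ γ') 0 = (-1) ^ k * (γ - γ') := by
  rw [c, A_zero, dd, B_m1, eps_vec]
  simp [pow_succ]; ring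

theorem c_m1 (γ γ' : F) :
    c (Jn F (k + 2)) (dd F _) (eps (k + 2) (by omega) γ γ') (-1) =
      (-1) ^ k * ((k + 2) * (γ - γ') - γ) := by
  rw [c, A_A, show (-1 : ℤ) + -1 = -2 by ring, B_m2, eps_vec]
  simp [pow_succ]; ring

theorem fin5 {G : Subgroup (SpecialLinearGroup (Fin (k + 2)) F)} (hv : Jn F (k + 2) ∈ G)
    (hk : 2 ≤ k) {γ γ' l ν : F} (hγ : γ ≠ 0) (hγ' : γ' ≠ 0) (ht : (k + 2) * (γ - γ') - γ ≠ 0)
    (hl : l ≠ 0) (hν : ν * (1 + l * c (Jn F (k + 2)) (dd F _) (eps (k + 2) (by omega) γ γ') 0) = 1)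
    (hY : Y G (Jn F (k + 2)) (dd F _) (eps (k + 2) (by omega) γ γ') l ν 0)
    (h2 : ∀ s : F, R G (s • A (Jn F (k + 2)) (dd F _) 2) (eps (k + 2) (by omega) γ γ')) : G = ⊤ := by
  refine fin4 hv (k + 2) (by omega) hν hY hl (c_win γ γ') ?_ (by rw [c_last]; exact hγ) h2
    (fun P hP => B_span (-2) P fun m h1 h2 => ?_)
    (fun P => dual_span (by omega) (by rw [eps_last]; exact hγ') P)
  · rw [c_m1]; exact mul_ne_zero (pow_ne_zero _ (by norm_num)) ht
  · have := hP (m + 1) (by omega) (by omega)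
    rwa [A_A, show -1 + (m + 1) = m by ring] at this

theorem one_in {G : Subgroup (SpecialLinearGroup (Fin (k + 2)) F)} (hv : Jn F (k + 2) ∈ G)
    (hk : 2 ≤ k) (hY : Y G (Jn F (k + 2)) (dd F _) (eps (k + 2) (by omega) 1 1) 1 1 0) :
    R G ((1 : F) • A (Jn F (k + 2)) (dd F _) 2) (eps (k + 2) (by omega) 1 1) := by
  have := homol (m := 1) hv one_ne_zero (by rw [c_zero]; ring) (c_win 1 1 1 le_rfl (by omega))
    (c_win 1 1 2 (by omega) (by omega)) (by rw [inv_one]; exact hY)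
  rcases this with h | h
  · rw [c_m1] at h
    convert h using 2
    rw [sub_self, mul_zero, mul_pow, ← pow_mul, mul_comm k 2, pow_mul]
    simp
  · exact absurd rfl h

theorem sl_prime [Fintype F] (hp : (Fintype.card F).Prime) (n : ℕ) (hn : 4 ≤ n) :
    ∃ g : SpecialLinearGroup (Fin n) F, Subgroup.closure {Jn F n, g * Jn F n * g⁻¹} = ⊤ := by
  obtain ⟨k, rfl⟩ : ∃ k, n = k + 2 := ⟨n - 2, by omega⟩
  have h0 : c (Jn F (k + 2)) (dd F _) (eps (k + 2) (by omega) 1 1) 0 = 0 := by rw [c_zero]; ring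
  obtain ⟨g, hg⟩ := exists_g 1 h0
  refine ⟨g, ?_⟩
  have hv : Jn F (k + 2) ∈ Subgroup.closure {Jn F (k + 2), g * Jn F (k + 2) * g⁻¹} :=
    Subgroup.subset_closure (by simp)
  have hY := hg _ hv (Subgroup.subset_closure (by simp))
  refine fin5 hv (by omega) one_ne_zero one_ne_zero (by simp) one_ne_zero (by rw [h0]; ring) hY
    fun s => ?_
  obtain ⟨j, rfl⟩ := nat_of_prime hp s
  have := one_in hv (by omega) hY
  rw [one_smul] at this
  exact R_nat (c_win 1 1 2 (by omega) (by omega)) this j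

theorem sl_three [Fintype F] (n : ℕ) (hn : 4 ≤ n) :
    ∃ g h : SpecialLinearGroup (Fin n) F,
      Subgroup.closure {Jn F n, g * Jn F n * g⁻¹, h * Jn F n * h⁻¹} = ⊤ := by
  obtain ⟨k, rfl⟩ : ∃ k, n = k + 2 := ⟨n - 2, by omega⟩
  have h0 : c (Jn F (k + 2)) (dd F _) (eps (k + 2) (by omega) 1 1) 0 = 0 := by rw [c_zero]; ring
  obtain ⟨l, hl⟩ := exists_gen (F := F)
  set t := c (Jn F (k + 2)) (dd F _) (eps (k + 2) (by omega) 1 1) (-1) with ht
  have ht2 : t ^ 2 = 1 := by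
    rw [ht, c_m1, sub_self, mul_zero, mul_pow, ← pow_mul, mul_comm k 2, pow_mul]
    simp
  obtain ⟨g, hg⟩ := exists_g 1 h0
  obtain ⟨h, hh⟩ := exists_g (l * t ^ (k - 1)) h0
  refine ⟨g, h, ?_⟩
  set G := Subgroup.closure {Jn F (k + 2), g * Jn F (k + 2) * g⁻¹, h * Jn F (k + 2) * h⁻¹}
  have hv : Jn F (k + 2) ∈ G := Subgroup.subset_closure (by simp)
  have hY := hg _ hv (Subgroup.subset_closure (by simp))
  have hY' := hh _ hv (Subgroup.subset_closure (by simp))
  have h1 := one_in hv (by omega) hY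
  have key : ∀ j : ℕ, j + 2 ≤ k →
      R G ((t ^ j) • A (Jn F (k + 2)) (dd F _) (j + 2)) (eps (k + 2) (by omega) 1 1) := by
    intro j
    induction j with
    | zero => intro _; simpa using h1
    | succ j ih =>
      intro hj
      have := step (l := 1) (ν := 1) (by rw [h0]; ring) (Y_shift hv hY (j + 2))
        (c_win 1 1 _ (by omega) (by omega)) (c_win 1 1 _ (by omega) (by omega))
        (c_win 1 1 _ (by omega) (by omega)) (ih (by omega))
        (by rw [h0, mul_zero, add_zero, mul_one]; exact ih (by omega))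
      rw [mul_one, mul_one, ← ht, ← pow_succ] at this
      push_cast
      rw [show (j : ℤ) + 1 + 2 = j + 2 + 1 by ring]
      exact this
  refine fin5 hv (by omega) one_ne_zero one_ne_zero (by simp) one_ne_zero (by rw [h0]; ring) hY
    (full_of_gen (by rw [zero_smul]; exact R.zero_left _) hl one_ne_zero h1 fun s hs => ?_)
  have h3 := S_comm hv (1 - k) (key (k - 2) (by omega)) hs (c_win 1 1 _ (by omega) (by omega))
    (c_win 1 1 _ (by omega) (by omega)) (c_win 1 1 _ (by omega) (by omega))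
  rw [show (2 : ℤ) - (1 - k) = ((k + 2 : ℕ) : ℤ) - 1 by omega, c_last,
    show ((k - 2 : ℕ) : ℤ) + 2 + (1 - k) = 1 by omega] at h3
  have h4 := step (ν := 1) (by rw [h0]; ring) (Y_shift hv hY' 1)
    (c_win 1 1 _ (by omega) (by omega)) (c_win 1 1 _ (by omega) (by omega))
    (c_win 1 1 _ (by omega) (by omega)) h3 (by rw [h0, mul_zero, add_zero, mul_one (_ * 1)]; exact h3)
  rw [← ht, show (1 : ℤ) + 1 = 2 by ring] at h4
  convert h4 using 2
  obtain ⟨j, rfl⟩ : ∃ j, k = j + 2 := ⟨k - 2, by omega⟩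
  have : (t ^ 2) ^ (j + 1) = 1 := by rw [ht2, one_pow]
  simp only [Nat.add_sub_cancel, show j + 2 - 1 = j + 1 by omega]
  linear_combination (-s * l) * this

theorem sl_np [Fintype F] (hp : ¬ (Fintype.card F).Prime) (n : ℕ) (hn : 4 ≤ n) :
    ∃ u : SpecialLinearGroup (Fin n) F, Reg u.1 ∧ Subgroup.closure {Jn F n, u} = ⊤ := by
  classical
  obtain ⟨k, rfl⟩ : ∃ k, n = k + 2 := ⟨n - 2, by omega⟩
  obtain ⟨l, hl⟩ := exists_gen (F := F)
  have hc : 4 ≤ Fintype.card F := by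
    have := Fintype.one_lt_card (α := F)
    by_contra h
    have : Fintype.card F = 2 ∨ Fintype.card F = 3 := by omega
    rcases this with h | h <;> rw [h] at hp <;> norm_num at hp
  have hord : orderOf l = Fintype.card F - 1 := by
    rw [← Fintype.card_units, ← Nat.card_eq_fintype_card]
    exact orderOf_eq_card_of_forall_mem_powers hl
  set m : F := ((l⁻¹ : Fˣ) : F) with hm
  have hm0 : m ≠ 0 := Units.ne_zero _
  have hml : m⁻¹ = l := by simp [hm]
  have hm1 : m - 1 ≠ 0 := by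
    intro h
    have : l = 1 := by
      ext; rw [← hml, sub_eq_zero.1 h]; simp
    rw [this, orderOf_one] at hord; omega
  set δ : F := (-1) ^ k * (m - 1) with hδ
  obtain ⟨γ, -, hγ⟩ := Finset.exists_mem_notMem_of_card_lt_card
    (s := ({0, δ, (k + 2) * δ} : Finset F)) (t := Finset.univ)
    (lt_of_le_of_lt Finset.card_le_three (by rw [Finset.card_univ]; omega))
  simp only [Finset.mem_insert, Finset.mem_singleton, not_or] at hγ
  have h0 : c (Jn F (k + 2)) (dd F _) (eps (k + 2) (by omega) γ (γ - δ)) 0 = m - 1 := by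
    rw [c_zero, sub_sub_cancel, hδ, ← mul_assoc, ← mul_pow]; simp
  have hν : m⁻¹ * (1 + 1 * c (Jn F (k + 2)) (dd F _) (eps (k + 2) (by omega) γ (γ - δ)) 0) = 1 := by
    rw [h0]; field_simp; ring
  have hinv := gg_mul hν 0
  obtain ⟨u, hu⟩ : ∃ u : SpecialLinearGroup (Fin (k + 2)) F, u.1 =
      gg (Jn F (k + 2)) (dd F _) (eps (k + 2) (by omega) γ (γ - δ)) 1 0 * (Jn F (k + 2)).1 *
        gg (Jn F (k + 2)) (dd F _) (eps (k + 2) (by omega) γ (γ - δ)) (-(1 * m⁻¹)) 0 :=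
    ⟨⟨gg (Jn F (k + 2)) (dd F _) (eps (k + 2) (by omega) γ (γ - δ)) 1 0 * (Jn F (k + 2)).1 *
        gg (Jn F (k + 2)) (dd F _) (eps (k + 2) (by omega) γ (γ - δ)) (-(1 * m⁻¹)) 0,
      by rw [det_mul, det_mul, (Jn F (k + 2)).2, mul_one, ← det_mul, hinv, det_one]⟩, rfl⟩
  refine ⟨u, by rw [hu]; exact (Jn_reg (by omega)).conj hinv, ?_⟩
  set G := Subgroup.closure {Jn F (k + 2), u}
  have hv : Jn F (k + 2) ∈ G := Subgroup.subset_closure (by simp)
  have hY : Y G (Jn F (k + 2)) (dd F _) (eps (k + 2) (by omega) γ (γ - δ)) 1 m⁻¹ 0 :=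
    Y_of hv ⟨u, Subgroup.subset_closure (Set.mem_insert_of_mem _ rfl), hu⟩
  have ht : ((k : F) + 2) * (γ - (γ - δ)) - γ ≠ 0 := by
    rw [sub_sub_cancel]; exact sub_ne_zero.2 (Ne.symm hγ.2.2)
  have ht' : c (Jn F (k + 2)) (dd F _) (eps (k + 2) (by omega) γ (γ - δ)) (-1) ≠ 0 := by
    rw [c_m1]; exact mul_ne_zero (pow_ne_zero _ (by norm_num)) ht
  obtain ⟨h1, h2⟩ := homol2 hv hm0 h0 (c_win _ _ 1 le_rfl (by omega))
    (c_win _ _ 2 (by omega) (by omega)) hY
  have h3 : ∃ s : F, s ≠ 0 ∧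
      R G (s • A (Jn F (k + 2)) (dd F _) 2) (eps (k + 2) (by omega) γ (γ - δ)) := by
    by_cases h3 : 1 - m ^ 3 = 0
    · refine ⟨_, mul_ne_zero (mul_ne_zero (pow_ne_zero _ ht') (pow_ne_zero _ (inv_ne_zero hm0))) hm1,
        h2 ?_⟩
      have h4 : l ^ 3 = 1 := by
        ext
        rw [Units.val_pow_eq_pow_val, ← hml, inv_pow, ← sub_eq_zero.1 h3]; simp
      have h5 := Nat.le_of_dvd (by norm_num) (orderOf_dvd_of_pow_eq_one h4)
      have h6 : Fintype.card F = 4 := by omega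
      have h7 := FiniteField.cast_card_eq_zero F
      rw [h6] at h7
      have : (2 : F) * 2 = 0 := by rw [← h7]; norm_num
      exact (mul_eq_zero.1 this).elim id id
    · exact ⟨_, mul_ne_zero (mul_ne_zero (mul_ne_zero (pow_ne_zero _ ht')
        (pow_ne_zero _ (inv_ne_zero hm0))) hm1) h3, h1⟩
  obtain ⟨s, hs, hs'⟩ := h3
  refine fin5 hv (by omega) hγ.1 (sub_ne_zero.2 hγ.2.1) ht one_ne_zero hν hY
    (full_of_gen (by rw [zero_smul]; exact R.zero_left _) hl hs hs' fun s hs => ?_)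
  rw [← hml]
  exact scale hν (Y_shift hv hY 1) (c_win _ _ _ (by omega) (by omega))
    (c_win _ _ _ (by omega) (by omega)) (c_win _ _ _ (by omega) (by omega)) hs

end Cfsg.Agent.L0.RU
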