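import Mathlib

/-! Bertrand's postulate for primes `≡ 3 (mod 4)`, in the form
`∃ p ≡ 3 (mod 4), n + 2 ≤ 2 p ∧ p + 2 ≤ n` for `n ≥ 9`. -/

namespace Cfsg.Agent.L0

open Finset ArithmeticFunction
open scoped ArithmeticFunction.zeta Chebyshev

namespace B34

/-- the character mod 4 -/
noncomputable def c (d : ℕ) : ℝ := ((ZMod.χ₄ (d : ZMod 4) : ℤ) : ℝ)

theorem c_eq (d : ℕ) : c d = if d % 2 = 0 then 0 else if d % 4 = 1 then 1 else -1 := by
  unfold c
  rw [ZMod.χ₄_nat_eq_if_mod_four]
  split_ifs <;> simp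

theorem c_mul (a b : ℕ) : c (a * b) = c a * c b := by
  unfold c
  rw [Nat.cast_mul, map_mul, Int.cast_mul]

/-- partial sums of the character -/
def S (t : ℕ) : ℤ := if t % 4 = 1 ∨ t % 4 = 2 then 1 else 0

theorem sum_c (t : ℕ) : ∑ m ∈ Ioc 0 t, c m = (S t : ℝ) := by
  induction t with
  | zero => simp [S]
  | succ t ih =>
    rw [Finset.sum_Ioc_succ_top (Nat.zero_le t), ih, c_eq]
    unfold S
    have h : t % 4 = 0 ∨ t % 4 = 1 ∨ t % 4 = 2 ∨ t % 4 = 3 := by omega
    rcases h with h | h | h | h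
    · have h1 : (t + 1) % 4 = 1 := by omega
      have h2 : (t + 1) % 2 = 1 := by omega
      simp [h, h1, h2]
    · have h1 : (t + 1) % 4 = 2 := by omega
      have h2 : (t + 1) % 2 = 0 := by omega
      simp [h, h1, h2]
    · have h1 : (t + 1) % 4 = 3 := by omega
      have h2 : (t + 1) % 2 = 1 := by omega
      simp [h, h1, h2]
    · have h1 : (t + 1) % 4 = 0 := by omega
      have h2 : (t + 1) % 2 = 0 := by omega
      simp [h, h1, h2]

/-- `log N!` -/
noncomputable def T (N : ℕ) : ℝ := ∑ n ∈ Ioc 0 N, Real.log n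

/-- twisted sum of logarithms -/
noncomputable def U (N : ℕ) : ℝ := ∑ n ∈ Ioc 0 N, c n * Real.log n

theorem T_eq0 (N : ℕ) : T N = ∑ d ∈ Ioc 0 N, Λ d * ((N / d : ℕ) : ℝ) := by
  rw [← sum_Ioc_mul_zeta_eq_sum, vonMangoldt_mul_zeta]
  rfl

theorem U_eq0 (N : ℕ) : U N = ∑ d ∈ Ioc 0 N, Λ d * (c d * (S (N / d) : ℝ)) := by
  let f : ArithmeticFunction ℝ := ⟨fun d => Λ d * c d, by simp⟩
  let g : ArithmeticFunction ℝ := ⟨c, by simp [c_eq]⟩
  have h := sum_Ioc_mul_eq_sum_sum f g N
  have hfg : ∀ n, (f * g) n = c n * Real.log n := by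
    intro n
    rw [mul_apply, ← vonMangoldt_sum, Finset.mul_sum]
    rw [← Nat.sum_divisorsAntidiagonal (f := fun a _ => c n * Λ a)]
    refine Finset.sum_congr rfl fun x hx => ?_
    have hx1 := (Nat.mem_divisorsAntidiagonal.1 hx).1
    change Λ x.1 * c x.1 * c x.2 = c n * Λ x.1
    rw [← hx1, c_mul]; ring
  unfold U
  simp only [hfg] at h
  rw [h]
  refine Finset.sum_congr rfl fun d _ => ?_
  have : ∑ m ∈ Ioc 0 (N / d), g m = (S (N / d) : ℝ) := sum_c _
  rw [this]
  change Λ d * c d * _ = _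
  ring

theorem T_eq (x j : ℕ) : T (x / j) = ∑ d ∈ Ioc 0 x, Λ d * ((x / d / j : ℕ) : ℝ) := by
  rw [T_eq0]
  rw [Finset.sum_subset (Finset.Ioc_subset_Ioc_right (Nat.div_le_self x j))]
  · refine Finset.sum_congr rfl fun d _ => ?_
    rw [Nat.div_div_eq_div_mul, Nat.div_div_eq_div_mul, mul_comm j d]
  · intro d hd hd'
    simp only [Finset.mem_Ioc, not_and, not_le] at hd hd'
    rw [Nat.div_eq_of_lt (hd' hd.1)]; simp

theorem U_eq (x j : ℕ) : U (x / j) = ∑ d ∈ Ioc 0 x, Λ d * (c d * (S (x / d / j) : ℝ)) := by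
  rw [U_eq0]
  rw [Finset.sum_subset (Finset.Ioc_subset_Ioc_right (Nat.div_le_self x j))]
  · refine Finset.sum_congr rfl fun d _ => ?_
    rw [Nat.div_div_eq_div_mul, Nat.div_div_eq_div_mul, mul_comm j d]
  · intro d hd hd'
    simp only [Finset.mem_Ioc, not_and, not_le] at hd hd'
    rw [Nat.div_eq_of_lt (hd' hd.1)]; simp [S]

theorem T_ge (N : ℕ) : (N : ℝ) * Real.log N - N ≤ T N := by
  induction N with
  | zero => simp [T]
  | succ N ih =>
    unfold T at ih ⊢
    rw [Finset.sum_Ioc_succ_top (Nat.zero_le N)]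
    push_cast
    rcases Nat.eq_zero_or_pos N with rfl | hN
    · simp
    have hN' : (0 : ℝ) < N := by exact_mod_cast hN
    have h1 : Real.log ((N + 1) / N) ≤ (N + 1) / N - 1 :=
      Real.log_le_sub_one_of_pos (by positivity)
    rw [Real.log_div (by positivity) hN'.ne'] at h1
    have h2 : (N : ℝ) * (Real.log (N + 1) - Real.log N) ≤ 1 := by
      calc (N : ℝ) * (Real.log (N + 1) - Real.log N) ≤ N * ((N + 1) / N - 1) := by gcongr
        _ = 1 := by field_simp; ring
    nlinarith

theorem T_le (N : ℕ) (hN : 1 ≤ N) : T N ≤ (N : ℝ) * Real.log N - N + 1 + Real.log N := by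
  induction N, hN using Nat.le_induction with
  | base => simp [T]
  | succ N hN ih =>
    unfold T at ih ⊢
    rw [Finset.sum_Ioc_succ_top (Nat.zero_le N)]
    push_cast
    have hN' : (0 : ℝ) < N := by exact_mod_cast hN
    have h1 : Real.log (N / (N + 1)) ≤ N / (N + 1) - 1 :=
      Real.log_le_sub_one_of_pos (by positivity)
    rw [Real.log_div hN'.ne' (by positivity)] at h1
    have h2 : ((N : ℝ) + 1) * (Real.log N - Real.log (N + 1)) ≤ -1 := by
      calc ((N : ℝ) + 1) * (Real.log N - Real.log (N + 1)) ≤ (N + 1) * (N / (N + 1) - 1) := by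
            gcongr
        _ = -1 := by field_simp; ring
    nlinarith

theorem U_step (K : ℕ) :
    U (4 * (K + 1)) = U (4 * K) + (Real.log (4 * K + 1) - Real.log (4 * K + 3)) := by
  unfold U
  rw [show 4 * (K + 1) = 4 * K + 1 + 1 + 1 + 1 by ring]
  rw [Finset.sum_Ioc_succ_top (Nat.zero_le _), Finset.sum_Ioc_succ_top (Nat.zero_le _),
    Finset.sum_Ioc_succ_top (Nat.zero_le _), Finset.sum_Ioc_succ_top (Nat.zero_le _)]
  have h1 : c (4 * K + 1) = 1 := by
    rw [c_eq, if_neg (by omega), if_pos (by omega)]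
  have h2 : c (4 * K + 1 + 1) = 0 := by
    rw [c_eq, if_pos (by omega)]
  have h3 : c (4 * K + 1 + 1 + 1) = -1 := by
    rw [c_eq, if_neg (by omega), if_neg (by omega)]
  have h4 : c (4 * K + 1 + 1 + 1 + 1) = 0 := by
    rw [c_eq, if_pos (by omega)]
  rw [h1, h2, h3, h4]
  push_cast
  rw [show (4 * (K : ℝ) + 2 + 1) = 4 * K + 3 by ring]
  ring

theorem U_le (K : ℕ) : U (4 * K) ≤ 0 := by
  induction K with
  | zero => simp [U]
  | succ K ih =>
    rw [U_step]
    have : Real.log (4 * K + 1) ≤ Real.log (4 * K + 3) :=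
      Real.log_le_log (by positivity) (by linarith)
    linarith

theorem U_ge (K : ℕ) : -Real.log (4 * K + 1) ≤ U (4 * K) := by
  induction K with
  | zero => simp [U]
  | succ K ih =>
    rw [U_step]
    have : Real.log (4 * K + 3) ≤ Real.log (4 * ((K + 1 : ℕ) : ℝ) + 1) :=
      Real.log_le_log (by positivity) (by push_cast; linarith)
    linarith

/-- the floor combination -/
def G (t : ℕ) : ℤ :=
  (t : ℤ) - 2 * ((t / 2 : ℕ) : ℤ) - 2 * ((t / 3 : ℕ) : ℤ) + ((t / 4 : ℕ) : ℤ) +
    2 * ((t / 6 : ℕ) : ℤ) + 2 * ((t / 24 : ℕ) : ℤ)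

/-- the twisted combination -/
def H (t : ℕ) : ℤ := -S t + S (t / 2)

theorem G_per (q r : ℕ) : G (24 * q + r) = G r := by
  unfold G
  rw [show (24 * q + r) / 2 = 12 * q + r / 2 by omega,
    show (24 * q + r) / 3 = 8 * q + r / 3 by omega,
    show (24 * q + r) / 4 = 6 * q + r / 4 by omega,
    show (24 * q + r) / 6 = 4 * q + r / 6 by omega,
    show (24 * q + r) / 24 = q + r / 24 by omega]
  simp only [Nat.cast_add, Nat.cast_mul, Nat.cast_ofNat]
  ring

theorem H_per (q r : ℕ) : H (24 * q + r) = H r := by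
  unfold H S
  rw [show (24 * q + r) % 4 = r % 4 by omega, show (24 * q + r) / 2 % 4 = r / 2 % 4 by omega]

theorem GH1 (t : ℕ) : G t + H t ≤ 0 := by
  rw [← Nat.div_add_mod t 24, G_per, H_per]
  have h := Nat.mod_lt t (show 0 < 24 by norm_num)
  generalize t % 24 = r at h
  interval_cases r <;> decide

theorem GH2 (t : ℕ) : G t - H t ≤ 2 := by
  rw [← Nat.div_add_mod t 24, G_per, H_per]
  have h := Nat.mod_lt t (show 0 < 24 by norm_num)
  generalize t % 24 = r at h
  interval_cases r <;> decide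

theorem GH3 (t : ℕ) (h1 : t ≠ 1) (h2 : t < 25) : G t - H t ≤ 0 := by
  interval_cases t <;> first | decide | exact absurd rfl h1

theorem W_le (d t : ℕ) : (G t : ℝ) + c d * (H t : ℝ) ≤
    (if 25 ≤ t then 2 else 0) + (if t = 1 ∧ d % 4 ≠ 1 then 2 else 0) := by
  have a1 : (G t : ℝ) + H t ≤ 0 := by exact_mod_cast GH1 t
  have a2 : (G t : ℝ) - H t ≤ 2 := by exact_mod_cast GH2 t
  rw [c_eq]
  by_cases h25 : 25 ≤ t
  · have ht : ¬ (t = 1 ∧ d % 4 ≠ 1) := by omega
    rw [if_pos h25, if_neg ht]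
    split_ifs <;> linarith
  · rw [if_neg h25]
    by_cases ht : t = 1
    · by_cases hd : d % 4 = 1
      · rw [if_neg (by omega), if_pos hd, if_neg (by omega)]; linarith
      · rw [if_pos (show t = 1 ∧ d % 4 ≠ 1 from ⟨ht, hd⟩)]
        split_ifs <;> linarith
    · have a3 : (G t : ℝ) - H t ≤ 0 := by exact_mod_cast GH3 t ht (by omega)
      rw [if_neg (show ¬ (t = 1 ∧ d % 4 ≠ 1) from fun h => ht h.1)]
      split_ifs <;> linarith

theorem key (x : ℕ) :
    T x - 2 * T (x / 2) - 2 * T (x / 3) + T (x / 4) + 2 * T (x / 6) + 2 * T (x / 24) - U x +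
      U (x / 2) = ∑ d ∈ Ioc 0 x, Λ d * ((G (x / d) : ℝ) + c d * (H (x / d) : ℝ)) := by
  rw [T_eq0 x, U_eq0 x, T_eq x 2, T_eq x 3, T_eq x 4, T_eq x 6, T_eq x 24, U_eq x 2]
  simp only [Finset.mul_sum, ← Finset.sum_sub_distrib, ← Finset.sum_add_distrib]
  refine Finset.sum_congr rfl fun d _ => ?_
  unfold G H
  simp only [Int.cast_add, Int.cast_sub, Int.cast_mul, Int.cast_neg, Int.cast_natCast,
    Int.cast_ofNat]
  ring

theorem lower (M : ℕ) (hM : 1 ≤ M) :
    (6 * Real.log 3 - 2 * Real.log 2) * M - 4 - 5 * Real.log (24 * M) ≤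
      ∑ d ∈ Ioc 0 (24 * M), Λ d * ((G (24 * M / d) : ℝ) + c d * (H (24 * M / d) : ℝ)) := by
  rw [← key]
  have hM' : (1 : ℝ) ≤ M := by exact_mod_cast hM
  rw [show 24 * M / 2 = 12 * M by omega, show 24 * M / 3 = 8 * M by omega,
    show 24 * M / 4 = 6 * M by omega, show 24 * M / 6 = 4 * M by omega,
    show 24 * M / 24 = M by omega]
  have t1 := T_ge (24 * M)
  have t2 := T_le (12 * M) (by omega)
  have t3 := T_le (8 * M) (by omega)
  have t4 := T_ge (6 * M)
  have t6 := T_ge (4 * M)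
  have t24 := T_ge M
  have u1 := U_le (6 * M)
  have u2 := U_ge (3 * M)
  rw [show 4 * (6 * M) = 24 * M by ring] at u1
  rw [show 4 * (3 * M) = 12 * M by ring] at u2
  push_cast at t1 t2 t3 t4 t6 u2
  have l12 : Real.log (12 * M) ≤ Real.log (24 * M) :=
    Real.log_le_log (by positivity) (by linarith)
  have l8 : Real.log (8 * M) ≤ Real.log (24 * M) :=
    Real.log_le_log (by positivity) (by linarith)
  have l12' : Real.log (4 * (3 * M) + 1) ≤ Real.log (24 * M) :=
    Real.log_le_log (by positivity) (by linarith)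
  have hM0 : (M : ℝ) ≠ 0 := by positivity
  have e24 : Real.log (24 * M) = 3 * Real.log 2 + Real.log 3 + Real.log M := by
    rw [show (24 : ℝ) * M = 2 ^ 3 * 3 * M by ring, Real.log_mul (by positivity) hM0,
      Real.log_mul (by positivity) (by positivity), Real.log_pow]; push_cast; ring
  have e12 : Real.log (12 * M) = 2 * Real.log 2 + Real.log 3 + Real.log M := by
    rw [show (12 : ℝ) * M = 2 ^ 2 * 3 * M by ring, Real.log_mul (by positivity) hM0,
      Real.log_mul (by positivity) (by positivity), Real.log_pow]; push_cast; ring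
  have e8 : Real.log (8 * M) = 3 * Real.log 2 + Real.log M := by
    rw [show (8 : ℝ) * M = 2 ^ 3 * M by ring, Real.log_mul (by positivity) hM0,
      Real.log_pow]; push_cast; ring
  have e6 : Real.log (6 * M) = Real.log 2 + Real.log 3 + Real.log M := by
    rw [show (6 : ℝ) * M = 2 * 3 * M by ring, Real.log_mul (by positivity) hM0,
      Real.log_mul (by positivity) (by positivity)]
  have e4 : Real.log (4 * M) = 2 * Real.log 2 + Real.log M := by
    rw [show (4 : ℝ) * M = 2 ^ 2 * M by ring, Real.log_mul (by positivity) hM0,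
      Real.log_pow]; push_cast; ring
  have main : 24 * (M : ℝ) * Real.log (24 * M) - 2 * (12 * M * Real.log (12 * M)) -
      2 * (8 * M * Real.log (8 * M)) + 6 * M * Real.log (6 * M) + 2 * (4 * M * Real.log (4 * M)) +
      2 * (M * Real.log M) = (6 * Real.log 3 - 2 * Real.log 2) * M := by
    rw [e24, e12, e8, e6, e4]; ring
  linarith

theorem upper (M : ℕ) (hM : 2 ≤ M)
    (hno : ∀ p, p.Prime → p % 4 = 3 → 12 * M + 14 ≤ p → p ≤ 24 * M → False) :
    ∑ d ∈ Ioc 0 (24 * M), Λ d * ((G (24 * M / d) : ℝ) + c d * (H (24 * M / d) : ℝ)) ≤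
      2 * (Real.log 4 * (24 * M / 25)) + 8 * √(24 * M) * Real.log (24 * M) +
        26 * Real.log (24 * M) := by
  set x := 24 * M with hx
  have hxR : (x : ℝ) = 24 * M := by rw [hx]; push_cast; ring
  rw [← hxR]
  have hx1 : (1 : ℝ) ≤ x := by exact_mod_cast (show 1 ≤ x by omega)
  have hL : 0 ≤ Real.log x := Real.log_nonneg hx1
  have pt : ∀ d ∈ Ioc 0 x, Λ d * ((G (x / d) : ℝ) + c d * (H (x / d) : ℝ)) ≤
      2 * (if d ∈ Ioc 0 (x / 25) then Λ d else 0) + 2 * (if ¬ d.Prime then Λ d else 0) +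
        2 * (if d ∈ Ioc (12 * M) (12 * M + 13) then Real.log x else 0) := by
    intro d hd
    rw [Finset.mem_Ioc] at hd
    have h0 : 0 ≤ Λ d := vonMangoldt_nonneg
    refine (mul_le_mul_of_nonneg_left (W_le d (x / d)) h0).trans ?_
    rw [mul_add, add_assoc]
    refine add_le_add ?_ ?_
    · by_cases h : 25 ≤ x / d
      · have : d ∈ Ioc 0 (x / 25) := by
          rw [Finset.mem_Ioc]
          refine ⟨hd.1, ?_⟩
          rw [Nat.le_div_iff_mul_le hd.1] at h
          rw [Nat.le_div_iff_mul_le (by norm_num)]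
          linarith
        rw [if_pos h, if_pos this]; linarith
      · rw [if_neg h]
        split_ifs <;> linarith
    · by_cases h : x / d = 1 ∧ d % 4 ≠ 1
      · rw [if_pos h]
        by_cases hp : d.Prime
        · rw [if_neg (not_not.2 hp)]
          have h2 : x < 2 * d := by
            have := (Nat.div_lt_iff_lt_mul hd.1).1 (show x / d < 2 by omega)
            linarith
          have hodd : d % 2 = 1 := by
            rcases hp.eq_two_or_odd with h3 | h3
            · omega
            · exact h3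
          have h3 : d % 4 = 3 := by omega
          have h4 : d ∈ Ioc (12 * M) (12 * M + 13) := by
            rw [Finset.mem_Ioc]
            refine ⟨by omega, ?_⟩
            by_contra h5
            exact hno d hp h3 (by omega) hd.2
          rw [if_pos h4]
          have h6 : Λ d ≤ Real.log x := by
            refine vonMangoldt_le_log.trans (Real.log_le_log ?_ ?_)
            · exact_mod_cast hd.1
            · exact_mod_cast hd.2
          linarith
        · rw [if_pos hp]
          split_ifs <;> linarith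
      · rw [if_neg h]
        split_ifs <;> linarith
  refine (Finset.sum_le_sum pt).trans ?_
  rw [Finset.sum_add_distrib, Finset.sum_add_distrib, ← Finset.mul_sum, ← Finset.mul_sum,
    ← Finset.mul_sum]
  have s1 : ∑ d ∈ Ioc 0 x, (if d ∈ Ioc 0 (x / 25) then Λ d else 0) ≤
      Real.log 4 * (x / 25) + 2 * √x * Real.log x := by
    rw [← Finset.sum_filter, Finset.filter_mem_eq_inter,
      Finset.inter_eq_right.2 (Finset.Ioc_subset_Ioc_right (Nat.div_le_self x 25))]
    have hy1 : (1 : ℝ) ≤ ((x / 25 : ℕ) : ℝ) := by exact_mod_cast (show 1 ≤ x / 25 by omega)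
    have h := Chebyshev.psi_le hy1
    rw [Chebyshev.psi, Nat.floor_natCast] at h
    refine h.trans ?_
    have hy2 : ((x / 25 : ℕ) : ℝ) ≤ x / 25 := Nat.cast_div_le
    have hy3 : ((x / 25 : ℕ) : ℝ) ≤ x := by exact_mod_cast Nat.div_le_self x 25
    have l4 : 0 ≤ Real.log 4 := Real.log_nonneg (by norm_num)
    have hly : 0 ≤ Real.log ((x / 25 : ℕ) : ℝ) := Real.log_nonneg hy1
    gcongr
  have s2 : ∑ d ∈ Ioc 0 x, (if ¬ d.Prime then Λ d else 0) ≤ 2 * √x * Real.log x := by
    have h := Chebyshev.psi_sub_theta_le hx1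
    rw [Chebyshev.psi_sub_theta_eq_sum_not_prime, Nat.floor_natCast, Finset.sum_filter] at h
    exact h
  have s3 : ∑ d ∈ Ioc 0 x, (if d ∈ Ioc (12 * M) (12 * M + 13) then Real.log x else 0) ≤
      13 * Real.log x := by
    rw [← Finset.sum_filter, Finset.filter_mem_eq_inter, Finset.sum_const, nsmul_eq_mul]
    have : (Ioc 0 x ∩ Ioc (12 * M) (12 * M + 13)).card ≤ 13 := by
      refine (Finset.card_le_card Finset.inter_subset_right).trans ?_
      simp
    have h' : ((Ioc 0 x ∩ Ioc (12 * M) (12 * M + 13)).card : ℝ) ≤ 13 := by exact_mod_cast this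
    gcongr
  linarith

theorem big (M : ℕ) (hM : 2 ^ 22 ≤ 24 * M) :
    ∃ p, p.Prime ∧ p % 4 = 3 ∧ 12 * M + 14 ≤ p ∧ p ≤ 24 * M := by
  by_contra hno
  have h1 := lower M (by omega)
  have h2 := upper M (by omega) (fun p a b c d => hno ⟨p, a, b, c, d⟩)
  have h := h1.trans h2
  have hx : (2 : ℝ) ^ 22 ≤ 24 * M := by exact_mod_cast hM
  set s : ℝ := √(24 * M) with hs
  have hs2 : s * s = 24 * M := Real.mul_self_sqrt (by positivity)
  have hs0 : 2048 ≤ s := by
    rw [hs]
    refine Real.le_sqrt_of_sq_le ?_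
    linarith
  have l2 : Real.log 2 < 0.6931471808 := Real.log_two_lt_d9
  have l2' : 0.6931471803 < Real.log 2 := Real.log_two_gt_d9
  have l3 : 1.09 < Real.log 3 := by
    have h : Real.log (2 ^ 19) ≤ Real.log (3 ^ 12) := Real.log_le_log (by positivity) (by norm_num)
    rw [Real.log_pow, Real.log_pow] at h
    push_cast at h
    linarith
  have l4 : Real.log 4 = 2 * Real.log 2 := by
    rw [show (4 : ℝ) = 2 ^ 2 by norm_num, Real.log_pow]; push_cast; ring
  have hls : Real.log s ≤ 11 * Real.log 2 + s / 2048 - 1 := by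
    have h : Real.log (s / 2048) ≤ s / 2048 - 1 := Real.log_le_sub_one_of_pos (by positivity)
    rw [Real.log_div (by positivity) (by norm_num), show (2048 : ℝ) = 2 ^ 11 by norm_num,
      Real.log_pow] at h
    push_cast at h
    norm_num at h ⊢
    linarith
  have hL : Real.log (24 * M) = 2 * Real.log s := by
    rw [← hs2, Real.log_mul (by positivity) (by positivity)]; ring
  have hL0 : 0 ≤ Real.log s := Real.log_nonneg (by linarith)
  have hM' : (M : ℝ) = s * s / 24 := by linarith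
  rw [hL, l4, hM'] at h
  have hl : Real.log s ≤ 6.625 + s / 2048 := by linarith
  have e1 : s * Real.log s ≤ s * (6.625 + s / 2048) := by gcongr
  have e2 : 2048 * Real.log s ≤ s * Real.log s := by gcongr
  have e3 : 2048 * s ≤ s * s := by gcongr
  have e4 : 5.15 * (s * s) ≤ (6 * Real.log 3 - 2 * Real.log 2) * (s * s) := by
    gcongr; linarith
  have e5 : Real.log 2 * (s * s) ≤ 0.6931471808 * (s * s) := by gcongr
  nlinarith

end B34

theorem b34 (n : ℕ) (hn : 9 ≤ n) : ∃ p, p.Prime ∧ p % 4 = 3 ∧ n + 2 ≤ 2 * p ∧ p + 2 ≤ n := by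
  by_cases hbig : 2 ^ 22 + 30 ≤ n
  · obtain ⟨p, hp, h4, h1, h2⟩ := B34.big ((n - 2) / 24) (by omega)
    exact ⟨p, hp, h4, by omega, by omega⟩
  have step : ∀ p : ℕ, p.Prime → p % 4 = 3 → p + 2 ≤ n → (2 * p - 1 ≤ n → 
      ∃ p, p.Prime ∧ p % 4 = 3 ∧ n + 2 ≤ 2 * p ∧ p + 2 ≤ n) →
      ∃ p, p.Prime ∧ p % 4 = 3 ∧ n + 2 ≤ 2 * p ∧ p + 2 ≤ n := by
    intro p hp h4 h1 h2
    by_cases h : 2 * p - 1 ≤ n
    · exact h2 h
    · exact ⟨p, hp, h4, by omega, h1⟩
  refine step 7 (by norm_num) rfl (by omega) fun _ => ?_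
  refine step 11 (by norm_num) rfl (by omega) fun _ => ?_
  refine step 19 (by norm_num) rfl (by omega) fun _ => ?_
  refine step 31 (by norm_num) rfl (by omega) fun _ => ?_
  refine step 59 (by norm_num) rfl (by omega) fun _ => ?_
  refine step 107 (by norm_num) rfl (by omega) fun _ => ?_
  refine step 211 (by norm_num) rfl (by omega) fun _ => ?_
  refine step 419 (by norm_num) rfl (by omega) fun _ => ?_
  refine step 827 (by norm_num) rfl (by omega) fun _ => ?_
  refine step 1627 (by norm_num) rfl (by omega) fun _ => ?_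
  refine step 3251 (by norm_num) rfl (by omega) fun _ => ?_
  refine step 6491 (by norm_num) rfl (by omega) fun _ => ?_
  refine step 12979 (by norm_num) rfl (by omega) fun _ => ?_
  refine step 25951 (by norm_num) rfl (by omega) fun _ => ?_
  refine step 51899 (by norm_num) rfl (by omega) fun _ => ?_
  refine step 103787 (by norm_num) rfl (by omega) fun _ => ?_
  refine step 207563 (by norm_num) rfl (by omega) fun _ => ?_
  refine step 415111 (by norm_num) rfl (by omega) fun _ => ?_
  refine step 830191 (by norm_num) rfl (by omega) fun _ => ?_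
  refine step 1660367 (by norm_num) rfl (by omega) fun _ => ?_
  refine step 3320699 (by norm_num) rfl (by omega) fun _ => ?_
  omega

end Cfsg.Agent.L0
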