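import Cfsg.Agent.L0.PresA4
import Cfsg.Agent.L0.B34

/-! Presentations of `A_n` and `S_n` with at most 7 relations. -/

set_option autoImplicit false

namespace Cfsg.Agent.L0

open Subgroup Equiv Equiv.Perm

variable {α : Type*} [Fintype α] [DecidableEq α]

theorem exists_y (D D' : Finset α) (hc : D.card = D'.card) (hd : ∀ x ∈ D, x ∉ D') {s t : α} (hst : s ≠ t)
    (s1 : s ∉ D) (s2 : s ∉ D') (t1 : t ∉ D) (t2 : t ∉ D') (η : ℤˣ) :
    ∃ y : Perm α, sign y = η ∧ y * y = 1 ∧ (∀ x ∈ D, y x ∈ D') ∧ (∀ x ∈ D', y x ∈ D) ∧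
      (∀ x, x ∉ D → x ∉ D' → x ≠ s → x ≠ t → y x = x) ∧ (y s = s ∨ y s = t) ∧ (y t = s ∨ y t = t) := by
  let e := Finset.equivOfCardEq hc
  let f : α → α := fun x => if h : x ∈ D then e ⟨x, h⟩ else if h : x ∈ D' then e.symm ⟨x, h⟩ else x
  have f1 : ∀ x (h : x ∈ D), f x = e ⟨x, h⟩ := fun x h => dif_pos h
  have f2 : ∀ x (h : x ∈ D'), f x = e.symm ⟨x, h⟩ := fun x h => (dif_neg fun a => hd x a h).trans (dif_pos h)
  have f3 : ∀ x, x ∉ D → x ∉ D' → f x = x := fun x a b => (dif_neg a).trans (dif_neg b)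
  have hf : Function.Involutive f := fun x => by
    by_cases a : x ∈ D
    · rw [f1 x a, f2 _ (e _).2]; simp
    by_cases b : x ∈ D'
    · rw [f2 x b, f1 _ (e.symm _).2]; simp
    rw [f3 x a b, f3 x a b]
  have g1 : ∀ x ∈ D, f x ∈ D' := fun x h => by rw [f1 x h]; exact (e _).2
  have g2 : ∀ x ∈ D', f x ∈ D := fun x h => by rw [f2 x h]; exact (e.symm _).2
  have yy : hf.toPerm f * hf.toPerm f = 1 := Equiv.ext hf
  by_cases h : sign (hf.toPerm f) = η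
  · exact ⟨_, h, yy, g1, g2, fun x a b _ _ => f3 x a b, Or.inl (f3 s s1 s2), Or.inr (f3 t t1 t2)⟩
  have cm : hf.toPerm f * swap s t = swap s t * hf.toPerm f := by
    rw [← mul_inv_eq_iff_eq_mul, ← swap_apply_apply]
    exact congrArg₂ swap (f3 s s1 s2) (f3 t t1 t2)
  refine ⟨hf.toPerm f * swap s t, ?_, ?_, fun x a => ?_, fun x a => ?_, fun x a b c d => ?_,
    Or.inr (by simpa using f3 t t1 t2), Or.inl (by simpa using f3 s s1 s2)⟩
  · rw [Perm.sign_mul, sign_swap hst]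
    rcases Int.units_eq_one_or (sign (hf.toPerm f)) with a | a <;>
      rcases Int.units_eq_one_or η with b | b <;> simp_all
  · rw [mul_assoc, ← mul_assoc (swap s t), ← cm, mul_assoc, swap_mul_self, mul_one, yy]
  · rw [mul_apply, swap_apply_of_ne_of_ne (by rintro rfl; exact s1 a) (by rintro rfl; exact t1 a)]
    exact g1 x a
  · rw [mul_apply, swap_apply_of_ne_of_ne (by rintro rfl; exact s2 a) (by rintro rfl; exact t2 a)]
    exact g2 x a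
  · rw [mul_apply, swap_apply_of_ne_of_ne c d]; exact f3 x a b

theorem exists_sqgen (p : ℕ) [hp : Fact p.Prime] (h4 : p % 4 = 3) (h7 : 4 ≤ p) :
    ∃ r : ZMod p, r ≠ 0 ∧ r ≠ 1 ∧ r ^ (p / 2) = 1 ∧ ∀ t, t ≠ 0 → ∃ j : ℕ, t = r ^ j ∨ -t = r ^ j := by
  obtain ⟨g, hg⟩ := IsCyclic.exists_monoid_generator (α := (ZMod p)ˣ)
  have pw : ∀ t : ZMod p, t ≠ 0 → ∃ k : ℕ, (g : ZMod p) ^ k = t := fun t ht => by
    obtain ⟨k, e⟩ := hg (Units.mk0 t ht)
    exact ⟨k, by simpa using congrArg Units.val e⟩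
  refine ⟨g ^ 2, by simp, fun e => ?_, ?_, fun t ht => ?_⟩
  · have h1 := orderOf_eq_card_of_forall_mem_powers hg
    rw [Nat.card_eq_fintype_card, ZMod.card_units] at h1
    have := Nat.le_of_dvd two_pos (orderOf_dvd_of_pow_eq_one (x := g) (n := 2) (Units.ext (by simpa using e)))
    omega
  · rw [← pow_mul, show 2 * (p / 2) = p - 1 by omega]
    exact ZMod.pow_card_sub_one_eq_one g.ne_zero
  · obtain ⟨m, hm⟩ := pw (-1) (by simp)
    obtain ⟨k, hk⟩ := pw t ht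
    rcases Nat.even_or_odd' k with ⟨j, rfl | rfl⟩
    · exact ⟨j, Or.inl (by rw [← hk, pow_mul])⟩
    rcases Nat.even_or_odd' m with ⟨l, rfl | rfl⟩
    · exact absurd h4 (ZMod.exists_sq_eq_neg_one_iff.1 ⟨g ^ l, by rw [← hm]; ring⟩)
    · exact ⟨j + l + 1, Or.inr (by rw [← neg_one_mul, ← hm, ← hk]; ring)⟩

theorem exists_comb (E : Finset α) {P Q o s0 s1 s2 : α} (hPQ : P ≠ Q) (hE : ∀ x ∈ E, x ≠ P ∧ x ≠ Q)
    (o1 : o ∈ E) (o2 : s0 ∈ E) (o3 : s1 ∈ E) (o4 : s2 ∈ E) (n1 : o ≠ s0) (n2 : o ≠ s1) (n3 : o ≠ s2)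
    (n4 : s0 ≠ s1) (n5 : s0 ≠ s2) (n6 : s1 ≠ s2) (hc : Fintype.card α + 2 ≤ 2 * E.card) (η : ℤˣ) :
    ∃ (D : Finset α) (y A C1 C2 : Perm α) (m : ℕ), sign y = η ∧ o ∉ D ∧ s2 ∉ D ∧ y * y = 1 ∧ y P = P ∧
      y Q = Q ∧ y o = o ∧ (∀ i, i ∉ E → i ≠ P → i ≠ Q → y i ∈ D) ∧ (∀ i ∈ D, i ∈ E ∧ y i ∉ E) ∧
      (∀ i ∈ E, i ∉ D → y i ∈ E) ∧ A ∈ AltOn {i | i ∈ E \ D ∨ i = P ∨ i = Q} ∧
      (∀ L : Subgroup (Perm α), A ∈ L → c3 P Q o ∈ L → ∀ i ∈ E \ D, c3 P Q i ∈ L) ∧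
      C1 ∈ AltOn (E : Set α) ∧ C1 ^ m = 1 ∧ Odd m ∧ C1 (y s2) = y s2 ∧ (∀ i ∈ D, ∃ k : ℕ, (C1 ^ k) o = i) ∧
      C2 ∈ AltOn {i | i ∈ E ∨ i = P ∨ i = Q} ∧
      (∀ L : Subgroup (Perm α), C2 ∈ L → c3 P Q s2 ∈ L → ∀ i ∈ D, c3 P Q i ∈ L) ∧
      Commute C1 (y * C2 * y⁻¹) := by
  obtain ⟨D', mD', cD'⟩ : ∃ D' : Finset α, (∀ x, x ∈ D' ↔ x ∉ E ∧ x ≠ P ∧ x ≠ Q) ∧
      D'.card = Fintype.card α - E.card - 2 :=
    ⟨(Eᶜ.erase P).erase Q, fun x => by simp only [Finset.mem_erase, Finset.mem_compl]; tauto, by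
      rw [Finset.card_erase_of_mem (Finset.mem_erase.2 ⟨hPQ.symm, Finset.mem_compl.2 fun e => (hE _ e).2 rfl⟩),
        Finset.card_erase_of_mem (Finset.mem_compl.2 fun e => (hE _ e).1 rfl), Finset.card_compl]
      omega⟩
  obtain ⟨D, D1, D2⟩ := Finset.exists_subset_card_eq (s := E \ {o, s0, s1, s2}) (n := D'.card) (by
    have := Finset.le_card_sdiff {o, s0, s1, s2} E
    have := Finset.card_le_four (a := o) (b := s0) (c := s1) (d := s2)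
    have := Finset.card_le_card (show {o, s0, s1, s2} ⊆ E by grind)
    rw [Finset.card_insert_of_notMem (by grind), Finset.card_insert_of_notMem (by grind),
      Finset.card_pair n6] at this
    omega)
  have mD : ∀ x ∈ D, x ∈ E ∧ x ≠ o ∧ x ≠ s0 ∧ x ≠ s1 ∧ x ≠ s2 := fun x hx => by simpa using D1 hx
  clear D1 cD' hc
  obtain ⟨y, y1, y2, y3, y4, y5, y6, y7⟩ := exists_y D D' D2 (by grind) n6
    (by grind) (by grind) (by grind) (by grind) η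
  obtain ⟨E1, e1, e2, e3, e4⟩ : ∃ E1 : Finset _, Odd E1.card ∧ o ∈ E1 ∧ D ⊆ E1 ∧
      ∀ x ∈ E1, x ∈ D ∨ x = o ∨ x = s0 := by
    have c1 : (insert o D).card = D.card + 1 := Finset.card_insert_of_notMem (by grind)
    rcases Nat.even_or_odd D.card with e | e
    · exact ⟨insert o D, c1 ▸ e.add_one, by simp, by simp, by grind⟩
    · exact ⟨insert s0 (insert o D), by
        rw [Finset.card_insert_of_notMem (by grind), c1]; exact e.add_one.add_one, by simp,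
        by grind, by grind⟩
  have yP : y P = P := y5 _ (by grind) (by grind) (by grind) (by grind)
  have yQ : y Q = Q := y5 _ (by grind) (by grind) (by grind) (by grind)
  have hK : ∀ i ∈ E, i ∉ D → y i ∈ E := fun i u v => by
    by_cases w1 : i = s1
    · rw [w1]; rcases y6 with e | e <;> rwa [e]
    by_cases w2 : i = s2
    · rw [w2]; rcases y7 with e | e <;> rwa [e]
    rwa [y5 i v (fun e => ((mD' i).1 e).1 u) w1 w2]
  have f1 : ∀ x ∈ E1, x ∈ E := by grind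
  have f2 : y s2 ∉ E1 := by grind
  have f3 : ∀ x ∈ E1, ¬ (x ∈ D' ∨ x = s1 ∨ x = s2 ∨ x = P ∨ x = Q) := by grind
  have f4 : ∀ x, (x ∈ insert s2 D ∨ x = P ∨ x = Q) → y x ∈ D' ∨ y x = s1 ∨ y x = s2 ∨ y x = P ∨ y x = Q := by
    grind
  have f5 : ∀ x, (x ∈ insert s2 D ∨ x = P ∨ x = Q) → x ∈ E ∨ x = P ∨ x = Q := by grind
  obtain ⟨C1, c1, c2, c3⟩ := exists_odd_cyc E1 e1 e2
  obtain ⟨C2, c4, c5⟩ := exists_gen (o := s2) hPQ (insert s2 D) (by grind) (by grind) (by simp)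
  obtain ⟨A, A1, A2⟩ := exists_gen (o := o) hPQ (E \ D) (by grind) (by grind) (by grind)
  exact ⟨D, y, A, C1, C2, _, y1, fun e => (mD _ e).2.1 rfl, fun e => (mD _ e).2.2.2.2 rfl, y2, yP, yQ,
    y5 _ (fun e => (mD _ e).2.1 rfl) (fun e => ((mD' _).1 e).1 o1) n2 n3,
    fun i u v w => y4 i ((mD' i).2 ⟨u, v, w⟩), fun i hi => ⟨(mD i hi).1, ((mD' _).1 (y3 i hi)).1⟩, hK, A1, A2,
    AltOn_mono f1 c1, c2, e1, c1.2 _ f2, fun i hi => c3 i (e3 hi), AltOn_mono f5 c4,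
    fun L u v i hi => c5 L u v i (by simp [hi]),
    AltOn_comm (Ω' := {x | x ∈ D' ∨ x = s1 ∨ x = s2 ∨ x = P ∨ x = Q}) f3 c1 (AltOn_conj c4 f4)⟩

theorem exists_AD (p d : ℕ) [hp : Fact p.Prime] (h4 : p % 4 = 3) (hd : d + 4 ≤ p) (η : ℤˣ) :
    ∃ D : AD (ZMod p ⊕ Fin (d + 2)), sign D.y = η := by
  obtain ⟨r, r0, r1, r2, r3⟩ := exists_sqgen p h4 (by omega)
  obtain ⟨E, mE, nE, cE⟩ : ∃ E : Finset (ZMod p ⊕ Fin (d + 2)), (∀ i, Sum.inl i ∈ E) ∧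
      (∀ i, Sum.inr i ∉ E) ∧ E.card = p := ⟨Finset.univ.map Function.Embedding.inl, by simp, by simp, by simp⟩
  let a : Perm (ZMod p ⊕ Fin (d + 2)) := Perm.sumCongr (Equiv.addRight 1) 1
  let b : Perm (ZMod p ⊕ Fin (d + 2)) := Perm.sumCongr (Equiv.mulLeft₀ r r0) 1
  have a1 : ∀ (k : ℕ) i, (a ^ k) (Sum.inl i) = Sum.inl (i + k) := fun k i => by
    induction k with
    | zero => simp
    | succ k ih => rw [pow_succ', mul_apply, ih]; simp [a, add_assoc]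
  have a2 : ∀ (k : ℕ) i, (a ^ k) (Sum.inr i) = Sum.inr i := fun k i =>
    pow_apply_eq_self_of_apply_eq_self rfl k
  have b1 : ∀ (k : ℕ) i, (b ^ k) (Sum.inl i) = Sum.inl (r ^ k * i) := fun k i => by
    induction k with
    | zero => simp
    | succ k ih => rw [pow_succ', mul_apply, ih]; simp [b, pow_succ', mul_assoc]
  have ap : a ^ p = 1 := by ext (i | i) <;> simp [a1, a2]
  have be : b ^ (p / 2) = 1 := by
    ext (i | i)
    · simp [b1, r2]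
    · exact pow_apply_eq_self_of_apply_eq_self rfl _
  have he : Odd (p / 2) := ⟨p / 4, by omega⟩
  have r4 : 1 - r ≠ 0 := sub_ne_zero.2 r1.symm
  have tu : (((r / (1 - r)).val * (1 - r).val : ℕ) : ZMod p) = r := by simp [r4]
  have ne : ∀ i j : ℕ, i < 4 → j < 4 → i ≠ j →
      (Sum.inl (i : ZMod p) : ZMod p ⊕ Fin (d + 2)) ≠ Sum.inl (j : ZMod p) := fun i j hi hj e f => by
    have := (ZMod.natCast_eq_natCast_iff' i j p).1 (Sum.inl_injective f)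
    rw [Nat.mod_eq_of_lt (by omega), Nat.mod_eq_of_lt (by omega)] at this
    exact e this
  obtain ⟨o, s0, s1, s2, ho, o1, o2, o3, o4, n1, n2, n3, n4, n5, n6⟩ : ∃ o s0 s1 s2, o = Sum.inl 0 ∧ o ∈ E ∧ s0 ∈ E ∧
      s1 ∈ E ∧ s2 ∈ E ∧ o ≠ s0 ∧ o ≠ s1 ∧ o ≠ s2 ∧ s0 ≠ s1 ∧ s0 ≠ s2 ∧ s1 ≠ s2 :=
    ⟨Sum.inl (0 : ℕ), Sum.inl (1 : ℕ), Sum.inl (2 : ℕ), Sum.inl (3 : ℕ), by simp, mE _, mE _, mE _, mE _,
      by apply ne <;> omega, by apply ne <;> omega, by apply ne <;> omega, by apply ne <;> omega,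
      by apply ne <;> omega, by apply ne <;> omega⟩
  have hE : ∀ x ∈ E, x ≠ Sum.inr 0 ∧ x ≠ Sum.inr 1 := fun x hx =>
    ⟨fun e => nE _ (e ▸ hx), fun e => nE _ (e ▸ hx)⟩
  have hPQ : (Sum.inr 0 : ZMod p ⊕ Fin (d + 2)) ≠ Sum.inr 1 := by simp
  obtain ⟨D, y, A, C1, C2, m, y1, k1, k2, k3, k4, k5, k6, k7, k8, k9, l1, l2, l3, l4, l5, l6, l7, l8, l9, l10⟩ :=
    exists_comb E hPQ hE o1 o2 o3 o4 n1 n2 n3 n4 n5 n6 (by simp [cE]; omega) η
  refine ⟨{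
    P := Sum.inr 0, Q := Sum.inr 1, o := o, s := s2, E := E, D := D, a := a, b := b, y := y, A := A,
    C1 := C1, C2 := C2, e := p / 2, t := (r / (1 - r)).val, u := (1 - r).val, m := m,
    ε := if η = 1 then 1 else 0, κ := Sum.elim ZMod.val fun _ => 0, hPQ := hPQ, hE := hE, o1 := o1,
    o2 := k1, s1 := o4, s2 := k2, acyc := ⟨a.bijOn (by rintro (i | i) <;> simp [a, mE, nE]), ?_⟩,
    hκ := ?_, aA := ⟨sign_of_odd (hp.out.odd_of_ne_two (by omega)) ap, ?_⟩, bA := ⟨sign_of_odd he be, ?_⟩,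
    be := be, he := he, ba := ?_, bo := by simp [ho, b], n1 := ?_, n2 := ?_, n3 := fun k l h => ?_,
    n4 := by simp [ho, a], yy := k3, yP := k4, yQ := k5, yo := k6, hΩ := k7, hD := k8, hK := k9, A1 := l1,
    A2 := l2, c1 := l3, c2 := l4, c3' := l5, c4 := l6, c5 := l7, c6 := l8, c7 := l9, c8 := l10,
    hε := by rcases Int.units_eq_one_or η with e | e <;> simp [e, y1] }, y1⟩
  · rintro (i | i) hi (j | j) hj
    · exact ⟨(j - i).val, by rw [zpow_natCast, a1]; simp⟩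
    all_goals simp [nE] at hi hj
  · rintro (i | i) hi
    · simp [ho, a1]
    · exact absurd hi (nE i)
  · rintro (i | i) hi
    exacts [absurd (mE i) hi, rfl]
  · rintro (i | i) hi
    exacts [absurd (mE i) hi, rfl]
  · rw [mul_inv_eq_iff_eq_mul]
    ext (i | i)
    · have := b1 1
      simp only [pow_one] at this
      simp only [mul_apply, a1, this, Nat.cast_add, ZMod.natCast_val, ZMod.cast_id', id, Nat.cast_one]
      congr 1; field_simp; ring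
    · simp only [mul_apply, a2]; exact (a2 _ i).symm
  · rw [cE, ← ZMod.natCast_eq_natCast_iff]; simp; field_simp; ring
  · rw [cE, ← ZMod.natCast_eq_natCast_iff, Nat.cast_pow, tu, r2, Nat.cast_one]
  · simp only [cE, ← ZMod.natCast_eq_natCast_iff, Nat.cast_add, Nat.cast_pow, tu] at h ⊢
    obtain ⟨j, e | e⟩ := r3 (l - k) (sub_ne_zero.2 (Ne.symm h))
    · exact ⟨j, Or.inl (by rw [← e]; ring)⟩
    · exact ⟨j, Or.inr (by rw [← e]; ring)⟩

theorem Pres.drop {G : Type*} [Group G] {g : Fin 3 → G} {r : ℕ} (h : Pres g r)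
    (h1 : g 1 ∈ closure {g 0, g 2}) : Pres ![g 0, g 2] r := by
  obtain ⟨w, hw⟩ := exists_word (g := ![g 0, g 2]) (x := g 1) (by simpa [Set.pair_comm] using h1)
  exact h.change ![g 0, g 2] [] ![FreeGroup.of 0, w, FreeGroup.of 1]
    (fun i => by fin_cases i <;> simp [hw]) fun j _ => by
      fin_cases j
      exacts [⟨0, rfl⟩, ⟨2, rfl⟩]

def P7 (G : Type*) [Group G] : Prop := (∃ g : Fin 3 → G, Pres g 7) ∧ ∃ g : Fin 2 → G, Pres g 7

theorem P7.equiv {G G' : Type*} [Group G] [Group G'] (h : P7 G) (e : G ≃* G') : P7 G' :=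
  ⟨h.1.elim fun _ a => ⟨_, a.equiv e⟩, h.2.elim fun _ a => ⟨_, a.equiv e⟩⟩

theorem AD.p7 (D : AD α) : (sign D.y = 1 → P7 (alternatingGroup α)) ∧ (sign D.y = -1 → P7 (Perm α)) := by
  have hg : alternatingGroup α ≤ closure (Set.range D.g) := D.gen.trans (Subgroup.closure_mono (by
    rintro _ (rfl | rfl) <;> exact Set.mem_range_self _))
  refine ⟨fun h => ?_, fun h => ?_⟩
  · obtain ⟨g, g1, g2⟩ := D.spres.alt hg fun i => by
      fin_cases i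
      exacts [D.sgn.1, D.sgn.2.1, D.sgn.2.2.trans h]
    refine ⟨⟨g, g2⟩, _, g2.drop ?_⟩
    have := D.gen (x := D.g 1) D.sgn.2.1
    rw [← g1, ← g1, ← g1, ← coe_subtype, ← Set.image_pair, ← MonoidHom.map_closure] at this
    exact (mem_map_iff_mem (subtype_injective _)).1 this
  · have := D.spres.sym hg (D.sgn.2.2.trans h)
    exact ⟨⟨_, this⟩, _, this.drop (D.gen D.sgn.2.1)⟩

theorem small6 (n : ℕ) (h3 : 3 ≤ n) : (∃ g : Fin 2 → Perm (Fin n), Pres g (3 + (n - 2) / 2)) ∧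
    ∃ g : Fin 2 → alternatingGroup (Fin n), Pres g (3 + (n - 2) / 2) := by
  obtain ⟨m, rfl⟩ := Nat.exists_eq_add_of_le' h3
  have h : ∀ η, _ := small (α := Fin (m + 3)) (p := ⟨0, by omega⟩) (q := ⟨1, by omega⟩) (o := ⟨2, by omega⟩)
    (by simp) (by simp) (by simp)
  simp only [Fintype.card_fin] at h
  obtain ⟨g, g1, g2, g3, -⟩ := h (-1)
  obtain ⟨f, f1, f2, f3, f4⟩ := h 1
  exact ⟨⟨g, g1.sym g2 g3⟩, (f1.alt f2 fun i => by fin_cases i; exacts [f3, f4]).imp fun _ a => a.2⟩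

theorem p7 (n : ℕ) (h3 : 3 ≤ n) : P7 (Perm (Fin n)) ∧ P7 (alternatingGroup (Fin n)) := by
  by_cases h9 : 9 ≤ n
  · obtain ⟨p, hp, h1, h2, h4⟩ := b34 n h9
    haveI := Fact.mk hp
    have e : ZMod p ⊕ Fin (n - p - 2 + 2) ≃ Fin n := Fintype.equivFinOfCardEq (by simp; omega)
    obtain ⟨D, hD⟩ := exists_AD p (n - p - 2) h1 (by omega) 1
    obtain ⟨D', hD'⟩ := exists_AD p (n - p - 2) h1 (by omega) (-1)
    exact ⟨(D'.p7.2 hD').equiv e.permCongrHom, (D.p7.1 hD).equiv e.altCongrHom⟩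
  · obtain ⟨⟨g, hg⟩, f, hf⟩ := small6 n h3
    exact ⟨⟨(hg.pad_fin (d := 3) (by simp)).imp fun _ a => a.mono (by simp; omega), g, hg.mono (by omega)⟩,
      (hf.pad_fin (d := 3) (by simp)).imp fun _ a => a.mono (by simp; omega), f, hf.mono (by omega)⟩

end Cfsg.Agent.L0
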