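import Cfsg.Agent.L0.PresB

/-! Bounded presentations of `SL₂(q)` and its central quotients. -/

set_option autoImplicit false

namespace Cfsg.Agent.L0

open Subgroup Polynomial
open scoped MatrixGroups

variable {H : Type*} [Group H] {F : Type*} [Field F]

theorem gen_sq [Finite F] (ζ : Fˣ) (hζ : ∀ e, e ∈ zpowers ζ) (a : F) :
    ∃ f : ℤ[X], aeval ((ζ : F) ^ 2) f = a := by
  classical
  have h1 : ∀ b : F, ∃ f : ℤ[X], aeval ((ζ : F) ^ 2) f = b ^ 2 := fun b => by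
    by_cases hb : b = 0
    · exact ⟨0, by simp [hb]⟩
    obtain ⟨n, hn⟩ := (mem_powers_iff_mem_zpowers.2 (hζ (Units.mk0 b hb)))
    refine ⟨X ^ n, ?_⟩
    have : (ζ : F) ^ n = b := by simpa using congrArg Units.val hn
    rw [map_pow, aeval_X, ← this, ← pow_mul, ← pow_mul, mul_comm]
  haveI := Fintype.ofFinite F
  by_cases h2 : ringChar F = 2
  · obtain ⟨b, rfl⟩ := FiniteField.isSquare_of_char_two h2 a
    simpa [sq] using h1 b
  · obtain ⟨b, c, h⟩ := FiniteField.exists_root_sum_quadratic (f := (X ^ 2 : F[X])) (g := X ^ 2 - C a)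
      (degree_X_pow 2) (degree_X_pow_sub_C (by norm_num) _) (FiniteField.odd_card_of_char_ne_two h2)
    obtain ⟨f, hf⟩ := h1 b
    obtain ⟨g, hg⟩ := h1 c
    refine ⟨f + g, ?_⟩
    simp only [eval_pow, eval_X, eval_sub, eval_C] at h
    rw [map_add, hf, hg]; linear_combination h

theorem exists_pow_eq [Finite F] (ζ : Fˣ) (hζ : ∀ e, e ∈ zpowers ζ) {a : F} (ha : a ≠ 0) :
    ∃ k : ℕ, (ζ : F) ^ k = a := by
  obtain ⟨n, hn⟩ := (mem_powers_iff_mem_zpowers.2 (hζ (Units.mk0 a ha)))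
  exact ⟨n, by simpa using congrArg Units.val hn⟩

theorem gen_one [Finite F] (ζ : Fˣ) (hζ : ∀ e, e ∈ zpowers ζ) (a : F) :
    ∃ f : ℤ[X], aeval (ζ : F) f = a := by
  by_cases ha : a = 0
  · exact ⟨0, by simp [ha]⟩
  obtain ⟨n, hn⟩ := exists_pow_eq ζ hζ ha
  exact ⟨X ^ n, by simp [hn]⟩

theorem bruhat {x : F → H} (hx : ∀ a b, x (a + b) = x a * x b) {h w : H} {θ : F} (hθ : θ ≠ 0)
    (ht : ∀ a, h * x a * h⁻¹ = x (θ * a)) (hw : w * h * w⁻¹ = h⁻¹) (hw2 : w * w ∈ zpowers h)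
    (hb : ∀ a, a ≠ 0 → ∃ b c, ∃ i : ℤ, w * x a * w⁻¹ = x b * h ^ i * w * x c)
    {g : H} (hg : g ∈ closure {x 1, h, w}) :
    ∃ a, ∃ i : ℤ, g = x a * h ^ i ∨ ∃ b, g = x a * h ^ i * w * x b := by
  have ht' : ∀ a, h⁻¹ * x a * h = x (θ⁻¹ * a) := fun a => by
    have := ht (θ⁻¹ * a)
    rw [mul_inv_cancel_left₀ hθ] at this
    rw [← this]; group
  have hz : ∀ (i : ℤ) a, ∃ b, h ^ i * x a = x b * h ^ i := by
    intro i
    induction i using Int.induction_on with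
    | zero => exact fun a => ⟨a, by simp⟩
    | succ i ih =>
      intro a
      obtain ⟨b, e⟩ := ih (θ * a)
      exact ⟨b, by rw [zpow_add_one, ← mul_assoc, ← e, ← ht]; group⟩
    | pred i ih =>
      intro a
      obtain ⟨b, e⟩ := ih (θ⁻¹ * a)
      exact ⟨b, by rw [zpow_sub_one, ← mul_assoc, ← e, ← ht']; group⟩
  have hwz : ∀ i : ℤ, w * h ^ i = h ^ (-i) * w := fun i => by
    have := congrArg (· ^ i) hw
    simp only [conj_zpow, inv_zpow'] at this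
    rw [← this]; group
  let P : H → Prop := fun g => ∃ a, ∃ i : ℤ, g = x a * h ^ i ∨ ∃ b, g = x a * h ^ i * w * x b
  have p1 : ∀ c g, P g → P (x c * g) := by
    rintro c g ⟨a, i, rfl | ⟨b, rfl⟩⟩
    · exact ⟨c + a, i, Or.inl (by rw [hx, mul_assoc])⟩
    · exact ⟨c + a, i, Or.inr ⟨b, by rw [hx]; group⟩⟩
  have p2 : ∀ (j : ℤ) g, P g → P (h ^ j * g) := by
    rintro j g ⟨a, i, rfl | ⟨b, rfl⟩⟩ <;> obtain ⟨c, e⟩ := hz j a
    · exact ⟨c, j + i, Or.inl (by rw [← mul_assoc, e]; group)⟩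
    · exact ⟨c, j + i, Or.inr ⟨b, by simp only [← mul_assoc]; rw [e]; group⟩⟩
  obtain ⟨k, hk⟩ := hw2
  simp only at hk
  have p3 : ∀ g, P g → P (w * g) := by
    rintro g ⟨a, i, rfl | ⟨b, rfl⟩⟩
    · obtain ⟨c, e⟩ := hz (-i) a
      refine ⟨0, -i, Or.inr ⟨c, ?_⟩⟩
      rw [add_zero' hx, one_mul, ← hwz, mul_assoc w, eq_mul_inv_of_mul_eq e.symm]; group
    · have e1 : w * (x a * h ^ i * w * x b) = w * x a * w⁻¹ * h ^ (k - i) * x b := by
        have : w⁻¹ * h ^ (k - i) = h ^ i * w := by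
          rw [inv_mul_eq_iff_eq_mul, ← mul_assoc, hwz, mul_assoc, ← hk]; group
        rw [mul_assoc (w * x a), this]; group
      rw [e1]
      by_cases ha : a = 0
      · rw [ha, add_zero' hx, mul_one, mul_inv_cancel, one_mul]
        exact p2 _ _ ⟨b, 0, Or.inl (by simp)⟩
      · obtain ⟨b', c, j, e⟩ := hb a ha
        obtain ⟨d, e'⟩ := hz (i - k) c
        refine ⟨b', j + (i - k), Or.inr ⟨d + b, ?_⟩⟩
        have := hwz (k - i)
        rw [e, hx, zpow_add, ← mul_assoc (x b'), mul_assoc _ (h ^ (i - k)), ← neg_sub k i,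
          ← this, eq_mul_inv_of_mul_eq e'.symm]
        group
  induction hg using closure_induction_left with
  | one => exact ⟨0, 0, Or.inl (by simp [add_zero' hx])⟩
  | mul_left s hs g _ ih =>
    rcases hs with rfl | rfl | rfl
    · exact p1 _ _ ih
    · simpa using p2 1 _ ih
    · exact p3 _ ih
  | inv_mul_cancel s hs g _ ih =>
    rcases hs with rfl | rfl | rfl
    · rw [← add_neg' hx]; exact p1 _ _ ih
    · simpa using p2 (-1) _ ih
    · have := p2 (-k) _ (p3 _ ih)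
      rwa [zpow_neg, hk, mul_inv_rev, mul_assoc, inv_mul_cancel_left] at this

theorem sl_mul {n : Type*} [Fintype n] [DecidableEq n] (A B : Matrix.SpecialLinearGroup n F) :
    (A * B).val = A.val * B.val := rfl

def X2 (a : F) : SL(2, F) := ⟨!![1, a; 0, 1], by simp [Matrix.det_fin_two]⟩
def W2 : SL(2, F) := ⟨!![0, 1; -1, 0], by simp [Matrix.det_fin_two]⟩
def D2 : Fˣ →* SL(2, F) where
  toFun e := ⟨!![(e : F), 0; 0, (e⁻¹ : Fˣ)], by simp [Matrix.det_fin_two]⟩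
  map_one' := by ext i j; fin_cases i <;> fin_cases j <;> simp
  map_mul' a b := Subtype.ext (Eq.trans (by simp [mul_comm]) (sl_mul _ _).symm)
theorem X2v (a : F) : (X2 a).val = !![1, a; 0, 1] := rfl
theorem W2v : (W2 : SL(2, F)).val = !![0, 1; -1, 0] := rfl
theorem D2v (e : Fˣ) : (D2 e).val = !![(e : F), 0; 0, (e⁻¹ : Fˣ)] := rfl

theorem X2_add (a b : F) : X2 (a + b) = X2 a * X2 b := by
  apply Subtype.ext; simp [sl_mul, X2v, add_comm]
theorem D2_X2 (e : Fˣ) (a : F) : D2 e * X2 a * (D2 e)⁻¹ = X2 ((e : F) ^ 2 * a) := by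
  rw [mul_inv_eq_iff_eq_mul]
  apply Subtype.ext; simp [sl_mul, X2v, D2v]; field_simp
theorem W2_D2 (e : Fˣ) : W2 * D2 e * W2⁻¹ = (D2 e)⁻¹ := by
  rw [mul_inv_eq_iff_eq_mul, ← map_inv]
  apply Subtype.ext; simp [sl_mul, W2v, D2v]
theorem W2_sq : (W2 * W2 : SL(2, F)) = D2 (-1) := by
  apply Subtype.ext; simp [sl_mul, W2v, D2v]
theorem W2_X2 (e : Fˣ) : W2 * X2 (e : F) * W2⁻¹ = X2 (-(e : F)⁻¹) * D2 e⁻¹ * W2 * X2 (-(e : F)⁻¹) := by
  rw [mul_inv_eq_iff_eq_mul]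
  apply Subtype.ext; simp [sl_mul, W2v, D2v, X2v]

theorem SL2_bruhat (A : SL(2, F)) :
    ∃ a e, A = X2 a * D2 e ∨ ∃ b, A = X2 a * D2 e * W2 * X2 b := by
  have hd : A.val 0 0 * A.val 1 1 - A.val 0 1 * A.val 1 0 = 1 := by
    have := A.det_coe; rwa [Matrix.det_fin_two] at this
  by_cases hc : A.val 1 0 = 0
  · rw [hc, mul_zero, sub_zero] at hd
    have h0 := left_ne_zero_of_mul_eq_one hd
    refine ⟨A.val 0 0 * A.val 0 1, Units.mk0 _ h0, Or.inl (Subtype.ext ?_)⟩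
    simp only [sl_mul, D2v, X2v]
    ext i j; fin_cases i <;> fin_cases j <;> simp [hc]
    · field_simp
    · exact eq_inv_of_mul_eq_one_right hd
  · refine ⟨A.val 0 0 / A.val 1 0, (-Units.mk0 _ hc)⁻¹, Or.inr ⟨A.val 1 1 / A.val 1 0, Subtype.ext ?_⟩⟩
    simp only [sl_mul, D2v, X2v, W2v]
    ext i j; fin_cases i <;> fin_cases j <;> simp <;> field_simp
    linear_combination -hd

theorem center_entry {A : SL(2, F)} (h : A ∈ center SL(2, F)) : A.val 0 1 = 0 ∧ A.val 1 0 = 0 := by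
  obtain ⟨r, -, hr⟩ := Matrix.SpecialLinearGroup.mem_center_iff.1 h
  constructor
  · rw [← hr]; simp
  · rw [← hr]; simp

variable {Q : Type*} [Group Q]

theorem sl2_inj (ρ : SL(2, F) →* Q) (hρ : ρ.ker ≤ center _) (ζ : Fˣ) (π : H →* Q)
    {x : F → H} (hx : ∀ a b, x (a + b) = x a * x b) {h w : H}
    (ht : ∀ a, h * x a * h⁻¹ = x ((ζ : F) ^ 2 * a)) (hw : w * h * w⁻¹ = h⁻¹) (hw2 : w * w ∈ zpowers h)
    (hb : ∀ a, a ≠ 0 → ∃ b c, ∃ i : ℤ, w * x a * w⁻¹ = x b * h ^ i * w * x c)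
    (hg : closure {x 1, h, w} = ⊤) (hN : h ^ orderOf (ρ (D2 ζ)) = 1)
    (p1 : ∀ a, π (x a) = ρ (X2 a)) (p2 : π h = ρ (D2 ζ)) (p3 : π w = ρ W2) :
    Function.Injective π := by
  rw [injective_iff_map_eq_one]
  intro g h1
  obtain ⟨a, i, rfl | ⟨b, rfl⟩⟩ := bruhat hx (pow_ne_zero 2 ζ.ne_zero) ht hw hw2 hb (hg ▸ mem_top g)
  · rw [map_mul, map_zpow, p1, p2] at h1
    have h2 := h1
    rw [← map_zpow, ← map_zpow D2, ← map_mul] at h2
    have h3 := (center_entry (hρ h2)).1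
    generalize ζ ^ i = e at h3
    have h4 : a = 0 := by simpa [sl_mul, X2v, D2v] using h3
    rw [h4, add_zero' X2_add, map_one, one_mul] at h1
    obtain ⟨k, rfl⟩ := orderOf_dvd_iff_zpow_eq_one.2 h1
    rw [h4, add_zero' hx, one_mul, zpow_mul, zpow_natCast, hN, one_zpow]
  · simp only [map_mul, map_zpow, p1, p2, p3] at h1
    rw [← map_zpow, ← map_zpow D2, ← map_mul, ← map_mul, ← map_mul] at h1
    have h3 := (center_entry (hρ h1)).2
    generalize ζ ^ i = e at h3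
    simp [sl_mul, X2v, D2v, W2v] at h3

theorem spread (ζ : Fˣ) {x : F → H} {h w : H}
    (ht : ∀ a, h * x a * h⁻¹ = x ((ζ : F) ^ 2 * a)) (hw : w * h * w⁻¹ = h⁻¹) (a0 : F) (n : ℕ)
    (hb : ∃ b c, ∃ i : ℤ, w * x a0 * w⁻¹ = x b * h ^ i * w * x c) :
    ∃ b c, ∃ i : ℤ, w * x (((ζ : F) ^ 2) ^ n * a0) * w⁻¹ = x b * h ^ i * w * x c := by
  induction n with
  | zero => simpa using hb
  | succ n ih =>
    obtain ⟨b, c, i, e⟩ := ih
    have ht' : ∀ a, h⁻¹ * x a * h = x (((ζ : F) ^ 2)⁻¹ * a) := fun a => by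
      have := ht (((ζ : F) ^ 2)⁻¹ * a)
      rw [mul_inv_cancel_left₀ (pow_ne_zero 2 ζ.ne_zero)] at this
      rw [← this]; group
    refine ⟨((ζ : F) ^ 2)⁻¹ * b, ((ζ : F) ^ 2)⁻¹ * c, i - 2, ?_⟩
    have e2 : w * h = h⁻¹ * w := by rw [← hw]; group
    rw [pow_succ', mul_assoc ((ζ : F) ^ 2), ← ht, ← ht', ← ht']
    calc w * (h * x (((ζ : F) ^ 2) ^ n * a0) * h⁻¹) * w⁻¹
        = (w * h * w⁻¹) * (w * x (((ζ : F) ^ 2) ^ n * a0) * w⁻¹) * (w * h * w⁻¹)⁻¹ := by group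
      _ = h⁻¹ * x b * h ^ i * (h⁻¹ * (h * w * h)) * (h⁻¹ * x c * h) := by rw [hw, e]; group
      _ = _ := by rw [mul_assoc h w, e2]; group

universe v

/-- the relations `R` present `F ⋊ ⟨t⟩`, `t` acting as `θ`, `t ^ N = 1` -/
def BRel (θ : F) (N : ℕ) (R : List (FreeGroup (Fin 2))) : Prop :=
  (∀ (G : Type v) [Group G] (x : F → G) (t : G), (∀ a b, x (a + b) = x a * x b) →
    (∀ a, t * x a * t⁻¹ = x (θ * a)) → t ^ N = 1 → ∀ w ∈ R, FreeGroup.lift ![x 1, t] w = 1) ∧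
  ∀ (H : Type) [Group H] (u t : H), (∀ w ∈ R, FreeGroup.lift ![u, t] w = 1) → t ^ N = 1 ∧
    ∃ x : F → H, (∀ a b, x (a + b) = x a * x b) ∧ x 1 = u ∧
      (∀ a, t * x a * t⁻¹ = x (θ * a)) ∧ ∀ f, x (aeval θ f) = pw u t f

theorem brel_one [Finite F] (hθ : ∀ a, ∃ f : ℤ[X], aeval (1 : F) f = a) (N : ℕ) :
    ∃ R, R.length ≤ 4 ∧ BRel.{v} (1 : F) N R := by
  obtain ⟨p, hp⟩ := CharP.exists F
  haveI := Fact.mk (CharP.char_is_prime F p)
  obtain ⟨m, m1, m2⟩ := exists_m (1 : F) p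
  refine ⟨[.of 0 ^ p, cw (.of 0) (.of 1) 1 * (.of 0)⁻¹, pw (.of 0) (.of 1) m, .of 1 ^ N], le_rfl, ?_, ?_⟩
  · intro G _ x t hx ht hN
    simp [map_cw, map_pw, cw_x ht, pw_x hx ht, m1, add_zero' hx, hN, ← add_nat' hx]
  · intro H _ u t hR
    simp [map_cw, map_pw, mul_inv_eq_one] at hR
    obtain ⟨r1, r2, r3, r4⟩ := hR
    have hc : ∀ i, cw u t i = u := fun i => by
      induction i with
      | zero => exact cw_zero
      | succ i ih => rw [cw_succ, ih, ← cw_one, r2]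
    exact ⟨r4, exists_x (fun i => by rw [hc]) hθ m2 r1 r3⟩

theorem brel1 [Finite F] {θ : F} (hθ : ∀ a, ∃ f : ℤ[X], aeval θ f = a)
    (hk : θ ≠ 1 → ∃ k, θ ^ k = θ - 1) (N : ℕ) : ∃ R, R.length ≤ 4 ∧ BRel.{v} θ N R := by
  by_cases h1 : θ = 1
  · subst h1; exact brel_one hθ N
  obtain ⟨k, hk⟩ := hk h1
  obtain ⟨p, hp⟩ := CharP.exists F
  haveI := Fact.mk (CharP.char_is_prime F p)
  obtain ⟨m, m1, m2⟩ := exists_m θ p
  refine ⟨[.of 0 ^ p, .of 0 * cw (.of 0) (.of 1) 1 * (cw (.of 0) (.of 1) 1 * .of 0)⁻¹,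
    cw (.of 0) (.of 1) k * ((.of 0)⁻¹ * cw (.of 0) (.of 1) 1)⁻¹,
    pw (.of 0) (.of 1) m * (.of 1 ^ N)⁻¹], le_rfl, ?_, ?_⟩
  · intro G _ x t hx ht hN
    simp only [List.mem_cons, List.not_mem_nil, or_false, forall_eq_or_imp, forall_eq, map_mul,
      map_inv, map_pow, map_cw, map_pw, mul_inv_eq_one, FreeGroup.lift_apply_of,
      Matrix.cons_val_zero, Matrix.cons_val_one, cw_x ht, pw_x hx ht, m1, add_zero' hx, hN, hk]
    refine ⟨by rw [← add_nat' hx, CharP.cast_eq_zero, zero_mul, add_zero' hx], add_comm' hx _ _,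
      ?_, trivial⟩
    rw [← add_neg' hx, ← hx]; congr 1; ring
  · intro H _ u t hR
    simp only [List.mem_cons, List.not_mem_nil, or_false, forall_eq_or_imp, forall_eq, map_mul,
      map_inv, map_pow, map_cw, map_pw, mul_inv_eq_one, FreeGroup.lift_apply_of,
      Matrix.cons_val_zero, Matrix.cons_val_one] at hR
    obtain ⟨r1, r2, r3, r4⟩ := hR
    have hc := baum1 r2 r3
    have r5 : pw u t m = 1 := pw_fixed hc (k := k) (g := 1) (by
      rw [one_mul, pw_sub hc, pw_one, r3, ← pow_one X, pw_X_pow hc]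
      exact (hc 1).inv_left.eq) (by rw [r4]; exact (Commute.refl t).pow_right N)
    exact ⟨r4 ▸ r5, exists_x hc hθ m2 r1 r5⟩

theorem brel2 [Finite F] {θ : F} (hθ : ∀ a, ∃ f : ℤ[X], aeval θ f = a)
    (hk : θ ≠ 1 → ∃ k, θ ^ k = (θ - 1) ^ 2) (N : ℕ) : ∃ R, R.length ≤ 5 ∧ BRel.{v} θ N R := by
  by_cases h1 : θ = 1
  · subst h1
    obtain ⟨R, a, b⟩ := brel_one hθ N
    exact ⟨R, by omega, b⟩
  obtain ⟨k, hk⟩ := hk h1
  obtain ⟨p, hp⟩ := CharP.exists F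
  haveI := Fact.mk (CharP.char_is_prime F p)
  obtain ⟨m, m1, m2⟩ := exists_m θ p
  refine ⟨[.of 0 ^ p, .of 0 * cw (.of 0) (.of 1) 1 * (cw (.of 0) (.of 1) 1 * .of 0)⁻¹,
    .of 0 * cw (.of 0) (.of 1) 2 * (cw (.of 0) (.of 1) 2 * .of 0)⁻¹,
    cw (.of 0) (.of 1) k * (.of 0 * (cw (.of 0) (.of 1) 1 ^ 2)⁻¹ * cw (.of 0) (.of 1) 2)⁻¹,
    pw (.of 0) (.of 1) m * (.of 1 ^ N)⁻¹], le_rfl, ?_, ?_⟩
  · intro G _ x t hx ht hN
    simp only [List.mem_cons, List.not_mem_nil, or_false, forall_eq_or_imp, forall_eq, map_mul,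
      map_inv, map_pow, map_cw, map_pw, mul_inv_eq_one, FreeGroup.lift_apply_of,
      Matrix.cons_val_zero, Matrix.cons_val_one, cw_x ht, pw_x hx ht, m1, add_zero' hx, hN, hk]
    refine ⟨by rw [← add_nat' hx, CharP.cast_eq_zero, zero_mul, add_zero' hx], add_comm' hx _ _,
      add_comm' hx _ _, ?_, trivial⟩
    rw [sq (x _), ← hx, ← add_neg' hx, ← hx, ← hx]; congr 1; ring
  · intro H _ u t hR
    simp only [List.mem_cons, List.not_mem_nil, or_false, forall_eq_or_imp, forall_eq, map_mul,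
      map_inv, map_pow, map_cw, map_pw, mul_inv_eq_one, FreeGroup.lift_apply_of,
      Matrix.cons_val_zero, Matrix.cons_val_one] at hR
    obtain ⟨r1, r2, r2', r3, r4⟩ := hR
    have hc := baum2 r2 r2' r3
    have r5 : pw u t m = 1 := pw_fixed hc (k := k) (g := X - 1) (by
      rw [show ((X - 1) * (X - 1) : ℤ[X]) = 1 - (X ^ 1 + X ^ 1) + X ^ 2 by ring, pw_add hc, pw_sub hc,
        pw_add hc, pw_one, r3, pw_X_pow hc, pw_X_pow hc, sq])
      (by rw [r4]; exact (Commute.refl t).pow_right N)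
    exact ⟨r4 ▸ r5, exists_x hc hθ m2 r1 r5⟩

theorem x_eq {G : Type*} [Group G] {θ : F} (hθ : ∀ a, ∃ f : ℤ[X], aeval θ f = a) (π : H →* G)
    {x : F → H} {u t : H} (h : ∀ f, x (aeval θ f) = pw u t f) {y : F → G}
    (hy : ∀ a b, y (a + b) = y a * y b) (ht : ∀ a, π t * y a * (π t)⁻¹ = y (θ * a))
    (hu : π u = y 1) (a : F) : π (x a) = y a := by
  obtain ⟨f, rfl⟩ := hθ a
  rw [h, map_pw, hu, pw_x hy ht]

theorem sl2_gen [Finite F] (ρ : SL(2, F) →* Q) (hs : Function.Surjective ρ) (ζ : Fˣ)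
    (hζ : ∀ e, e ∈ zpowers ζ) {L : Subgroup Q} (h1 : ρ (X2 1) ∈ L) (h2 : ρ (D2 ζ) ∈ L)
    (h3 : ρ W2 ∈ L) : L = ⊤ := by
  have hD : ∀ e, ρ (D2 e) ∈ L := fun e => by
    obtain ⟨i, rfl⟩ := hζ e
    simp only [map_zpow]; exact zpow_mem h2 i
  have hX : ∀ a, ρ (X2 a) ∈ L := fun a => by
    obtain ⟨f, rfl⟩ := gen_sq ζ hζ a
    rw [← pw_x X2_add (D2_X2 ζ), map_pw]
    exact pw_mem (fun i => mul_mem (mul_mem (pow_mem h2 i) h1) (inv_mem (pow_mem h2 i))) f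
  rw [eq_top_iff]
  intro g _
  obtain ⟨A, rfl⟩ := hs g
  obtain ⟨a, e, rfl | ⟨b, rfl⟩⟩ := SL2_bruhat A <;> simp only [map_mul]
  · exact mul_mem (hX _) (hD _)
  · exact mul_mem (mul_mem (mul_mem (hX _) (hD _)) h3) (hX _)

theorem range3 {α : Type*} (g : Fin 3 → α) : Set.range g = {g 0, g 1, g 2} := by
  ext a; simp [Fin.exists_fin_succ, eq_comm]

theorem lift_two {ι : Type} (g : ι → H) (a b : FreeGroup ι) (w : FreeGroup (Fin 2)) :
    FreeGroup.lift g (FreeGroup.lift ![a, b] w) =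
      FreeGroup.lift ![FreeGroup.lift g a, FreeGroup.lift g b] w := by
  rw [lift_lift]; congr 2; funext i; fin_cases i <;> rfl

theorem sl2_pres9 {Q : Type v} [Group Q] [Finite F] (ρ : SL(2, F) →* Q) (hs : Function.Surjective ρ)
    (hρ : ρ.ker ≤ center _) : ∃ g : Fin 3 → Q, Pres g 9 := by
  obtain ⟨ζ, hζ⟩ := IsCyclic.exists_generator (α := Fˣ)
  have hθ := gen_sq ζ hζ
  obtain ⟨R, hR, b1, b2⟩ := brel2.{v} hθ (fun h => by
    obtain ⟨k, hk⟩ := exists_pow_eq ζ hζ (sub_ne_zero.2 h)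
    exact ⟨k, by rw [← hk, ← pow_mul, ← pow_mul, mul_comm]⟩) (orderOf (ρ (D2 ζ)))
  obtain ⟨j, hj⟩ := hζ (-1)
  simp only at hj
  choose f hf using hθ
  obtain ⟨y, ey⟩ : ∃ y : F → Q, ∀ a, ρ (X2 a) = y a := ⟨_, fun _ => rfl⟩
  have hy : ∀ a b, y (a + b) = y a * y b := fun a b => by rw [← ey, ← ey, ← ey, X2_add, map_mul]
  have hyt : ∀ a, ρ (D2 ζ) * y a * (ρ (D2 ζ))⁻¹ = y ((ζ : F) ^ 2 * a) := fun a => by
    rw [← ey, ← ey, ← D2_X2, map_mul, map_mul, map_inv]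
  let P : F → FreeGroup (Fin 3) := fun a => pw (.of 0) (.of 1) (f a)
  refine ⟨![y 1, ρ (D2 ζ), ρ W2], Pres.intro (R.map (FreeGroup.lift ![.of 0, .of 1]) ++
    [.of 2 * .of 1 * (.of 2)⁻¹ * ((.of 1)⁻¹)⁻¹, .of 2 * .of 2 * (.of 1 ^ j)⁻¹,
      .of 2 * P 1 * (.of 2)⁻¹ * (P (-1) * .of 1 ^ (0 : ℤ) * .of 2 * P (-1))⁻¹,
      .of 2 * P ζ * (.of 2)⁻¹ * (P (-(ζ : F)⁻¹) * .of 1 ^ (-1 : ℤ) * .of 2 * P (-(ζ : F)⁻¹))⁻¹])
    (by simp; omega) (sl2_gen ρ hs ζ hζ (ey 1 ▸ Subgroup.subset_closure ⟨0, rfl⟩)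
      (Subgroup.subset_closure ⟨1, rfl⟩) (Subgroup.subset_closure ⟨2, rfl⟩)) ?_ ?_⟩
  · simp only [List.forall_mem_append, List.forall_mem_map, lift_two, List.mem_cons,
      List.not_mem_nil, or_false, forall_eq_or_imp, forall_eq, map_mul, P,
      map_inv, map_zpow, map_pw, mul_inv_eq_one, FreeGroup.lift_apply_of,
      Matrix.cons_val_zero, Matrix.cons_val_one, Matrix.cons_val]
    rw [pw_x hy hyt, pw_x hy hyt, pw_x hy hyt, pw_x hy hyt]
    refine ⟨b1 Q _ _ hy hyt (pow_orderOf_eq_one _), by simpa using congrArg ρ (W2_D2 ζ),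
      by rw [← map_mul, ← map_zpow, ← map_zpow, W2_sq, hj], ?_, ?_⟩
    · simpa [hf, ey] using congrArg ρ (W2_X2 (1 : Fˣ))
    · simpa [hf, ey] using congrArg ρ (W2_X2 ζ)
  · intro H _ g π hπ hc hR
    simp only [List.forall_mem_append, List.forall_mem_map, lift_two, List.mem_cons,
      List.not_mem_nil, or_false, forall_eq_or_imp, forall_eq, map_mul, P,
      map_inv, map_zpow, map_pw, mul_inv_eq_one, FreeGroup.lift_apply_of] at hR
    obtain ⟨r0, r1, r2, r3, r4⟩ := hR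
    obtain ⟨hN, x, hx, x1, ht, hp⟩ := b2 H _ _ r0
    simp only [← hp, hf] at r3 r4
    refine sl2_inj ρ hρ ζ π hx ht r1 ⟨j, r2.symm⟩ (fun a ha => ?_) (by rw [x1, ← range3, hc]) hN
      (fun a => (x_eq (gen_sq ζ hζ) π hp hy (by rw [hπ 1]; exact hyt) (hπ 0) a).trans (ey a).symm) (hπ 1) (hπ 2)
    obtain ⟨k, rfl⟩ := exists_pow_eq ζ hζ ha
    obtain ⟨n, rfl | rfl⟩ := Nat.even_or_odd' k
    · simpa [pow_mul] using spread ζ ht r1 1 n ⟨_, _, _, r3⟩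
    · simpa [pow_mul, pow_succ] using spread ζ ht r1 ζ n ⟨_, _, _, r4⟩

theorem sl2_pres5 {Q : Type v} [Group Q] [Finite F] [CharP F 2] (ρ : SL(2, F) →* Q)
    (hs : Function.Surjective ρ) (hρ : ρ.ker ≤ center _) : ∃ g : Fin 3 → Q, Pres g 5 := by
  obtain ⟨ζ, hζ⟩ := IsCyclic.exists_generator (α := Fˣ)
  have hθ := gen_sq ζ hζ
  obtain ⟨m, m1, m2⟩ := exists_m ((ζ : F) ^ 2) 2
  obtain ⟨y, ey⟩ : ∃ y : F → Q, ∀ a, ρ (X2 a) = y a := ⟨_, fun _ => rfl⟩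
  have hy : ∀ a b, y (a + b) = y a * y b := fun a b => by rw [← ey, ← ey, ← ey, X2_add, map_mul]
  have hyt : ∀ a, ρ (D2 ζ) * y a * (ρ (D2 ζ))⁻¹ = y ((ζ : F) ^ 2 * a) := fun a => by
    rw [← ey, ← ey, ← D2_X2, map_mul, map_mul, map_inv]
  have hsq : ∀ a : F, a ≠ 0 → ∃ k, ((ζ : F) ^ 2) ^ k = a := fun a ha => by
    obtain ⟨b, rfl⟩ := FiniteField.isSquare_of_char_two (ringChar.eq F 2) a
    obtain ⟨k, rfl⟩ := exists_pow_eq ζ hζ (left_ne_zero_of_mul ha)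
    exact ⟨k, by ring⟩
  have two : (1 + 1 : F) = 0 := CharTwo.add_self_eq_zero 1
  have n1 : (-1 : F) = 1 := CharTwo.neg_eq 1
  have a1 : y 1 * y 1 = 1 := by rw [← hy, two, add_zero' hy]
  have a2 : ρ W2 * ρ W2 = 1 := by
    rw [← map_mul, W2_sq, show (-1 : Fˣ) = 1 from Units.ext n1, map_one, map_one]
  have a3 : ρ W2 * y 1 * (ρ W2)⁻¹ = y 1 * ρ W2 * y 1 := by
    simpa [n1, ey] using congrArg ρ (W2_X2 (1 : Fˣ))
  have a4 : ρ W2 * ρ (D2 ζ) * (ρ W2)⁻¹ = (ρ (D2 ζ))⁻¹ := by simpa using congrArg ρ (W2_D2 ζ)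
  obtain ⟨R, hR, b1, b2⟩ : ∃ R : List (FreeGroup (Fin 2)), R.length ≤ 2 ∧
      (∀ w ∈ R, FreeGroup.lift ![y 1, ρ (D2 ζ)] w = 1) ∧
      ∀ (H : Type) [Group H] (u t : H), u * u = 1 → (∀ w ∈ R, FreeGroup.lift ![u, t] w = 1) →
        t ^ orderOf (ρ (D2 ζ)) = 1 ∧ (∀ i, Commute u (cw u t i)) ∧ pw u t m = 1 := by
    by_cases h1 : (ζ : F) ^ 2 = 1
    · have h2 : ζ = 1 := Units.ext (by
        rcases sq_eq_one_iff.1 h1 with h | h
        · exact h
        · exact h.trans n1)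
      refine ⟨[.of 1, pw (.of 0) (.of 1) m], le_rfl, ?_, ?_⟩
      · simp only [List.mem_cons, List.not_mem_nil, or_false, forall_eq_or_imp, forall_eq, map_pw,
          FreeGroup.lift_apply_of, Matrix.cons_val_zero, Matrix.cons_val_one]
        rw [pw_x hy hyt, m1, add_zero' hy, h2]; simp
      · intro H _ u t hu hR
        simp [map_pw] at hR
        exact ⟨by simp [hR.1], fun i => by simp [hR.1, cw], hR.2⟩
    · obtain ⟨k, hk⟩ := hsq _ (sub_ne_zero.2 h1)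
      refine ⟨[cw (.of 0) (.of 1) k * ((.of 0)⁻¹ * cw (.of 0) (.of 1) 1)⁻¹,
        pw (.of 0) (.of 1) m * (.of 1 ^ orderOf (ρ (D2 ζ)))⁻¹], le_rfl, ?_, ?_⟩
      · simp only [List.mem_cons, List.not_mem_nil, or_false, forall_eq_or_imp, forall_eq, map_mul,
          map_inv, map_pow, map_cw, map_pw, mul_inv_eq_one, FreeGroup.lift_apply_of,
          Matrix.cons_val_zero, Matrix.cons_val_one]
        rw [pw_x hy hyt, cw_x hyt, cw_x hyt, m1, add_zero' hy, pow_orderOf_eq_one, hk,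
          ← add_neg' hy, ← hy]
        exact ⟨by congr 2; ring, rfl⟩
      · intro H _ u t hu hR
        simp only [List.mem_cons, List.not_mem_nil, or_false, forall_eq_or_imp, forall_eq, map_mul,
          map_inv, map_pow, map_cw, map_pw, mul_inv_eq_one, FreeGroup.lift_apply_of,
          Matrix.cons_val_zero, Matrix.cons_val_one] at hR
        obtain ⟨r3, r4⟩ := hR
        have s : ∀ i, cw u t i * cw u t i = 1 := fun i => by
          rw [cw, conj_mul, hu]; simp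
        have r2 : Commute u (cw u t 1) := by
          have := s k
          rw [r3, inv_eq_of_mul_eq_one_right hu] at this
          rw [Commute, SemiconjBy, ← inv_eq_of_mul_eq_one_right this, mul_inv_rev,
            inv_eq_of_mul_eq_one_right hu, inv_eq_of_mul_eq_one_right (s 1)]
        have hc := baum1 r2 r3
        have r5 : pw u t m = 1 := pw_fixed hc (k := k) (g := 1) (by
          rw [one_mul, pw_sub hc, pw_one, r3, ← pow_one X, pw_X_pow hc]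
          exact (hc 1).inv_left.eq) (by rw [r4]; exact (Commute.refl t).pow_right _)
        exact ⟨r4 ▸ r5, hc, r5⟩
  refine ⟨![y 1, ρ (D2 ζ), ρ W2 * (y 1)⁻¹], Pres.intro (R.map (FreeGroup.lift ![.of 0, .of 1]) ++
    [.of 0 * .of 0 * 1⁻¹, .of 0 * .of 2 * (.of 0)⁻¹ * (.of 2 * .of 2)⁻¹,
      (.of 2 * .of 0) * .of 1 * ((.of 2 * .of 0) * .of 1) * 1⁻¹])
    (by simp; omega) (sl2_gen ρ hs ζ hζ (ey 1 ▸ Subgroup.subset_closure ⟨0, rfl⟩)
      (Subgroup.subset_closure ⟨1, rfl⟩) ?_) ?_ ?_⟩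
  · have := mul_mem (Subgroup.subset_closure (k := Set.range ![y 1, ρ (D2 ζ), ρ W2 * (y 1)⁻¹]) ⟨2, rfl⟩)
      (Subgroup.subset_closure ⟨0, rfl⟩)
    simpa using this
  · simp only [List.forall_mem_append, List.forall_mem_map, lift_two, List.mem_cons,
      List.not_mem_nil, or_false, forall_eq_or_imp, forall_eq, map_mul, map_one,
      map_inv, mul_inv_eq_one, FreeGroup.lift_apply_of,
      Matrix.cons_val_zero, Matrix.cons_val_one, Matrix.cons_val, inv_mul_cancel_right]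
    have i1 := inv_eq_of_mul_eq_one_right a1
    have i2 := inv_eq_of_mul_eq_one_right a2
    refine ⟨b1, a1, ?_, ?_⟩
    · rw [i2] at a3
      rw [i1, ← mul_assoc, mul_assoc _ (y 1) (y 1), a1, mul_one, ← mul_assoc, a3,
        mul_assoc _ (y 1) (y 1), a1, mul_one]
    · rw [← mul_assoc, ← i2, i2, show ρ W2 * ρ (D2 ζ) * ρ W2 = ρ W2 * ρ (D2 ζ) * (ρ W2)⁻¹ by rw [i2],
        a4, inv_mul_cancel]
  · intro H _ g π hπ hc hR
    simp only [List.forall_mem_append, List.forall_mem_map, lift_two, List.mem_cons,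
      List.not_mem_nil, or_false, forall_eq_or_imp, forall_eq, map_mul, map_one,
      map_inv, mul_inv_eq_one, FreeGroup.lift_apply_of] at hR
    obtain ⟨r0, r1, r2, r3⟩ := hR
    obtain ⟨hN, hc', hm⟩ := b2 H _ _ r1 r0
    obtain ⟨x, hx, x1, ht, hp⟩ := exists_x hc' hθ m2 (by rw [sq, r1]) hm
    have i1 := inv_eq_of_mul_eq_one_right r1
    have y3 : g 2 * g 2 * g 2 = 1 := by
      have e : g 0 * (g 0 * g 2 * (g 0)⁻¹) * (g 0)⁻¹ = g 2 := by
        rw [i1, ← mul_assoc, ← mul_assoc, r1, one_mul, mul_assoc, r1, mul_one]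
      rw [r2, ← conj_mul, r2] at e
      exact mul_right_cancel (b := g 2) (by rw [one_mul, mul_assoc, e])
    have w2 : g 2 * g 0 * (g 2 * g 0) = 1 := by
      rw [← y3, mul_assoc (g 2) (g 2), ← r2, i1]; group
    have i2 := inv_eq_of_mul_eq_one_right w2
    have r4 : g 2 * g 0 * g 1 * (g 2 * g 0)⁻¹ = (g 1)⁻¹ := by
      rw [i2, eq_inv_iff_mul_eq_one, mul_assoc, r3]
    have r5 : g 2 * g 0 * x 1 * (g 2 * g 0)⁻¹ = x 1 * g 1 ^ (0 : ℤ) * (g 2 * g 0) * x 1 := by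
      rw [x1, i2, mul_assoc (g 2) (g 0), r1, zpow_zero, mul_one, mul_one, mul_assoc, mul_assoc, r1,
        mul_one, ← mul_assoc, ← r2]; group
    refine sl2_inj ρ hρ ζ π hx ht r4 (w2 ▸ one_mem _) (fun a ha => ?_) ?_ hN
      (fun a => (x_eq (gen_sq ζ hζ) π hp hy (by rw [hπ 1]; exact hyt) (hπ 0) a).trans (ey a).symm) (hπ 1) (by simp [hπ])
    · obtain ⟨k, rfl⟩ := hsq a ha
      simpa using spread ζ ht r4 1 k ⟨_, _, _, r5⟩
    · rw [eq_top_iff, ← hc, range3, x1, Subgroup.closure_le]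
      rintro _ (rfl | rfl | rfl)
      · exact Subgroup.subset_closure (by simp)
      · exact Subgroup.subset_closure (by simp)
      · rw [← mul_inv_cancel_right (g 2) (g 0)]
        exact mul_mem (Subgroup.subset_closure (by simp)) (inv_mem (Subgroup.subset_closure (by simp)))

end Cfsg.Agent.L0
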