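import Cfsg.Agent.S0340
import Cfsg.Agent.S0215
import Cfsg.Agent.S3322
import Cfsg.Agent.H25.HallNum
import Cfsg.Agent.H12.SBridge
import Cfsg.Agent.H11.Syl

/-! Doubly transitive groups in which the centralizer of an involution has a constant number of fixed points. -/

set_option autoImplicit false

namespace Cfsg.Agent.L0

open Cfsg MulAction Subgroup Finset Cfsg.Agent.H4

/-- the hypothesis -/
structure CF (G Ω : Type*) [Group G] [MulAction G Ω] (i : ℕ) (t : G) : Prop where
  fth : ∀ g : G, (∀ ω : Ω, g • ω = ω) → g = 1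
  two : ∀ a b c d : Ω, a ≠ b → c ≠ d → ∃ g : G, g • a = c ∧ g • b = d
  ord : orderOf t = 2
  fix : ∀ g : G, Commute g t → g ≠ 1 → (fixedBy Ω g).ncard = i

namespace CF

variable {G Ω : Type*} [Group G] [MulAction G Ω] {i : ℕ} {t : G} (h : CF G Ω i t)
include h

theorem ne : t ≠ 1 := fun e => by have := h.ord; simp [e] at this

theorem sq : t * t = 1 := by rw [← pow_two, ← h.ord, pow_orderOf_eq_one]

theorem tt (x : Ω) : t • t • x = x := by rw [← mul_smul, h.sq, one_smul]

theorem moves {g : G} (hg : g ≠ 1) : ∃ a : Ω, a ≠ g • a := by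
  by_contra! hc
  exact hg (h.fth g fun ω => (hc ω).symm)

theorem conj (g : G) : CF G Ω i (g * t * g⁻¹) := by
  refine ⟨h.fth, h.two, by rw [← h.ord]; exact (MulAut.conj g).orderOf_eq t, fun x hx h1 => ?_⟩
  rw [← h.fix (g⁻¹ * x * g) (by
    rw [Commute, SemiconjBy, ← mul_left_cancel_iff (a := g), ← mul_right_cancel_iff (a := g⁻¹)]
    simpa [mul_assoc] using hx.eq) (by
      rw [Ne, mul_assoc, inv_mul_eq_one]; simpa using h1), ← Set.ncard_smul_set g⁻¹, smul_fixedBy, inv_inv]

theorem of_isConj {s : G} (e : IsConj t s) : CF G Ω i s := by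
  obtain ⟨g, rfl⟩ := isConj_iff.1 e
  exact h.conj g

variable [Finite G] [Finite Ω]

theorem dvd : Nat.card (centralizer {t}) ∣ Nat.card Ω - i ∧ i < Nat.card Ω := by
  classical
  have := Fintype.ofFinite G
  have := Fintype.ofFinite Ω
  have h1 : i < Nat.card Ω := by
    obtain ⟨a, ha⟩ := h.moves h.ne
    rw [← h.fix t rfl h.ne, ← Set.ncard_univ]
    exact Set.ncard_lt_ncard ⟨Set.subset_univ _, fun e => ha (e (Set.mem_univ a)).symm⟩
  refine ⟨?_, h1⟩
  have h2 := sum_card_fixedBy_eq_card_orbits_mul_card_group (centralizer {t}) Ω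
  rw [sum_congr rfl (g := fun g => i + if g = 1 then Nat.card Ω - i else 0) fun g _ => by
    rw [← Nat.card_eq_fintype_card, Nat.card_coe_set_eq]
    split_ifs with e
    · rw [e, fixedBy_one_eq_univ, Set.ncard_univ]; omega
    · exact h.fix g (mem_centralizer_singleton_iff.1 g.2) fun e' => e (Subtype.ext e'),
    sum_add_distrib, sum_ite_eq', if_pos (mem_univ _), sum_const, card_univ, smul_eq_mul,
    ← Nat.card_eq_fintype_card] at h2
  exact (Nat.dvd_add_right (dvd_mul_right _ i)).1 (h2 ▸ dvd_mul_left _ _)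

theorem swap {a b : Ω} (hab : a ≠ b) : Nat.card (centralizer {t}) + i = Nat.card Ω ∧
    ∀ s : G, s • a = b → s • b = a → IsConj t s := by
  classical
  have := Fintype.ofFinite G
  have := Fintype.ofFinite Ω
  have hc : ∀ x y, x ≠ y → #{g : G | g • a = x ∧ g • b = y} = Nat.card (St2 G a b) := fun x y e => by
    obtain ⟨g, h1, h2⟩ := h.two a b x y hab e
    rw [← card_carry h1 h2, Nat.card_eq_fintype_card, Fintype.card_subtype]
  let P : Finset G := {g | t • g • a = g • b}
  have h1 : #P = (Nat.card Ω - i) * Nat.card (St2 G a b) := by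
    rw [card_eq_sum_card_fiberwise (f := fun g : G => g • a) (t := {x | t • x ≠ x}) fun g hg => by
      have := (mem_filter.1 hg).2
      simp only [coe_filter, mem_univ, true_and, Set.mem_ofPred_eq, this]
      exact fun e => hab (smul_left_cancel g e).symm,
      sum_congr rfl (g := fun _ => Nat.card (St2 G a b)) fun x hx => ?_, sum_const, smul_eq_mul]
    · congr 1
      have := card_filter_add_card_filter_not (s := (univ : Finset Ω)) fun x => t • x = x
      rw [show #{x : Ω | t • x = x} = i by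
        rw [← h.fix t rfl h.ne, ← Set.ncard_coe_finset]; congr 1; ext; simp, card_univ,
        ← Nat.card_eq_fintype_card] at this
      change #{x : Ω | ¬ t • x = x} = _
      omega
    · rw [← hc x (t • x) (mem_filter.1 hx).2.symm]
      congr 1
      ext g
      simp only [P, mem_filter, mem_univ, true_and]
      exact ⟨fun ⟨e1, e2⟩ => ⟨e2, by rw [← e1, e2]⟩, fun ⟨e1, e2⟩ => ⟨by rw [e1, e2], e1⟩⟩
  have h2 : #P = ∑ s ∈ ({g : G | g • a = b ∧ g • b = a} : Finset G), #{g ∈ P | g⁻¹ * t * g = s} :=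
    card_eq_sum_card_fiberwise fun g hg => by
      have := (mem_filter.1 hg).2
      simp only [coe_filter, mem_univ, true_and, Set.mem_ofPred_eq, mul_smul]
      exact ⟨by rw [this, inv_smul_smul], by rw [← this, h.tt, inv_smul_smul]⟩
  have h3 : ∀ s, #{g ∈ P | g⁻¹ * t * g = s} ≤ Nat.card (centralizer {t}) := fun s => by
    rcases ({g ∈ P | g⁻¹ * t * g = s} : Finset G).eq_empty_or_nonempty with e | ⟨g, hg⟩
    · simp [e]
    rw [← SetLike.coe_sort_coe, Nat.card_coe_set_eq, Set.ncard_eq_toFinset_card']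
    refine card_le_card_of_injOn (· * g⁻¹) (fun x hx => ?_) fun x _ y _ e => mul_right_cancel e
    have e := (mem_filter.1 hx).2.trans (mem_filter.1 hg).2.symm
    simp only [Set.coe_toFinset, SetLike.mem_coe, mem_centralizer_singleton_iff]
    calc x * g⁻¹ * t = x * (g⁻¹ * t * g) * g⁻¹ := by group
      _ = t * (x * g⁻¹) := by rw [← e]; group
  obtain ⟨⟨k, hk⟩, h4⟩ := h.dvd
  have h5 : 0 < Nat.card (St2 G a b) := Nat.card_pos
  have h6 : 0 < Nat.card (centralizer {t}) := Nat.card_pos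
  have h7 := sum_le_card_nsmul _ _ _ fun s (_ : s ∈ ({g : G | g • a = b ∧ g • b = a} : Finset G)) => h3 s
  rw [← h2, h1, hc b a hab.symm, smul_eq_mul, hk, mul_comm] at h7
  have h8 : k = 1 := by
    have := Nat.le_of_mul_le_mul_left h7 h5
    rcases k with _ | _ | k
    · omega
    · rfl
    · nlinarith
  rw [h8, mul_one] at hk
  refine ⟨by omega, fun s e1 e2 => by_contra fun hs => ?_⟩
  have h9 := sum_lt_sum (fun s (_ : s ∈ ({g : G | g • a = b ∧ g • b = a} : Finset G)) => h3 s)
    ⟨s, by simp [e1, e2], by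
      rwa [filter_false_of_mem fun g _ e => hs (isConj_iff.2 ⟨g⁻¹, by rwa [inv_inv]⟩), card_empty]⟩
  rw [← h2, h1, hk, sum_const, hc b a hab.symm, smul_eq_mul, mul_comm] at h9
  exact h9.false

theorem swap_sq {a b : Ω} (hab : a ≠ b) {s : G} (h1 : s • a = b) (h2 : s • b = a) : s * s = 1 :=
  (h.of_isConj ((h.swap hab).2 s h1 h2)).sq

theorem inv {a b : Ω} (hab : a ≠ b) {s d : G} (h1 : s • a = b) (h2 : s • b = a) (hd : d ∈ St2 G a b) :
    s * d * s⁻¹ = d⁻¹ := by
  have h3 := h.swap_sq hab (s := s * d) (by rw [mul_smul, hd.1, h1]) (by rw [mul_smul, hd.2, h2])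
  rw [inv_eq_of_mul_eq_one_right (h.swap_sq hab h1 h2), eq_inv_iff_mul_eq_one, ← h3, mul_assoc]

theorem comm {a b : Ω} (hab : a ≠ b) {d e : G} (hd : d ∈ St2 G a b) (he : e ∈ St2 G a b) : d * e = e * d := by
  obtain ⟨s, h1, h2⟩ := h.two a b b a hab hab.symm
  rw [← inv_inj, ← h.inv hab h1 h2 (mul_mem hd he), mul_inv_rev, ← h.inv hab h1 h2 hd, ← h.inv hab h1 h2 he]
  group

theorem all {s : G} (h1 : s ≠ 1) (h2 : s * s = 1) : IsConj t s := by
  obtain ⟨a, ha⟩ := h.moves h1
  exact (h.swap ha).2 s rfl (by rw [← mul_smul, h2, one_smul])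

/-- no regular normal subgroup -/
def NR (G Ω : Type*) [Group G] [MulAction G Ω] : Prop :=
  ¬ ∃ R : Subgroup G, R.Normal ∧ (∀ x y : Ω, ∃ r ∈ R, r • x = y) ∧ ∀ x : Ω, ∀ r ∈ R, r • x = x → r = 1

omit [Finite G] [Finite Ω] in
theorem trans {N : Subgroup G} (hN : N.Normal) (h1 : N ≠ ⊥) (x y : Ω) : ∃ r ∈ N, r • x = y := by
  obtain ⟨⟨r, hr⟩, h2⟩ := ne_bot_iff_exists_ne_one.1 h1
  obtain ⟨a, ha⟩ := h.moves (g := r) fun e => h2 (Subtype.ext e)
  rcases eq_or_ne x y with rfl | e
  · exact ⟨1, one_mem _, one_smul _ _⟩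
  obtain ⟨g, rfl, rfl⟩ := h.two a _ x y ha e
  exact ⟨_, hN.conj_mem r hr g, by simp [mul_smul]⟩

omit [Finite G] [Finite Ω] in
theorem sol (hr : NR G Ω) {N : Subgroup G} (hN : N.Normal) (hs : Group.IsSolvable N) : N = ⊥ := by
  obtain ⟨n, hn⟩ := hs
  have key : ∀ k, (derivedSeries N k).map N.subtype = ⊥ → N = ⊥ := fun k => by
    induction k with
    | zero => simp [← MonoidHom.range_eq_map]
    | succ k ih =>
      intro e
      refine ih (by_contra fun e' => hr ⟨_, inferInstance, h.trans inferInstance e', fun x r hr1 hx =>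
        h.fth r fun y => ?_⟩)
      obtain ⟨u, hu, rfl⟩ := h.trans (N := (derivedSeries N k).map N.subtype) inferInstance e' x y
      rw [derivedSeries_succ, map_commutator, commutator_eq_bot_iff_le_centralizer] at e
      rw [← mul_smul, ← e hr1 u hu, mul_smul, hx]
  exact key n (by rw [hn, Subgroup.map_bot])

theorem invol_mem (hr : NR G Ω) {N : Subgroup G} (hN : N.Normal) (h1 : N ≠ ⊥) {s : G} (h2 : s * s = 1) :
    s ∈ N := by
  rcases eq_or_ne s 1 with rfl | h3
  · exact one_mem _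
  obtain ⟨u, hu⟩ := exists_prime_orderOf_dvd_card' (G := N) 2 (by
    by_contra e
    exact h1 (h.sol hr hN (FT.solvable_of_odd (Nat.odd_iff.2 (by omega)))))
  obtain ⟨g, rfl⟩ := isConj_iff.1 ((h.all (s := u) (fun e => by
    rw [← orderOf_coe, e] at hu; simp at hu) (by
      rw [← pow_two, ← hu, ← orderOf_coe, pow_orderOf_eq_one])).symm.trans (h.all h3 h2))
  exact hN.conj_mem _ u.2 g

end CF

end Cfsg.Agent.L0
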