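import Cfsg.Agent.L0.CF1
import Cfsg.Agent.BS.BZ

/-! Doubly transitive groups in which the centralizer of an involution has a constant number of fixed points:
the classification. -/

set_option autoImplicit false

namespace Cfsg.Agent.L0

open Cfsg MulAction Subgroup Finset Cfsg.Agent.H4

theorem four_dvd_cent {G : Type*} [Group G] [Finite G] {t s : G} (ht : orderOf t = 2) (hs : s * s = 1)
    (h1 : s ≠ 1) (h2 : s ≠ t) (hc : s * t = t * s) : 4 ∣ Nat.card (centralizer {t}) := by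
  classical
  let t' : centralizer {t} := ⟨t, mem_centralizer_singleton_iff.2 rfl⟩
  have : (zpowers t').Normal := ⟨fun x hx g => by
    have : Commute g t' := Subtype.ext (mem_centralizer_singleton_iff.1 g.2)
    obtain ⟨k, rfl⟩ := hx
    rw [(this.zpow_right k).eq, mul_inv_cancel_right]
    exact ⟨k, rfl⟩⟩
  have h3 : orderOf t' = 2 := by rw [← orderOf_coe, ht]
  rw [card_eq_card_quotient_mul_card_subgroup (zpowers t'), Nat.card_zpowers, h3]
  refine mul_dvd_mul_right (?_ : 2 ∣ _) 2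
  have h4 : orderOf (QuotientGroup.mk (s := zpowers t') ⟨s, mem_centralizer_singleton_iff.2 hc⟩) = 2 := by
    refine orderOf_eq_prime ?_ fun e => ?_
    · rw [← QuotientGroup.mk_pow, QuotientGroup.eq_one_iff, pow_two]
      convert Subgroup.one_mem _
      exact Subtype.ext hs
    · rw [QuotientGroup.eq_one_iff, mem_zpowers_iff_mem_range_orderOf, h3] at e
      simp [range_add_one, t', Subtype.ext_iff, h1, h2] at e
  exact h4 ▸ orderOf_dvd_natCard _

theorem normal_of_sq {G : Type*} [Group G] {L : Subgroup G} (h : ∀ g, g * g ∈ L) : L.Normal :=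
  ⟨fun x hx g => by
    have := mul_mem (mul_mem (h (g * x)) (inv_mem hx)) (h g⁻¹)
    convert this using 1
    group⟩

set_option backward.isDefEq.respectTransparency.types false in
theorem sq_mem_toPGL {F : Type*} [Field F] (g : Matrix.ProjGenLinGroup (Fin 2) F) :
    g * g ∈ (Matrix.ProjectiveSpecialLinearGroup.toPGL (n := Fin 2) (R := F)).range := by
  induction g using Matrix.ProjGenLinGroup.induction_on with | mk g =>
  rw [← map_mul]
  refine ⟨QuotientGroup.mk ⟨(g.det⁻¹).1 • (g * g).1, by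
    rw [Matrix.det_smul, ← Matrix.GeneralLinearGroup.val_det_apply, map_mul, Fintype.card_fin,
      ← Units.val_pow_eq_pow_val, ← Units.val_mul, ← pow_two, ← mul_pow, inv_mul_cancel, one_pow,
      Units.val_one]⟩, ?_⟩
  simp only [Matrix.ProjectiveSpecialLinearGroup.toPGL_mk, Matrix.ProjGenLinGroup.mk_eq_mk_iff]
  refine ⟨g.det, Units.ext ?_⟩
  simp only [Units.val_mul, Matrix.SpecialLinearGroup.coe_GL_coe_matrix, Matrix.GeneralLinearGroup.coe_scalar]
  rw [Matrix.smul_mul, ← Matrix.mul_smul, Matrix.scalar_apply, ← Matrix.diagonal_smul, Pi.smul_def]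
  simp only [smul_eq_mul, Units.inv_mul, Matrix.diagonal_one, mul_one]

theorem three_dvd_PSU {F : Type*} [Field F] [Fintype F] {q : ℕ} (hF : Fintype.card F = q ^ 2) :
    3 ∣ Nat.card (PSU 3 F q) := by
  have h := H12.card_PSU hF (n := 3) (by norm_num)
  have h1 : H12.guOrd q 3 = (q + 1) * (q ^ 3 * (q ^ 2 - 1) * (q ^ 3 + 1)) := by
    simp [H12.guOrd, prod_range_succ, show ¬ Even 1 by decide]; ring
  rw [h1, mul_left_comm, Nat.mul_right_inj (by omega)] at h
  have h2 : q ^ 2 - 1 = (q + 1) * (q - 1) := by rw [← Nat.sq_sub_sq, one_pow]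
  rcases (Nat.dvd_prime Nat.prime_three).1 (Nat.gcd_dvd_left 3 (q + 1)) with e | e
  · rw [e, one_mul] at h
    rw [h, h2]
    refine Dvd.dvd.mul_right ?_ _
    obtain e | e | e : 3 ∣ q ∨ 3 ∣ q + 1 ∨ 3 ∣ q - 1 := by omega
    exacts [(dvd_pow e (by norm_num)).mul_right _, (e.mul_right _).mul_left _, (e.mul_left _).mul_left _]
  · have h3 : 3 ∣ q + 1 := e ▸ Nat.gcd_dvd_right 3 (q + 1)
    rw [e] at h
    refine Nat.dvd_of_mul_dvd_mul_left (by norm_num : 0 < 3) ?_
    rw [h, h2]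
    exact mul_dvd_mul ((h3.mul_right _).mul_left _)
      (h3.trans (by simpa using Odd.nat_add_dvd_pow_add_pow q 1 (by decide : Odd 3)))

theorem not_three_dvd_suz {G : Type*} [Group G] (h : IsSuzuki G) : ¬ 3 ∣ Nat.card G := by
  obtain ⟨-, m, -, h⟩ := h
  have h1 : 2 ^ (2 * m + 1) % 3 = 2 := by rw [pow_succ, pow_mul, Nat.mul_mod, Nat.pow_mod]; simp
  obtain ⟨k, hk⟩ : ∃ k, 2 ^ (2 * m + 1) = 3 * k + 2 := ⟨2 ^ (2 * m + 1) / 3, by omega⟩
  rw [h, hk, show 3 * k + 2 - 1 = 3 * k + 1 from rfl, Nat.dvd_iff_mod_eq_zero]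
  simp [Nat.mul_mod, Nat.add_mod, Nat.pow_mod]

namespace CF

variable {G Ω : Type*} [Group G] [MulAction G Ω] {i : ℕ} {t : G} (h : CF G Ω i t) [Finite G] [Finite Ω]
include h

theorem not_sol (hr : NR G Ω) : ¬ Group.IsSolvable G := fun _ =>
  h.ne (mem_bot.1 (h.sol hr (N := ⊤) inferInstance inferInstance ▸ mem_top t))

theorem fix_eq {x : G} (hx : Commute x t) (h2 : x * x ≠ 1) : fixedBy Ω x = fixedBy Ω (x * x) :=
  Set.eq_of_subset_of_ncard_le (fun ω e => by rw [mem_fixedBy] at e ⊢; rw [mul_smul, e, e])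
    (by rw [h.fix x hx fun e => h2 (by simp [e]), h.fix _ (hx.mul_left hx) h2])

theorem fix_eq' {x : G} (hx : Commute x t) (h2 : x * x ≠ 1) : fixedBy Ω x = fixedBy Ω t := by
  have h3 : x * t * (x * t) = x * x := by
    rw [mul_assoc, ← mul_assoc t, ← hx.eq, mul_assoc, h.sq, mul_one]
  have h4 := h.fix_eq (hx.mul_left rfl) (by rwa [h3])
  rw [h3, ← h.fix_eq hx h2] at h4
  refine Set.eq_of_subset_of_ncard_le (fun ω e => ?_)
    (by rw [h.fix x hx fun e => h2 (by simp [e]), h.fix t rfl h.ne])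
  have h5 := h4.ge e
  rw [mem_fixedBy] at e h5 ⊢
  rwa [mul_smul, ← e, smul_left_cancel_iff, e] at h5

theorem top_of_sq (hr : NR G Ω) (hC : ∀ x, Commute x t → ∃ u v, u * u = 1 ∧ v * v = 1 ∧ x = u * v)
    {L : Subgroup G} (hL : ∀ g, g * g ∈ L) : L = ⊤ := by
  have hN := normal_of_sq hL
  have h1 : L ≠ ⊥ := fun e => h.not_sol hr (Group.isSolvable_of_comm fun a b => by
    have h2 : ∀ g : G, g⁻¹ = g := fun g => inv_eq_of_mul_eq_one_right (mem_bot.1 (e ▸ hL g))
    rw [← h2 (a * b), mul_inv_rev, h2, h2])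
  refine eq_top_iff.2 fun g _ => ?_
  rcases Nat.even_or_odd (orderOf g) with ⟨k, hk⟩ | ho
  swap
  · exact mem_of_sq_mem_of_odd ho (hL g)
  have h2 := orderOf_pos g
  obtain ⟨c, hc⟩ := isConj_iff.1 (h.all (s := g ^ k) (pow_ne_one_of_lt_orderOf (by omega) (by omega))
    (by rw [← pow_add, ← hk, pow_orderOf_eq_one])).symm
  obtain ⟨u, v, hu, hv, e⟩ := hC (c * g * c⁻¹) (hc ▸ ((Commute.refl g).pow_right k).conj c)
  have := hN.conj_mem _ (e ▸ mul_mem (h.invol_mem hr hN h1 hu) (h.invol_mem hr hN h1 hv)) c⁻¹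
  simpa [mul_assoc] using this

/-- an involution fixes two points -/
theorem big (hr : NR G Ω) {a b : Ω} (hab : a ≠ b) (ha : t • a = a) (hb : t • b = b) :
    ∃ (F : Type) (_ : Field F) (_ : Fintype F),
      Nonempty (G ≃* Matrix.ProjectiveSpecialLinearGroup (Fin 2) F) := by
  obtain ⟨s, h1, h2⟩ := h.two a b b a hab hab.symm
  have h3 : s * t = t * s := by
    rw [← mul_inv_eq_iff_eq_mul, h.inv hab h1 h2 (mem_St2.2 ⟨ha, hb⟩), inv_eq_of_mul_eq_one_right h.sq]
  let K := centralizer {t} ⊓ fixingSubgroup G (fixedBy Ω t)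
  have h4 : s ∉ K := fun e => hab (((mem_fixingSubgroup_iff G).1 e.2 a ha).symm.trans h1)
  have h5 : ∀ x ∈ centralizer {t}, x ∉ K → x * x = 1 := fun x hx e => by_contra fun e' =>
    e ⟨hx, (mem_fixingSubgroup_iff G).2 fun _ hω => (h.fix_eq' (mem_centralizer_singleton_iff.1 hx) e').ge hω⟩
  have h6 := mem_centralizer_singleton_iff.2 h3
  obtain ⟨N, hN, h7, F, _, _, -, h8⟩ := S3322.result (centralizer {t}) K
    (lt_of_le_of_ne inf_le_left fun e => h4 (e ▸ h6)) (fun x hx e => by rw [pow_two, h5 x hx e])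
    (four_dvd_cent h.ord (h5 s h6 h4) (fun e => h4 (e ▸ one_mem _)) (fun e => hab (by rw [← h1, e, ha])) h3)
    (fun j _ hj e => (eq_of_le_of_card_ge (fun x hx => mem_centralizer_singleton_iff.2 (e x hx))
      (H11.card_cent_of_isConj (h.all (fun e => by simp [e] at hj)
        (by rw [← pow_two, ← hj, pow_orderOf_eq_one]))).ge).symm) (h.not_sol hr)
  obtain rfl : N = ⊥ := h.sol hr hN (H25.solvable_of_not_four_dvd (by
    rcases h7 with ⟨k, e⟩ | ⟨_, ⟨k, rfl⟩, e⟩ <;> omega))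
  refine ⟨F, ‹_›, ‹_›, ?_⟩
  rcases h8 with ⟨⟨e⟩⟩ | ⟨⟨e⟩⟩
  · exact ⟨QuotientGroup.quotientBot.symm.trans e⟩
  let f := QuotientGroup.quotientBot.symm.trans e
  have h9 := h.top_of_sq hr (L := (Matrix.ProjectiveSpecialLinearGroup.toPGL (n := Fin 2) (R := F)).range.comap
    f.toMonoidHom) (fun x hx => ?_) fun g => by rw [mem_comap, map_mul]; exact sq_mem_toPGL _
  · refine ⟨f.trans (MulEquiv.ofBijective _ ⟨Matrix.ProjectiveSpecialLinearGroup.toPGL_injective, fun y => ?_⟩).symm⟩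
    simpa using h9.ge (mem_top (f.symm y))
  have hx' := mem_centralizer_singleton_iff.2 hx.eq
  by_cases e : x ∈ K
  · exact ⟨s, s * x, h5 s h6 h4, h5 _ (mul_mem h6 hx') fun e' => h4 ((mul_mem_cancel_right e).1 e'),
      by rw [← mul_assoc, h5 s h6 h4, one_mul]⟩
  · exact ⟨x, 1, h5 x hx' e, one_mul 1, (mul_one x).symm⟩

end CF

end Cfsg.Agent.L0
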