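import Cfsg.Agent.L0.CF2

/-! Doubly transitive groups in which the centralizer of an involution has a constant number of fixed points:
the case where involutions fix at most one point. -/

set_option autoImplicit false

namespace Cfsg.Agent.L0

open Cfsg MulAction Subgroup Finset Cfsg.Agent.H4

theorem odd_of_noinv {G : Type*} [Group G] [Finite G] {H : Subgroup G}
    (h : ∀ s ∈ H, s * s = 1 → s = 1) : Odd (Nat.card H) := by
  by_contra e
  obtain ⟨u, hu⟩ := exists_prime_orderOf_dvd_card' (G := H) 2 (Nat.not_odd_iff_even.1 e).two_dvd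
  have := h u u.2 (by rw [← pow_two, ← hu, ← orderOf_coe, pow_orderOf_eq_one])
  rw [← orderOf_coe, this] at hu
  simp at hu

namespace CF

variable {G Ω : Type*} [Group G] [MulAction G Ω] {i : ℕ} {t : G} (h : CF G Ω i t) [Finite G] [Finite Ω]
  (hi : i ≤ 1)
include h hi

theorem uniq {s x : G} (h1 : s ≠ 1) (h2 : s * s = 1) (hx : Commute x s) (h3 : x ≠ 1) {a b : Ω} (ha : x • a = a)
    (hb : x • b = b) : a = b :=
  (Set.ncard_le_one_iff (s := fixedBy Ω x)).1 (((h.of_isConj (h.all h1 h2)).fix x hx h3).trans_le hi) ha hb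

theorem odd_cent {d : G} (hd : d ≠ 1) {a b : Ω} (hab : a ≠ b) (ha : d • a = a) (hb : d • b = b) :
    Odd (Nat.card (centralizer {d})) :=
  odd_of_noinv fun _ hs e => by_contra fun e' =>
    hab (h.uniq hi e' e (mem_centralizer_singleton_iff.1 hs).symm hd ha hb)

theorem odd_St2 {a b : Ω} (hab : a ≠ b) : Odd (Nat.card (St2 G a b)) :=
  odd_of_noinv fun _ hs e => by_contra fun e' => hab (h.uniq hi e' e rfl e' hs.1 hs.2)

omit hi in
theorem odd_fix {d : G} (ho : Odd (Nat.card (centralizer {d}))) {a b c : Ω} (hab : a ≠ b) (hbc : b ≠ c)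
    (hac : a ≠ c) (ha : d • a = a) (hb : d • b = b) (hc : d • c = c) : Odd (fixedBy Ω d).ncard := by
  have key : ∀ x y z, x ≠ z → z ≠ y → d • x = x → d • y = y → d • z = z →
      ∃ w ∈ centralizer {d}, w • x = y := fun x y z h1 h2 hx hy hz => by
    obtain ⟨s, e1, e2⟩ := h.two x z z x h1 h1.symm
    obtain ⟨u, e3, e4⟩ := h.two z y y z h2 h2.symm
    refine ⟨u * s, mem_centralizer_singleton_iff.2 ?_, by rw [mul_smul, e1, e3]⟩
    have e5 := h.inv h1 e1 e2 (mem_St2.2 ⟨hx, hz⟩)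
    have e6 := h.inv h2 e3 e4 (inv_mem (mem_St2.2 ⟨hz, hy⟩))
    rw [← mul_inv_eq_iff_eq_mul]
    calc u * s * d * (u * s)⁻¹ = u * (s * d * s⁻¹) * u⁻¹ := by group
      _ = d := by rw [e5, e6, inv_inv]
  have h1 : fixedBy Ω d = orbit (centralizer {d}) a := by
    refine Set.Subset.antisymm (fun y hy => ?_) ?_
    · obtain ⟨w, hw, e⟩ : ∃ w ∈ centralizer {d}, w • a = y := by
        rcases eq_or_ne b y with rfl | e
        exacts [key a b c hac hbc.symm ha hb hc, key a y b hab e ha hy hb]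
      exact ⟨⟨w, hw⟩, e⟩
    · rintro _ ⟨w, rfl⟩
      change d • (w : G) • a = (w : G) • a
      rw [← mul_smul, ← mem_centralizer_singleton_iff.1 w.2, mul_smul, ha]
  rw [h1, ← index_stabilizer]
  exact ho.of_dvd_nat (index_dvd_card _)

omit h hi [Finite G] in
theorem exists_fix {d s : G} (ho : Odd (fixedBy Ω d).ncard) (h1 : s * d * s⁻¹ = d⁻¹) (h2 : s * s = 1) :
    ∃ e : Ω, d • e = e ∧ s • e = e := by
  classical
  have := Fintype.ofFinite Ω
  by_contra! hc
  have := sum_involution (s := (fixedBy Ω d).toFinset) (f := fun _ => (1 : ZMod 2)) (fun x _ => s • x)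
    (fun _ _ => rfl) (fun x hx _ => hc x (by simpa using hx)) (fun x hx => by
      rw [Set.mem_toFinset, ← fixedBy_inv, mem_fixedBy, ← h1, mul_smul, mul_smul, inv_smul_smul,
        Set.mem_toFinset.1 hx]) fun x _ => by rw [← mul_smul, h2, one_smul]
  rw [sum_const, nsmul_one, ← Set.ncard_eq_toFinset_card', ZMod.natCast_eq_zero_iff_even] at this
  exact Nat.not_even_iff_odd.2 ho this

/-- the centralizer of an involution fixing a point is transitive on the other points -/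
theorem cent_trans {s : G} (h1 : s ≠ 1) (h2 : s * s = 1) {e x y : Ω} (he : s • e = e) (hx : x ≠ e)
    (hy : y ≠ e) : ∃ c, Commute c s ∧ c • e = e ∧ c • x = y := by
  have h3 : ∀ c, Commute c s → c • e = e := fun c hc =>
    h.uniq hi h1 h2 rfl h1 (by rw [← mul_smul, ← hc.eq, mul_smul, he]) he
  have h4 := h.of_isConj (h.all h1 h2)
  have h5 : i = 1 := le_antisymm hi (by
    rw [← h4.fix s rfl h1]; exact (Set.ncard_pos).2 ⟨e, he⟩)
  have h6 : orbit (centralizer {s}) x = {e}ᶜ := by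
    refine Set.eq_of_subset_of_ncard_le ?_ ?_
    · rintro _ ⟨c, rfl⟩ e'
      exact hx (smul_left_cancel (c : G) (e'.trans (h3 c (mem_centralizer_singleton_iff.1 c.2)).symm))
    rw [← index_stabilizer, show stabilizer (centralizer {s}) x = ⊥ from eq_bot_iff.2 fun c hc =>
      Subtype.ext (by_contra fun e' => hx (h.uniq hi h1 h2 (mem_centralizer_singleton_iff.1 c.2) e' hc
        (h3 c (mem_centralizer_singleton_iff.1 c.2)))), index_bot]
    have := (h4.swap hx).1
    have := Set.ncard_add_ncard_compl ({e} : Set Ω)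
    rw [Set.ncard_singleton] at this
    omega
  obtain ⟨c, hc⟩ := h6.ge hy
  exact ⟨c, mem_centralizer_singleton_iff.1 c.2, h3 c (mem_centralizer_singleton_iff.1 c.2), hc⟩

theorem three (hr : NR G Ω) (d : G) (a b c : Ω) (hab : a ≠ b) (hbc : b ≠ c) (hac : a ≠ c) (ha : d • a = a)
    (hb : d • b = b) (hc : d • c = c) : d = 1 := by
  by_contra hd
  obtain ⟨s, h1, h2⟩ := h.two a b b a hab hab.symm
  have h3 := h.swap_sq hab h1 h2
  have h4 : s ≠ 1 := fun e => hab (by rw [← h1, e, one_smul])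
  have h5 := h.inv hab h1 h2 (mem_St2.2 ⟨ha, hb⟩)
  have ho := h.odd_cent hi hd hab ha hb
  obtain ⟨e, h6, h7⟩ := exists_fix (h.odd_fix ho hab hbc hac ha hb hc) h5 h3
  have h8 : a ≠ e := fun e' => hab (by rw [← h1, e', h7])
  have h9 : ∀ u, u ≠ 1 → u * u = 1 → u • e = e → u * d * u⁻¹ = d⁻¹ := fun u e1 e2 e3 => by
    obtain ⟨g, rfl⟩ := isConj_iff.1 ((h.all h4 h3).symm.trans (h.all e1 e2))
    have e4 : g • e = e := h.uniq hi e1 e2 rfl e1 (by simp [mul_smul, h7]) e3
    obtain ⟨w, e5, e6, e7⟩ := h.cent_trans hi h4 h3 h7 (x := a) (y := g⁻¹ • a) h8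
      fun e' => h8 (by rw [← e4, ← e', smul_inv_smul])
    have e8 : Commute (g * w) d := h.comm h8 (mem_St2.2 ⟨by rw [mul_smul, e7, smul_inv_smul],
      by rw [mul_smul, e6, e4]⟩) (mem_St2.2 ⟨ha, h6⟩)
    calc g * s * g⁻¹ * d * (g * s * g⁻¹)⁻¹ = g * w * (w⁻¹ * s * w) * ((g * w)⁻¹ * d * (g * w)) *
          (w⁻¹ * s * w)⁻¹ * (g * w)⁻¹ := by group
      _ = d⁻¹ := by
        rw [e8.inv_left.eq, e5.inv_left.eq, inv_mul_cancel_right, inv_mul_cancel_right,
          show g * w * s * d * s⁻¹ = g * w * (s * d * s⁻¹) by group, h5, e8.inv_right.eq, mul_inv_cancel_right]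
  have h10 : ∀ u, u ≠ 1 → u * u = 1 → Commute u s → u = s := fun u e1 e2 e3 => by
    by_contra e4
    have e5 : u • e = e := h.uniq hi h4 h3 rfl h4 (by rw [← mul_smul, ← e3.eq, mul_smul, h7]) h7
    have e6 := h9 u e1 e2 e5
    refine hab (h.uniq hi (s := u * s) (fun e' => e4 ?_) ?_ ?_ hd ha hb)
    · rw [← mul_left_inj s, e', h3]
    · rw [mul_assoc, ← mul_assoc s, ← e3.eq, mul_assoc, h3, mul_one, e2]
    · rw [Commute, SemiconjBy, eq_comm, ← mul_inv_eq_iff_eq_mul]
      calc u * s * d * (u * s)⁻¹ = u * (s * d * s⁻¹) * u⁻¹ := by group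
        _ = (u * d * u⁻¹)⁻¹ := by rw [h5]; group
        _ = d := by rw [e6, inv_inv]
  have h11 : orderOf s = 2 := orderOf_eq_prime (by rw [pow_two, h3]) h4
  obtain ⟨P, hP⟩ := (IsPGroup.of_card (n := 1) (by rw [Nat.card_zpowers, h11, pow_one]) :
    IsPGroup 2 (zpowers s)).exists_le_sylow
  have h12 : s ∈ P := hP (mem_zpowers s)
  have : Nontrivial P := ⟨⟨⟨s, h12⟩, 1, fun e' => h4 (congrArg Subtype.val e')⟩⟩
  obtain ⟨z, hz⟩ := exists_prime_orderOf_dvd_card' (G := center P) 2 (by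
    have := P.isPGroup'.center_nontrivial
    obtain ⟨k, hk, e'⟩ := (P.isPGroup'.to_subgroup (center P)).nontrivial_iff_card.1 this
    exact e' ▸ dvd_pow_self 2 hk.ne')
  rw [← orderOf_coe, ← orderOf_coe] at hz
  have h13 : ∀ x ∈ P, Commute x (z : P) := fun x hx => congrArg Subtype.val (mem_center_iff.1 z.2 ⟨x, hx⟩)
  have h14 := h10 _ (fun e' => by simp [e'] at hz) (by rw [← pow_two]; exact orderOf_dvd_iff_pow_eq_one.1 hz.dvd)
    (h13 s h12).symm
  obtain ⟨N, hN, h15, h16⟩ := S0215.result P s h11 h12 fun g hg => h10 _ (by simpa using h4)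
    (by rw [conj_mul, h3, mul_one, mul_inv_cancel]) (by have := h13 _ hg; rwa [h14] at this)
  obtain rfl := h.sol hr hN (FT.solvable_of_odd h15)
  refine h4 (h.fth s fun ω => ?_)
  obtain ⟨g, -, rfl⟩ := h.trans (N := ⊤) inferInstance (fun e' => h4 (mem_bot.1 (e' ▸ mem_top s))) e ω
  rw [← mul_smul, mul_inv_eq_iff_eq_mul.1 (mul_inv_eq_one.1 (mem_bot.1 (h16 g))), mul_smul, h7]

theorem zass (hr : NR G Ω) [FaithfulSMul G Ω] (h2 : IsMultiplyPretransitive G Ω 2) :
    IsZassenhausGroup G Ω := by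
  refine ⟨‹_›, h2, h.three hi hr, by_contra fun hc => ?_, fun N hN _ => by_contra fun hc => hr ⟨N, hN,
    fun x y => ?_, fun x r h1 h3 => ?_⟩⟩
  · obtain ⟨a, -⟩ := h.moves h.ne
    obtain ⟨M, hM, h3, h4⟩ := exists_regular_normal (N := (⊤ : Subgroup G)) a
      (h.trans inferInstance (fun e' => h.ne (mem_bot.1 (e' ▸ mem_top t))) a)
      fun x _ c d e e1 e2 => by_contra fun e3 => hc ⟨x, e3, c, d, e, e1, e2⟩
    exact hr ⟨M, hM, h4, fun x r h1 e => (((h3 r).1 h1).2.resolve_right fun e' => e' x e)⟩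
  · obtain ⟨r, e⟩ := exists_smul_eq N x y
    exact ⟨r, r.2, e⟩
  · push Not at hc
    exact congrArg Subtype.val (mem_bot.1 ((hc x).le (show (⟨r, h1⟩ : N) ∈ stabilizer N x from h3)))

theorem small (hr : NR G Ω) [FaithfulSMul G Ω] (h2 : IsMultiplyPretransitive G Ω 2) :
    (∃ (F : Type) (_ : Field F) (_ : Fintype F),
      Nonempty (G ≃* Matrix.ProjectiveSpecialLinearGroup (Fin 2) F)) ∨ Lie.IsoSuzuki G := by
  have hZ := h.zass hi hr h2
  have := Fintype.ofFinite G
  have := Fintype.ofFinite Ω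
  obtain ⟨a⟩ := hZ.nonempty
  obtain ⟨b, hab⟩ := hZ.exists_ne a
  have ho := h.odd_St2 hi hab
  have := hZ.nontrivial
  have : IsSimpleGroup G := ⟨fun N hN => or_iff_not_imp_left.2 fun e => by
    obtain ⟨s, h3, h4⟩ := h.two a b b a hab hab.symm
    exact hZ.eq_top_of_inverts e hab ho (h.invol_mem hr hN e (h.swap_sq hab h3 h4)) fun _ => h.inv hab h3 h4⟩
  have hO := hZ.zo hab ho
  rcases hO.feit hab with h1 | ⟨h1, h2, -⟩
  · left
    by_cases h2 : Nat.card (St2 G a b) = Nat.card (hZ.zt.K a) - 1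
    · obtain ⟨c, hca, hcb⟩ := hO.exists_third (hO.ne a b hab)
      have h3 := hO.card_lt hab
      obtain ⟨F, _, _, -, -, h6⟩ := hO.iso_PSL_of_odd (by
        rw [← hO.card_K hab, show Nat.card (hO.K a) = Nat.card (St2 G a b) + 1 from by
          change _ < Nat.card (hZ.zt.K a) at h3; change Nat.card (hZ.zt.K a) = _; omega]
        exact ho.add_one.add_one) hab hca hcb h2
      exact ⟨F, _, ‹_›, h6⟩
    · have := hZ.zt.comm_of_large hab h1
      obtain ⟨-, F, _, _, -, -, h6⟩ := hZ.iso_PSL_of_comm hab h2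
      exact ⟨F, _, ‹_›, h6⟩
  refine (S0340.result hZ).elim Or.inl fun h3 => ?_
  have h4 : IsStronglyEmbedded (stabilizer G a) := by
    refine ⟨fun e => ?_, ?_, fun g hg => ?_⟩
    · obtain ⟨g, e', -⟩ := h.two a b b a hab hab.symm
      exact hab ((e.ge (mem_top g)).symm.trans e')
    · have : Nontrivial (hO.K a) := (nontrivial_iff_ne_bot _).2 fun e => h2 (by rw [e, commutator_bot_left])
      obtain ⟨k, hk, e⟩ := h1.nontrivial_iff_card.1 this
      exact even_iff_two_dvd.2 ((e ▸ dvd_pow_self 2 hk.ne').trans (card_dvd_of_le (hO.K_le a)))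
    · rw [← stabilizer_smul_eq_stabilizer_map_conj]
      exact h.odd_St2 hi (Ne.symm hg)
  rcases BS.Bd.isBender_of_se h4 with ⟨F, _, _, -, e⟩ | e | ⟨F, _, _, n, -, hF, ⟨e⟩⟩
  exacts [Or.inl ⟨F, _, ‹_›, e⟩, Or.inr e,
    (not_three_dvd_suz h3 (Nat.card_congr e.toEquiv ▸ three_dvd_PSU hF)).elim]

end CF

end Cfsg.Agent.L0
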