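import Cfsg.Agent.L0.FInd2

/-!
# The Camina–Herzog theorem for saturated fusion systems
-/

set_option autoImplicit false

namespace Cfsg.Agent.H23.LF

open Cfsg Cfsg.FusionSystem Subgroup
open Equiv (Perm)
open scoped commutatorElement

universe u

section

variable {Ω : Type*} [Group Ω] {S E U : Subgroup Ω} {σ : Perm Ω} {p : ℕ}

/-- `n`-th powers of central elements of `E` -/
def zpw (E : Subgroup Ω) (n : ℕ) : Subgroup Ω where
  carrier := {y | ∃ w ∈ centralizerIn E E, y = w ^ n}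
  one_mem' := ⟨1, one_mem _, (one_pow n).symm⟩
  mul_mem' := by
    rintro _ _ ⟨a, ha, rfl⟩ ⟨b, hb, rfl⟩
    refine ⟨a * b, mul_mem ha hb, ?_⟩
    have : Commute a b := (mem_centralizer_iff.1 hb.2 a ha.1)
    rw [this.mul_pow]
  inv_mem' := by
    rintro _ ⟨a, ha, rfl⟩
    exact ⟨a⁻¹, inv_mem ha, by rw [inv_pow]⟩

theorem mem_zpw {n : ℕ} {y : Ω} : y ∈ zpw E n ↔ ∃ w ∈ centralizerIn E E, y = w ^ n := Iff.rfl

theorem zpw_le_cIn {n : ℕ} : zpw E n ≤ centralizerIn E E := by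
  rintro _ ⟨a, ha, rfl⟩
  exact pow_mem ha n

theorem stab_mem_cIn (h : σ ∈ Stab E) {w : Ω} (hw : w ∈ centralizerIn E E) :
    σ w ∈ centralizerIn E E := by
  refine ⟨stab_mem h hw.1, mem_centralizer_iff.2 fun y hy => ?_⟩
  have h1 : y = σ (σ⁻¹ y) := by simp
  have h2 := stab_inv_mem h hy
  rw [h1, ← (stab_homOn h).map_mul h2 hw.1, ← (stab_homOn h).map_mul hw.1 h2,
    mem_centralizer_iff.1 hw.2 _ h2]

theorem stab_le_stab_zpw [Finite E] {n : ℕ} : Stab E ≤ Stab (zpw E n) := fun σ h => by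
  have h1 : zpw E n ≤ E := zpw_le_cIn.trans inf_le_left
  have := finite_of_le h1
  refine mem_stab_of_mem ((stab_homOn h).mono h1) ?_
  rintro _ ⟨a, ha, rfl⟩
  exact ⟨σ a, stab_mem_cIn h ha, (stab_homOn h).map_pow ha.1 n⟩

variable [Finite S] {F : FusionSystem S} [Fact p.Prime]

/-- Normality test: each essential subgroup has a normal subgroup of automorphisms stabilising `U`
and containing an outer `S`-automorphism. -/
theorem Sat.normal_of_ess_step (hF : Sat p F) (hU : U ≤ S) (h0 : AutF F S ≤ Stab U)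
    (h : ∀ E, F.IsEssential p E → U ≤ E ∧ ∃ (R : Subgroup Ω) (B : Subgroup (Perm Ω)), E < R ∧
      R ≤ normalizerIn S E ∧ AutS R E ≤ B ∧ B ≤ AutF F E ∧ B ≤ Stab U ∧
      AutF F E ≤ normalizer (B : Set (Perm Ω))) : F.IsNormal U := by
  have hn : S ≤ normalizer (U : Set Ω) := fun g hg =>
    cj_mem_stab.1 (h0 (cj_mem_autF F le_rfl hg (le_normalizer hg)))
  have hT : S = NK S (Stab U) := le_antisymm (fun g hg => ⟨hg, cj_mem_stab.2 (hn hg)⟩) fun g hg => hg.1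
  obtain ⟨D, hD⟩ := exists_isKN F hU fix_le_stab le_rfl hT
  refine IsKN.normal_of_sup hD (hF.sub_of_fn_step fun P hP ih => ?_)
  rcases eq_or_lt_of_le hP.1 with rfl | hlt
  · rw [hD.autF_of_le hU le_rfl]
    exact le_inf le_rfl h0
  rcases hF.hExt_dichotomy hlt hP with h1 | h1
  · rw [← h1.2]
    refine (hExt_le_iff (fix_le_autF _ _)).2 fun Q τ h2 h3 h4 => ?_
    have := finite_of_le h3.le
    exact ((ih Q τ (card_lt_of_lt h2) h3).mono h2.le).mem_autF_of_stab h4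
  · obtain ⟨h2, R, B, h3, h4, h5, h6, h7, h8⟩ := h P h1.1
    have := finite_of_le (h4.trans nIn_le)
    refine hF.frattini_step' hP.1 h3.le h4 hP h5 h6 h8 ?_ fun τ hτ => ih R τ (card_lt_of_lt h3) hτ
    rw [hD.autF_of_le h2 hP.1]
    exact le_inf h6 h7

omit [Finite S] in
theorem exists_sq_mem (hS : IsPGroup p S) {N : Subgroup Ω} (hN : N ≤ S) (h : E < N) :
    ∃ t ∈ N, t ∉ E ∧ t ^ p ∈ E := by
  obtain ⟨t, ht, ht'⟩ := SetLike.exists_of_lt h
  obtain ⟨k, hk⟩ := hS ⟨t, hN ht⟩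
  have hk' : t ^ p ^ k = 1 := by simpa using congrArg Subtype.val hk
  have hex : ∃ k : ℕ, t ^ p ^ k ∈ E := ⟨k, by rw [hk']; exact one_mem _⟩
  classical
  have h1 := Nat.find_spec hex
  have h2 : Nat.find hex ≠ 0 := fun e => by rw [e] at h1; exact ht' (by simpa using h1)
  obtain ⟨m, hm⟩ := Nat.exists_eq_succ_of_ne_zero h2
  refine ⟨t ^ p ^ m, pow_mem ht _, Nat.find_min hex (by omega), ?_⟩
  rw [← pow_mul, ← pow_succ]
  rwa [hm] at h1

omit [Finite S] in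
theorem pow_comm_of_sq {t w : Ω} {k : ℕ} (ht : t ∈ normalizer (E : Set Ω)) (ht2 : t ^ 2 ∈ E)
    (hw : w ∈ centralizerIn E E) (h1 : t ^ 2 ^ (k + 1) = 1) (h2 : (t * w) ^ 2 ^ (k + 1) = 1)
    (h3 : w ^ 2 ^ (k + 1) = 1) : t * w ^ 2 ^ k * t⁻¹ = w ^ 2 ^ k := by
  have hw' : t⁻¹ * w * t ∈ centralizerIn E E := by
    have := stab_mem_cIn (cj_mem_stab.2 (inv_mem ht)) hw
    rwa [cj_apply, inv_inv] at this
  have e1 : (t * w) ^ 2 = t ^ 2 * ((t⁻¹ * w * t) * w) := by simp [pow_two, mul_assoc]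
  have c1 : Commute (t ^ 2) ((t⁻¹ * w * t) * w) :=
    mem_centralizer_iff.1 (mul_mem hw' hw).2 _ ht2
  have c2 : Commute (t⁻¹ * w * t) w := mem_centralizer_iff.1 hw.2 _ hw'.1
  rw [pow_succ', pow_mul] at h1 h2
  rw [e1, c1.mul_pow, h1, one_mul, c2.mul_pow] at h2
  have e2 : (t⁻¹ * w * t) ^ 2 ^ k = t⁻¹ * w ^ 2 ^ k * t := by
    simpa using conj_pow (a := t⁻¹) (b := w) (i := 2 ^ k)
  rw [e2] at h2
  rw [pow_succ, pow_mul, pow_two] at h3
  have e3 : t⁻¹ * w ^ 2 ^ k * t = w ^ 2 ^ k := by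
    rw [← mul_left_inj (w ^ 2 ^ k), h2, h3]
  calc t * w ^ 2 ^ k * t⁻¹ = t * (t⁻¹ * w ^ 2 ^ k * t) * t⁻¹ := by rw [e3]
    _ = w ^ 2 ^ k := by group

theorem Sat.normal_zpw {F : FusionSystem S} (hF : Sat 2 F) {k : ℕ}
    (h : ∀ x ∈ S, x ^ 2 ^ (k + 1) = 1) : F.IsNormal (zpw S (2 ^ k)) := by
  have hU : zpw S (2 ^ k) ≤ S := zpw_le_cIn.trans inf_le_left
  refine Sat.normal_of_ess_step hF hU ((autF_le_stab _ _).trans stab_le_stab_zpw) fun E hE => ?_
  have hES : E ≤ S := hE.1.1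
  have := finite_of_le hES
  have hc := centric_cIn_le hE.1
  have hZ : centralizerIn S S ≤ centralizerIn E E := fun z hz =>
    ⟨hc ⟨hz.1, centralizer_le hES hz.2⟩, centralizer_le hES hz.2⟩
  have hUY : zpw S (2 ^ k) ≤ zpw E (2 ^ k) := by
    rintro _ ⟨a, ha, rfl⟩
    exact ⟨a, hZ ha, rfl⟩
  obtain ⟨t, ht, ht1, ht2⟩ := exists_sq_mem hF.pg nIn_le (lt_nIn hF.pg (hF.essential_lt hE))
  have hR : E ⊔ zpowers t ≤ normalizerIn S E :=
    sup_le (fun g hg => ⟨hES hg, le_normalizer hg⟩) (zpowers_le.2 ht)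
  refine ⟨hUY.trans (zpw_le_cIn.trans inf_le_left), E ⊔ zpowers t,
    AutF F E ⊓ Fix (zpw E (2 ^ k)), left_lt_sup.2 fun h => ht1 (h (mem_zpowers t)), hR, ?_,
    inf_le_left, inf_le_right.trans ((fix_anti hUY).trans fix_le_stab), fun τ hτ => ?_⟩
  · refine le_inf (autS_le_autF F (hR.trans nIn_le) hES)
      ((autS_le_iff (fix_anti (zpw_le_cIn.trans inf_le_left))).2 fun g hg _ => cj_mem_fix.2 ?_)
    refine (sup_le (fun g hg => ?_) (zpowers_le.2 ?_) : E ⊔ zpowers t ≤ centralizer _) hg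
    · exact mem_centralizer_iff.2 fun y hy => (mem_centralizer_iff.1 (zpw_le_cIn hy).2 g hg).symm
    · refine mem_centralizer_iff.2 ?_
      rintro _ ⟨w, hw, rfl⟩
      have := pow_comm_of_sq ht.2 ht2 hw (h t ht.1) (h _ (mul_mem ht.1 (hES hw.1))) (h w (hES hw.1))
      exact (mul_inv_eq_iff_eq_mul.1 this).symm
  · exact normalizer_inf_of (le_normalizer hτ)
      (stab_le_normalizer_fix (stab_le_stab_zpw (autF_le_stab _ _ hτ)))

end

theorem camina_herzog {Ω : Type u} [Group Ω] {S : Subgroup Ω} [Finite S] (F : FusionSystem S) :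
    Sat 2 F → (∀ x ∈ S, ∃ σ : Perm Ω, Mor F (zpowers x) σ ∧ σ x ∈ centralizerIn S S) →
      S ≤ centralizer (S : Set Ω) := by
  refine fs_induction (fun {Ω} _ {S} F => Sat 2 F →
    (∀ x ∈ S, ∃ σ : Perm Ω, Mor F (zpowers x) σ ∧ σ x ∈ centralizerIn S S) →
      S ≤ centralizer (S : Set Ω)) ?_ F
  intro Ω _ S _ F ih _ hF h
  classical
  have hex : ∃ k : ℕ, ∀ z ∈ centralizerIn S S, z ^ 2 ^ k = 1 := by
    obtain ⟨k, hk⟩ := exists_pow_eq_one_of_isPGroup hF.pg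
    exact ⟨k, fun z hz => hk z hz.1⟩
  have h1 : ∀ x ∈ S, x ^ 2 ^ Nat.find hex = 1 := fun x hx => by
    obtain ⟨σ, hσ, hz⟩ := h x hx
    have := Nat.find_spec hex _ hz
    rw [← hσ.homOn.map_pow (mem_zpowers x)] at this
    exact σ.injective (this.trans hσ.homOn.map_one.symm)
  rcases Nat.eq_zero_or_eq_succ_pred (Nat.find hex) with h0 | h0
  · intro x hx
    have : x = 1 := by simpa [h0] using h1 x hx
    rw [this]; exact one_mem _
  set k := (Nat.find hex).pred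
  rw [h0] at h1
  have hn := Sat.normal_zpw hF h1
  have hU0 : zpw S (2 ^ k) ≠ ⊥ := fun e => by
    refine Nat.find_min hex (m := k) (by omega) fun z hz => ?_
    have : z ^ 2 ^ k ∈ zpw S (2 ^ k) := ⟨z, hz, rfl⟩
    rwa [e] at this
  obtain ⟨Ω', _, S', _, F', θ, hθ⟩ := exists_quot (normal_sc hn)
  have h2 := ih F' (Fac.card_lt hθ hU0) (hθ.sat hF) fun y hy => by
    obtain ⟨x, hx, rfl⟩ := hθ.exists_pre hy
    obtain ⟨σ, hσ, hz⟩ := h x hx
    obtain ⟨τ, -, h3, e⟩ := normal_kext hn hσ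
    obtain ⟨τ', h4, e'⟩ := hθ.exists_mor le_sup_right h3
    have hx' : x ∈ zpowers x ⊔ zpw S (2 ^ k) := mem_sup_left (mem_zpowers x)
    refine ⟨τ', h4.mono (zpowers_le.2 (mem_im_of_mem θ hx')), ?_⟩
    rw [e' x hx', e x (mem_zpowers x)]
    refine ⟨hθ.mem hz.1, ?_⟩
    have := hθ.hom.map_centralizer le_rfl hz.1 hz.2
    rwa [hθ.surj] at this
  have h3 : ⁅S, S⁆ ≤ zpw S (2 ^ k) := by
    refine (hθ.im_eq_bot_iff (commutator_le_self S)).1 ?_
    rw [hθ.hom.im_commutator le_rfl le_rfl, hθ.surj]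
    exact commutator_eq_bot_iff_le_centralizer.2 h2
  have hU : zpw S (2 ^ k) ≤ S := zpw_le_cIn.trans inf_le_left
  have := finite_of_le hU
  have h4 : F.IsNormal S := by
    refine hF.normal_of_pmod_over sc_top hU hn h3 (le_trans ?_ (le_Op (nfin_autF F _)))
    refine (autS_le_iff le_rfl).2 fun g hg _ => cj_mem_fix.2 ?_
    exact mem_centralizer_iff.2 fun y hy => (mem_centralizer_iff.1 (zpw_le_cIn hy).2 g hg).symm
  intro x hx
  obtain ⟨σ, hσ, hz⟩ := h x hx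
  obtain ⟨τ, hτ, e⟩ := normal_top_iff.1 h4 _ σ hσ
  have := stab_mem_cIn (inv_mem (autF_le_stab _ _ hτ.mem_autF_top)) hz
  rw [← e x (mem_zpowers x)] at this
  simpa using this.2

theorem camina_herzog_group {G : Type*} [Group G] [Finite G] (P : Sylow 2 G)
    (h : ∀ x : G, (∃ k : ℕ, orderOf x = 2 ^ k) →
      ∃ Q : Sylow 2 G, (Q : Subgroup G) ≤ centralizer ({x} : Set G)) :
    IsMulCommutative (P : Subgroup G) := by
  have h1 := camina_herzog _ (sat_group P) fun x hx => by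
    obtain ⟨k, hk⟩ := (IsPGroup.iff_orderOf.1 P.isPGroup') ⟨x, hx⟩
    obtain ⟨Q, hQ⟩ := h x ⟨k, by rw [← hk, orderOf_mk]⟩
    obtain ⟨g, rfl⟩ := MulAction.exists_smul_eq G P Q
    have h2 : g⁻¹ * x * g ∈ centralizer ((P : Subgroup G) : Set G) := mem_centralizer_iff.2 fun y hy => by
      have h3 : g * y * g⁻¹ ∈ ((g • P : Sylow 2 G) : Subgroup G) := by
        rw [Sylow.coe_subgroup_smul, mem_pointwise_smul_iff_inv_smul_mem]
        simpa [mul_assoc] using (show y ∈ (P : Subgroup G) from hy)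
      have h4 := mem_centralizer_singleton_iff.1 (hQ h3)
      calc y * (g⁻¹ * x * g) = g⁻¹ * (g * y * g⁻¹ * x) * g := by group
        _ = g⁻¹ * x * g * y := by rw [h4]; group
    have h5 : IsPGroup 2 (zpowers (g⁻¹ * x * g)) := by
      refine IsPGroup.of_card (n := k) ?_
      rw [Nat.card_zpowers, ← hk, orderOf_mk]
      simpa using (MulAut.conj g⁻¹).orderOf_eq x
    have h6 : g⁻¹ * x * g ∈ (P : Subgroup G) := by
      have h7 := isPGroup_sup (K := ⊤) le_top le_top h5 P.isPGroup'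
        (zpowers_le.2 (centralizer_le_normalizer _ h2))
      rw [← P.is_maximal' h7 le_sup_right]
      exact mem_sup_left (mem_zpowers _)
    refine ⟨cj g⁻¹, mor_group_cj g⁻¹ (zpowers_le.2 hx) ?_, ?_⟩
    · rintro _ ⟨i, rfl⟩
      have e := conj_zpow (a := g⁻¹) (b := x) (i := i)
      rw [← e, inv_inv]
      exact zpow_mem h6 i
    · rw [cj_apply, inv_inv]
      exact ⟨h6, h2⟩
  exact ⟨⟨fun a b => Subtype.ext (mem_centralizer_iff.1 (h1 b.2) a a.2)⟩⟩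

end Cfsg.Agent.H23.LF
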