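import Cfsg.Agent.L0.FThm
import Cfsg.Agent.H23.PPrime
import Cfsg.Agent.S0121
import Cfsg.Agent.H3.Action

/-!
# Control of fusion by elements and abelian subgroups of small exponent
-/

set_option autoImplicit false

namespace Cfsg.Agent.H23.LF

open Cfsg Cfsg.FusionSystem Subgroup Cfsg.Agent.H3
open Equiv (Perm)
open scoped commutatorElement

variable {p : ℕ}

/-- `p` for odd `p`, and `4` for `p = 2` -/
def sm (p : ℕ) : ℕ := if p = 2 then 4 else p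

theorem pow_sm_iff {G : Type*} [Group G] {x : G} : x ^ sm p = 1 ↔ x ^ p = 1 ∨ (p = 2 ∧ x ^ 4 = 1) := by
  unfold sm
  split_ifs with h
  · subst h
    exact ⟨fun h => Or.inr ⟨rfl, h⟩, fun h => h.elim (fun h => by rw [show 4 = 2 * 2 from rfl, pow_mul, h, one_pow])
      fun h => h.2⟩
  · simp [h]

theorem dvd_choose_sm [hp : Fact p.Prime] : p ∣ (sm p).choose 2 := by
  unfold sm
  split_ifs with h
  · subst h; decide
  · exact hp.out.dvd_choose_self two_ne_zero (lt_of_le_of_ne hp.out.two_le (Ne.symm h))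

open Cfsg.Agent.H21 in
theorem exists_small_top [Fact p.Prime] {P : Type*} [Group P] [Finite P] (hP : IsPGroup p P) :
    ∃ B : Subgroup P, B.Characteristic ∧ (∀ x ∈ B, x ^ sm p = 1) ∧
      ∀ a : MulAut P, (orderOf a).Coprime p → (∀ x ∈ B, a x = x) → a = 1 := by
  obtain ⟨H, h1, h2, h3, h4⟩ := BG.exists_critical_top hP
  have h5 : ∀ x ∈ H, ∀ y ∈ H, ⁅x, y⁆ ∈ centralizer (H : Set P) := fun x hx y _ =>
    (h3 (commutator_mem_commutator hx (mem_top y))).2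
  let W : Subgroup P :=
    { carrier := {x | x ∈ H ∧ x ^ sm p = 1}
      one_mem' := ⟨one_mem _, one_pow _⟩
      mul_mem' := fun {x y} hx hy => ⟨mul_mem hx.1 hy.1, by
        obtain ⟨k, hk⟩ := dvd_choose_sm (p := p)
        rw [H9.mul_pow_of_commutator_commute (h5 y hy.1 x hx.1 y hy.1).symm (h5 y hy.1 x hx.1 x hx.1).symm, hk,
          pow_mul, ← H9.commutatorElement_pow_left_of_commute (h5 y hy.1 x hx.1 y hy.1).symm,
          commutatorElement_eq_one_iff_mul_comm.2 (h2 y hy.1 x hx.1).symm, hx.2, hy.2]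
        simp⟩
      inv_mem' := fun ha => ⟨inv_mem ha.1, by rw [inv_pow, ha.2, inv_one]⟩ }
  refine ⟨W, characteristic_iff_le_comap.2 fun φ x hx => ⟨characteristic_iff_le_comap.1 h1 φ hx.1, by
    change φ x ^ _ = 1
    rw [← map_pow, hx.2, map_one]⟩, fun x hx => hx.2, fun a ha h => S0121.result hP H h1
      (frattiniOf_le (p := p) (commutator_le.2 h5) h2) h3 h4 a ha ?_⟩
  have : Finite (MulAut P) := Finite.of_injective _ MulEquiv.toEquiv_injective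
  let φ : MulAut P →* MulAut P := MonoidHom.id _
  by_contra h6
  obtain ⟨M, h7, h8⟩ := exists_minAct (X := H.map (Hol.l φ)) (A := (zpowers a).map (Hol.r φ))
    ((hP.to_subgroup H).map _) (by rwa [Hol.card_r, Nat.card_zpowers])
    (Hol.le_norm_iff.2 fun b _ x hx => characteristic_iff_le_comap.1 h1 b hx)
    fun h7 => h6 (Hol.le_cent_iff.1 h7 a (mem_zpowers a))
  refine h8.not_le (le_centralizer_iff.1 fun y hy => ?_)
  obtain ⟨x, hx, rfl⟩ := h7 hy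
  have h9 := pow_sm_iff.2 (h8.pow_eq_one_or hy)
  rw [← map_pow, map_eq_one_iff _ (Hol.l_inj φ)] at h9
  rw [MonoidHom.map_zpowers, H24.centralizer_zpowers, mem_centralizer_singleton_iff, Hol.comm_iff]
  exact h x ⟨hx, h9⟩

variable {Ω : Type*} [Group Ω] {S T P Q R X Y B D : Subgroup Ω} {σ τ : Perm Ω} [Fact p.Prime]

theorem pmod_of_coprime {Γ : Type*} [Group Γ] {N K : Subgroup Γ} (h : NFin N K)
    (h1 : ∀ x ∈ K, ∀ m : ℕ, m.Coprime p → x ^ m ∈ N → x ∈ N) : PMod p N K :=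
  (Ores_eq_iff_pmod h).1 (le_antisymm (Ores_le_of le_rfl h1) le_Ores)

theorem exists_small [Finite D] (hD : IsPGroup p D) : ∃ B ≤ D, Stab D ≤ Stab B ∧ (∀ x ∈ B, x ^ sm p = 1) ∧
    PMod p (Fix D) (Stab D ⊓ Fix B) := by
  obtain ⟨B, h1, h2, h3⟩ := exists_small_top hD
  refine ⟨B.map D.subtype, map_subtype_le _, stab_le_stab_of_char (map_subtype_le _) (by
    rwa [subgroupOf, comap_map_eq_self_of_injective D.subtype_injective]), ?_,
    pmod_of_coprime (nfin_fix (le_inf fix_le_stab (fix_anti (map_subtype_le _))) inf_le_left) fun σ hσ m hm h4 => ?_⟩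
  · rintro _ ⟨x, hx, rfl⟩
    exact congrArg Subtype.val (h2 x hx)
  · let α := (stabPres D).π ⟨σ, hσ.1⟩
    have h5 : α ^ m = 1 := ((stabPres D).pow_mem_iff ⟨σ, hσ.1⟩ m).1 h4
    have h6 := h3 α (hm.coprime_dvd_left (orderOf_dvd_of_pow_eq_one h5)) fun x hx =>
      Subtype.ext ((stabPres_apply _ x).trans (mem_fix.1 hσ.2 x ⟨x, hx, rfl⟩))
    simpa using ((stabPres D).pow_mem_iff ⟨σ, hσ.1⟩ 1).2 (by rwa [pow_one])

theorem mem_Op_of_chain [Finite X] {A : Subgroup (Perm Ω)} (hX : IsPGroup p X) (hA1 : Fix X ≤ A) (hA2 : A ≤ Stab X)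
    (hBX : B ≤ X) (hAB : A ≤ Stab B) (hB : PMod p (Fix X) (A ⊓ Fix B)) (C : ℕ → Subgroup Ω) (n : ℕ) (h0 : C 0 = ⊥)
    (hn : B ≤ C n) (hm : ∀ i < n, C i ≤ C (i + 1)) (hC : ∀ i ≤ n, ∀ τ ∈ A, ∀ x ∈ B, x ∈ C i → τ x ∈ C i)
    (hσ : σ ∈ A) (h : ∀ i < n, ∀ x ∈ B, x ∈ C (i + 1) → x⁻¹ * σ x ∈ C i) : σ ∈ Op p (Fix X) A := by
  have hf : ∀ i, Finite (B ⊓ C i : Subgroup Ω) := fun i => finite_of_le (inf_le_left.trans hBX)
  have h1 : ∀ i ≤ n, A ≤ Stab (B ⊓ C i) := fun i hi τ hτ =>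
    mem_stab_of_mem ((stab_homOn (hAB hτ)).mono inf_le_left) fun x hx => ⟨stab_mem (hAB hτ) hx.1, hC i hi τ hτ x hx.1 hx.2⟩
  have h2 : ∀ i < n, B ⊓ C i ≤ B ⊓ C (i + 1) := fun i hi => inf_le_inf_left _ (hm i hi)
  have h3 : ∀ τ ∈ A, ∀ ρ ∈ A ⊓ ⨅ i : {i // i < n}, FixMod (B ⊓ C (i.1 + 1)) (B ⊓ C i.1),
      τ * ρ * τ⁻¹ ∈ A ⊓ ⨅ i : {i // i < n}, FixMod (B ⊓ C (i.1 + 1)) (B ⊓ C i.1) := fun τ hτ ρ hρ =>
    ⟨mul_mem (mul_mem hτ hρ.1) (Subgroup.inv_mem _ hτ), mem_iInf.2 fun i =>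
      conj_mem_fixMod (h1 _ i.2 hτ) (h1 _ i.2.le hτ) (h2 _ i.2) (mem_iInf.1 hρ.2 i)⟩
  refine le_Op_of (nfin_fix hA1 hA2) (R := A ⊓ ⨅ i : {i // i < n}, FixMod (B ⊓ C (i.1 + 1)) (B ⊓ C i.1)) inf_le_left
    (fun τ hτ => mem_normalizer_of_conj (h3 τ hτ) fun ρ hρ => by simpa using h3 _ (Subgroup.inv_mem _ hτ) ρ hρ) (fun τ hτ => ?_)
    ⟨hσ, mem_iInf.2 fun i => mem_fixMod.2 ⟨h1 _ i.2 hσ, fun x hx =>
      ⟨mul_mem (Subgroup.inv_mem _ hx.1) (stab_mem (hAB hσ) hx.1), h i i.2 x hx.1 hx.2⟩⟩⟩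
  have key : ∀ i ≤ n, ∃ k : ℕ, τ ^ p ^ k ∈ Fix (B ⊓ C i) := by
    intro i
    induction i with
    | zero =>
      refine fun _ => ⟨0, mem_fix.2 fun x hx => ?_⟩
      rw [mem_bot.1 (h0 ▸ hx.2 : x ∈ ⊥), pow_zero, pow_one]
      exact (stab_homOn (hA2 hτ.1)).map_one
    | succ i ih =>
      intro hi
      exact exists_pow_fix_step (hX.to_le (inf_le_left.trans hBX)) (h2 i hi) (mem_iInf.1 hτ.2 ⟨i, hi⟩)
        (ih (Nat.le_of_succ_le hi))
  obtain ⟨k, hk⟩ := key n le_rfl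
  rw [inf_eq_left.2 hn] at hk
  obtain ⟨j, hj⟩ := hB _ ⟨pow_mem hτ.1 _, hk⟩
  exact ⟨k + j, by rwa [pow_add, pow_mul]⟩

/-- a maximal normal abelian subgroup inside a normal subgroup is self-centralizing there -/
theorem exists_sc_abelian [Finite P] (hP : IsPGroup p P) (hB : B ≤ P) (hn : P ≤ normalizer (B : Set Ω)) :
    ∃ A ≤ B, P ≤ normalizer (A : Set Ω) ∧ A ≤ centralizer (A : Set Ω) ∧ centralizerIn B A ≤ A := by
  obtain ⟨A, ⟨h1, h2, h3⟩, h4⟩ := exists_max_of_bdd (fun A : Subgroup P => A.Normal ∧ A ≤ B.subgroupOf P ∧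
    IsMulCommutative A) (fun A => Nat.card A) (Nat.card P) (fun A _ => card_le_card_group A)
    ⟨⊥, inferInstance, bot_le, inferInstance⟩
  have h5 : (B.subgroupOf P).Normal := (normal_subgroupOf_iff_le_normalizer hB).2 hn
  refine ⟨A.map P.subtype, map_le_iff_le_comap.2 h2, H24.map_subtype_le_normalizer A, ?_, ?_⟩
  · rintro _ ⟨x, hx, rfl⟩ _ ⟨y, hy, rfl⟩
    exact congrArg Subtype.val (isMulCommutative_iff_mem.1 h3 y hy x hx)
  by_contra h6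
  obtain ⟨x, h7, h8, -, h9⟩ := exists_central_mod hP (N := A) (M := B.subgroupOf P ⊓ centralizer (A : Set P))
    fun h7 => h6 fun x hx => ⟨⟨x, hB hx.1⟩, h7 ⟨hx.1, fun y hy => Subtype.ext (hx.2 y ⟨y, hy, rfl⟩)⟩, rfl⟩
  exact (h4 _ ⟨normal_sup_zpowers h9, sup_le h2 (zpowers_le.2 h7.1), isMulCommutative_sup_zpowers h3 h7.2⟩).not_gt
    (card_lt_of_lt (left_lt_sup.2 fun h => h8 (zpowers_le.1 h)))

omit [Fact p.Prime] in
theorem mem_fixMod_of_fix {A : Subgroup Ω} (hA : A ≤ B) (hn : B ≤ normalizer (A : Set Ω)) (hc : centralizerIn B A ≤ A)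
    (h1 : σ ∈ Stab B) (h2 : σ ∈ Fix A) : σ ∈ FixMod B A := by
  refine mem_fixMod.2 ⟨h1, fun x hx => hc ⟨mul_mem (Subgroup.inv_mem _ hx) (stab_mem h1 hx), mem_centralizer_iff.2 fun a ha => ?_⟩⟩
  have h3 := (stab_homOn h1).map_conj hx (hA ha)
  rw [mem_fix.1 h2 _ (conj_mem_of_mem_normalizer (hn hx) ha), mem_fix.1 h2 _ ha] at h3
  calc a * (x⁻¹ * σ x) = x⁻¹ * (x * a * x⁻¹) * σ x := by group
    _ = x⁻¹ * σ x * a := by rw [h3]; group

variable [Finite S] {F E : FusionSystem S}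

omit [Fact p.Prime] in
theorem fn_of_sub (hE : E.IsSubsystemOf F) (h : F.IsFullyNormalized P) : E.IsFullyNormalized P :=
  fn_iff.2 ⟨h.1, fun σ hσ => (fn_iff.1 h).2 σ (hσ.sub hE)⟩

/-- a small characteristic subgroup detecting the `p'`-automorphisms -/
theorem Sat.exists_small (hF : Sat p F) (hX : X ≤ S) (hD : F.StronglyClosed D) (h : F.hyperfocalSubgroup p ≤ D) :
    ∃ B ≤ X ⊓ D, AutF F X ≤ Stab B ∧ (∀ x ∈ B, x ^ sm p = 1) ∧ PMod p (Fix X) (AutF F X ⊓ Fix B) := by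
  have := finite_of_le hX
  have : Finite (X ⊓ D : Subgroup Ω) := finite_of_le (inf_le_left.trans hX)
  obtain ⟨B, h1, h2, h3, h4⟩ := LF.exists_small ((isPGroup_of_le hF.pg hX).to_le (inf_le_left (b := D)))
  have h5 := autF_le_stab_inf_sc hX hD
  refine ⟨B, h1, h5.trans h2, h3, pmod_of_coprime (nfin_fix (le_inf (fix_le_autF _ _) (fix_anti (h1.trans inf_le_left)))
    (inf_le_left.trans (autF_le_stab _ _))) fun σ hσ m hm h6 => ?_⟩
  obtain ⟨k, hk⟩ := exists_pow_fix_step (isPGroup_of_le hF.pg hX) (inf_le_left (b := D)) (mem_fixMod.2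
    ⟨autF_le_stab _ _ hσ.1, fun x hx => ⟨mul_mem (Subgroup.inv_mem _ hx) (autF_mem hσ.1 hx),
      h (mem_hyper hX (mem_Ores hσ.1 hm h6) hx)⟩⟩) (h4 σ ⟨h5 hσ.1, hσ.2⟩)
  exact mem_of_pow_mem_coprime h6 hk (hm.pow_right k)

/-- The main lemma of Benson, Grodal and Henke. -/
theorem Sat.bgh (hF : Sat p F) (hE : Sat p E) (hEF : E.IsSubsystemOf F) (hP : F.IsFullyNormalized P)
    (hc : F.IsCentric P) (ih : ∀ (Q : Subgroup Ω) (σ : Perm Ω), P < Q → Mor F Q σ → Mor E Q σ) {A : Subgroup Ω}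
    (hA : A ≤ P) (hn : P ≤ normalizer (A : Set Ω)) (h : ∀ σ : Perm Ω, Mor F A σ → Mor E A σ)
    (hC : AutF F P ⊓ Fix A ≤ AutF E P) : AutF F P ≤ AutF E P := by
  intro γ hγ
  have := finite_of_le hP.1
  have h1 := autF_mor hP.1 hγ
  have h2 : P ≤ normalizerIn S (im γ A) := fun x hx => by
    obtain ⟨y, hy, rfl⟩ := h1.mem_im.1 ((autF_im hγ).ge hx)
    exact h1.mem_nIn hA hy (hn hy)
  obtain ⟨α, h3, h4⟩ := hE.exists_nIn_fn (h1.mono hA).im_le
  have h5 : Mor F P ⇑(α * γ) := h1.mul (h3.sub hEF) fun x hx => h2 (autF_mem hγ hx)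
  have h6 := h3.mono h2
  rw [← (h1.homOn.mono hA).im_mul] at h4
  by_cases h7 : centralizerIn S (im ⇑(α * γ) A) ≤ im α P
  · obtain ⟨τ, a1, a2⟩ := hE.extend (h _ (h5.mono hA)) (hE.fc_of_fn h4)
    have a3 : Mor E P τ := a1.mono fun x hx => h5.mem_Ext hA hx (hn hx)
    have a4 : ∀ x ∈ P, τ x ∈ im α P := fun x hx => by
      have b1 : (α * γ) x ∈ im α P := mem_im_of_mem α (autF_mem hγ hx)
      refine (mul_mem_cancel_left (Subgroup.inv_mem _ b1)).1 (h7 ⟨mul_mem (Subgroup.inv_mem _ (h5.mem hx)) (a3.mem hx),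
        mem_centralizer_iff.2 fun y hy => ?_⟩)
      obtain ⟨a, ha, rfl⟩ := (h5.mono hA).mem_im.1 hy
      have b2 := a2 _ (conj_mem_of_mem_normalizer (hn hx) ha)
      rw [a3.homOn.map_conj hx (hA ha), h5.homOn.map_conj hx (hA ha), a2 a ha] at b2
      calc (α * γ) a * (((α * γ) x)⁻¹ * τ x) = ((α * γ) x)⁻¹ * ((α * γ) x * (α * γ) a * ((α * γ) x)⁻¹) * τ x := by group
        _ = ((α * γ) x)⁻¹ * τ x * (α * γ) a := by rw [← b2]; group
    have a5 : α⁻¹ * τ ∈ AutF E P := (a3.mul h6.inv a4).mem_autF' fun x hx => h6.homOn.mem_im_perm.1 (a4 x hx)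
    refine (mul_mem_cancel_left (Subgroup.inv_mem _ a5)).1 (hC ⟨mul_mem (Subgroup.inv_mem _ (autF_mono hEF a5)) hγ, ?_⟩)
    exact inv_mul_mem_fix.2 fun x hx => by rw [Perm.mul_apply, a2 x hx]; simp
  obtain ⟨g, b1, b2⟩ := SetLike.not_le_iff_exists.1 fun b => h7 (le_of_nIn_le hF.pg h6.im_le cIn_le (fun x hx => by
    obtain ⟨y, hy, rfl⟩ := h6.mem_im.1 hx
    rw [(h1.homOn.mono hA).im_mul]
    exact normalizer_inf_of (Subgroup.le_normalizer (h6.mem hy)) (mem_normalizer_centralizer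
      (h3.mem_nIn (le_nIn (h1.mono hA).im_le) (h2 hy) (h2 hy).2).2)) b)
  obtain ⟨β, c1, -, c2⟩ := hE.exists_ext_nIn h6.inv (by rw [h6.homOn.im_inv_im]; exact fn_of_sub hEF hP)
  rw [h6.homOn.im_inv_im] at c2
  have c3 : g ∈ normalizerIn S (im α P) := ⟨b1.1.1, b1.2⟩
  have c4 := le_nIn h6.im_le
  have c5 : β * α ∈ AutF E P := (h6.mul' c1 c4).mem_autF (by rw [h6.homOn.im_mul, c2])
  have c6 : β g ∈ normalizerIn S P := c2 ▸ c1.mem_nIn c4 c3 c3.2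
  have c7 : β g ∉ P := fun c => b2 ((c1.homOn.mono c4).apply_mem_im_iff.1 (c2.symm ▸ c))
  have c8 : β * α * γ ∈ AutF F P := mul_mem (autF_mono hEF c5) hγ
  have c9 : P < S := lt_of_le_of_ne hP.1 fun e => c7 (e ▸ c6.1)
  have d1 : P < P ⊔ zpowers (β g) := left_lt_sup.2 fun c => c7 (zpowers_le.1 c)
  have d2 : P ⊔ zpowers (β g) ≤ normalizerIn S P := sup_le (le_nIn hP.1) (zpowers_le.2 c6)
  refine (mul_mem_cancel_left c5).1 ((inv_mem_iff (H := AutF E P)).1 (mem_of_Gam_le (hF.rsyl_inn hP)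
    (nfin_inn_autF F hP.1) ?_ (autF_mono hEF) (Subgroup.inv_mem _ c8) (inn_lt_autS (centric_cIn_le hc) d1 d2)
    (autS_le_autF E (d2.trans nIn_le) hP.1) ((pmod_autS (isPGroup_of_le hF.pg (d2.trans nIn_le)) P).mono_left
      (fix_le_autS _ _)) ?_))
  · rw [← hF.hExt_eq_Gam c9 hP hc, hExt_le_iff (fix_le_autF _ _)]
    exact fun Q σ d3 d4 d5 => ((ih Q σ d3 d4).mono d3.le).mem_autF_of_stab d5
  rw [autS_sup Subgroup.le_normalizer (zpowers_le.2 c6.2), cjS_sup,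
    cjS_eq_iff.2 (stab_le_normalizer_inn (autF_le_stab _ _ (Subgroup.inv_mem _ c8)))]
  refine sup_le (autS_le_autF E hP.1 hP.1) ?_
  rw [← cjS_le_cjS_iff (k := β * α * γ), cjS_cjS_inv, autS_le_iff]
  · rintro _ ⟨k, rfl⟩ -
    rw [map_zpow]
    refine zpow_mem (mem_cjS.2 (hC ⟨mul_mem (mul_mem (Subgroup.inv_mem _ c8) (cj_mem_autF F hP.1 c6.1 c6.2)) c8,
      mem_fix.2 fun x hx => ?_⟩)) k
    have d3 : (α * γ) x ∈ im α P := mem_im_of_mem α (autF_mem hγ (hA hx))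
    have d4 := c1.homOn.map_conj c3 (c4 d3)
    rw [← mem_centralizer_iff.1 b1.1.2 _ (mem_im_of_mem _ hx), mul_inv_cancel_right] at d4
    change (β * α * γ)⁻¹ (β g * β ((α * γ) x) * (β g)⁻¹) = x
    rw [← d4]
    exact pinv_apply (β * α * γ) x
  · intro ρ hρ
    exact mem_cjS.2 (fix_le_autF E P (conj_mem_of_mem_normalizer' (stab_le_normalizer_fix (autF_le_stab _ _ c8)) hρ))

theorem Sat.mislin (hF : Sat p F) (hE : Sat p E) (hEF : E.IsSubsystemOf F)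
    (h : ∀ A ≤ F.hyperfocalSubgroup p, A ≤ centralizer (A : Set Ω) → (∀ x ∈ A, x ^ sm p = 1) →
      ∀ σ : Perm Ω, Mor F A σ → Mor E A σ) : F.IsSubsystemOf E := by
  refine hF.sub_of_fn_step fun P hP ih => ?_
  have := finite_of_le hP.1
  have ih' : ∀ (Q : Subgroup Ω) (σ : Perm Ω), P < Q → Mor F Q σ → Mor E Q σ := fun Q σ h1 h2 =>
    ih Q σ (have := finite_of_le h2.le; card_lt_of_lt h1) h2
  by_cases hc : F.IsCentric P
  swap
  · rw [← hF.hExt_eq_of_not_centric (hF.fc_of_fn hP) hc, hExt_le_iff (fix_le_autF _ _)]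
    exact fun Q σ d3 d4 d5 => ((ih' Q σ d3 d4).mono d3.le).mem_autF_of_stab d5
  obtain ⟨B, h1, h2, h3, h4⟩ := Sat.exists_small hF hP.1 hF.sc_hyper le_rfl
  have hBP := h1.trans inf_le_left
  have := finite_of_le hBP
  obtain ⟨A, h5, h6, h7, h8⟩ := exists_sc_abelian (isPGroup_of_le hF.pg hP.1) hBP fun x hx =>
    cj_mem_stab.1 (h2 (cj_mem_autF F hP.1 (hP.1 hx) (Subgroup.le_normalizer hx)))
  have h9 : PMod p (Fix P) (AutF F P ⊓ Fix A) := fun σ hσ => by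
    obtain ⟨k, hk⟩ := pow_mem_fix_of_fixMod (isPGroup_of_le hF.pg (hBP.trans hP.1)) h5 hσ.2
      (mem_fixMod_of_fix h5 (hBP.trans h6) h8 (h2 hσ.1) hσ.2)
    obtain ⟨j, hj⟩ := h4 _ ⟨pow_mem hσ.1 _, hk⟩
    exact ⟨k + j, by rwa [pow_add, pow_mul]⟩
  obtain ⟨χ, a1, a2⟩ := (hF.rsyl_of_fn hP).conj_into (nfin_autF F P) inf_le_left h9
  have a3 := autF_mor hP.1 a1
  have hAP := h5.trans hBP
  refine Sat.bgh hF hE hEF hP hc ih' (A := im χ A) (im_le_iff.2 fun x hx => autF_mem a1 (hAP hx)) (fun x hx => ?_)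
    (h _ (im_le_iff.2 fun x hx => (h1 (stab_mem (h2 a1) (h5 hx))).2) (im_le_iff.2 fun x hx =>
      a3.homOn.mem_centralizer_im hAP (hAP hx) (h7 hx)) fun x hx => ?_) fun σ hσ => ?_
  · obtain ⟨y, hy, rfl⟩ := a3.mem_im.1 ((autF_im a1).ge hx)
    exact a3.homOn.mem_normalizer_im hAP hy (h6 hy)
  · obtain ⟨y, hy, rfl⟩ := (a3.mono hAP).mem_im.1 hx
    exact h3 _ (stab_mem (h2 a1) (h5 hy))
  · have a4 := hσ.2
    rw [← cjS_fix (a3.homOn.mono hAP)] at a4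
    simpa [mul_assoc] using autS_le_autF E le_rfl hP.1
      (a2 _ ⟨mul_mem (mul_mem (Subgroup.inv_mem _ a1) hσ.1) a1, mem_cjS.1 a4⟩)

/-- a criterion for normality of `S` via a chain on the small elements -/
theorem Sat.normal_top_of_chain (hF : Sat p F) (hD : F.StronglyClosed D) (h : F.hyperfocalSubgroup p ≤ D)
    (C : ℕ → Subgroup Ω) (n : ℕ) (h0 : C 0 = ⊥) (hn : ∀ x ∈ D, x ^ sm p = 1 → x ∈ C n) (hm : ∀ i < n, C i ≤ C (i + 1))
    (hC : ∀ i ≤ n, ∀ x ∈ D, x ^ sm p = 1 → x ∈ C i → ∀ σ : Perm Ω, Mor F (zpowers x) σ → σ x ∈ C i)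
    (hS : ∀ i < n, ∀ x ∈ D, x ^ sm p = 1 → x ∈ C (i + 1) → ∀ s ∈ S, x⁻¹ * (s * x * s⁻¹) ∈ C i) : F.IsNormal S := by
  refine hF.normal_of_wc_le_cr (sc_weaklyClosed sc_top) fun X hX hc hr => ?_
  have := finite_of_le hX.1
  obtain ⟨B, h1, h2, h3, h4⟩ := Sat.exists_small hF hX.1 hD h
  exact le_of_cr_of_Op hF.pg hc hr le_rfl (hX.1.trans Subgroup.le_normalizer) fun g hg =>
    mem_Op_of_chain (isPGroup_of_le hF.pg hX.1) (fix_le_autF _ _) (autF_le_stab _ _) (h1.trans inf_le_left) h2 h4 C n h0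
      (fun x hx => hn x (h1 hx).2 (h3 x hx)) hm (fun i hi τ hτ x hx hx' => hC i hi x (h1 hx).2 (h3 x hx) hx' τ
        ((autF_mor hX.1 hτ).mono (zpowers_le.2 (h1 hx).1))) (cj_mem_autF F hX.1 hg.1 hg.2)
      fun i hi x hx hx' => hS i hi x (h1 hx).2 (h3 x hx) hx' g hg.1

theorem Sat.normal_top_of_small (hF : Sat p F) (h : ∀ x ∈ F.hyperfocalSubgroup p, x ^ sm p = 1 →
    ∀ σ : Perm Ω, Mor F (zpowers x) σ → ∃ τ ∈ Stab S, σ x = τ x) : F.IsNormal S := by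
  obtain ⟨n, hn⟩ := exists_ucs_eq hF.pg
  refine Sat.normal_top_of_chain hF hF.sc_hyper le_rfl (ucs S) n ucs_zero (fun x hx _ => hn.symm ▸ hyper_le hx)
    (fun i _ => ucs_mono i.le_succ) (fun i _ x h1 h2 h3 σ hσ => ?_) fun i _ x _ _ h3 s hs => ?_
  · obtain ⟨τ, h4, h5⟩ := h x h1 h2 σ hσ
    exact h5 ▸ stab_mem (stab_le_stab_ucs i h4) h3
  · simpa [commutatorElement_def, mul_assoc] using (mem_ucs_succ.1 (Subgroup.inv_mem _ h3)).2 s hs

theorem Sat.sub_inner_of_small (hF : Sat p F) (h : ∀ x ∈ F.hyperfocalSubgroup p, x ^ sm p = 1 →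
    ∀ σ : Perm Ω, Mor F (zpowers x) σ → ∃ s ∈ S, σ x = s * x * s⁻¹) : F.IsSubsystemOf (innerFusionSystem S) := by
  have h1 := Sat.normal_top_of_small hF fun x h1 h2 σ hσ => by
    obtain ⟨s, h3, h4⟩ := h x h1 h2 σ hσ
    exact ⟨cj s, cj_mem_stab.2 (Subgroup.le_normalizer h3), h4⟩
  obtain ⟨n, hn⟩ := exists_ucs_eq hF.pg
  obtain ⟨B, a1, a2, a3, a4⟩ := Sat.exists_small hF le_rfl hF.sc_hyper le_rfl
  refine (hF.eq_inner_of (fun σ hσ => Op_pmod (nfin_autF F S) σ (mem_Op_of_chain hF.pg (fix_le_autF _ _)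
    (autF_le_stab _ _) (a1.trans inf_le_left) a2 a4 (ucs S) n ucs_zero (hn.symm ▸ a1.trans inf_le_left)
    (fun i _ => ucs_mono i.le_succ) (fun i _ τ hτ x _ hx => stab_mem (stab_le_stab_ucs i (autF_le_stab _ _ hτ)) hx) hσ
    fun i _ x hx hx' => ?_)) fun P => hF.not_essential_of_normal_top h1).symm ▸ sub_refl _
  obtain ⟨s, h3, h4⟩ := h x (a1 hx).2 (a3 x hx) σ ((autF_mor le_rfl hσ).mono (zpowers_le.2 (a1 hx).1))
  simpa [h4, commutatorElement_def, mul_assoc] using (mem_ucs_succ.1 (Subgroup.inv_mem _ hx')).2 s h3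

/-- A strongly closed subgroup which is not normal has a proper "radical" subgroup. -/
theorem Sat.exists_rad (hF : Sat p F) (hP : F.StronglyClosed P) (h : ¬ F.IsNormal P) :
    ∃ Y < P, F.IsFullyNormalized Y ∧ ∀ g ∈ normalizerIn P Y, cj g ∈ Op p (Fix Y) (AutF F Y) → g ∈ Y := by
  by_contra h0
  refine h (hF.normal_of_wc_le_cr (sc_weaklyClosed hP) fun X₀ hX₀ hc₀ hr₀ => ?_)
  obtain ⟨σ, h1, h2⟩ := hF.exists_nIn_fn (P := X₀ ⊓ P) (inf_le_left.trans hX₀.1)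
  have h3 : Mor F X₀ σ := h1.mono fun x hx => ⟨hX₀.1 hx, normalizer_inf_of (Subgroup.le_normalizer hx)
    (sc_le_normalizer hP (hX₀.1 hx))⟩
  rw [h3.im_inf_sc hP] at h2
  have hc := h3.centric_im hc₀
  have hr := h3.radical_im hr₀
  suffices P ≤ im σ X₀ by
    have h4 : im σ (X₀ ⊓ P) = P := by rw [h3.im_inf_sc hP, inf_eq_right.2 this]
    have := finite_of_le hP.1
    exact inf_eq_right.1 (eq_of_le_of_card_ge inf_le_right (by rw [← (h3.mono inf_le_left).card_im, h4]))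
  set X := im σ X₀
  have := finite_of_le h2.1
  by_contra h4
  refine h0 ⟨_, inf_lt_right.2 h4, h2, fun g hg h5 => ⟨?_, hg.1⟩⟩
  have h6 := autF_le_autF inf_le_left hc.1 (autF_le_stab_inf_sc hc.1 hP)
  refine le_of_cr_of_Op hF.pg hc hr (R := normalizerIn P (X ⊓ P) ⊓ (Op p (Fix (X ⊓ P)) (AutF F (X ⊓ P))).comap cj)
    (inf_le_left.trans (nIn_le.trans hP.1)) (fun x hx => normalizer_inf_of (normalizer_inf_of
      (sc_le_normalizer hP (hc.1 hx)) (Subgroup.le_normalizer (normalizer_inf_of (Subgroup.le_normalizer hx)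
        (sc_le_normalizer hP (hc.1 hx))))) ?_) (fun k hk => cj_mem_Op_of_inf_sc hF.pg hc.1 hP ⟨hk.1.1.1, hk.2⟩ hk.1.2)
    ⟨hg, h5⟩
  have h7 := Op_norm (p := p) (nfin_autF F (X ⊓ P)) (h6 (cj_mem_autF F hc.1 (hc.1 hx) (Subgroup.le_normalizer hx)))
  exact mem_normalizer_of_conj (fun y hy => by simpa [mem_comap] using conj_mem_of_mem_normalizer h7 hy)
    fun y hy => by simpa [mem_comap] using conj_mem_of_mem_normalizer' h7 hy

theorem Sat.normal_of_small_chain (hF : Sat p F) (hP : F.StronglyClosed P) (C : ℕ → Subgroup Ω) (n : ℕ) (h0 : C 0 = ⊥)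
    (hn : ∀ x ∈ P, x ^ sm p = 1 → x ∈ C n) (hm : ∀ i < n, C i ≤ C (i + 1)) (hC : ∀ i ≤ n, F.StronglyClosed (C i))
    (h : ∀ i < n, ⁅C (i + 1), P⁆ ≤ C i) : F.IsNormal P := by
  by_contra h1
  obtain ⟨Y, h2, h3, h4⟩ := Sat.exists_rad hF hP h1
  have := finite_of_le h3.1
  obtain ⟨B, a1, a2, a3, a4⟩ := LF.exists_small (isPGroup_of_le hF.pg h3.1)
  refine (lt_nIn_of_lt hF.pg h2 hP.1).not_ge fun g hg => h4 g hg (mem_Op_of_chain (isPGroup_of_le hF.pg h3.1)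
    (fix_le_autF _ _) (autF_le_stab _ _) a1 ((autF_le_stab _ _).trans a2) (a4.mono (inf_le_inf_right _ (autF_le_stab _ _)))
    C n h0 (fun x hx => hn x (h2.le (a1 hx)) (a3 x hx)) hm (fun i hi τ hτ x hx hx' =>
      (autF_mor h3.1 hτ).mem_of_sc (hC i hi) (a1 hx) hx') (cj_mem_autF F h3.1 (hP.1 hg.1) hg.2) fun i hi x _ hx => ?_)
  simpa [commutatorElement_def, mul_assoc] using h i hi (commutator_mem_commutator (Subgroup.inv_mem _ hx) hg.1)

omit [Finite S] in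
theorem card_zpowers_of_sm {x : Ω} (h : x ^ sm p = 1) (h1 : x ≠ 1) :
    Nat.card (zpowers x) = p ∨ Nat.card (zpowers x) = 4 := by
  rw [Nat.card_zpowers]
  rcases pow_sm_iff.1 h with h | ⟨rfl, h⟩
  · exact Or.inl (orderOf_eq_prime h h1)
  · by_cases h2 : x ^ 2 = 1
    · exact Or.inl (orderOf_eq_prime h2 h1)
    · exact Or.inr (orderOf_eq_prime_pow (p := 2) (n := 1) h2 h)

theorem Sat.of_homSet_cyclic (hF : Sat p F) {Ψ : ∀ A : Subgroup Ω, Set (A →* Ω)}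
    (h : ∀ A B : Subgroup Ω, A ≤ F.hyperfocalSubgroup p → B ≤ F.hyperfocalSubgroup p → IsCyclic A →
      (Nat.card A = p ∨ Nat.card A = 4) → IsCyclic B → (Nat.card B = p ∨ Nat.card B = 4) → F.homSet A B ⊆ Ψ A)
    {x : Ω} (h1 : x ∈ F.hyperfocalSubgroup p) (h2 : x ^ sm p = 1) (h3 : x ≠ 1) (hσ : Mor F (zpowers x) σ) :
    hσ.homOn.hom ∈ Ψ (zpowers x) := by
  have h4 := card_zpowers_of_sm h2 h3
  refine h _ (im σ (zpowers x)) (zpowers_le.2 h1) (hσ.im_le_of_sc hF.sc_hyper le_rfl (zpowers_le.2 h1)) inferInstance h4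
    (by rw [hσ.homOn.im_zpowers]; infer_instance) (by rwa [hσ.card_im])
    ⟨hσ.mem_hom fun _ => rfl, fun x => mem_im_of_mem σ x.2⟩

theorem Sat.normal_top_of_zpowers (hF : Sat p F) (hD : F.StronglyClosed D) (h : F.hyperfocalSubgroup p ≤ D)
    (hn : ∀ x ∈ D, x ^ sm p = 1 → ∀ s ∈ S, s * x * s⁻¹ ∈ zpowers x) : F.IsNormal S := by
  have h1 : ∀ x ∈ D, x ^ p = 1 → ∀ s ∈ S, s * x * s⁻¹ = x := fun x hx h1 s hs => by
    have := finite_of_le (zpowers_le.2 (hD.1 hx))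
    by_cases h0 : x = 1
    · simp [h0]
    have h2 : S ≤ normalizer (zpowers x : Set Ω) := fun s hs => cj_mem_stab.1 (mem_stab_of_mem (homOn_cj _ _) (by
      rintro _ ⟨k, rfl⟩
      rw [cj_apply, ← conj_zpow]
      exact zpow_mem (hn x hx (pow_sm_iff.2 (Or.inl h1)) s hs) k))
    have h3 := cIn_inf_ne_bot hF.pg (zpowers_le.2 (hD.1 hx)) h2 (by simpa using h0)
    have h4 : Fact (Nat.card (zpowers x)).Prime := ⟨by rw [Nat.card_zpowers, orderOf_eq_prime h1 h0]; exact Fact.out⟩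
    have h5 := ((centralizerIn S S).subgroupOf (zpowers x)).eq_bot_or_eq_top_of_prime_card.resolve_left fun e =>
      h3 (disjoint_iff.1 (subgroupOf_eq_bot.1 e))
    rw [mem_centralizer_iff.1 (subgroupOf_eq_top.1 h5 (mem_zpowers x)).2 s hs, mul_inv_cancel_right]
  have h2 : ∀ x ∈ omegaOne p D, ∀ s ∈ S, s * x * s⁻¹ = x := fun x hx s hs =>
    HomOn.eq_on_closure (homOn_cj _ s) (homOn_monoidHom _ (MonoidHom.id Ω)) (fun y hy => h1 y hy.1 hy.2 s hs) x hx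
  have h3 : ∀ x ∈ omegaOne p D, x ^ p = 1 := fun x hx => (H9.mem_omegaOne_of_comm (H := omegaOne p D)
    (isMulCommutative_iff_mem.2 fun a ha b hb => by
      rw [← mul_inv_eq_iff_eq_mul, h2 b hb a (hD.1 (H9.omegaOne_le _ _ ha))])).1
        (H9.omegaOne_le_iff.2 (fun y hy h => H9.mem_omegaOne_of (H9.mem_omegaOne_of hy h) h) hx) |>.2
  refine Sat.normal_top_of_chain hF hD h (fun i => if i = 0 then ⊥ else if i = 1 then omegaOne p D else D) 2 rfl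
    (fun x hx _ => hx) (fun i hi => ?_) (fun i hi x a1 a2 a3 σ hσ => ?_) fun i hi x a1 a2 a3 s hs => ?_
  · interval_cases i
    exacts [bot_le, H9.omegaOne_le _ _]
  · have a4 := hσ.mem_of_sc hD (mem_zpowers x) a1
    interval_cases i
    · obtain rfl := mem_bot.1 a3
      exact hσ.homOn.map_one
    · exact subset_closure ⟨a4, by rw [← hσ.homOn.map_pow (mem_zpowers x), h3 x a3, hσ.homOn.map_one]⟩
    · exact a4
  · interval_cases i
    · exact mem_bot.2 (by rw [h2 x a3 s hs, inv_mul_cancel])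
    · refine subset_closure ⟨mul_mem (Subgroup.inv_mem _ a1) (zpowers_le.2 a1 (hn x a1 a2 s hs)), ?_⟩
      rcases pow_sm_iff.1 a2 with a4 | ⟨rfl, a4⟩
      · rw [h1 x a1 a4 s hs, inv_mul_cancel, one_pow]
      · have a5 := h1 (x ^ 2) (pow_mem a1 2) (by rwa [← pow_mul]) s hs
        obtain ⟨k, hk⟩ := hn x a1 a2 s hs
        have a6 : Commute x⁻¹ (s * x * s⁻¹) := hk ▸ (Commute.refl x).inv_left.zpow_right k
        rw [a6.mul_pow, conj_pow, a5, inv_pow, inv_mul_cancel]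

end Cfsg.Agent.H23.LF
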