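import Cfsg.Agent.L0.FOl
import Cfsg.Agent.H23.PIdx

/-!
# Fusion systems over `p`-groups with centre of index `p²`
-/

set_option autoImplicit false

namespace Cfsg.Agent.H23.LF

open Cfsg Cfsg.FusionSystem Subgroup Cfsg.Agent.H3
open Equiv (Perm)
open scoped commutatorElement

variable {Ω : Type*} [Group Ω] {S C D E E' : Subgroup Ω} {p : ℕ} {x y : Ω} {σ : Perm Ω}

theorem mul_mem_of_two [Finite C] (h : D ≤ C) (hc : Nat.card C ≤ 2 * Nat.card D) (hx : x ∈ C) (hy : y ∈ C)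
    (hx' : x ∉ D) (hy' : y ∉ D) : x * y ∈ D := by
  haveI := finite_of_le h
  have c1 := H24.card_mul_relIndex h
  have c2 : D.relIndex C ≠ 1 := fun e => hx' (relIndex_eq_one.1 e hx)
  have c3 : D.relIndex C ≠ 0 := index_ne_zero_of_finite
  have c4 : D.relIndex C ≤ 2 := Nat.le_of_mul_le_mul_left (by rw [c1, mul_comm]; exact hc) Nat.card_pos
  exact (mul_mem_iff_of_index_two (show D.relIndex C = 2 by omega) (a := ⟨x, hx⟩) (b := ⟨y, hy⟩)).2
    (iff_of_false hx' hy')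

theorem fixMod_of_two [Finite C] (h : D ≤ C) (hc : Nat.card C ≤ 2 * Nat.card D) (h1 : σ ∈ Stab C) (h2 : σ ∈ Stab D) :
    σ ∈ FixMod C D := ⟨h1, fun x hx => by
  by_cases e : x ∈ D
  · exact mul_mem (D.inv_mem e) (stab_mem h2 e)
  · exact mul_mem_of_two h hc (C.inv_mem hx) (stab_mem h1 hx) (fun a => e (inv_mem_iff.1 a))
      fun a => e ((stab_mem_iff h2).1 a)⟩

variable [Finite S] [hp : Fact p.Prime] {F : FusionSystem S}

theorem Sat.ess_sq (hF : Sat p F) (hZ : Nat.card S ≤ p ^ 2 * Nat.card (centralizerIn S S)) (hE : F.IsEssential p E) :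
    AI p S E ∧ Nat.card E = p * Nat.card (centralizerIn S S) ∧ Nat.card (⁅S, S⁆ : Subgroup Ω) = p := by
  have h1 := hF.essential_lt hE
  haveI := finite_of_le h1.le
  haveI := finite_of_le (cIn_le : centralizerIn S S ≤ S)
  have h2 : centralizerIn S S < E := (Z_le_ess hE).lt_of_ne fun e => h1.not_ge
    ((le_inf le_rfl (le_centralizer_iff.1 (e.ge.trans cIn_le_cent))).trans (centric_cIn_le hE.1))
  have h3 := mul_card_le' (hF.pg.to_le h1.le) h2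
  have h4 := mul_card_le' hF.pg h1
  have h5 : Nat.card E = p * Nat.card (centralizerIn S S) := le_antisymm (Nat.le_of_mul_le_mul_left
    (h4.trans (hZ.trans_eq (by ring))) hp.out.pos) h3
  obtain ⟨x, hx, hx'⟩ := SetLike.exists_of_lt h2
  have h6 : AI p S E := ⟨hF.pg, h1.le, sup_zp_of_card (hF.pg.to_le h1.le) h2.le h5.le hx hx' ▸ sup_zp_comm
    (cIn_le_cent.trans (centralizer_le cIn_le)) (le_centralizer_iff.1 cIn_le_cent (h1.le hx)),
    Nat.eq_of_mul_eq_mul_left Nat.card_pos ((H24.card_mul_relIndex h1.le).trans (le_antisymm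
      (hZ.trans_eq (by rw [h5]; ring)) (by rwa [mul_comm]))),
    fun e => h1.not_ge ((cIn_eq_of_le e).ge.trans h2.le)⟩
  exact ⟨h6, h5, Nat.eq_of_mul_eq_mul_left Nat.card_pos (h6.card_A.symm.trans (h5.trans (mul_comm _ _)))⟩

theorem Sat.ess_eq (hF : Sat p F) (hZ : Nat.card S ≤ p ^ 2 * Nat.card (centralizerIn S S)) (hE : F.IsEssential p E)
    (hE' : F.IsEssential p E') (h1 : x ∈ E) (h2 : x ∈ E') (h3 : x ∉ centralizerIn S S) : E = E' :=
  haveI := finite_of_le hE.1.1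
  haveI := finite_of_le hE'.1.1
  (sup_zp_of_card (hF.pg.to_le hE.1.1) (Z_le_ess hE) (Sat.ess_sq hF hZ hE).2.1.le h1 h3).symm.trans
    (sup_zp_of_card (hF.pg.to_le hE'.1.1) (Z_le_ess hE') (Sat.ess_sq hF hZ hE').2.1.le h2 h3)

theorem Sat.ess_dat (hF : Sat p F) (hZ : Nat.card S ≤ p ^ 2 * Nat.card (centralizerIn S S)) (hE : F.IsEssential p E) :
    ∃ (D : Subgroup Ω) (w : Ω), D ≤ centralizerIn S S ∧ AutF F E ≤ Stab D ∧ ¬ ⁅S, S⁆ ≤ D ∧ w ∈ E ∧
      w ∉ centralizerIn S S ∧ w ^ p = 1 ∧ Nat.card (centralizerIn S S) ≤ p * Nat.card D ∧ (∀ y ∈ E, y ^ p ∈ D) ∧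
      Ores' p (Fix E) (AutF F E) ≤ FixMod E (⁅S, S⁆ ⊔ zpowers w) := by
  obtain ⟨a, b, -⟩ := Sat.ess_sq hF hZ hE
  haveI := finite_of_le hE.1.1
  obtain ⟨D, v, w, -, h1, h2, h3, h4, h5, h6, h7, h8, h9, -, -, -, h10, h11⟩ := Sat.ess_sl2 hF hE a.ab (Z_le_ess hE) b.le
    (nIn_le.trans (le_centralizer_iff.1 cIn_le_cent))
  replace h4 : v ∈ ⁅S, S⁆ := commutator_mono hE.1.1 nIn_le h4
  have c : ∀ {z : Ω}, z ^ p = 1 → ∀ i : ℤ, (z ^ i) ^ p = 1 := fun {z} e i => by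
    rw [← zpow_natCast, ← zpow_mul, mul_comm, zpow_mul, zpow_natCast, e, one_zpow]
  refine ⟨D, w, h1, h2, fun e => h6 (e h4), h7, h8, h9, ?_, fun y hy => ?_,
    h11.trans (fixMod_mono (sup_le_sup_right (zpowers_le.2 h4) _))⟩
  · rw [← card_sup_zpowers (centralizer_le_normalizer _ (centralizer_le (h1.trans cIn_le) h3.2)) h6 (h5 ▸ one_mem _)]
    haveI := finite_of_le (sup_le (h1.trans cIn_le) (zpowers_le.2 h3.1))
    refine card_le_of_le fun y hy => ?_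
    obtain ⟨d, hd, i, rfl⟩ := h10 y hy
    exact mul_mem (mem_sup_left hd) (mem_sup_right (zpow_mem (mem_zpowers v) i))
  · obtain ⟨z, hz, j, rfl⟩ := mem_sup_zp (centralizer_le_normalizer _ (le_centralizer_iff.1 cIn_le_cent (hE.1.1 h7)))
      ((sup_zp_of_card (hF.pg.to_le hE.1.1) (Z_le_ess hE) b.le h7 h8).ge hy)
    rw [Commute.mul_pow (hz.2 _ (zpow_mem (hE.1.1 h7) j)).symm, c h9, mul_one]
    obtain ⟨d, hd, i, rfl⟩ := h10 z hz
    rw [Commute.mul_pow ((h1 hd).2 _ (S.zpow_mem h3.1 i)).symm, c h5, mul_one]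
    exact pow_mem hd p

theorem Sat.exists_two_ess (hF : Sat p F) (h0 : S ≠ ⊥) (hO : F.core = ⊥) :
    ∃ E E', F.IsEssential p E ∧ F.IsEssential p E' ∧ E ≠ E' := by
  by_contra! c
  by_cases h : ∀ E, ¬ F.IsEssential p E
  · exact h0 (le_bot_iff.1 ((le_core (hF.normal_top_of_no_essential h)).trans hO.le))
  push Not at h
  obtain ⟨E, hE⟩ := h
  refine cIn_self_ne_bot hF.pg h0 (le_bot_iff.1 ((Z_le_ess hE).trans ((le_core (hF.normal_of_essential fun P hP => ?_)).trans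
    hO.le)))
  rcases hP with rfl | hP
  · exact ⟨hE.1.1, fun σ hσ => mem_stab.2 ⟨(autF_homOn hσ).mono hE.1.1, c _ _ (essential_im hσ hE) hE⟩⟩
  · exact c _ _ hE hP ▸ ⟨le_rfl, autF_le_stab _ _⟩

theorem Sat.no_three {F : FusionSystem S} (hF : Sat 2 F) (hZ : Nat.card S ≤ 2 ^ 2 * Nat.card (centralizerIn S S))
    (hE : F.IsEssential 2 E) (hE' : F.IsEssential 2 E') (h : E ≠ E') (hC : F.IsEssential 2 C) : C = E ∨ C = E' := by
  by_contra! c
  obtain ⟨-, w, -, -, -, a1, a2, a3, -⟩ := Sat.ess_dat hF hZ hE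
  obtain ⟨-, u, -, -, -, b1, b2, b3, -⟩ := Sat.ess_dat hF hZ hE'
  obtain ⟨D, -, -, -, c1, -, -, -, -, c2, -⟩ := Sat.ess_dat hF hZ hC
  obtain ⟨d1, -, d2⟩ := Sat.ess_sq hF hZ hC
  have e := c2 _ (mul_mem_of_two hC.1.1 d1.card.le (hE.1.1 a1) (hE'.1.1 b1) (fun e => c.1 (Sat.ess_eq hF hZ hC hE e a1 a2))
    fun e => c.2 (Sat.ess_eq hF hZ hC hE' e b1 b2))
  rw [show (w * u) ^ 2 = ⁅w, u⁆ by
    rw [commutatorElement_def, inv_eq_of_mul_eq_one_right (pow_two w ▸ a3), inv_eq_of_mul_eq_one_right (pow_two u ▸ b3),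
      pow_two, ← mul_assoc]] at e
  haveI := finite_of_le (d1.D_le.trans d1.le)
  refine c1 ((eq_of_card_le (hF.pg.to_le (d1.D_le.trans d1.le)) (A := ⊥) (bot_lt_iff_ne_bot.2 fun f => ?_)
    (zpowers_le.2 (commutator_mem_commutator (hE.1.1 a1) (hE'.1.1 b1))) (by simp [d2])).ge.trans (zpowers_le.2 e))
  refine a2 (((Sat.ess_sq hF hZ hE).1.mem_Z (hE'.1.1 b1) (fun g => h (Sat.ess_eq hF hZ hE hE' g b1 b2)) a1).1
    (zpowers_eq_bot.1 f))

theorem Sat.stab_ess {F : FusionSystem S} (hF : Sat 2 F) (hZ : Nat.card S ≤ 2 ^ 2 * Nat.card (centralizerIn S S))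
    (hE : F.IsEssential 2 E) (hE' : F.IsEssential 2 E') (h : E ≠ E') : AutF F S ≤ AutF F E := fun σ hσ => by
  refine ((autF_mor le_rfl hσ).mono hE.1.1).mem_autF_of_stab (hF.rsyl_top.le_of_ppr (nfin_autF F S) ((autS_le_iff
    ((fix_anti hE.1.1).trans fix_le_stab)).2 fun g hg _ => cj_mem_stab.2 ((Sat.ess_sq hF hZ hE).1.nrm hg))
    (fun τ hτ ⟨n, h1, h2⟩ => ?_) hσ)
  have a := autF_homOn hτ
  rcases Sat.no_three hF hZ hE hE' h (essential_im hτ hE) with e | e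
  · exact mem_stab.2 ⟨a.mono hE.1.1, e⟩
  refine mem_of_pow_mem_coprime (fix_le_stab (fix_anti hE.1.1 h2)) ?_ h1
  rcases Sat.no_three hF hZ hE hE' h (essential_im hτ hE') with e' | e'
  · exact mem_stab.2 ⟨(autF_homOn (pow_mem hτ 2)).mono hE.1.1, by rw [pow_two, (a.mono hE.1.1).im_mul, e, e']⟩
  · exact absurd (le_antisymm ((a.mono hE'.1.1).im_le_im_iff.1 (e.trans e'.symm).le)
      ((a.mono hE.1.1).im_le_im_iff.1 (e.trans e'.symm).ge)) h

theorem Sat.Z_le_two {F : FusionSystem S} (hF : Sat 2 F) (hZ : Nat.card S ≤ 2 ^ 2 * Nat.card (centralizerIn S S))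
    (h0 : S ≠ ⊥) (hO : F.core = ⊥) (hh : F.hyperfocalSubgroup 2 = S) : Nat.card S ≤ 2 ^ 3 := by
  obtain ⟨E, E', hE, hE', h⟩ := Sat.exists_two_ess hF h0 hO
  obtain ⟨D, w, a1, a2, -, a3, -, a4, a5, -, a6⟩ := Sat.ess_dat hF hZ hE
  obtain ⟨D', u, b1, b2, -, b3, -, b4, b5, -, b6⟩ := Sat.ess_dat hF hZ hE'
  have c1 := Sat.stab_ess hF hZ hE hE' h
  have c2 := Sat.stab_ess hF hZ hE' hE h.symm
  obtain ⟨d1, -, d2⟩ := Sat.ess_sq hF hZ hE
  obtain ⟨d3, -, -⟩ := Sat.ess_sq hF hZ hE'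
  haveI := finite_of_le (cIn_le : centralizerIn S S ≤ S)
  haveI := finite_of_le (inf_le_left.trans a1 : D ⊓ D' ≤ _)
  have e1 : AutF F S ≤ Stab (D ⊓ D') := fun σ hσ => mem_stab_of_mem ((autF_homOn hσ).mono
    ((inf_le_left.trans a1).trans cIn_le)) fun z hz => ⟨stab_mem (a2 (c1 hσ)) hz.1, stab_mem (b2 (c2 hσ)) hz.2⟩
  have e2 : ∀ {P C : Subgroup Ω}, F.IsEssential 2 P → C ≤ centralizerIn S S → D ⊓ D' ≤ C → AutF F P ≤ Stab C →
      D ⊓ D' ≤ P ∧ AutF F P ≤ Stab (D ⊓ D') := fun {P C} h1 h2 h3 h4 => ⟨(h3.trans h2).trans (Z_le_ess h1), fun σ hσ => by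
    have a : S ≤ centralizer (C : Set Ω) := le_centralizer_iff.1 (h2.trans cIn_le_cent)
    have b := (autF_mor h1.1.1 hσ).mono (h2.trans (Z_le_ess h1))
    obtain ⟨τ, h5, h6⟩ := Sat.extend_central hF b a (by rwa [stab_im (h4 hσ)])
    exact mem_stab_of_mem (b.homOn.mono h3) fun z hz => h6 z (h3 hz) ▸ stab_mem (e1 h5) hz⟩
  have e3 : D ⊓ D' ≤ ⊥ := (le_core (hF.normal_of_essential fun P hP => by
    rcases hP with rfl | hP
    · exact ⟨(inf_le_left.trans a1).trans cIn_le, e1⟩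
    rcases Sat.no_three hF hZ hE hE' h hP with rfl | rfl
    exacts [e2 hP a1 inf_le_left a2, e2 hP b1 inf_le_right b2])).trans hO.le
  have e4 : AutS S S = AutF F S := hF.rsyl_top.eq_top_of_pmod (nfin_autF F S) (pmod_of_ppr (nfin_autF F S) fun σ hσ h1 => by
    have a := autF_le_stab _ _ hσ
    have b := stab_le_stab_cIn a
    refine fix_of_fixMod hF.pg ⟨a, fun z hz => ?_⟩ cIn_le (mem_fix.2 fun z hz => (inv_mul_eq_one.1 (mem_bot.1 (e3
      ⟨(fixMod_of_two a1 a5 b (a2 (c1 hσ))).2 z hz, (fixMod_of_two b1 b5 b (b2 (c2 hσ))).2 z hz⟩))).symm) h1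
    by_contra c
    exact h (Sat.ess_eq hF hZ hE hE' ((fixMod_of_two d1.le d1.card.le a (autF_le_stab _ _ (c1 hσ))).2 z hz)
      ((fixMod_of_two d3.le d3.card.le a (autF_le_stab _ _ (c2 hσ))).2 z hz) c))
  have e5 : ∀ σ ∈ AutF F S, ∀ z ∈ S, z⁻¹ * σ z ∈ ⁅S, S⁆ := fun σ hσ z hz => by
    obtain ⟨g, hg, -, e⟩ := mem_autS.1 (e4.ge hσ)
    simpa [e z hz, commutatorElement_def, mul_assoc] using commutator_mem_commutator (S.inv_mem hz) hg
  let T := ⁅S, S⁆ ⊔ zpowers w ⊔ zpowers u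
  have e6 : ∀ {P : Subgroup Ω}, F.IsEssential 2 P → Ores' 2 (Fix P) (AutF F P) ≤ FixMod P T → AutF F P ≤ FixMod P T :=
    fun {P} h1 h2 σ hσ => by
      haveI := finite_of_le h1.1.1
      obtain ⟨m, h3, h4⟩ := (hF.rsyl_of_fn h1.2.1).exists_Ores'_mul (nfin_autF F P) hσ
      have a := mul_mem (Ores'_le (fix_le_autF _ _) h3) hσ
      obtain ⟨τ, h5, h6⟩ := hF.extend_to sc_top (hF.fc_of_fn h1.2.1) h1.1.1 cIn_le
        (le_inf le_rfl (Sat.ess_sq hF hZ h1).1.nrm) a h4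
      exact (mul_mem_cancel_left (h2 h3)).1 ⟨autF_le_stab _ _ a, fun z hz =>
        h6 z hz ▸ mem_sup_left (mem_sup_left (e5 τ h5 z (h1.1.1 hz)))⟩
  have e7 : S ≤ T := hh.ge.trans (hyper_le_focal.trans (focal_le_iff.2 (hF.induction_elt (fun x y => x⁻¹ * y ∈ T)
    (fun x y z a b => by simpa [mul_assoc] using mul_mem a b) fun P hP σ hσ => by
      rcases hP with rfl | hP
      · exact fun z hz => mem_sup_left (mem_sup_left (e5 σ hσ z hz))
      rcases Sat.no_three hF hZ hE hE' h hP with rfl | rfl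
      · exact (e6 hP (a6.trans (fixMod_mono le_sup_left)) hσ).2
      · exact (e6 hP (b6.trans (fixMod_mono (sup_le_sup_right le_sup_left _))) hσ).2)))
  have f : ∀ {K : Subgroup Ω} {z : Ω}, ⁅S, S⁆ ≤ K → K ≤ S → z ∈ S → z ^ 2 = 1 →
      Nat.card (K ⊔ zpowers z : Subgroup Ω) ≤ 2 * Nat.card K := fun {K z} h1 h2 h3 h4 => by
    by_cases e : z ∈ K
    · rw [sup_eq_left.2 (zpowers_le.2 e)]; omega
    · exact (card_sup_zpowers (le_normalizer_iff_commutator_le_left.2 ((commutator_mono h2 le_rfl).trans h1) h3) e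
        (h4 ▸ one_mem _)).le
  have g := d1.D_le.trans d1.le
  have f1 := f le_rfl g (hE.1.1 a3) a4
  have g' := sup_le g (zpowers_le.2 (hE.1.1 a3))
  have f2 := f le_sup_left g' (hE'.1.1 b3) b4
  rw [le_antisymm (sup_le g' (zpowers_le.2 (hE'.1.1 b3))) e7] at f2
  omega

end Cfsg.Agent.H23.LF
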