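import Cfsg.Agent.L0.Torus
import Cfsg.Agent.L0.FEss2
import Cfsg.Agent.S0639
import Cfsg.Agent.H23.Iso

/-!
# Saturated fusion systems on `p`-groups of rank two, `p ≥ 5`
-/

set_option autoImplicit false

namespace Cfsg.Agent.L0

open Subgroup Cfsg.Agent.H24
open scoped commutatorElement IsMulCommutative

variable {G : Type*} [Group G] {p : ℕ} {A B X Z L : Subgroup G} {a e g u v w x y z : G} [hp : Fact p.Prime] [Finite G]

theorem RL.abC (h : RL p X Z L) : 𝐂[X] ≤ 𝐂[𝐂[X]] :=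
  haveI := h.cycC
  isMulCommutative_iff_le_centralizer.1 inferInstance

theorem RL.mem_CXC (h : RL p X Z L) (hu : u ∈ 𝐂[X]) : u ∈ 𝐂[X ⊔ 𝐂[X]] :=
  le_centralizer_sup le_rfl h.abC hu

theorem RL.cm_top (h : RL p X Z L) (h0 : X ⊔ 𝐂[X] = ⊤) (a b : G) : ⁅a, b⁆ ∈ Z := by
  obtain ⟨u, hu, c, hc, rfl⟩ := (mem_sup_of_le_normalizer_left (centralizer_le_normalizer' X)).1 (h0.ge (mem_top a))
  rw [cm_mul_left, cm_eq_one.2 (h.mem_CXC hc b (h0.ge (mem_top b)))]
  simpa using h.cm_XC hu (h0.ge (mem_top b))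

theorem RL.map_Z (h : RL p X Z L) {f : G → G} (hf : H23.HomOn X f) (h1 : ∀ x ∈ X, f x ∈ X) (hu : u ∈ Z) : f u ∈ Z := by
  obtain ⟨x, hx, hx'⟩ := h.exists_x
  obtain ⟨y, hy, hy'⟩ := h.exists_y
  obtain ⟨k, rfl⟩ := exists_zpow_of_card h.cZ (h.h2 y hy x) (h.ne hx hx' hy hy') hu
  rw [hf.map_zpow (h.LX (h.ZL (h.h2 y hy x))), commutatorElement_def, hf.map_comm (h.LX hy) hx]
  exact zpow_mem (h.XX (h1 y (h.LX hy)) (h1 x hx)) k

namespace R2

theorem zCL (h : R2 p X Z L z) : z ∈ 𝐂[L] := h.CL.ge (mem_sup_right (mem_zpowers z))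

theorem abA (h : R2 p X Z L z) : 𝐂[L] ≤ 𝐂[𝐂[L]] := by
  rw [← isMulCommutative_iff_le_centralizer, h.CL]
  exact H3.isMulCommutative_sup_zpowers (isMulCommutative_iff_le_centralizer.2 h.abL) h.zCL

theorem cm (h : R2 p X Z L z) (a b : G) : ⁅a, b⁆ ∈ L := by
  obtain ⟨x, hx, hx'⟩ := h.exists_x
  haveI := h.nL
  obtain ⟨i, hi⟩ := h.exists_CL hx hx' a
  obtain ⟨j, hj⟩ := h.exists_CL hx hx' b
  obtain ⟨a, rfl⟩ : ∃ c, a = c * (x ^ i)⁻¹ := ⟨a * x ^ i, by simp⟩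
  obtain ⟨b, rfl⟩ : ∃ c, b = c * (x ^ j)⁻¹ := ⟨b * x ^ j, by simp⟩
  rw [inv_mul_cancel_right] at hi hj
  rw [cm_mul_right, cm_mul_left, cm_eq_one'.2 (h.abA hj a hi), mul_one]
  exact mul_mem (Normal.conj_mem ‹_› _ (h.h1 _ (inv_mem (zpow_mem hx i)) b) a)
    (Normal.conj_mem ‹_› _ (cm_inv_mem (h.h1 _ (inv_mem (zpow_mem hx j)) _)) b)

/-- No automorphism squares `X / L` when `p ≥ 5`. -/
theorem beta (h : R2 p X Z L z) (h5 : 5 ≤ p) (hX : ∀ x : G, x ^ p = 1 → x ∈ X) (φ : G →* G)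
    (hφ : Function.Injective φ) (hx : x ∈ X) (hx' : x ∉ L) (e : φ x * (x ^ 2)⁻¹ ∈ L) : False := by
  haveI := h.nL
  haveI := h.nZ
  have m1 : ∀ u ∈ X, φ u ∈ X := fun u hu => hX _ (by rw [← map_pow, h.pow u hu, map_one])
  have m2 : ∀ u ∈ Z, φ u ∈ Z := fun u hu => h.map_Z (H23.homOn_monoidHom X φ) m1 hu
  have y1 := h.h1 x hx z
  have y2 := h.out x hx hx'
  have m3 : L.map φ = L := eq_of_le_of_card_le (by
    rintro _ ⟨u, hu, rfl⟩
    obtain ⟨c, hc, k, rfl⟩ := h.memL y1 y2 hu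
    rw [map_mul, map_zpow, map_commutatorElement]
    exact mul_mem (h.ZL (m2 c hc)) (zpow_mem (h.cm _ _) k)) (card_map_of_injective hφ).ge
  have m4 : φ z ∈ L ⊔ zpowers z := by
    rw [← h.CL, ← m3]
    exact map_le_centralizer_map φ (zpowers_le.2 h.zCL) (mem_map_of_mem φ (mem_zpowers z))
  obtain ⟨l, hl, μ, e1⟩ := (mem_sup_zpowers' (top_le_normalizer L (mem_top z))).1 m4
  obtain ⟨l', hl', e2⟩ : ∃ l ∈ L, φ x = l * x ^ 2 := ⟨_, e, by simp⟩
  have w1 := h.h2 _ y1 x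
  have w2 := h.ne hx hx' y1 y2
  obtain ⟨k, hk⟩ := h.CX.le (h.Z_le X w1)
  have f1 : φ ⁅⁅x, z⁆, x⁆ = ⁅⁅x, z⁆, x⁆ ^ μ := by
    have c : Commute l (z ^ μ) := Commute.zpow_right (h.zCL l hl) μ
    rw [← hk, map_zpow, map_pow, e1, c.mul_pow, h.pow l (h.LX hl), one_mul, ← zpow_natCast, ← zpow_natCast,
      ← zpow_mul, ← zpow_mul, ← zpow_mul, ← zpow_mul]
    congr 1; ring
  have f2 : ∃ c ∈ Z, φ ⁅x, z⁆ = c * ⁅x, z⁆ ^ (2 * μ) := by
    have u1 : l' * x ^ 2 ∈ X := mul_mem (h.LX hl') (pow_mem hx 2)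
    have g1 : ⁅l' * x ^ 2, z⁆ = ⁅x, ⁅x, z⁆⁆ * ⁅x, z⁆ ^ (2 : ℤ) := by
      rw [cm_mul_left, cm_eq_one'.2 (h.zCL l' hl'), mul_one, ← h.abL hl' _ (h.cm _ _), mul_inv_cancel_right, sq,
        cm_mul_left]
      simp only [commutatorElement_def, zpow_two]; group
    rw [map_commutatorElement, e1, e2, h.cm_mul u1 (h.abL hl), h.cm_zpow u1 h.zCL, g1,
      (h.cmZ (cm_inv_mem w1) _).symm.mul_zpow, ← zpow_mul, ← mul_assoc]
    exact ⟨_, mul_mem (cm_inv_mem (h.h2 l hl _)) (zpow_mem (cm_inv_mem w1) μ), rfl⟩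
  obtain ⟨c, hc, f2⟩ := f2
  have f3 : φ ⁅⁅x, z⁆, x⁆ = ⁅⁅x, z⁆, x⁆ ^ (4 * μ) := by
    have u1 := mul_mem (h.ZL hc) (zpow_mem y1 (2 * μ))
    rw [map_commutatorElement, f2, e2, cm_mul_right, cm_eq_one'.2 (h.abL hl' _ u1), one_mul,
      (h.cmZ (h.h2 _ u1 _) l').eq, mul_inv_cancel_right, cm_pow_right (h.cmZ (h.h2 _ u1 _) x), cm_mul_left,
      cm_eq_one.2 (h.cmZ hc x), mul_one, ← (h.cmZ hc _).eq, mul_inv_cancel_right, cm_zpow_left (h.cmZ w1 _),
      ← zpow_natCast, ← zpow_mul]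
    congr 1; push_cast; ring
  have o : orderOf ⁅⁅x, z⁆, x⁆ = p := orderOf_eq_prime (h.pow _ (h.LX (h.ZL w1))) w2
  have d : (p : ℤ) ∣ 3 * μ := by
    rw [← o, orderOf_dvd_iff_zpow_eq_one, show 3 * μ = 4 * μ - μ by ring, zpow_sub, ← f1, ← f3, mul_inv_cancel]
  rcases (Nat.prime_iff_prime_int.1 hp.out).dvd_or_dvd d with d | d
  · have := Int.le_of_dvd (by norm_num) d; omega
  · rw [← o, orderOf_dvd_iff_zpow_eq_one, ← f1, ← map_one φ] at d
    exact w2 (hφ d)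

end R2

end Cfsg.Agent.L0

namespace Cfsg.Agent.H23.LF

open Cfsg Cfsg.FusionSystem Subgroup Cfsg.Agent.L0
open Equiv (Perm)
open scoped commutatorElement IsMulCommutative

variable {G : Type*} [Group G] {E X Z L : Subgroup G} {p : ℕ} {F : FusionSystem (⊤ : Subgroup G)} [Finite G]
  [hp : Fact p.Prime] {σ : Perm G} {x z : G}

theorem beta' (h : R2 p X Z L z) (h5 : 5 ≤ p) (hX : ∀ x : G, x ^ p = 1 → x ∈ X) (hσ : σ ∈ Stab ⊤) (hx : x ∈ X)
    (hx' : x ∉ L) (e : σ x * (x ^ 2)⁻¹ ∈ L) : False :=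
  h.beta h5 hX (MonoidHom.mk' σ fun _ _ => (stab_homOn hσ).map_mul trivial trivial) σ.injective hx hx' e

omit hp in
theorem stab_omega (hX : ∀ x : G, x ∈ X ↔ x ^ p = 1) : Stab E ≤ Stab (E ⊓ X) := fun σ hσ =>
  mem_stab_of_mem ((stab_homOn hσ).mono inf_le_left) fun x hx => ⟨stab_mem hσ hx.1, (hX _).2 (by
    rw [← (stab_homOn hσ).map_pow hx.1, (hX x).1 hx.2, (stab_homOn hσ).map_one])⟩

omit hp in
theorem cent_le_ess (hE : F.IsEssential p E) : centralizer (E : Set G) ≤ E := fun _ hx =>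
  centric_cIn_le hE.1 (mem_cIn.2 ⟨trivial, hx⟩)

omit hp [Finite G] in
theorem le_nIn_top {A : Subgroup G} (h : A ≤ normalizer (E : Set G)) : A ≤ normalizerIn ⊤ E := fun _ hx =>
  mem_nIn.2 ⟨trivial, h hx⟩

theorem Sat.rk2_step1 (hF : Sat p F) (h : RL p X Z L) (h5 : 5 ≤ p) (hX : ∀ x : G, x ^ p = 1 → x ∈ X)
    (hE : F.IsEssential p E) (hXE : X ≤ E) : False := by
  have hX' : ∀ x : G, x ∈ X ↔ x ^ p = 1 := fun x => ⟨h.pow x, hX x⟩
  haveI := h.nX
  have c1 : E ≤ X ⊔ centralizer (X : Set G) → E = X ⊔ centralizer (X : Set G) := fun e =>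
    le_antisymm e (sup_le hXE fun c hc => cent_le_ess hE (H24.centralizer_anti e (h.mem_CXC hc)))
  by_cases h0 : X ⊔ centralizer (X : Set G) = ⊤
  · exact (hF.essential_lt hE).ne ((c1 (h0.ge.trans' le_top)).trans h0)
  obtain ⟨z, h⟩ := h.exists_R2 h0
  have sX : AutF F E ≤ Stab X := (autF_le_stab F E).trans ((inf_eq_right.2 hXE) ▸ stab_omega hX')
  have sZ : AutF F E ≤ Stab Z := fun σ hσ => mem_stab_of_mem ((stab_homOn (sX hσ)).mono (h.ZL.trans h.LX))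
    fun u hu => h.map_Z (stab_homOn (sX hσ)) (fun x hx => stab_mem (sX hσ) hx) hu
  obtain ⟨x, hx, hx'⟩ := h.exists_x
  obtain ⟨y, hy, hy'⟩ := h.exists_y
  have sL : ¬ AutF F E ≤ Stab L := fun s => (Sat.ess_lt hF hE).not_ge (Sat.ess_chain2 hF hE le_rfl (h.LX.trans hXE) s
    (commutator_le.2 fun a _ b _ => h.cm a b) (commutator_le.2 fun a ha b _ => by
      have := eq_zpowers_of_card h.cZ (h.h2 y hy x) (h.ne hx hx' hy hy')
      exact (zpowers_le.2 (H24.commutator_le_frattiniOf (h.pg.to_subgroup E)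
        (commutator_mem_commutator (hXE (h.LX hy)) (hXE hx)))) (this.le (h.h2 a ha b))))
  have e1 : E = X ⊔ centralizer (X : Set G) := c1 fun e he => by
    by_contra hh
    have : L = Z ⊔ ⁅X, E⁆ := le_antisymm ((h.L_eq (h.h1 x hx e) fun e' => hh (h.mem_XC hx hx' e')).le.trans
      (sup_le_sup_left (zpowers_le.2 (commutator_mem_commutator hx he)) _))
      (sup_le h.ZL (commutator_le.2 fun a _ b _ => h.cm a b))
    refine sL fun σ hσ => this ▸ stab_sup ((autF_homOn hσ).mono (this ▸ h.LX.trans hXE)) (sZ hσ)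
      (stab_commutator (sX hσ) (autF_le_stab F E hσ) (autF_homOn hσ) hXE le_rfl)
  have e2 : normalizerIn ⊤ E = ⊤ := eq_top_iff.2 (le_nIn_top (e1 ▸ H24.top_le_normalizer _))
  haveI := h.nL
  obtain ⟨σ, s1, w, hw, hw', e⟩ := Sat.ess_torus hF h.odd hE hXE h.ZL h.LX sX sZ
    (commutator_le.2 fun a ha b hb => h.XX ha hb) (by rw [h.cX, h.cZ, ← pow_succ])
    (fun x hx => by rw [h.pow x hx]; exact Z.one_mem) (by rw [h.cL, h.cZ, sq])
    (le_top.trans (H24.top_le_normalizer L))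
    (fun e => h.out x hx hx' (e (commutator_mem_commutator hx (e2.ge (mem_top z))))) sL
  exact beta' h h5 hX (e2 ▸ autF_le_stab F _ s1) hw hw' e

theorem Sat.rk2_no_ess (hF : Sat p F) (h : RL p X Z L) (h5 : 5 ≤ p) (hX : ∀ x : G, x ^ p = 1 → x ∈ X) (hne : X ≠ ⊤)
    (hE : F.IsEssential p E) : False := by
  have hX' : ∀ x : G, x ∈ X ↔ x ^ p = 1 := fun x => ⟨h.pow x, hX x⟩
  haveI := h.nX
  haveI := h.nZ
  have hXE : ¬ X ≤ E := Sat.rk2_step1 hF h h5 hX hE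
  have pg := h.pg.to_subgroup
  have p1 := hp.out.one_lt
  have ZE : Z ≤ E := (h.Z_le E).trans (cent_le_ess hE)
  have ZV : Z ≤ E ⊓ X := le_inf ZE (h.ZL.trans h.LX)
  have sV : AutF F E ≤ Stab (E ⊓ X) := (autF_le_stab F E).trans (stab_omega hX')
  have v1 : Z < E ⊓ X := lt_of_le_of_ne ZV fun e => by
    haveI := h.cyc (A := E) fun u hu h1 => e.ge ⟨hu, hX u h1⟩
    obtain ⟨g, hg⟩ := IsCyclic.exists_generator (α := E)
    refine (Sat.ess_nc hF hE).one ?_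
    by_cases h1 : g ∈ frattini E
    · rw [show frattini E = ⊤ from eq_top_iff.2 fun a _ => zpowers_le.2 h1 (hg a), card_top]
      exact Nat.le_mul_of_pos_left _ hp.out.pos
    · rw [← H3.card_sup_zpowers (H24.top_le_normalizer _ (mem_top g)) h1 (H3.pow_mem_frattini (pg E) g),
        show frattini E ⊔ zpowers g = ⊤ from eq_top_iff.2 fun a _ => mem_sup_right (hg a), card_top]
  have v2 : E ⊓ X < X := lt_of_le_of_ne inf_le_right fun e => hXE (e.ge.trans inf_le_left)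
  have cV : Nat.card (E ⊓ X : Subgroup G) = p ^ 2 := by
    have a1 := L0.mul_card_le h.pg v1
    have a2 := L0.mul_card_le h.pg v2
    rw [h.cZ] at a1
    rw [h.cX, pow_succ'] at a2
    exact le_antisymm (Nat.le_of_mul_le_mul_left a2 hp.out.pos) (sq p ▸ a1)
  have XN : X ≤ normalizerIn ⊤ E := by
    obtain ⟨x, hx, hx'⟩ := SetLike.not_le_iff_exists.1 fun e =>
      hXE (le_of_nIn_le (pg ⊤) le_top le_top (le_top.trans (H24.top_le_normalizer X)) e)
    rw [eq_sup_zpowers_of_card (pg X) v2.le (by rw [cV, h.cX, ← pow_succ']) (mem_nIn.1 hx).1 fun e => hx' e.1]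
    exact le_nIn_top (sup_le (inf_le_left.trans le_normalizer) (zpowers_le.2 (mem_nIn.1 hx).2))
  have sZ : ¬ AutF F E ≤ Stab Z := fun s => hXE (Sat.ess_chain3 hF hE XN inf_le_left ZE sV s
    (le_inf (cm_le_of_nIn XN) (H24.commutator_le_right_of_le_normalizer (le_top.trans (H24.top_le_normalizer X))))
    (commutator_le.2 fun a ha b hb => h.XX ha.2 hb)
    ((H24.le_centralizer_iff_commutator.1 (h.Z_le X)).le.trans bot_le))
  have tr : ∀ T ≤ Z, AutF F E ≤ Stab T → T = ⊥ := fun T hT s => by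
    by_contra h0
    obtain ⟨⟨t, ht⟩, h1⟩ := ne_bot_iff_exists_ne_one.1 h0
    exact sZ (le_antisymm hT ((eq_zpowers_of_card h.cZ (hT ht) fun e => h1 (Subtype.ext e)).le.trans
      (zpowers_le.2 ht)) ▸ s)
  have EV : E ≤ centralizer ((E ⊓ X : Subgroup G) : Set G) := H24.le_centralizer_iff_commutator'.2 (tr _
    (cm_le_of_card (pg _) (pg E) (H24.le_normalizer_inf le_normalizer (le_top.trans (H24.top_le_normalizer X)))
      (le_top.trans (H24.top_le_normalizer Z)) ZV (by rw [cV, h.cZ, sq]))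
    fun σ hσ => stab_commutator (sV hσ) (autF_le_stab F E hσ) (autF_homOn hσ) inf_le_left le_rfl)
  have VL : E ⊓ X ≠ L → ∀ u ∈ E ⊓ X, u ∈ L → u ∈ Z := fun e u hu hu' => by
    by_contra h0
    exact e (H24.eq_of_le_of_card_le ((h.L_eq hu' h0).le.trans (sup_le ZV (zpowers_le.2 hu))) (by rw [cV, h.cL])).symm
  have ab' : ⁅E, E⁆ ≤ Z → E ≤ centralizer (E : Set G) := fun e => H24.le_centralizer_iff_commutator.2 (tr _ e
    fun σ hσ => stab_commutator (autF_le_stab F E hσ) (autF_le_stab F E hσ) (autF_homOn hσ) le_rfl le_rfl)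
  have ab : E ≤ centralizer (E : Set G) := by
    by_cases h0 : X ⊔ centralizer (X : Set G) = ⊤
    · exact ab' (commutator_le.2 fun a _ b _ => h.cm_top h0 a b)
    obtain ⟨z, h⟩ := h.exists_R2 h0
    by_cases e : E ⊓ X = L
    · rw [e] at EV
      exact EV.trans (h.abA.trans (H24.centralizer_anti EV))
    · exact ab' (commutator_le.2 fun a ha b hb => VL e _
        ⟨H24.commutator_le_of_le le_rfl le_rfl (commutator_mem_commutator ha hb), h.LX (h.cm a b)⟩ (h.cm a b))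
  have hom : HomOn E fun x => x ^ p := fun a ha b hb => Commute.mul_pow (ab hb a ha) p
  obtain ⟨k, k1, k2, k3, -⟩ := Sat.ess_homocyclic hF hE (le_cent_iff.1 ab) (by
    rw [card_ker_im hom (K := X) fun b _ => (hX' b).symm, cV, ← H24.card_map_subtype, H24.map_frattini_subtype]
    exact Nat.mul_le_mul_left _ (card_le_of_le (im_le_iff.2 fun x hx => H24.pow_mem_frattiniOf (pg E) hx)))
  obtain rfl : k = 1 := k2.resolve_right (by omega)
  have eV : E ⊓ X = E := H24.eq_of_le_of_card_le inf_le_left (by rw [cV, k3])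
  rw [eV] at VL cV v1
  have EX : E ≤ X := inf_eq_left.1 eV
  have CE : centralizer (X : Set G) ≤ X := (H24.centralizer_anti EX).trans ((cent_le_ess hE).trans EX)
  obtain ⟨z, h⟩ := h.exists_R2 (by rwa [sup_eq_left.2 CE])
  obtain ⟨x, hx, hx'⟩ := h.exists_x
  replace VL := VL fun e => h.out x hx hx' (h.XX hx (EX (cent_le_ess hE (e ▸ h.zCL))))
  have cG : Nat.card (⊤ : Subgroup G) ≤ p * Nat.card X := by
    have : orderOf z ∣ p ^ 2 := orderOf_dvd_of_pow_eq_one (by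
      rw [sq, pow_mul]; exact h.pow _ (CE (h.CX.ge (mem_zpowers _))))
    rw [card_top, h.card, h.cX, ← pow_succ', show 3 + 1 = 2 + 2 from rfl, pow_add]
    exact Nat.mul_le_mul_left _ (Nat.le_of_dvd (pow_pos hp.out.pos 2) this)
  obtain ⟨v, hv, hv'⟩ := SetLike.exists_of_lt v1
  have eN : normalizerIn ⊤ E = X := by
    by_contra h0
    have := eq_of_card_le (pg ⊤) (lt_of_le_of_ne XN (Ne.symm h0)) le_top cG
    exact h.out v (EX hv) (fun e => hv' (VL v hv e)) (VL _ (cm_le_of_nIn le_rfl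
      (commutator_mem_commutator hv (this.ge (mem_top z)))) (h.cm v z))
  obtain ⟨σ, s1, w, hw, hw', e⟩ := Sat.ess_torus (Z := ⊥) hF h.odd hE le_rfl bot_le ZE (autF_le_stab F E)
    (fun σ hσ => fix_le_stab (mem_fix.2 fun x hx => by rw [mem_bot.1 hx, (autF_homOn hσ).map_one]))
    (H24.le_centralizer_iff_commutator.1 ab).le (by simp [cV]) (fun x hx => h.pow x (EX hx)) (by simp [h.cZ])
    (le_top.trans (H24.top_le_normalizer Z))
    (fun e => (Sat.ess_lt hF hE).not_ge ((H24.le_centralizer_iff_commutator'.2 (le_bot_iff.1 e)).trans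
      (cent_le_ess hE))) sZ
  rw [eN] at s1
  have lt : X < ⊤ := lt_top_iff_ne_top.2 hne
  have h1 := ((hF.hExt_dichotomy lt (fn_of_le_normalizer le_top (H24.top_le_normalizer X))).resolve_right
    fun e => Sat.rk2_step1 hF h.toRL h5 hX e.1 le_rfl).2
  have h2 : HExt F X ≤ (Stab ⊤ ⊓ Stab X) ⊔ Fix X := (hExt_le_iff le_sup_right).2 fun Q τ q1 q2 q3 => by
    obtain rfl := eq_of_card_le (pg ⊤) q1 le_top cG
    exact mem_sup_left ⟨autF_le_stab F _ q2.mem_autF_top, q3⟩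
  obtain ⟨τ, t1, φ, t2, rfl⟩ := (H24.mem_sup_of_le_normalizer_right (inf_le_right.trans stab_le_normalizer_fix)).1
    (h2 (h1.ge s1))
  rw [Perm.mul_apply, mem_fix.1 t2 w (EX hw)] at e
  exact beta' h h5 hX t1.1 (EX hw) (fun e => hw' (VL w hw e)) (h.ZL e)

/-- Transport of a fusion system on `S ≤ Ω` to one on the whole of `↥S`. -/
theorem exists_fac_top {Ω : Type*} [Group Ω] {S : Subgroup Ω} [Finite S] (F : FusionSystem S) :
    ∃ F' : FusionSystem (⊤ : Subgroup S), Fac F F' (H23.ext (MonoidHom.id S)) ⊥ :=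
  exists_fac F (homOn_ext _) sc_bot (fun x hx => by rw [ext_of_mem _ hx]; simp)
    (by rw [← range_eq_im (φ := MonoidHom.id S) fun x => (ext_coe _ x).symm]; exact MonoidHom.range_eq_top.2 Function.surjective_id)

theorem Sat.rk2_normal (hF : Sat p F) (h5 : 5 ≤ p) (hr : PRankLE p 2 G)
    (hn : ¬ (Nat.card G = p ^ 3 ∧ ∀ x : G, x ^ p = 1)) : F.IsNormal ⊤ := by
  have hG : IsPGroup p G := hF.1.of_equiv topEquiv
  have h2 : p ≠ 2 := by omega
  by_cases hm : Nat.card (omegaOne p (⊤ : Subgroup G)) ≤ p ^ 2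
  · exact Sat.normal_meta_odd hF sc_top h2 (meta_of_equiv (S0639.result (by omega) hG hm) topEquiv.symm)
  have r : H20.pRank p (⊤ : Subgroup G) ≤ 2 := BG.pRankLE_iff.1 fun A h1 h3 => by
    rw [← H24.card_map_subtype]
    exact hr (A.map (Subgroup.subtype _)) inferInstance (by rintro _ ⟨a, ha, rfl⟩; rw [← map_pow, h3 a ha, map_one])
  have e1 := BG.exponent_Ohm1_rank2 hF.1 r (by omega)
  have e2 := BG.rank2_exponent_p_p3group (hG.to_subgroup _) ((BG.pRank_mono p le_top).trans r) e1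
  obtain ⟨k, k1, k2⟩ := (Nat.dvd_prime_pow hp.out).1 e2
  obtain rfl : k = 3 := by
    by_contra h0
    exact hm (k2 ▸ Nat.pow_le_pow_right hp.out.pos (by omega))
  have hX : ∀ x : G, x ^ p = 1 → x ∈ omegaOne p (⊤ : Subgroup G) := fun x hx => subset_closure ⟨trivial, hx⟩
  haveI : (omegaOne p (⊤ : Subgroup G)).Normal := ⟨fun x hx g => hX _ (by rw [conj_pow, e1 x hx]; simp)⟩
  obtain ⟨Z, L, h⟩ := exists_RL h2 hG hr k2 e1
  exact hF.normal_top_of_no_essential fun E => Sat.rk2_no_ess hF h h5 hX fun e =>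
    hn ⟨by rw [← k2, e, card_top], fun x => e1 x (e.ge trivial)⟩

end Cfsg.Agent.H23.LF
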