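import Cfsg.Agent.L0.FTrans
import Cfsg.Agent.H23.Alperin

/-! The Thompson transfer lemma for fusion systems. -/

namespace Cfsg.Agent.H23.LF

open Cfsg Cfsg.FusionSystem Subgroup Cfsg.Agent.H3 Finset
open Equiv (Perm)

theorem prod_units_eq_one {C X : Type*} [Group C] [Fintype X] [MulAction C X] (hC : IsPGroup 2 C) {f : X → ℤˣ}
    (h1 : ∀ (g : C) y, f (g • y) = f y) (h2 : ∀ y ∈ MulAction.fixedPoints C X, f y = -1) (h3 : 2 ∣ Nat.card X) :
    ∏ y, f y = 1 := by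
  classical
  let Y : SubMulAction C X := ⟨{y | f y = -1}, fun g y hy => (h1 g y).trans hy⟩
  have e1 := hC.card_modEq_card_fixedPoints Y
  have e2 := hC.card_modEq_card_fixedPoints X
  have e3 : Nat.card (MulAction.fixedPoints C Y) = Nat.card (MulAction.fixedPoints C X) :=
    Nat.card_congr ⟨fun y => ⟨y.1.1, fun g => congrArg Subtype.val (y.2 g)⟩,
      fun y => ⟨⟨y.1, h2 _ y.2⟩, fun g => Subtype.ext (y.2 g)⟩, fun _ => rfl, fun _ => rfl⟩
  have e4 : 2 ∣ Nat.card Y := (Nat.modEq_zero_iff_dvd).1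
    (e1.trans (e3 ▸ e2.symm.trans ((Nat.modEq_zero_iff_dvd).2 h3)))
  have e5 : Nat.card Y = #(univ.filter fun y => f y = -1) := by
    rw [← Fintype.card_subtype, ← Nat.card_eq_fintype_card]; rfl
  rw [← prod_filter_mul_prod_filter_not univ fun y => f y = -1, prod_congr rfl fun y hy => (mem_filter.1 hy).2,
    prod_const, prod_eq_one fun y hy => (Int.units_eq_one_or _).resolve_right (mem_filter.1 hy).2, mul_one, ← e5]
  exact (even_iff_two_dvd.2 e4).neg_one_pow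

theorem transfer_inv_eq_one {G : Type*} [Group G] [Finite G] (hG : IsPGroup 2 G) {P : Subgroup G} (hP : P ≠ ⊤)
    (ν : P →* ℤˣ) {j : G} (hj : j * j = 1) {C : Subgroup G} (hC : ∀ g ∈ C, g * j * g⁻¹ = j)
    (h : ∀ t : G, (∀ g ∈ C, t⁻¹ * g * t ∈ P) → ∃ h : t⁻¹ * j * t ∈ P, ν ⟨_, h⟩ = -1) :
    MonoidHom.transfer ν j = 1 := by
  classical
  have := Fintype.ofFinite (G ⧸ P)
  have hc := isCocycle_tc ν
  rw [transfer_eq_prod_tc, ← prod_filter_mul_prod_filter_not univ fun y : G ⧸ P => j • y = y]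
  have e : ∀ y : G ⧸ P, j • j • y = y := fun y => by rw [smul_smul, hj, one_smul]
  rw [prod_involution (s := univ.filter fun y : G ⧸ P => ¬ j • y = y) (fun y _ => j • y)
    (fun y _ => by rw [mul_comm, ← hc, hj, hc.one]) (fun y hy _ => (mem_filter.1 hy).2)
    (fun y hy => mem_filter.2 ⟨mem_univ _, fun h => (mem_filter.1 hy).2 (h.symm.trans (e y))⟩) fun y _ => e y,
    mul_one, prod_filter]
  refine prod_units_eq_one (C := C) (hG.to_subgroup C) (fun g y => ?_) (fun y hy => ?_) ?_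
  · have e1 : j • (g : G) • y = (g : G) • j • y := by
      rw [smul_smul, smul_smul, ← mul_inv_eq_iff_eq_mul.1 (hC g g.2)]
    have e2 : j • g • y = g • y ↔ j • y = y := by
      change j • (g : G) • y = (g : G) • y ↔ _
      rw [e1, smul_left_cancel_iff]
    simp only [e2]
    split_ifs with k
    · have := hc.conj k g
      rwa [hC g g.2] at this
    · rfl
  · obtain ⟨t, rfl⟩ := QuotientGroup.mk_surjective y
    obtain ⟨k1, k2⟩ := h t fun g hg => smul_coe_eq_iff.1 (hy ⟨g, hg⟩)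
    rw [if_pos (smul_coe_eq_iff.2 k1), tc_coe ν k1, k2]
  · obtain ⟨n, hn⟩ := hG.index P
    change 2 ∣ P.index
    rw [hn]
    exact dvd_pow_self 2 fun h => hP (index_eq_one.1 (by rw [hn, h, pow_zero]))

universe u

variable {Ω : Type u} [Group Ω] {S T : Subgroup Ω} [Finite S] {F : FusionSystem S}

theorem Sat.exists_inv_char (hF : Sat 2 F) (hT : T.relIndex S = 2) :
    ∃ l : Ω → ℤˣ, HomOn S l ∧ (∀ α ∈ AutF F S, ∀ x ∈ S, l (α x) = l x) ∧
      ∀ x ∈ S, (∀ α ∈ AutF F S, α x ∉ T) → l x = -1 := by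
  classical
  let l : Ω → ℤˣ := fun x => if x ∈ T then 1 else -1
  have hl : HomOn S l := fun x hx y hy => by
    have := mul_mem_iff_of_index_two (H := T.subgroupOf S) hT (a := ⟨x, hx⟩) (b := ⟨y, hy⟩)
    simp only [mem_subgroupOf, MulMemClass.mk_mul_mk] at this
    by_cases h1 : x ∈ T <;> by_cases h2 : y ∈ T <;> simp [l, this, h1, h2]
  let Δ := (AutS S S).subgroupOf (AutF F S)
  have hodd : ¬ 2 ∣ Nat.card (AutF F S ⧸ Δ) := hF.rsyl_top.ndvd
  have : Finite (AutF F S ⧸ Δ) := Nat.finite_of_card_ne_zero fun h => hodd (h ▸ dvd_zero 2)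
  have := Fintype.ofFinite (AutF F S ⧸ Δ)
  have hm : ∀ (γ : AutF F S), ∀ x ∈ S, (γ : Perm Ω) x ∈ S := fun γ x hx => (autF_mor le_rfl γ.2).mem hx
  have key : ∀ (γ : AutF F S), ∀ x ∈ S, l (((γ : AutF F S ⧸ Δ).out⁻¹ : AutF F S).1 x) = l ((γ⁻¹ : AutF F S).1 x) :=
    fun γ x hx => by
      obtain ⟨δ, hδ⟩ := QuotientGroup.mk_out_eq_mul Δ γ
      obtain ⟨g, hg, -, e⟩ := mem_autS.1 (mem_subgroupOf.1 (inv_mem δ.2))
      rw [hδ, mul_inv_rev, Subgroup.coe_mul, Perm.mul_apply, e _ (hm _ _ hx),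
        hl.map_mul (mul_mem hg (hm _ _ hx)) (inv_mem hg), hl.map_mul hg (hm _ _ hx), hl.map_inv hg,
        mul_inv_cancel_comm]
  refine ⟨fun x => ∏ q : AutF F S ⧸ Δ, l ((q.out⁻¹ : AutF F S).1 x), fun x hx y hy => ?_, fun α hα x hx => ?_,
    fun x hx h => ?_⟩
  · simp only [← prod_mul_distrib]
    refine prod_congr rfl fun q _ => ?_
    rw [(autF_mor le_rfl (q.out⁻¹ : AutF F S).2).homOn.map_mul hx hy, hl.map_mul (hm _ _ hx) (hm _ _ hy)]
  · refine (Fintype.prod_equiv (MulAction.toPerm (⟨α, hα⟩ : AutF F S)) _ _ fun q => ?_).symm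
    obtain ⟨γ, rfl⟩ := QuotientGroup.mk_surjective q
    rw [MulAction.toPerm_apply, MulAction.Quotient.smul_coe, key _ _ hx, key _ _ (hm ⟨α, hα⟩ _ hx)]
    simp
  · change ∏ q : AutF F S ⧸ Δ, _ = _
    rw [prod_congr rfl fun q _ => if_neg (h _ (q.out⁻¹ : AutF F S).2), prod_const, card_univ,
      ← Nat.card_eq_fintype_card]
    exact (Nat.odd_iff.2 (by omega)).neg_one_pow

theorem Sat.thompson_transfer (hF : Sat 2 F) (hT : T.relIndex S = 2) {i : Ω} (hi : i ∈ S) (hi2 : orderOf i = 2)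
    (h : ∀ j : Ω, F.IsConjElt i j → F.IsFullyNormalized (zpowers j) → j ∉ T) : i ∉ F.focalSubgroup := by
  obtain ⟨l, l1, l2, l3⟩ := Sat.exists_inv_char hF hT
  obtain ⟨τ, t1, t2⟩ := Sat.exists_transfer (A := ℤˣ) hF
    (fun x => ⟨1, by rcases Int.units_eq_one_or x with rfl | rfl <;> simp⟩) l1 l2
  obtain ⟨σ, s1, s2⟩ := exists_fn F (zpowers_le.2 hi)
  rw [s1.homOn.im_zpowers] at s2
  have hj : σ i ∈ S := s1.mem (mem_zpowers i)
  have hj2 : σ i * σ i = 1 := by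
    rw [← s1.homOn.map_mul (mem_zpowers i) (mem_zpowers i), ← pow_two, ← hi2, pow_orderOf_eq_one, s1.homOn.map_one]
  have hjN : σ i ∈ normalizerIn S (zpowers (σ i)) := le_nIn s2.1 (mem_zpowers _)
  have good : ∀ ρ : Perm Ω, Mor F (normalizerIn S (zpowers (σ i))) ρ → l (ρ (σ i)) = -1 := fun ρ hρ =>
    l3 _ (hρ.mem hjN) fun α hα => by
      have k := hρ.mul' (autF_mor le_rfl hα) hρ.im_le
      have k1 := (fn_of_nIn s2 k).1
      rw [(k.mono (le_nIn s2.1)).homOn.im_zpowers] at k1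
      have k2 := (s1.mul' (k.mono (le_nIn s2.1)) s1.homOn.im_zpowers.le).isConjElt (mem_zpowers i)
      rw [Perm.mul_apply] at k2
      have k3 := h _ k2 k1
      rwa [Perm.mul_apply] at k3
  have e1 := t2 ⟨σ i, hj⟩ ⊥ fun P ν ρ hP hρ hν => by
    refine transfer_inv_eq_one hF.pg hP ν (Subtype.ext hj2) (C := (normalizerIn S (zpowers (σ i))).subgroupOf S)
      (fun g hg => Subtype.ext ?_) fun t ht => ⟨ht _ (mem_subgroupOf.2 hjN), ?_⟩
    · obtain ⟨k, hk⟩ := conj_mem_of_mem_normalizer (nIn_le_norm (mem_subgroupOf.1 hg)) (mem_zpowers (σ i))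
      change (g : Ω) * σ i * (g : Ω)⁻¹ = σ i
      have h2 : σ i ^ (2 : ℤ) = 1 := by rw [zpow_two, hj2]
      simp only at hk
      rcases Int.even_or_odd' k with ⟨m, rfl | rfl⟩
      · rw [zpow_mul, h2, one_zpow, eq_comm, conj_eq_one_iff] at hk
        simp [hk]
      · rw [← hk, zpow_add, zpow_mul, h2, one_zpow, one_mul, zpow_one]
    · have k := (mor_cj F nIn_le (inv_mem t.2)).mul' hρ (im_le_iff.2 fun g hg =>
        ⟨_, ht ⟨g, nIn_le hg⟩ (mem_subgroupOf.2 hg), by rw [cj_apply]; simp⟩)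
      have := good _ k
      rw [Perm.mul_apply, cj_apply] at this
      rw [hν]
      simpa using this
  have e2 : τ ⟨i, hi⟩ = -1 := by
    have := good 1 (mor_one F nIn_le)
    rw [mem_bot, inv_mul_eq_one] at e1
    rw [t1 ⟨i, hi⟩ ⟨σ i, hj⟩ (s1.isConjElt (mem_zpowers i)), ← e1]
    exact this
  intro hf
  have : F.focalSubgroup ≤ τ.ker.map S.subtype := focal_le_iff.2 fun P ρ hρ x hx =>
    ⟨(⟨x, hρ.le hx⟩ : S)⁻¹ * ⟨ρ x, hρ.mem hx⟩, by
      rw [SetLike.mem_coe, MonoidHom.mem_ker, map_mul, map_inv, t1 ⟨x, hρ.le hx⟩ ⟨ρ x, hρ.mem hx⟩ (hρ.isConjElt hx),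
        inv_mul_cancel], rfl⟩
  obtain ⟨y, hy, rfl⟩ := this hf
  have : τ y = -1 := e2
  rw [MonoidHom.mem_ker.1 hy] at this
  exact absurd this (by decide)

end Cfsg.Agent.H23.LF
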