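import Cfsg.Agent.L0.FOl

/-! Essential subgroups of `p`-groups with an extraspecial subgroup of index `p`. -/

namespace Cfsg.Agent.H23.LF

open Cfsg Cfsg.FusionSystem Subgroup Cfsg.Agent.L0
open Equiv (Perm)
open scoped commutatorElement

variable {Ω : Type*} [Group Ω] {S D E Q R : Subgroup Ω} {p : ℕ} [hp : Fact p.Prime] {w : Ω}

theorem zp_of_card (h : Nat.card D = p) (hw : w ∈ D) (h1 : w ≠ 1) : D = zpowers w := by
  haveI : Finite D := Nat.finite_of_card_ne_zero (h ▸ hp.out.ne_zero)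
  simpa using (sup_zp_of_card (A := ⊥) (IsPGroup.of_card (n := 1) (by simpa using h)) bot_le (by simp [h]) hw
    (by simpa using h1)).symm

theorem exists_ne_one_of_card (h : Nat.card D = p) : ∃ v ∈ D, v ≠ 1 := by
  by_contra! h'
  rw [(eq_bot_iff_forall _).2 h', card_bot] at h
  exact hp.out.one_lt.ne h

theorem xs_card (hQ : IsExtraspecial p Q) : Nat.card (⁅Q, Q⁆ : Subgroup Ω) = p := by
  rw [← map_subtype_commutator, H24.card_map_subtype, hQ.1.2.2, hQ.2]

omit hp in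
theorem xs_eq (hQ : IsExtraspecial p Q) : centralizerIn Q Q = ⁅Q, Q⁆ := by
  rw [← map_subtype_commutator, hQ.1.2.2]
  ext x
  constructor
  · rintro ⟨h1, h2⟩
    exact ⟨⟨x, h1⟩, mem_center_iff.2 fun g => Subtype.ext (mem_centralizer_iff.1 h2 g g.2), rfl⟩
  · rintro ⟨y, h, rfl⟩
    exact ⟨y.2, mem_centralizer_iff.2 fun g hg => congrArg Subtype.val (mem_center_iff.1 h ⟨g, hg⟩)⟩

variable [Finite S] {F : FusionSystem S}

theorem Sat.ess_small (hF : Sat p F) (hE : F.IsEssential p E) (hR : R ≤ S) (h1 : E ≤ R) (h2 : E ≠ R)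
    (hc : Nat.card (⁅R, R⁆ : Subgroup Ω) = p) (h3 : ⁅R, R⁆ ≤ E) (h4 : ⁅R, R⁆ ≤ centralizer (R : Set Ω)) :
    AI p R E := by
  haveI : Finite R := Finite.Set.subset (S : Set Ω) hR
  haveI : Finite E := Finite.Set.subset (R : Set Ω) h1
  have pR : IsPGroup p R := hF.pg.to_le hR
  have pE : IsPGroup p E := pR.to_le h1
  have hN : R ≤ normalizerIn S E := le_inf hR (H24.le_normalizer_of_commutator_le le_rfl
    ((commutator_mono h1 le_rfl).trans h3))
  have hne : ¬ R ≤ E := fun h => h2 (le_antisymm h1 h)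
  obtain ⟨v, hv, v1⟩ := exists_ne_one_of_card hc
  have hab : E ≤ centralizer (E : Set Ω) := by
    by_contra h
    obtain ⟨w, hw, w1⟩ : ∃ w ∈ (⁅E, E⁆ : Subgroup Ω), w ≠ 1 := by
      by_contra! h'
      exact h (commutator_eq_bot_iff_le_centralizer.1 ((eq_bot_iff_forall _).2 h'))
    refine hne (Sat.ess_chain1 hF hE hN ((commutator_mono h1 le_rfl).trans ?_))
    rw [zp_of_card hc (commutator_mono h1 h1 hw) w1, zpowers_le]
    have := pE.isNilpotent
    rw [← map_subtype_commutator] at hw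
    exact map_mono (H3.commutator_le_frattini pE) hw
  have hvp : v ^ p = 1 := by
    have := pow_card_eq_one' (G := (⁅R, R⁆ : Subgroup Ω)) (x := ⟨v, hv⟩)
    rw [hc] at this
    exact congrArg Subtype.val this
  have ht : ∀ q ∈ R, L0.Tv p E E q v := fun q hq =>
    ⟨fun x hx => h3 (commutator_mem_commutator (h1 hx) hq), fun x hx => by
      rw [← zp_of_card hc hv v1]; exact commutator_mem_commutator (h1 hx) hq, h3 hv, hvp,
      mem_centralizer_iff.1 (h4 hv) q hq⟩
  have k := card_eq_of_forall' pR (lt_of_le_of_ne h1 h2) (hN.trans inf_le_right) fun a ha ha' =>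
    Sat.ess_tv hF hE le_rfl (autF_le_stab F E) hN ht ha ha'
  refine ⟨pR, h1, hab, ?_, fun h => v1 ?_⟩
  · have := H24.card_mul_relIndex h1
    rw [k, mul_comm] at this
    exact Nat.eq_of_mul_eq_mul_right Nat.card_pos this
  · rw [commutator_eq_bot_iff_le_centralizer.2 h] at hv
    exact hv

theorem xs_le_Z (hS : IsPGroup p S) (hQS : Q ≤ S) (hQ : IsExtraspecial p Q) (hi : Q.relIndex S = p) :
    ⁅Q, Q⁆ ≤ centralizerIn S S := by
  have hc : Nat.card S = p * Nat.card Q := by rw [← H24.card_mul_relIndex hQS, hi, mul_comm]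
  have hn := le_norm_of_card hS hQS hc.le
  haveI : Finite (⁅Q, Q⁆ : Subgroup Ω) := Nat.finite_of_card_ne_zero (xs_card hQ ▸ hp.out.ne_zero)
  have h1 : ⁅Q, Q⁆ ≤ S := H24.commutator_le_of_le hQS hQS
  have := cm_le_of_card' (C := ⁅Q, Q⁆) (D := ⊥) (R := S) (hS.to_le h1) hS (H24.le_normalizer_commutator hn hn)
    (by simp) bot_le (by simp [xs_card hQ])
  exact le_inf h1 (commutator_eq_bot_iff_le_centralizer.1 (le_bot_iff.1 this))

theorem Sat.xs_Z (hF : Sat p F) (h2 : p ≠ 2) (hQS : Q ≤ S) (hQ : IsExtraspecial p Q) (hi : Q.relIndex S = p)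
    (hO : F.core = ⊥) : centralizerIn S S = centralizerIn Q Q := by
  have hc : Nat.card S = p * Nat.card Q := by rw [← H24.card_mul_relIndex hQS, hi, mul_comm]
  have hZ := xs_le_Z hF.pg hQS hQ hi
  refine le_antisymm (fun z hz => ⟨?_, mem_centralizer_iff.2 fun g hg => mem_centralizer_iff.1 hz.2 g (hQS hg)⟩)
    (xs_eq hQ ▸ hZ)
  by_contra hz'
  have e := sup_zp_of_card hF.pg hQS hc.le hz.1 hz'
  have hn := le_norm_of_card hF.pg hQS hc.le
  have hn' := H24.le_normalizer_commutator hn hn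
  have hzS : zpowers z ≤ S := zpowers_le.2 hz.1
  have c1 : ⁅zpowers z, S⁆ ≤ ⁅Q, Q⁆ := by
    rw [commutator_eq_bot_iff_le_centralizer.2 (zpowers_le.2 hz.2)]; exact bot_le
  have c2 : ⁅Q, S⁆ ≤ ⁅Q, Q⁆ := by
    conv_lhs => rw [← e]
    exact H24.commutator_sup_right_le (hQS.trans hn') (hzS.trans hn') le_rfl
      (by rw [commutator_comm]; exact (commutator_mono le_rfl hQS).trans c1)
  have c3 : ⁅S, S⁆ = ⁅Q, Q⁆ := le_antisymm (by
    conv_lhs => enter [1]; rw [← e]
    exact H24.commutator_sup_left_le (hQS.trans hn') (hzS.trans hn') c2 c1) (commutator_mono hQS hQS)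
  have := Sat.Z_le_of_core hF h2 (by rw [c3, inf_eq_right.2 hZ, xs_card hQ]) hO fun E hE => Or.inr (by
    have a := Sat.ess_small hF hE le_rfl (hF.essential_lt hE).le (hF.essential_lt hE).ne (c3 ▸ xs_card hQ)
      (c3 ▸ hZ.trans (Z_le_ess hE)) (c3 ▸ hZ.trans inf_le_right)
    exact ⟨a.ab, by rw [a.card_A, c3, xs_card hQ, mul_comm]⟩)
  exact hz' (H24.commutator_le_of_le le_rfl le_rfl (c3 ▸ this hz))

theorem Sat.xs_ess (hF : Sat p F) (hQS : Q ≤ S) (hQ : IsExtraspecial p Q) (hi : Q.relIndex S = p)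
    (hE : F.IsEssential p E) (h1 : E ≤ Q) (h2 : E ≠ Q) : Nat.card S = p ^ 4 := by
  haveI : Finite Q := Finite.Set.subset (S : Set Ω) hQS
  have a := Sat.ess_small hF hE hQS h1 h2 (xs_card hQ) ((xs_le_Z hF.pg hQS hQ hi).trans (Z_le_ess hE))
    (xs_eq hQ ▸ inf_le_right)
  rw [← H24.card_mul_relIndex hQS, hi, a.card, a.card_A, xs_eq hQ, xs_card hQ]
  ring

end Cfsg.Agent.H23.LF
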