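import Cfsg.Agent.H24.LC0
import Cfsg.Agent.L0.Char

/-! Focal subgroups for odd primes through pushing up. -/

set_option autoImplicit false

namespace Cfsg.Agent.L0.Foc

open Subgroup Cfsg.Agent.H24
open scoped commutatorElement MatrixGroups

universe u

variable {G : Type u} [Group G] {p : ℕ} {B D L M Q S T U U₀ V W Y : Subgroup G}

local notation "𝐐" => pCoreOf p
local notation "𝐎" => pResidualOf p
local notation "𝐕" => sylowCenterClosure p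

theorem exists_sq [Fact p.Prime] (hp : p ≠ 2) (hY : IsPGroup p Y) {y : G} (hy : y ∈ Y) : ∃ x ∈ Y, x * x = y := by
  obtain ⟨k, hk⟩ := hY ⟨y, hy⟩
  have hk' : y ^ p ^ k = 1 := by simpa using congrArg Subtype.val hk
  obtain ⟨m, hm⟩ : Odd (p ^ k) := ((Fact.out : p.Prime).odd_of_ne_two hp).pow
  refine ⟨y ^ (m + 1), Y.pow_mem hy _, ?_⟩
  rw [← pow_add, show m + 1 + (m + 1) = p ^ k + 1 by omega, pow_succ, hk', one_mul]

theorem kill [Fact p.Prime] {F : Type*} [Field F] (N : NS F L U U₀) (hF : N.Full) (hp : p ≠ 2) (hY : IsPGroup p Y)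
    (hYU : Y ≤ U) (hn : L ≤ 𝐍[Y]) (hW : ∀ z ∈ L, N.ρ z = -1 → ∀ y ∈ Y, ⁅y, z⁆ ∈ W) : Y ≤ W ⊔ Y ⊓ U₀ := by
  intro y hy
  obtain ⟨x, hx, rfl⟩ := exists_sq hp hY hy
  obtain ⟨z, hz, e⟩ := hF (-1)
  have h1 : ⁅x, z⁆ ∈ Y := commutator_le_left_of_le_normalizer hn (commutator_mem_commutator hx hz)
  have h2 : N.ψ ⁅x, z⁆ = N.ψ (x * x) := by
    rw [N.ψ_comm' hz (hYU hx), e, N.ψ_mul (hYU hx) (hYU hx), sub_eq_add_neg]
    congr 1
    refine vec_ext ?_ ?_ <;> simp [sl_smul_zero, sl_smul_one]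
  have h3 := (N.ψ_eq_iff (hYU h1) (hYU hy)).1 h2
  have : x * x = ⁅x, z⁆ * (⁅x, z⁆⁻¹ * (x * x)) := by group
  rw [this]
  exact mul_mem_sup (hW z hz e x hx) ⟨Y.mul_mem (Y.inv_mem h1) hy, h3⟩

variable [Finite G] [Fact p.Prime]

theorem mem_of_neg {F : Type*} [Field F] [Finite F] (N : NS F L U U₀) (hF : N.Full) (hU : IsPGroup p U)
    (hB : IsPGroup p B) (hm : MinOver B (L ⊓ M) L) {z : G} (hz : z ∈ L) (e : N.ρ z = -1) : z ∈ M := by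
  haveI := N.charP_of_pGrpMod (p := p) (pGrpMod_of_isPGroup hU _)
  obtain ⟨x, hx⟩ := N.exists_le_root hm.le' (pGrpMod_of_isPGroup hB _)
  have h1 := hm.max _ (hx.trans (N.root_le_stab x)) (lt_of_le_not_ge (N.stab_le x) (hF.not_le_stab x))
  refine (h1 (N.mem_stab.2 ⟨hz, smul_eq_of_forall_smul (c := -1) fun v _ => ?_⟩)).2
  rw [e]
  refine vec_ext ?_ ?_ <;> simp [sl_smul_zero, sl_smul_one]

/-- the part of the pushing up conclusion that is needed -/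
def Out (p : ℕ) (L : Subgroup G) : Prop :=
  ⁅pCoreOf p L, pResidualOf p L⁆ ≤ sylowCenterClosure p L ∨
    ∃ D, D ≤ pCoreOf p L ∧ ⁅D, pResidualOf p L⁆ ≤ sylowCenterClosure p L ∧
      ∃ (F : Type) (_ : Field F) (_ : Fintype F) (N : NS F L (pCoreOf p L) D), N.Full

omit [Finite G] [Fact p.Prime] in
theorem out_of (h : O1 p L B ∨ O2 p L B) : Out p L :=
  h.imp (fun h => h.res) fun h => by
    obtain ⟨D, -, h2, h3, h4⟩ := h.ex
    exact ⟨D, h2, h3, h4⟩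

theorem core (hp : p ≠ 2) [Q.Normal] (hQ : IsPGroup p Q) (hT : T ≤ Q) (hM : M = 𝐍[T]) (hQM : Q ≤ M)
    (hc : ⁅Q, M⁆ ≤ T) (hv : Vtx p L) (hB : SylIn p B L) (hm : MinOver B (L ⊓ M) L) (hn : Q ≤ 𝐍[B])
    (ho : Out p L) : False := by
  have hO : 𝐎 (𝐎 L) = 𝐎 L := pResidualOf_idem p L
  have hOL : 𝐎 L ≤ L := pResidualOf_le p L
  have nQ : ∀ X : Subgroup G, X ≤ 𝐍[Q] := fun X => le_top.trans (top_le_normalizer Q)
  have hQL : Q ≤ 𝐍[L] := by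
    refine le_normalizer_iff_cj_le.2 fun q hq => cj_le_iff.2 (hm.ncl.ge.trans (ncl_le_iff.2 fun g hg => ?_))
    rw [← cj_le_iff, cj_cj]
    have h1 : g⁻¹ * q * g ∈ Q := conj_mem_of_mem_normalizer' (nQ ⊤ (mem_top g)) hq
    have : cj B (q * g) = cj B g := by
      rw [show q * g = g * (g⁻¹ * q * g) by group, ← cj_cj, cj_eq_of_mem_normalizer (hn h1)]
    rw [this]
    exact (cj_le_ncl hg).trans hm.ncl.le
  set W : Subgroup G := ⨅ g : L, cj T g with hW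
  have hWT : W ≤ T := (iInf_le _ 1).trans (by simp)
  have hLW : L ≤ 𝐍[W] := le_normalizer_iff_cj_le.2 fun g hg => le_iInf fun h => by
    rw [cj_le_iff, cj_cj]
    exact iInf_le (fun g : L => cj T g) ⟨g⁻¹ * h, L.mul_mem (L.inv_mem hg) h.2⟩
  have hQW : Q ≤ 𝐍[W] := le_normalizer_iff_cj_le.2 fun q hq => le_iInf fun h => by
    rw [cj_le_iff, cj_cj]
    refine (iInf_le (fun g : L => cj T g) h).trans (le_of_eq ?_)
    have h1 : (h : G)⁻¹ * q⁻¹ * h ∈ Q := conj_mem_of_mem_normalizer' (nQ ⊤ (mem_top _)) (Q.inv_mem hq)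
    have h2 : (h : G)⁻¹ * q⁻¹ * h ∈ 𝐍[T] := hM ▸ hQM h1
    rw [show q⁻¹ * h = h * ((h : G)⁻¹ * q⁻¹ * h) by group, ← cj_cj, cj_eq_of_mem_normalizer h2]
  have key : ∀ {F : Type} [Field F] [Fintype F] {U U₀ Y : Subgroup G} (N : NS F L U U₀), N.Full → IsPGroup p U →
      Y ≤ U → Y ≤ Q → L ≤ 𝐍[Y] → Y ≤ W ⊔ Y ⊓ U₀ := by
    intro F _ _ U U₀ Y N hF hU h1 h2 h3
    refine kill N hF hp (hU.to_le h1) h1 h3 fun z hz e y hy => mem_iInf.2 fun g => mem_cj.2 ?_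
    have h4 : (g : G)⁻¹ * z * g ∈ M := by
      refine mem_of_neg N hF hU hB.pgrp hm (L.mul_mem (L.mul_mem (L.inv_mem g.2) hz) g.2) ?_
      rw [N.ρ_mul (L.mul_mem (L.inv_mem g.2) hz) g.2, N.ρ_mul (L.inv_mem g.2) hz, e, N.ρ_inv g.2]
      simp
    have h5 : (g : G)⁻¹ * y * g ∈ Q := conj_mem_of_mem_normalizer' (nQ ⊤ (mem_top _)) (h2 hy)
    have := hc (commutator_mem_commutator h5 h4)
    convert this using 1
    simp only [commutatorElement_def]; group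
  have step : ∀ {X Y Z : Subgroup G}, Y ≤ W ⊔ X → X ≤ Q → Z ≤ Q → L ≤ 𝐍[Z] → Q ≤ 𝐍[Z] → ⁅X, 𝐎 L⁆ ≤ Z →
      ⁅Y, 𝐎 L⁆ ≤ W ⊔ Z := by
    intro X Y Z h1 h2 h3 h4 h5 h6
    have n1 : Q ≤ 𝐍[W ⊔ Z] := le_normalizer_sup hQW h5
    refine (commutator_mono h1 le_rfl).trans (commutator_sup_left_le ((hWT.trans hT).trans n1) (h2.trans n1)
      (le_sup_of_le_left (commutator_le_left_of_le_normalizer (hOL.trans hLW))) (le_sup_of_le_right h6))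
  obtain ⟨F, _, _, ⟨N⟩⟩ := hv
  have last : ∀ {Y : Subgroup G}, Y ≤ 𝐕 L → Y ≤ Q → L ≤ 𝐍[Y] → ⁅Y, 𝐎 L⁆ ≤ W := by
    intro Y h1 h2 h3
    have := step (Z := ⊥) (key N.toNS N.full N.pgrp h1 h2 h3) (inf_le_left.trans h2) bot_le
      (by rw [normalizer_bot']; exact le_top) (by rw [normalizer_bot']; exact le_top)
      (le_centralizer_iff_commutator.1 ((inf_le_right.trans inf_le_right).trans (centralizer_anti hOL))).le
    simpa using this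
  have hLO : L ≤ 𝐍[𝐎 L] := le_normalizer_pResidualOf p L
  have hQO : Q ≤ 𝐍[𝐎 L] := le_normalizer_pResidualOf_of hQL
  have y1 : ⁅Q, 𝐎 L⁆ ≤ Q := commutator_le_left_of_le_normalizer (nQ _)
  have y2 : L ≤ 𝐍[⁅Q, 𝐎 L⁆] := le_normalizer_commutator (nQ _) hLO
  have y3 : ⁅Q, 𝐎 L⁆ ≤ 𝐐 L := le_pCoreOf
    ((commutator_le_right_of_le_normalizer hQO).trans hOL) (hQ.to_le y1) y2
  have y4 : ⁅⁅Q, 𝐎 L⁆, 𝐎 L⁆ = ⁅Q, 𝐎 L⁆ := commutator_commutator_eq' hO hQ (nQ _)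
  have y5 : ⁅Q, 𝐎 L⁆ ≤ W := by
    rcases ho with h | ⟨D, d1, d2, F', _, _, N', hF'⟩
    · exact y4.ge.trans (last (y4.ge.trans ((commutator_mono y3 le_rfl).trans h)) y1 y2)
    · have nD : L ≤ 𝐍[⁅Q, 𝐎 L⁆ ⊓ D] := le_normalizer_inf y2 N'.norm₀
      have z1 : ⁅⁅Q, 𝐎 L⁆ ⊓ D, 𝐎 L⁆ ≤ Q :=
        (commutator_mono (inf_le_left.trans y1) le_rfl).trans y1
      have z2 : L ≤ 𝐍[⁅⁅Q, 𝐎 L⁆ ⊓ D, 𝐎 L⁆] := le_normalizer_commutator nD hLO
      have z3 := last ((commutator_mono inf_le_right le_rfl).trans d2) z1 z2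
      have k := key N' hF' (isPGroup_pCoreOf p L) y3 y1 y2
      -- `Y ≤ W (Y ∩ D)`, so `Y = [Y, O] ≤ W [Y ∩ D, O]`
      have z4 : ⁅Q, 𝐎 L⁆ ≤ W ⊔ ⁅⁅Q, 𝐎 L⁆ ⊓ D, 𝐎 L⁆ := by
        refine y4.ge.trans (commutator_le.2 fun y hy o ho => ?_)
        obtain ⟨w, hw, d, hd, rfl⟩ := (mem_sup_of_le_normalizer_left ((inf_le_left.trans y1).trans hQW)).1 (k hy)
        have e : ⁅w * d, o⁆ = (w * (⁅d, o⁆ * (o * w⁻¹ * o⁻¹) * ⁅d, o⁆⁻¹)) * ⁅d, o⁆ := by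
          simp only [commutatorElement_def]; group
        rw [e]
        have c := commutator_mem_commutator hd ho
        exact mul_mem_sup (W.mul_mem hw (conj_mem_of_mem_normalizer (hQW (z1 c))
          (conj_mem_of_mem_normalizer (hLW (hOL ho)) (W.inv_mem hw)))) c
      have := step (Z := W) z4 z1 (hWT.trans hT) hLW hQW z3
      rw [sup_idem] at this
      exact y4.ge.trans this
  have hOM : 𝐎 L ≤ M := hM ▸ le_normalizer_of_commutator_le hT (y5.trans hWT)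
  exact hm.lt.not_ge (le_inf le_rfl (hB.pResidualOf_sup.ge.trans (sup_le hOM (hm.le.trans inf_le_right))))

end Cfsg.Agent.L0.Foc
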