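import Cfsg.Agent.L0.Foc1

/-! The normalizers of all characteristic subgroups control transfer for odd primes. -/

set_option autoImplicit false

namespace Cfsg.Agent.L0.Foc

open Subgroup Cfsg.Agent.H24 Cfsg.Agent.H3
open scoped commutatorElement

universe u

variable {G : Type u} [Group G] {p : ℕ}

open Classical in
/-- the functor with value `K` on groups isomorphic to `S` -/
noncomputable def fn {S : Type u} [Group S] (K : Subgroup S) (Q : Type u) [Group Q] : Subgroup Q :=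
  if h : Nonempty (S ≃* Q) then K.map h.some.toMonoidHom else ⊤

theorem fn_eq {S : Type u} [Group S] (K : Subgroup S) [hK : K.Characteristic] {Q : Type u} [Group Q] (φ : S ≃* Q) :
    fn K Q = K.map φ.toMonoidHom := by
  have h : Nonempty (S ≃* Q) := ⟨φ⟩
  rw [fn, dif_pos h]
  have := congrArg (Subgroup.map φ.toMonoidHom) (characteristic_iff_map_eq.1 hK (h.some.trans φ.symm))
  rw [← this, map_map]
  congr 1
  ext x; simp

theorem fn_isChar {S : Type u} [Group S] (K : Subgroup S) [hK : K.Characteristic] (h0 : K ≠ ⊥) :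
    IsCharPFunctor p (fn K) := by
  refine ⟨fun Q _ _ _ _ => ?_, fun Q R _ _ _ _ φ => ?_⟩
  · by_cases h : Nonempty (S ≃* Q)
    · rw [fn_eq K h.some]
      exact fun e => h0 ((map_eq_bot_iff_of_injective K h.some.injective).1 e)
    · rw [fn, dif_neg h]; exact top_ne_bot
  · by_cases h : Nonempty (S ≃* Q)
    · rw [fn_eq K h.some, fn_eq K (h.some.trans φ), map_map]; rfl
    · rw [fn, fn, dif_neg h, dif_neg fun k => h ⟨k.some.trans φ.symm⟩, map_top_equiv]

theorem ind_fn {S U : Subgroup G} (hU : U ≤ S) [(U.subgroupOf S).Characteristic] :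
    inducedFunctor (fn (U.subgroupOf S)) S = U := by
  rw [inducedFunctor, fn_eq _ (MulEquiv.refl S)]
  simpa using map_subgroupOf_eq_of_le hU

theorem char_of_fn {W : ∀ (Q : Type u) [Group Q], Subgroup Q} (hW : IsCharPFunctor p W) {S : Type u} [Group S]
    [Finite S] (hS : IsPGroup p S) : (W S).Characteristic :=
  characteristic_iff_map_eq.2 fun φ => hW.2 S S hS φ

variable [Fact p.Prime]

theorem setup [Finite G] (hp : p ≠ 2) {𝓛 : ∀ (X : Type u) [Group X], Subgroup X → Set (Subgroup X)}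
    (h𝓛 : LocSys p 𝓛) (ih : PropTF p 𝓛 G) (S : Sylow p G) (hne : ¬ (S : Subgroup G) ≤ pCore p G)
    (hG : ¬ TF (𝓛 G S) S ⊤) : ∃ M : Subgroup G, M ≠ ⊤ ∧ (∀ H : Subgroup G, (S : Subgroup G) ≤ H → H ≠ ⊤ → H ≤ M) ∧
      ∀ B L : Subgroup G, Vtx p L → SylIn p B L → MinOver B (L ⊓ M) L → pCore p G ≤ 𝐍[B] → ¬ Out p L := by
  obtain ⟨-, -, ⟨h1, h2⟩, ⟨h3, h4⟩, -⟩ := ih.structure h𝓛 (H3.sylowIn_top S) hne hG rfl rfl
  refine ⟨_, h1, h2, fun B L a b c d e => core (Q := pCore p G) hp (H1.isPGroup_pCore p G) inf_le_right rfl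
    ((H1.pCore_le_sylow S).trans (h2 _ le_rfl fun k => hne ?_)) (h3.trans (h4.trans (inf_comm _ _).le)) a b c d e⟩
  haveI : (S : Subgroup G).Normal := k ▸ inferInstance
  exact H1.le_pCore S.2

theorem tf_step [Finite G] (hp : p ≠ 2) (hc : 𝐂[pCore p G] ≤ pCore p G)
    (ih : PropTF p (charSys {W | IsCharPFunctor p W}) G) (S : Sylow p G) :
    TF (charSys {W | IsCharPFunctor p W} G S) S ⊤ := by
  have h𝓛 := locSys_char (𝓦 := {W : ∀ (Q : Type u) [Group Q], Subgroup Q | IsCharPFunctor p W}) (p := p)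
    fun _ h => h
  by_contra hG
  have key : ∀ U ≤ (S : Subgroup G), U ≠ ⊥ → (U.subgroupOf S).Characteristic → 𝐍[U] ≠ ⊤ := by
    intro U h1 h2 h3 h4
    refine hG (tf_of_top_mem (mem_charSys.2 ⟨fn (U.subgroupOf S), fn_isChar _ fun e => h2 ?_, ?_⟩) _)
    · rw [← map_subgroupOf_eq_of_le h1, e, Subgroup.map_bot]
    · rw [ind_fn h1, h4]
  have h0 : (S : Subgroup G) ≠ ⊥ := fun e => hG (by unfold TF; rw [e]; simp)
  have hne : ¬ (S : Subgroup G) ≤ pCore p G := fun e => key S le_rfl h0 (char_self _) (by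
    rw [le_antisymm e (H1.pCore_le_sylow S)]; exact top_le_iff.1 (top_le_normalizer _))
  obtain ⟨M, h1, h2, h3⟩ := setup hp h𝓛 ih S hne hG
  have key2 : ∀ U ≤ (S : Subgroup G), U ≠ ⊥ → (U.subgroupOf S).Characteristic → 𝐍[U] ≤ M := fun U a b c =>
    h2 _ (le_normalizer.trans (normalizer_le_of_char a c)) (key U a b c)
  have cB : ((baumannSubgroupOf p (S : Subgroup G)).subgroupOf S).Characteristic :=
    char_of_nat (Φ := baumannSubgroupOf p) (fun _ hf => map_baum hf) baum_le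
  have H : Hyp p ⊤ S M := ⟨charP_top_iff.2 hc, sylIn_top S, inf_le_right.trans ((centralizer_le_normalizer' _).trans
    (key2 _ (omegaOneCenter_le p _) (omegaOneCenter_ne_bot S.2 h0) (char_Z _))),
    fun C c1 c2 c3 => inf_le_right.trans (key2 C (c1.trans baum_le) c2 (char_trans c1 baum_le c3 cB))⟩
  obtain ⟨L, -, l1, l2, l3, l4⟩ := H.exists_vtx fun e => h1 (top_le_iff.1 e)
  exact h3 _ L l1 l2 l3 (le_normalizer_baum ((H1.pCore_le_sylow S).trans le_normalizer))
    (out_of (pushing_up' l1 l2 l4))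

theorem tf_all (hp : p ≠ 2) (X : Type u) [Group X] [Finite X] (T : Subgroup X) (hT : SylowIn p T ⊤) :
    TF (charSys {W | IsCharPFunctor p W} X T) T ⊤ :=
  tf_of_constrained_kr (G := X) (locSys_char fun _ h => h) (fun _ _ _ hc ih T => tf_step hp hc ih T) X
    (Sec.refl X) T hT

end Cfsg.Agent.L0.Foc
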