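import Cfsg.Agent.L0.Foc2
import Cfsg.Agent.H24.PU11

/-! A characteristic subgroup normal in every rank one group without the pushing up outcome. -/

set_option autoImplicit false

namespace Cfsg.Agent.L0.Foc

open Subgroup Cfsg.Agent.H24
open scoped commutatorElement

universe u

variable {G : Type u} [Group G] {p : ℕ} {M P S T : Subgroup G}

local notation "𝐐" => pCoreOf p
local notation "𝐕" => sylowCenterClosure p

/-- a vertex without the pushing up outcome -/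
structure Gd (p : ℕ) (P T : Subgroup G) : Prop where
  vtx : Vtx p P
  syl : SylIn p T P
  cdh : CDH p T
  ne : ¬ (O1 p P T ∨ O2 p P T)

variable [Finite G] [Fact p.Prime]

theorem Gd.map {G' : Type u} [Group G'] {f : G →* G'} (hf : Function.Injective f) (h : Gd p P T) :
    Gd p (P.map f) (T.map f) :=
  ⟨h.vtx.map hf, h.syl.map_injective hf, h.cdh.map hf, fun e => h.ne (e.imp (O1.of_map hf) (O2.of_map hf))⟩

theorem Gd.of_syl (h : Gd p P T) (g : G) (hT : SylIn p S (cj P g)) : Gd p (cj P g) S := by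
  obtain ⟨k, hk, rfl⟩ := (h.syl.cj g).exists_cj_eq hT
  have : Gd p (cj (cj P g) k) (cj (cj T g) k) := (h.map (MulAut.conj g).injective).map (MulAut.conj k).injective
  rwa [cj_eq_of_mem hk] at this

theorem exists_cl_of_gd (h0 : Gd p P T) :
    ∃ Y, RCD T Y ∧ T ⊓ 𝐂[Y] ≤ Y ∧ ∀ R, Gd p R T → R ≤ 𝐍[Y] := by
  let 𝒱 : Set (Subgroup G) := {E | ∃ R g, Gd p R T ∧ E = cj R g}
  have hc : ∀ R ∈ 𝒱, ∀ g, cj R g ∈ 𝒱 := by
    rintro _ ⟨R, k, hR, rfl⟩ g; exact ⟨R, _, hR, cj_cj _ _ _⟩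
  have h1 : ∀ R, Gd p R T → R ∈ 𝒱 := fun R hR => ⟨R, 1, hR, (cj_one R).symm⟩
  have h2 : ∀ E ∈ 𝒱, ∀ S, SylIn p S E → Gd p E S := by rintro _ ⟨R, g, hR, rfl⟩ S hS; exact hR.of_syl g hS
  rcases amalgam (p := p) (𝒱 := 𝒱) (by rintro _ ⟨R, g, hR, rfl⟩; exact hR.vtx.cj g) hc (fun ha H hH P hP S sH sP n =>
    ⟨P, hP, sP, fun e => (h2 H hH S sH).ne (.inl (sym_of_cdh (h2 P hP S sP).vtx (h2 H hH S sH).vtx sP sH
      (h2 P hP S sP).cdh (ha H hH P hP S sH sP) (ha P hP H hH S sP sH) e (sup_comm (𝐕 H) _ ▸ n)))⟩) with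
    h3 | ⟨E, hE, _, _, S, h3⟩ | ⟨E, hE, _, _, S, h3⟩
  rotate_left
  · exact ((h2 E hE S h3.s₀).ne (.inl h3.o1)).elim
  · exact ((h2 E hE S h3.s₀).ne (.inr h3.o2)).elim
  set L := sSup {R | Gd p R T}
  have l1 : L ≤ nearSub p hc (h1 P h0) := sSup_le fun R hR g hg =>
    ⟨_, (((Near.refl (h1 P h0)).cons (h1 R hR) hR.syl h0.syl).cons (hc _ (h1 P h0) g) (h0.syl.cj g)
      (hR.syl.cj_of_mem hg) :)⟩
  set U := ncl (𝐕 P) L
  have u1 : ∀ R, Gd p R T → U ≤ 𝐐 R := fun R hR => ncl_le_iff.2 fun g hg => by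
    obtain ⟨n, hn⟩ := l1 hg
    rw [cj_scc]
    exact h3 _ _ _ (hn.snoc (h1 R hR) h0.syl hR.syl)
  have u2 : ∀ R, Gd p R T → R ≤ 𝐍[U] := fun R hR => (le_sSup (s := {R | Gd p R T}) hR).trans
    (le_normalizer_ncl _ _)
  have u3 : ∀ R, Gd p R T → 𝐕 R ≤ U := fun R hR => hR.syl.scc_eq_ncl ▸ ncl_le
    (h0.syl.omegaOneCenter_le_scc.trans (le_ncl _ _)) (u2 R hR)
  have u4 : U ≤ 𝐂[U] := le_centralizer_iff.1 (ncl_le (le_centralizer_iff.1 ((u1 P h0).trans h0.vtx.core_le))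
    (le_normalizer_centralizer (le_normalizer_ncl _ _)))
  obtain ⟨Y, ⟨y1, y2, y3⟩, y4⟩ := exists_maximal_of_wellFoundedGT (fun Y => RCD T Y ∧ 𝐕 P ≤ Y ∧ Y ≤ U)
    ⟨_, h0.vtx.rcd h0.syl h0.cdh, le_rfl, le_ncl _ _⟩
  have y5 : ∀ X, RCD T X → X ≤ U → X ≤ Y := fun X x1 x2 => le_sup_right.trans
    (y4 ⟨y1.sup x1, y2.trans le_sup_left, sup_le y3 x2⟩ le_sup_left)
  have y6 : U ≤ Y := ncl_le y2 (sSup_le fun R hR => le_normalizer_iff_cj_le.2 fun g hg => by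
    obtain ⟨q1, q2⟩ := hR.vtx.rcd_core hR.syl hR.cdh
    exact y5 _ (q1.cj_of_le (q2 ▸ hR.vtx.le_core) y1 (q2 ▸ y5 _ (hR.vtx.rcd hR.syl hR.cdh) (u3 R hR))
      (y3.trans (u1 R hR)) (le_normalizer_pCoreOf p R hg)).1 (cj_le_of_mem_normalizer y3 (u2 R hR hg)))
  obtain rfl := le_antisymm y6 y3
  refine ⟨_, y1.perp, y1.perp_perp.le.trans (le_inf y1.le u4), fun R hR => ?_⟩
  rw [show T ⊓ 𝐂[U] = 𝐐 R ⊓ 𝐂[U] by
    rw [← hR.vtx.inf_cent hR.syl, inf_assoc, inf_eq_right.2 (centralizer_anti (u3 R hR))]]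
  exact le_normalizer_inf (le_normalizer_pCoreOf p R) (le_normalizer_centralizer (u2 R hR))

omit [Finite G] in
theorem exists_gd_amalgam {S : Type u} [Group S] [Finite S] (s : Finset (Subgroup S)) :
    ∃ (X : Type u) (_ : Group X) (_ : Finite X) (f : S →* X), Function.Injective f ∧ ∀ R ∈ s,
      (∃ (G : Type u) (_ : Group G) (_ : Finite G) (τ : S →* G) (P : Subgroup G), Function.Injective τ ∧
        Gd p P τ.range ∧ ¬ P ≤ 𝐍[R.map τ]) → ∃ P, Gd p P f.range ∧ ¬ P ≤ 𝐍[R.map f] := by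
  classical
  induction s using Finset.induction with
  | empty => exact ⟨S, _, ‹_›, MonoidHom.id S, fun _ _ => id, by simp⟩
  | insert R s _ ih =>
    obtain ⟨X, _, _, f, hf, h⟩ := ih
    by_cases hR : ∃ (G : Type u) (_ : Group G) (_ : Finite G) (τ : S →* G) (P : Subgroup G), Function.Injective τ ∧
      Gd p P τ.range ∧ ¬ P ≤ 𝐍[R.map τ]
    swap
    · exact ⟨X, _, ‹_›, f, hf, fun R' hR' h' => h R' ((Finset.mem_insert.1 hR').resolve_left (by
        rintro rfl; exact hR h')) h'⟩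
    obtain ⟨G, _, _, τ, P, hτ, h1, h2⟩ := hR
    obtain ⟨Y, _, _, φ, ψ, hφ, hψ, e⟩ := exists_amalgam hf hτ
    have e' : φ.comp f = ψ.comp τ := MonoidHom.ext e
    have key : ∀ {H : Type u} [Group H] (φ : H →* Y), Function.Injective φ → ∀ A B : Subgroup H,
        A.map φ ≤ 𝐍[B.map φ] → A ≤ 𝐍[B] := fun φ hφ A B h => by
      simpa only [comap_map_eq_self_of_injective hφ] using comap_le_normalizer_comap φ h
    refine ⟨Y, _, ‹_›, φ.comp f, hφ.comp hf, fun R' hR' h' => ?_⟩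
    rcases Finset.mem_insert.1 hR' with rfl | hR'
    · refine ⟨_, e' ▸ MonoidHom.map_range ψ τ ▸ h1.map hψ, fun h3 => h2 (key ψ hψ _ _ ?_)⟩
      rwa [map_map, ← e']
    · obtain ⟨P, h3, h4⟩ := h R' hR' h'
      exact ⟨_, MonoidHom.map_range φ f ▸ h3.map hφ, fun h5 => h4 (key φ hφ _ _ (by rwa [map_map]))⟩

omit [Finite G] in
theorem exists_char_gd (p : ℕ) [Fact p.Prime] (S : Type u) [Group S] [Finite S] [Nontrivial S] :
    ∃ R : Subgroup S, R.Characteristic ∧ R ≠ ⊥ ∧ ∀ (G : Type u) [Group G] [Finite G] (τ : S →* G) (P : Subgroup G),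
      Function.Injective τ → Gd p P τ.range → P ≤ 𝐍[R.map τ] := by
  let 𝒩 : Set (Subgroup S) := {R | ∀ (G : Type u) [Group G] [Finite G] (τ : S →* G) (P : Subgroup G),
    Function.Injective τ → Gd p P τ.range → P ≤ 𝐍[R.map τ]}
  refine ⟨sSup 𝒩, characteristic_iff_map_le.2 fun σ => map_le_iff_le_comap.2 (sSup_le fun R hR =>
    map_le_iff_le_comap.1 (le_sSup fun G _ _ τ P hτ h => ?_)), ?_, fun G _ _ τ P hτ h => ?_⟩
  · rw [map_map]
    refine hR G _ P (hτ.comp σ.injective) ?_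
    rwa [← MonoidHom.map_range, MonoidHom.range_eq_top_of_surjective _ σ.surjective, ← MonoidHom.range_eq_map]
  · by_cases h : ⊤ ∈ 𝒩
    · exact fun e => top_ne_bot (le_bot_iff.1 ((le_sSup h).trans e.le))
    haveI := Fintype.ofFinite (Subgroup S)
    obtain ⟨X, _, _, f, hf, h1⟩ := exists_gd_amalgam (p := p) (Finset.univ : Finset (Subgroup S))
    have h2 : ∀ R, R ∉ 𝒩 → ∃ P, Gd p P f.range ∧ ¬ P ≤ 𝐍[R.map f] := fun R hR => h1 R (Finset.mem_univ R) (by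
      by_contra! h3; exact hR fun G _ _ τ P hτ h4 => h3 G _ ‹_› τ P hτ h4)
    obtain ⟨P, hP, -⟩ := h2 ⊤ h
    obtain ⟨Y, y1, y2, y3⟩ := exists_cl_of_gd hP
    have e1 : (Y.comap f).map f = Y := map_comap_eq_self y1.le
    have h3 : Y.comap f ≤ sSup 𝒩 := le_sSup (by_contra fun h3 => by
      obtain ⟨R, h4, h5⟩ := h2 _ h3
      exact h5 (e1.symm ▸ y3 R h4))
    intro e
    rw [e, le_bot_iff] at h3
    rw [h3, Subgroup.map_bot] at e1
    rw [← e1, centralizer_bot', inf_top_eq, le_bot_iff, MonoidHom.range_eq_map,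
      map_eq_bot_iff_of_injective _ hf] at y2
    exact top_ne_bot y2
  · refine le_normalizer_iff_cj_le.2 fun g hg => ?_
    rw [cj_le_iff, map_le_iff_le_comap]
    refine sSup_le fun R hR => map_le_iff_le_comap.1 (cj_le_iff.1 ?_)
    rw [cj_eq_of_mem_normalizer (hR G τ P hτ h hg)]; exact map_mono (le_sSup hR)

omit [Finite G] in
theorem exists_K (S : Type u) [Group S] [Finite S] [Nontrivial S] (hS : IsPGroup p S)
    (hJ : ⊤ ≤ 𝐂[centerThompsonAOf (⊤ : Subgroup S)]) :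
    ∃ K : Subgroup S, K.Characteristic ∧ K ≠ ⊥ ∧ ∀ (G : Type u) [Group G] [Finite G] (τ : S →* G) (P M : Subgroup G),
      Function.Injective τ → R1 p P τ.range M → ¬ P ≤ 𝐂[τ.range ⊓ 𝐂[τ.range]] →
        P ≤ 𝐍[K.map τ] ∨ (Vtx p P ∧ Out p P) := by
  have hJ' : ∀ {G : Type u} [Group G] (τ : S →* G), Function.Injective τ → τ.range ≤ 𝐂[centerThompsonAOf τ.range] :=
    fun τ hτ => by
      have := map_le_centralizer_map τ hJ
      rwa [H9.centerThompsonAOf_eq, H9.map_centerThompsonOf hτ, ← MonoidHom.range_eq_map,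
        ← H9.centerThompsonAOf_eq] at this
  by_cases h3 : IsElementaryAbelian p (center S)
  swap
  · refine ⟨powerClosure p 1 (⊤ ⊓ 𝐂[(⊤ : Subgroup S)]),
      characteristic_of_map (Φ := fun A => powerClosure p 1 (A ⊓ 𝐂[A])) fun f hf A => by
        rw [map_powerClosure, map_centralizer_inf hf], fun e => h3 (isEA_iff.2 ⟨center_le_centralizer _, fun a ha =>
      mem_bot.1 (e ▸ subset_closure ⟨a, ⟨mem_top a, centralizer_top'.ge ha⟩, by rw [pow_one]⟩)⟩),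
      fun G _ _ τ P M hτ h _ => .inl ?_⟩
    rw [map_powerClosure, map_centralizer_inf hτ, ← MonoidHom.range_eq_map]
    exact le_normalizer_of_le_centralizer (le_centralizer_iff.1 (h.case_power (hJ' τ hτ)))
  obtain ⟨Y, hY⟩ := exists_cl S
  obtain ⟨Q, -, hQ⟩ := hY.exists_mcl
  by_cases h4 : ⁅Q, Q⁆ = ⊥
  swap
  · refine ⟨_, hQ.characteristic, h4, fun G _ _ τ P M hτ h h0 => .inl ?_⟩
    have := (rmc_top.2 hQ).map_injective hτ
    rw [← MonoidHom.range_eq_map] at this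
    rcases h.cases' (hJ' τ hτ) with h1 | h1 | ⟨F, _, _, ⟨N⟩⟩
    · exact (h0 h1).elim
    · exact (h.not_norm h1).elim
    · rw [map_commutator]; exact N.norm_commutator h.syl (rcd_self (hJ' τ hτ)) (le_ncl _ _) this
  obtain ⟨j1, j2, j3⟩ := cd_of_mcl_comm hJ hQ
    (isMulCommutative_iff_le_centralizer.2 (le_centralizer_iff_commutator.2 h4))
  have c : CDH p (⊤ : Subgroup S) := ⟨rcd_top.2 j2, j1.ge.trans (sSup_le_sSup fun A hA =>
    ⟨rcd_top.2 (j3 A hA).1, by rw [top_inf_eq, (j3 A hA).2]⟩), fun a ha => mem_omegaOneCenter.2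
      ⟨ha.1, ha.2, (isEA_iff.1 h3).2 a (centralizer_top'.le ha.2)⟩⟩
  obtain ⟨R, r1, r2, r3⟩ := exists_char_gd p S
  refine ⟨R, r1, r2, fun G _ _ τ P M hτ h h0 => ?_⟩
  have c' := c.map hτ
  rw [← MonoidHom.range_eq_map] at c'
  rcases h.cases' (hJ' τ hτ) with h1 | h1 | ⟨F, _, _, ⟨N⟩⟩
  · exact (h0 h1).elim
  · exact (h.not_norm h1).elim
  rw [c'.center_eq, ← h.syl.scc_eq_ncl] at N
  have hv : Vtx p P := ⟨F, _, ‹_›, ⟨N⟩⟩
  by_cases h1 : O1 p P τ.range ∨ O2 p P τ.range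
  · exact .inr ⟨hv, out_of h1⟩
  · exact .inl (r3 G τ P hτ ⟨hv, h.syl, c', h1⟩)

end Cfsg.Agent.L0.Foc
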