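import Cfsg.Agent.L0.Foc3
import Cfsg.Agent.FV.T1

/-! The centralizer of the centre and the normalizer of one characteristic subgroup control transfer. -/

set_option autoImplicit false

namespace Cfsg.Agent.L0.Foc

open Subgroup Cfsg.Agent.H24 Cfsg.Agent.H3
open scoped commutatorElement
open H9 (maxEA holRep holSub)

universe u

variable {G : Type u} [Group G] {p n : ℕ} {M P S T : Subgroup G}

local notation "𝐐" => pCoreOf p
local notation "𝐙" => omegaOneCenter p
local notation "𝐁" => baumannSubgroupOf p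
local notation "𝐉" => thompsonSubgroupOf p

theorem map_baumN {G' : Type*} [Group G'] {f : G →* G'} (hf : Function.Injective f) (T : Subgroup G) :
    (baumannSubgroupOf n T).map f = baumannSubgroupOf n (T.map f) := map_baum hf T

variable [Finite G] [Fact p.Prime]

theorem cz_or (hG : CharP p (⊤ : Subgroup G)) (hT : SylIn p T ⊤) (hm : MinOver T M ⊤) (hZ : 𝐂[T ⊓ 𝐂[T]] ≤ M) :
    (𝐂[𝐙 T] ≤ M ∧ ¬ ⊤ ≤ 𝐍[𝐉 T]) ∨ ⊤ ≤ 𝐍[𝐁 T] := by
  set Q := 𝐐 (⊤ : Subgroup G) with hQ
  set V := Q ⊓ 𝐂[Q] with hV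
  set Y := omegaOneCenter p Q with hY
  have QT : Q ≤ T := hT.pCoreOf_le
  have ea : IsElementaryAbelian p Y := isEA_omegaOneCenter _ _
  have TV' : T ⊓ 𝐂[T] ≤ V := le_inf (hG.trans' (le_inf le_top (inf_le_right.trans (centralizer_anti QT))))
    (inf_le_right.trans (centralizer_anti QT))
  have nV : ⊤ ≤ 𝐍[V] := le_normalizer_inf (top_le_normalizer _) (le_normalizer_centralizer (top_le_normalizer _))
  have pV : IsPGroup p V := (isPGroup_pCoreOf p _).to_le inf_le_left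
  have c1 : 𝐂[Y] ≤ 𝐂[V] ⊔ T ⊓ 𝐂[Y] := by
    refine PGrpMod.le_sup_of_sylIn (pResidualOf_le_iff.1 (pResidualOf_le_iff_forall.2 fun x hx ho => ?_))
      (le_top.trans (le_normalizer_centralizer nV)) (hT.inf_normal le_top (top_le_normalizer _))
    refine zpowers_le.1 (BG.coprime_abelian_faithful_Ohm1 (isMulCommutative_inf_centralizer Q) pV
      (le_top.trans nV) ?_ (zpowers_le.2 hx))
    rw [Nat.card_zpowers]; exact H21.coprime_of_isPGroup pV ho
  have c2 : 𝐂[Y] ≤ M := c1.trans (sup_le ((centralizer_anti TV').trans hZ) (inf_le_left.trans hm.le))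
  have c3 : T ⊓ 𝐂[Y] ≤ Q := hm.le_pCoreOf hT c2 (top_le_normalizer _) (hT.pgrp.to_le inf_le_left) inf_le_right
  have YT : Y ≤ T := (omegaOneCenter_le p _).trans QT
  by_cases hJ : 𝐉 T ≤ 𝐂[Y]
  · right
    have b1 : 𝐁 T ≤ Q := (inf_le_inf_left _ (centralizer_anti (le_ZJ YT ea (le_centralizer_iff.1 hJ)))).trans c3
    rw [← baum_eq_of b1 QT]
    exact le_normalizer_baum (top_le_normalizer _)
  obtain ⟨A, a1, a2⟩ := exists_maxEA_not_le hJ
  set π := holRep Y
  have hk : π.ker = 𝐂[Y] := H9.ker_holRep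
  have off : 𝐂[A.map π].relIndex (holSub Y Y) ≤ Nat.card (A.map π) := by
    rw [relIndex_hol le_rfl, card_map_hol]; exact maxEA_off ea YT a1
  have m2 : 𝐂[Y ⊓ 𝐂[T]] ≤ M := by
    refine hm.max _ (le_centralizer_iff.1 inf_le_right) (lt_top_iff_ne_top.2 fun e => ?_)
    have m := hm.map π (inf_le_right.trans (hk.le.trans c2))
    have s := hT.map π
    rw [← MonoidHom.range_eq_map] at m s
    refine fix_not_le (H9.isEA_holSub ea) (by rintro _ ⟨g, rfl⟩; exact H9.inr_mem_normalizer _) range_inf_cent m s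
      (FV.core_hol hm hT (le_centralizer_omegaOneCenter _ _) c2) (map_le_range _ _) (H9.isEA_map a1.2.1 π)
      (map_hol_eq_bot.not.2 a2) off ?_
    rw [← holSub_inf_cent le_rfl, MonoidHom.range_eq_map, holSub_le_cent inf_le_left]
    exact le_centralizer_iff.1 e.ge
  refine .inl ⟨(centralizer_anti (le_omegaOneCenter (isEA_of_le inf_le_left ea) (inf_le_left.trans YT)
    inf_le_right)).trans m2, fun e => hJ ((le_pCoreOf le_top (hT.pgrp.to_le (H9.thompsonOf_le p T)) e).trans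
      (le_centralizer_omegaOneCenter _ _))⟩

theorem baumN (h : R1 p P S M) (h1 : ¬ P ≤ 𝐂[omegaOneCenter n S]) (h2 : P ⊓ 𝐍[baumannSubgroupOf n S] ≤ M) :
    ∃ L ≤ P, R1 p L (baumannSubgroupOf n S) (L ⊓ M) ∧ ¬ L ≤ M := by
  obtain k | ⟨k, -⟩ | ⟨F, _, _, N, ea, A, a1, a2⟩ := h.cases n
  · exact (h1 k).elim
  · exact (h.min.lt.not_ge ((le_inf le_rfl k).trans h2)).elim
  have e := N.baumann_syl h.syl ea a1 a2
  rw [baum_def'] at e
  have h3 : S ≤ baumannSubgroupOf n S ⊔ 𝐐 P :=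
    (N.repl h.syl ea a1 a2).2.trans (sup_le_sup_right (le_baum_of_mem a1) _)
  set L := ncl (baumannSubgroupOf n S) P
  have l1 : L ≤ P := ncl_le_self (baum_le.trans h.syl.le)
  have l2 : P ≤ 𝐍[L] := le_normalizer_ncl _ _
  have l3 : ¬ L ≤ M := fun k => a2 (h.min.le_pCoreOf h.syl k l2 (h.syl.pgrp.to_le a1.1)
    ((le_baum_of_mem a1).trans (le_ncl _ _)))
  have s := h.syl.inf_normal l1 l2
  rw [e] at s
  have q : ⁅𝐐 P, L⁆ ≤ baumannSubgroupOf n S := e ▸ le_inf ((commutator_le_left_of_le_normalizer (l1.trans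
    (le_normalizer_pCoreOf p P))).trans h.syl.pCoreOf_le)
    (commutator_le_right_of_le_normalizer ((pCoreOf_le p P).trans l2))
  refine ⟨L, l1, ⟨h.charP.of_normal l1 l2, s, minOver_of s (le_inf s.le (baum_le.trans h.min.le))
    (inf_lt_left.2 l3) (fun X x1 x2 => le_inf x2.le (by_contra fun x3 => x2.not_ge ?_))
    fun k => l3 ((le_inf l1 k).trans h2), fun g hg g0 => ?_⟩, l3⟩
  · have x4 : 𝐐 P ≤ 𝐍[X] := le_normalizer_iff_cj_le.2 fun y hy => cj_le_iff'.2 fun x hx => by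
      simpa [commutatorElement_def] using X.mul_mem (x1 (q (commutator_mem_commutator hy (x2.le hx)))) hx
    have x5 := h.min.eq_of_not_le (h3.trans (sup_le_sup_right x1 _)) (sup_le (x2.le.trans l1) (pCoreOf_le p P))
      fun k => x3 (le_sup_left.trans k)
    calc L = (X ⊔ 𝐐 P) ⊓ L := (inf_eq_right.2 (l1.trans x5.ge)).symm
      _ = X ⊔ 𝐐 P ⊓ L := sup_inf_of_le_normalizer_left x4 x2.le
      _ ≤ X := sup_le le_rfl ((inf_le_inf_right _ h.syl.pCoreOf_le).trans (e.le.trans x1))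
  · exact (le_inf (inf_le_left.trans s.le) ((inf_le_inf baum_le (cj_mono baum_le g)).trans
      (h.ti g (l1 hg) fun k => g0 ⟨hg, k⟩))).trans (inf_pCoreOf_le l1)

/-- the configuration of a minimal counterexample -/
def Bad (p : ℕ) {G : Type u} [Group G] (S : Subgroup G) : Prop :=
  CharP p (⊤ : Subgroup G) ∧ SylIn p S ⊤ ∧ ¬ S ≤ pCore p G ∧ ∃ M : Subgroup G, M ≠ ⊤ ∧
    (∀ H : Subgroup G, S ≤ H → H ≠ ⊤ → H ≤ M) ∧ 𝐂[S ⊓ 𝐂[S]] ≤ M ∧
      ∀ B L : Subgroup G, Vtx p L → SylIn p B L → MinOver B (L ⊓ M) L → pCore p G ≤ 𝐍[B] → ¬ Out p L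

omit [Finite G] in
theorem exists_normal (S : Type u) [Group S] [Finite S] [Nontrivial S] (hS : IsPGroup p S) :
    ∃ K : Subgroup S, K ≠ ⊥ ∧ ∀ (G : Type u) [Group G] [Finite G] (τ : S →* G), Function.Injective τ →
      Bad p τ.range → (K.map τ).Normal := by
  set B : Subgroup S := baumannSubgroupOf 0 (𝐁 ⊤) with hB
  have pB : IsPGroup p B := hS.to_subgroup B
  have b0 : B ≠ ⊥ := fun e => by
    have h1 : 𝐁 (⊤ : Subgroup S) ≠ ⊥ := baum_ne_bot (hS.to_subgroup _) top_ne_bot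
    refine center_ne_bot (hS.to_subgroup _) h1 (le_bot_iff.1 (le_trans ?_ e.le))
    exact le_inf inf_le_left (inf_le_right.trans (centralizer_anti ((omegaOne_zero _).le.trans
      (H9.centerThompsonOf_le 0 _))))
  haveI := (Subgroup.nontrivial_iff_ne_bot B).2 b0
  have hJ : B ≤ 𝐂[centerThompsonOf 0 B] := by
    rw [centerThompsonOf, hB, J_baum, ← centerThompsonOf, ← omegaOne_zero (centerThompsonOf 0 _)]
    exact inf_le_right
  obtain ⟨K, k1, k2, k3⟩ := exists_K (p := p) B pB (le_cent_of_map B.subtype_injective (by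
    rwa [H9.centerThompsonAOf_eq, H9.map_centerThompsonOf B.subtype_injective, map_subtype_top]))
  refine ⟨K.map B.subtype, fun e => k2 (map_subtype_eq_bot_iff.1 e), fun G _ _ τ hτ hb => ?_⟩
  obtain ⟨hc, hT, hne, M, m1, m2, m3, m4⟩ := hb
  set T := τ.range with hTd
  have eB : (τ.comp B.subtype).range = baumannSubgroupOf 0 (𝐁 T) := by
    rw [MonoidHom.range_comp, range_subtype, hB, map_baumN hτ, map_baum hτ, ← MonoidHom.range_eq_map]
  have i2 : Function.Injective (τ.comp B.subtype) := hτ.comp B.subtype_injective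
  rw [map_map]
  set K' := K.map (τ.comp B.subtype) with hK'
  have n1 : 𝐍[baumannSubgroupOf 0 (𝐁 T)] ≤ 𝐍[K'] := by
    rw [← eB]
    refine normalizer_le_of_char (map_le_range _ _) ?_
    have : K'.subgroupOf (τ.comp B.subtype).range = K.map (MonoidHom.ofInjective i2).toMonoidHom := by
      ext ⟨x, hx⟩
      constructor
      · rintro ⟨y, hy, rfl⟩; exact ⟨y, hy, rfl⟩
      · rintro ⟨y, hy, e⟩; exact ⟨y, hy, congrArg Subtype.val e⟩
    rw [this]
    refine characteristic_iff_map_eq.2 fun φ => ?_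
    have := congrArg (Subgroup.map (MonoidHom.ofInjective i2).toMonoidHom) (characteristic_iff_map_eq.1 k1
      ((MonoidHom.ofInjective i2).trans (φ.trans (MonoidHom.ofInjective i2).symm)))
    conv_rhs => rw [← this]
    rw [map_map, map_map]
    congr 1
    ext x; simp
  have n2 : 𝐍[𝐁 T] ≤ 𝐍[baumannSubgroupOf 0 (𝐁 T)] := le_normalizer_baum le_rfl
  have n3 : T ≤ 𝐍[𝐁 T] := le_normalizer_baum le_normalizer
  by_contra h0
  have n4 : 𝐍[K'] ≤ M := m2 _ (n3.trans (n2.trans n1)) fun e => h0 (top_le_normalizer_iff.1 e.ge)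
  have t0 : T ≠ ⊤ := fun e => hne (by
    haveI : T.Normal := e ▸ inferInstance
    exact H1.le_pCore hT.pgrp)
  have hM : ¬ ⊤ ≤ M := fun e => m1 (top_le_iff.1 e)
  have hm : MinOver T M ⊤ := minOver_of hT (m2 T le_rfl t0) (lt_top_iff_ne_top.2 m1) (fun X x1 x2 => m2 X x1 x2.ne)
    fun e => hM ((le_normalizer_baum e).trans (n2.trans (n1.trans n4)))
  have nB : ¬ ⊤ ≤ 𝐍[𝐁 T] := fun e => hM (e.trans (n2.trans (n1.trans n4)))
  obtain ⟨z1, z2⟩ := (cz_or hc hT hm m3).resolve_right nB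
  obtain ⟨L, l1, l2, -⟩ := pb1_top hc hT hm z1 z2 nB
  have zz : ∀ X ≤ T, 𝐙 T ≤ X → 𝐂[X ⊓ 𝐂[X]] ≤ M := fun X x1 x2 => (centralizer_anti (le_inf x2
    ((omegaOneCenter_le_centralizer p T).trans (centralizer_anti x1)))).trans z1
  have z3 : 𝐙 T ≤ 𝐁 T := Z_le_ZJ.trans ZJ_le_baum
  obtain ⟨L', k4, k5, k6⟩ := baumN (n := 0) l1 (fun e => l2 (e.trans (by
    rw [omegaOneCenter_zero]; exact zz _ baum_le z3))) (inf_le_inf_left _ (n1.trans n4))
  rw [← inf_assoc, inf_eq_left.2 k4] at k5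
  have k7 : ¬ L' ≤ M := fun e => k6 (le_inf k4 e)
  have z4 : 𝐙 T ≤ baumannSubgroupOf 0 (𝐁 T) := le_inf z3 ((omegaOneCenter_le_centralizer p T).trans
    (centralizer_anti ((omegaOne_zero _).le.trans ((H9.centerThompsonOf_le 0 _).trans baum_le))))
  rcases k3 G _ L' _ i2 (eB ▸ k5) (fun e => k7 (e.trans (eB ▸ zz _ (baum_le.trans baum_le) z4))) with k | ⟨k8, k9⟩
  · exact k7 (k.trans n4)
  · refine m4 _ L' k8 k5.syl k5.min (le_trans ?_ (n3.trans n2)) k9
    rw [← pCoreOf_top]; exact hT.pCoreOf_le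

/-- the functor -/
def KK (p : ℕ) (S : Type u) [Group S] : Subgroup S :=
  sSup {K | ∀ (G : Type u) [Group G] [Finite G] (τ : S →* G), Function.Injective τ → Bad p τ.range → (K.map τ).Normal}

omit [Finite G] [Fact p.Prime] in
theorem map_KK_le {S S' : Type u} [Group S] [Group S'] (φ : S ≃* S') : (KK p S).map φ.toMonoidHom ≤ KK p S' := by
  refine map_le_iff_le_comap.2 (sSup_le fun R hR => map_le_iff_le_comap.1 (le_sSup fun G _ _ τ hτ h => ?_))
  rw [map_map]
  refine hR G _ (hτ.comp φ.injective) ?_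
  rwa [← MonoidHom.map_range, MonoidHom.range_eq_top_of_surjective _ φ.surjective, ← MonoidHom.range_eq_map]

omit [Finite G] in
theorem KK_isChar : IsCharPFunctor.{u} p (KK p) := by
  refine ⟨fun Q _ _ hQ _ e => ?_, fun Q R _ _ _ _ φ => le_antisymm (map_KK_le φ) ?_⟩
  · obtain ⟨K, h1, h2⟩ := exists_normal Q hQ
    have : K ≤ KK p Q := le_sSup h2
    exact h1 (le_bot_iff.1 (this.trans e.le))
  · conv_lhs => rw [← map_symm_map φ (KK p R)]
    exact map_mono (map_KK_le φ.symm)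

omit [Fact p.Prime] in
theorem KK_normal (h : Bad p S) : (inducedFunctor (KK p) S).Normal := by
  refine normal_of_forall_cj_le fun g => ?_
  rw [cj_le_iff, inducedFunctor, map_le_iff_le_comap]
  refine sSup_le fun R hR => map_le_iff_le_comap.1 (cj_le_iff.1 ?_)
  haveI := hR G S.subtype S.subtype_injective (by rwa [range_subtype])
  rw [cj_eq_of_normal]; exact map_mono (le_sSup hR)

/-- the local system -/
def sys (p : ℕ) (X : Type u) [Group X] (T : Subgroup X) : Set (Subgroup X) :=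
  {𝐂[T ⊓ 𝐂[T]], 𝐍[inducedFunctor (KK p) T]}

omit [Finite G] in
theorem locSys_sys : LocSys.{u} p (sys p) := by
  have h := locSys_char.{u} (p := p) (𝓦 := {KK p}) (by simpa using KK_isChar)
  refine ⟨fun X Y _ _ _ _ f hf T hT L hL => ?_, fun X _ _ T hT h0 L hL => ?_, fun X _ _ K _ hK T hT L hL => ?_⟩
  · rcases hL with rfl | rfl
    · refine ⟨_, .inl rfl, ?_⟩
      rw [← map_centralizer_inf hf]; exact map_le_centralizer_map f le_rfl
    · obtain ⟨L', h1, h2⟩ := h.nat X Y f hf T hT _ (by rw [charSys_singleton]; rfl)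
      rw [charSys_singleton] at h1
      exact ⟨L', .inr h1, h2⟩
  · rcases hL with rfl | rfl
    · exact ⟨_, inf_le_left, center_ne_bot hT h0, le_normalizer_inf le_rfl (le_normalizer_centralizer le_rfl),
        centralizer_le_normalizer' _⟩
    · exact h.loc X T hT h0 _ (by rw [charSys_singleton]; rfl)
  · rcases hL with rfl | rfl
    · refine ⟨_, .inl rfl, le_centralizer_iff.1 inf_le_right, ?_⟩
      have hp' : IsPGroup p (T ⊓ 𝐂[T] : Subgroup X) := hT.to_le inf_le_left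
      rw [← H1.centralizer_map_mk'_eq (coprime_card_of_isPGroup hp' hK).symm (Or.inl (isSolvable_of_isPGroup hp'))]
      exact centralizer_anti (le_inf (map_mono inf_le_left) (map_le_centralizer_map _ inf_le_right))
    · obtain ⟨L', h1, h2⟩ := h.lift X K hK T hT _ (by rw [charSys_singleton]; rfl)
      rw [charSys_singleton] at h1
      exact ⟨L', .inr h1, h2⟩

theorem tf_step' (hp : p ≠ 2) (hc : 𝐂[pCore p G] ≤ pCore p G) (ih : PropTF p (sys p) G) (S : Sylow p G) :
    TF (sys p G S) S ⊤ := by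
  by_contra hG
  have key : ¬ (inducedFunctor (KK p) (S : Subgroup G)).Normal := fun e =>
    hG (tf_of_top_mem (.inr (top_le_iff.1 (top_le_normalizer _)).symm) _)
  have hne : ¬ (S : Subgroup G) ≤ pCore p G := fun e => key (ind_normal_of_le_pCore KK_isChar (H3.sylowIn_top S) e)
  obtain ⟨M, h1, h2, h3⟩ := setup hp locSys_sys ih S hne hG
  exact key (KK_normal ⟨charP_top_iff.2 hc, sylIn_top S, hne, M, h1, h2, h2 _ (le_centralizer_iff.1 inf_le_right)
    fun e => hG (tf_of_top_mem (.inl e.symm) _), h3⟩)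

theorem tf_sys (hp : p ≠ 2) (T : Subgroup G) (hT : SylowIn p T ⊤) : TF (sys p G T) T ⊤ :=
  tf_of_constrained_kr (G := G) locSys_sys (fun _ _ _ hc ih T => tf_step' hp hc ih T) G (Sec.refl G) T hT

end Cfsg.Agent.L0.Foc
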