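/-
A 2-group with an involutory automorphism and a commuting Singer-type automorphism.
-/
import Cfsg.Agent.H4.Hig4

set_option autoImplicit false
set_option linter.unusedSectionVars false

namespace Cfsg.Agent.L0.HG

open Subgroup H4
open scoped commutatorElement

universe u

variable {F : Type*} [Field F] [Fintype F] [CharP F 2]

/-- The hypothesis, with a coordinate on the fixed points of `α`. -/
structure HH {Q : Type*} [Group Q] (α ρ : MulAut Q) (d : Q → F) (l : F) : Prop where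
  pg : IsPGroup 2 Q
  aa : ∀ x, α (α x) = x
  ar : ∀ x, α (ρ x) = ρ (α x)
  add : ∀ x y, α x = x → α y = y → d (x * y) = d x + d y
  ker : ∀ x, α x = x → d x = 0 → x = 1
  surj : ∀ c, ∃ x, α x = x ∧ d x = c
  eqv : ∀ x, α x = x → d (ρ x) = l * d x
  gen : Gen l
  big : 2 < Fintype.card F

/-- fixed points -/
def Cc {Q : Type*} [Group Q] (α : MulAut Q) : Subgroup Q := α.toMonoidHom.eqLocus (MonoidHom.id Q)

theorem mem_Cc {Q : Type*} [Group Q] {α : MulAut Q} {x : Q} : x ∈ Cc α ↔ α x = x := Iff.rfl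

theorem gen_all {l : F} (hl : Gen l) {P : F → Prop} (hP : ∀ x, P x → P (l * x)) {u : F} (hu : u ≠ 0)
    (h : P u) {v : F} (hv : v ≠ 0) : P v := by
  obtain ⟨i, hi⟩ := hl (v / u) (div_ne_zero hv hu)
  have : ∀ j : ℕ, P (l ^ j * u) := fun j => by
    induction j with
    | zero => simpa using h
    | succ j ih => rw [pow_succ', mul_assoc]; exact hP _ ih
  have h1 := this i
  rwa [hi, div_mul_cancel₀ _ hu] at h1

theorem exists_fixed {Q : Type*} [Group Q] [Finite Q] [Nontrivial Q] (hQ : IsPGroup 2 Q) (α : MulAut Q)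
    (ha : ∀ x, α (α x) = x) : ∃ z ∈ center Q, z ≠ 1 ∧ α z = z := by
  have := hQ.center_nontrivial
  obtain ⟨w, hw⟩ := exists_ne (1 : center Q)
  obtain ⟨k, h1, h2⟩ := exists_invol_pow hQ (x := w.1) fun e => hw (Subtype.ext e)
  have hc : w.1 ^ k ∈ center Q := pow_mem w.2 k
  have hc' : α (w.1 ^ k) ∈ center Q := kinv_center _ hc
  by_cases e : w.1 ^ k * α (w.1 ^ k) = 1
  · exact ⟨_, hc, h1, mul_left_cancel (e.trans h2.symm)⟩
  · exact ⟨_, mul_mem hc hc', e, by rw [map_mul, ha, mem_center_iff.1 hc]⟩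

/-- the induced automorphism of a quotient -/
def qa {Q : Type*} [Group Q] (C : Subgroup Q) [C.Normal] (φ : MulAut Q) (h : ∀ x, φ x ∈ C ↔ x ∈ C) :
    MulAut (Q ⧸ C) :=
  QuotientGroup.congr C C φ (by
    ext x
    constructor
    · rintro ⟨y, hy, rfl⟩; exact (h y).2 hy
    · exact fun hx => ⟨φ.symm x, (h _).1 (by simpa using hx), by simp⟩)

theorem qa_mk {Q : Type*} [Group Q] (C : Subgroup Q) [C.Normal] (φ : MulAut Q) (h : ∀ x, φ x ∈ C ↔ x ∈ C)
    (x : Q) : qa C φ h (x : Q ⧸ C) = (φ x : Q ⧸ C) := rfl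

namespace HH

variable {Q : Type*} [Group Q] [Finite Q] {α ρ : MulAut Q} {d : Q → F} {l : F} (h : HH α ρ d l)
include h

theorem rho_mem (x : Q) : ρ x ∈ Cc α ↔ x ∈ Cc α := by
  rw [mem_Cc, mem_Cc, h.ar, ρ.injective.eq_iff]

theorem al_mem (x : Q) : α x ∈ Cc α ↔ x ∈ Cc α := by
  rw [mem_Cc, mem_Cc, α.injective.eq_iff]

theorem d_one : d 1 = 0 := by
  have := h.add 1 1 (map_one _) (map_one _)
  rw [mul_one] at this
  linear_combination -this

theorem coordC : Coord ρ (Cc α) ⊥ d l :=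
  ⟨bot_le, fun x hx => (h.rho_mem x).2 hx, fun u hu v hv => h.add u v hu hv,
    fun u hu => ⟨fun e => h.ker u hu e, fun e => by rw [mem_bot.1 e, h.d_one]⟩,
    fun x => h.surj x, fun u hu => h.eqv u hu, h.gen⟩

theorem inj {x y : Q} (hx : x ∈ Cc α) (hy : y ∈ Cc α) (e : d x = d y) : x = y :=
  inv_mul_eq_one.1 (mem_bot.1 ((h.coordC.eq_iff hx hy).1 e))

theorem le_of_inv {V : Subgroup Q} (hV : KInv ρ V) {z : Q} (h1 : z ∈ V) (h2 : z ≠ 1) (h3 : α z = z) :
    Cc α ≤ V := fun x hx => by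
  obtain ⟨v, hv, e⟩ := h.coordC.irred (V := V ⊓ Cc α) (fun y hy => ⟨hV y hy.1, (h.rho_mem y).2 hy.2⟩)
    inf_le_right (fun hl => h2 (mem_bot.1 (hl ⟨h1, h3⟩))) (d x)
  exact h.inj hv.2 hx e ▸ hv.1

theorem nontriv : Nontrivial Q := by
  obtain ⟨x, -, hx⟩ := h.surj 1
  exact ⟨x, 1, fun e => by rw [e, h.d_one] at hx; exact zero_ne_one hx⟩

theorem C_le : Cc α ≤ center Q := by
  have := h.nontriv
  obtain ⟨z, h1, h2, h3⟩ := exists_fixed h.pg α h.aa
  exact h.le_of_inv kinv_center h1 h2 h3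

theorem cen {c : Q} (hc : c ∈ Cc α) (x : Q) : x * c = c * x := mem_center_iff.1 (h.C_le hc) x

theorem C_normal : (Cc α).Normal := ⟨fun c hc g => by rwa [h.cen hc, mul_inv_cancel_right]⟩

theorem sq {c : Q} (hc : c ∈ Cc α) : c * c = 1 := mem_bot.1 (h.coordC.sq_mem hc)

theorem card_C : Nat.card (Cc α) = Fintype.card F := by rw [h.coordC.card_eq, card_bot, mul_one]

end HH

/-- the cocycle -/
def co {Q : Type*} [Group Q] (α : MulAut Q) (x : Q) : Q := x⁻¹ * α x

theorem aa_mul {Q : Type*} [Group Q] (α : MulAut Q) (x y : Q) :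
    co α (x * y) = y⁻¹ * co α x * y * co α y := by simp only [co, map_mul]; group

theorem aa_eq_iff {Q : Type*} [Group Q] {α : MulAut Q} {x y : Q} : co α x = co α y ↔ y * x⁻¹ ∈ Cc α := by
  rw [mem_Cc, co, co, map_mul, map_inv]
  constructor
  · intro e
    calc α y * (α x)⁻¹ = y * (y⁻¹ * α y) * (α x)⁻¹ := by group
      _ = y * x⁻¹ := by rw [← e]; group
  · intro e
    calc x⁻¹ * α x = y⁻¹ * (y * x⁻¹) * α x := by group
      _ = y⁻¹ * α y := by rw [← e]; group

theorem aa_eq_one {Q : Type*} [Group Q] {α : MulAut Q} {x : Q} : co α x = 1 ↔ x ∈ Cc α := by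
  rw [co, inv_mul_eq_one, eq_comm, mem_Cc]

namespace HH

variable {Q : Type*} [Group Q] [Finite Q] {α ρ : MulAut Q} {d : Q → F} {l : F} (h : HH α ρ d l)
include h

theorem al_aa (x : Q) : α (co α x) = (co α x)⁻¹ := by simp [co, h.aa]

theorem aa_rho (x : Q) : co α (ρ x) = ρ (co α x) := by simp [co, h.ar]

theorem quot [(Cc α).Normal] (hne : Cc α ≠ ⊤) : ∃ d' : Q ⧸ Cc α → F,
    HH (qa _ α h.al_mem) (qa _ ρ h.rho_mem) d' l := by
  have hout : ∀ x : Q, co α (x : Q ⧸ Cc α).out = co α x := fun x => by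
    obtain ⟨c, hc⟩ := QuotientGroup.mk_out_eq_mul (Cc α) x
    rw [hc, aa_eq_iff, h.cen c.2]
    simp
  have hfix : ∀ x : Q, qa _ α h.al_mem (x : Q ⧸ Cc α) = x ↔ co α x ∈ Cc α := fun x => by
    rw [qa_mk, eq_comm, QuotientGroup.eq]; rfl
  have hpg : IsPGroup 2 (Q ⧸ Cc α) := h.pg.to_quotient _
  have haa : ∀ x, qa _ α h.al_mem (qa _ α h.al_mem x) = x := fun x => by
    induction x using QuotientGroup.induction_on with | H x => rw [qa_mk, qa_mk, h.aa]
  refine ⟨fun x => d (co α x.out), hpg, haa, fun x => ?_, fun x y => ?_, fun x => ?_, fun c => ?_, fun x => ?_,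
    h.gen, h.big⟩
  · induction x using QuotientGroup.induction_on with | H x => simp only [qa_mk, h.ar]
  · induction x using QuotientGroup.induction_on with | H x => ?_
    induction y using QuotientGroup.induction_on with | H y => ?_
    intro hx hy
    rw [hfix] at hx hy
    rw [← QuotientGroup.mk_mul, hout, hout, hout, aa_mul, mul_assoc y⁻¹, ← h.cen hx, inv_mul_cancel_left,
      h.add _ _ hx hy]
  · induction x using QuotientGroup.induction_on with | H x => ?_
    intro hx e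
    rw [hfix] at hx
    rw [hout] at e
    exact (QuotientGroup.eq_one_iff x).2 (aa_eq_one.1 (h.ker _ hx e))
  · by_cases hc : c = 0
    · exact ⟨1, map_one _, by rw [← QuotientGroup.mk_one, hout, aa_eq_one.2 (one_mem _), h.d_one, hc]⟩
    have : Nontrivial (Q ⧸ Cc α) := QuotientGroup.nontrivial_iff.2 hne
    obtain ⟨z, -, h2, h3⟩ := exists_fixed hpg _ haa
    induction z using QuotientGroup.induction_on with | H z => ?_
    rw [hfix] at h3
    obtain ⟨x, hx, e⟩ := gen_all h.gen (P := fun c => ∃ x, co α x ∈ Cc α ∧ d (co α x) = c)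
      (fun _ ⟨x, h1, h2⟩ => ⟨ρ x, by rwa [h.aa_rho, h.rho_mem], by rw [h.aa_rho, h.eqv _ h1, h2]⟩)
      (fun e => h2 ((QuotientGroup.eq_one_iff z).2 (aa_eq_one.1 (h.ker _ h3 e)))) ⟨z, h3, rfl⟩ hc
    exact ⟨x, (hfix x).2 hx, by rw [hout, e]⟩
  · induction x using QuotientGroup.induction_on with | H x => ?_
    intro hx
    rw [hfix] at hx
    rw [qa_mk, hout, hout, h.aa_rho, h.eqv _ hx]

end HH

theorem exists_A_aux {l : F} (k : ℕ) : ∀ (Q : Type u) [Group Q] [Finite Q] (α ρ : MulAut Q) (d : Q → F),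
    Nat.card Q = k → HH α ρ d l →
    ∃ A : Subgroup Q, A.Normal ∧ A.index = Fintype.card F ∧ ∀ x, co α x ∈ A := by
  induction k using Nat.strong_induction_on with | _ k ih => ?_
  intro Q _ _ α ρ d hk h
  by_cases e : Cc α = ⊤
  · refine ⟨⊥, inferInstance, by rw [index_bot, ← h.card_C, e, card_top], fun x => ?_⟩
    rw [mem_bot, aa_eq_one, e]; trivial
  have := h.C_normal
  obtain ⟨d', h'⟩ := h.quot e
  obtain ⟨A, h1, h2, h3⟩ := ih _ (by
    rw [← hk, card_eq_card_quotient_mul_card_subgroup (Cc α), h.card_C]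
    have := h.big
    have h0 : 0 < Nat.card (Q ⧸ Cc α) := Nat.card_pos
    nlinarith) (Q ⧸ Cc α) _ _ d' rfl h'
  exact ⟨A.comap (QuotientGroup.mk' _), inferInstance,
    by rw [index_comap_of_surjective _ (QuotientGroup.mk'_surjective _), h2], fun x => h3 x⟩

theorem HH.exists_A {Q : Type*} [Group Q] [Finite Q] {α ρ : MulAut Q} {d : Q → F} {l : F} (h : HH α ρ d l) :
    ∃ A : Subgroup Q, A.Normal ∧ A.index = Fintype.card F ∧ ∀ y, y ∈ A ↔ ∃ x, co α x = y := by
  obtain ⟨A, h1, h2, h3⟩ := exists_A_aux _ Q α ρ d rfl h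
  refine ⟨A, h1, h2, fun y => ⟨fun hy => ?_, fun ⟨x, e⟩ => e ▸ h3 x⟩⟩
  have := h.C_normal
  let f : Q ⧸ Cc α → A := fun x => ⟨co α x.out, h3 _⟩
  have hf : Function.Injective f := fun x y e => by
    have h4 := aa_eq_iff.1 (congrArg Subtype.val e)
    rw [← x.out_eq, ← y.out_eq]
    exact QuotientGroup.eq.2 (this.mem_comm h4)
  obtain ⟨x, hx⟩ := ((Nat.bijective_iff_injective_and_card f).2 ⟨hf, by
    have e1 := card_eq_card_quotient_mul_card_subgroup (Cc α)
    rw [← A.card_mul_index, h2, h.card_C] at e1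
    exact (Nat.eq_of_mul_eq_mul_right Fintype.card_pos e1).symm⟩).2 ⟨y, hy⟩
  exact ⟨_, congrArg Subtype.val hx⟩

end Cfsg.Agent.L0.HG
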