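/-
The abelian subgroup inverted by `α` and the structure of the non-abelian case.
-/
import Cfsg.Agent.L0.HG1

set_option autoImplicit false
set_option linter.unusedSectionVars false

namespace Cfsg.Agent.L0.HG

open Subgroup H4
open scoped commutatorElement

variable {F : Type*} [Field F] [Fintype F] [CharP F 2]

/-- The hypothesis together with the subgroup of inverted elements. -/
structure HB {Q : Type*} [Group Q] (α ρ : MulAut Q) (d : Q → F) (l : F) (A : Subgroup Q) : Prop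
    extends HH α ρ d l where
  nrm : A.Normal
  idx : A.index = Fintype.card F
  mem : ∀ y, y ∈ A ↔ ∃ x, co α x = y

namespace HB

variable {Q : Type*} [Group Q] [Finite Q] {α ρ : MulAut Q} {d : Q → F} {l : F} {A : Subgroup Q}
  (h : HB α ρ d l A)
include h

theorem co_mem (x : Q) : co α x ∈ A := (h.mem _).2 ⟨x, rfl⟩

theorem inv {y : Q} (hy : y ∈ A) : α y = y⁻¹ := by
  obtain ⟨x, rfl⟩ := (h.mem y).1 hy
  exact h.al_aa x

theorem ab {y z : Q} (hy : y ∈ A) (hz : z ∈ A) : Commute y z := by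
  have := h.inv (mul_mem hy hz)
  rw [map_mul, h.inv hy, h.inv hz, ← mul_inv_rev, inv_inj] at this
  exact this.symm

theorem kinv : KInv ρ A := fun y hy => by
  obtain ⟨x, rfl⟩ := (h.mem y).1 hy
  rw [← h.aa_rho]; exact h.co_mem _

theorem memC {y : Q} (hy : y ∈ A) (e : y * y = 1) : y ∈ Cc α := by
  rw [mem_Cc, h.inv hy]; exact inv_eq_of_mul_eq_one_right e

theorem co_A {y : Q} (hy : y ∈ A) : co α y = (y * y)⁻¹ := by rw [co, h.inv hy, mul_inv_rev]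

/-- the layers of `A` -/
def B (i : ℕ) : Subgroup Q where
  carrier := {y | y ∈ A ∧ y ^ 2 ^ i = 1}
  mul_mem' := fun ha hb => ⟨mul_mem ha.1 hb.1, by rw [(h.ab ha.1 hb.1).mul_pow, ha.2, hb.2, mul_one]⟩
  one_mem' := ⟨one_mem _, one_pow _⟩
  inv_mem' := fun ha => ⟨inv_mem ha.1, by rw [inv_pow, ha.2, inv_one]⟩

theorem mem_B {i : ℕ} {y : Q} : y ∈ h.B i ↔ y ∈ A ∧ y ^ 2 ^ i = 1 := Iff.rfl

theorem powC {i : ℕ} {y : Q} (hy : y ∈ h.B (i + 1)) : y ^ 2 ^ i ∈ Cc α :=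
  h.memC (pow_mem hy.1 _) (by rw [← pow_two, ← pow_mul, ← pow_succ, hy.2])

theorem B_conj {i : ℕ} {y : Q} (hy : y ∈ h.B i) (x : Q) : x * y * x⁻¹ ∈ h.B i :=
  ⟨h.nrm.conj_mem _ hy.1 x, by rw [conj_pow, hy.2, mul_one, mul_inv_cancel]⟩

theorem c_conj {i : ℕ} {y : Q} (hy : y ∈ h.B (i + 1)) (x : Q) : (x * y * x⁻¹) ^ 2 ^ i = y ^ 2 ^ i := by
  rw [conj_pow, h.cen (h.powC hy), mul_inv_cancel_right]

theorem d_inv {c : Q} (hc : c ∈ Cc α) : d c⁻¹ = d c := h.coordC.inv' hc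

theorem exists_exp (hne : A ≠ ⊥) : ∃ e, A = h.B (e + 1) ∧ ∃ y ∈ A, y ^ 2 ^ e ≠ 1 := by
  classical
  have hex : ∃ k, ∀ y ∈ A, y ^ 2 ^ k = 1 := by
    obtain ⟨k, hk⟩ := h.pg.exists_card_eq
    exact ⟨k, fun y _ => hk ▸ pow_card_eq_one'⟩
  have h0 : Nat.find hex ≠ 0 := fun e => hne (eq_bot_iff.2 fun y hy => by
    simpa [e] using Nat.find_spec hex y hy)
  obtain ⟨e, he⟩ := Nat.exists_eq_succ_of_ne_zero h0
  have h1 := Nat.find_spec hex
  have h2 := Nat.find_min hex (m := e) (by omega)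
  rw [he] at h1
  push Not at h2
  exact ⟨e, le_antisymm (fun y hy => ⟨hy, h1 y hy⟩) fun y hy => hy.1, h2⟩

theorem coordB {e i : ℕ} (he : A = h.B (e + 1)) (h0 : ∃ y ∈ A, y ^ 2 ^ e ≠ 1) (hi : i ≤ e) :
    Coord ρ (h.B (i + 1)) (h.B i) (fun y => d (y ^ 2 ^ i)) l := by
  have hk : KInv ρ (h.B (i + 1)) := fun y hy => ⟨h.kinv y hy.1, by rw [← map_pow, hy.2, map_one]⟩
  have hq : ∀ u ∈ h.B (i + 1), d (ρ u ^ 2 ^ i) = l * d (u ^ 2 ^ i) := fun u hu => by
    rw [← map_pow, h.eqv _ (h.powC hu)]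
  refine ⟨fun y hy => ⟨hy.1, by rw [pow_succ, pow_mul, hy.2, one_pow]⟩, hk, fun u hu v hv => ?_,
    fun u hu => ⟨fun e => ⟨hu.1, h.ker _ (h.powC hu) e⟩, fun e => by rw [e.2, h.d_one]⟩, fun x => ?_, hq, h.gen⟩
  · rw [(h.ab hu.1 hv.1).mul_pow, h.add _ _ (h.powC hu) (h.powC hv)]
  · by_cases hx : x = 0
    · exact ⟨1, one_mem _, by rw [one_pow, h.d_one, hx]⟩
    obtain ⟨y, hy, h1⟩ := h0
    obtain ⟨k, rfl⟩ := Nat.exists_eq_add_of_le hi
    have h2 : (y ^ 2 ^ k) ^ 2 ^ i = y ^ 2 ^ (i + k) := by rw [← pow_mul, ← pow_add, add_comm]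
    have h3 : y ^ 2 ^ k ∈ h.B (i + 1) := ⟨pow_mem hy _, by
      rw [← pow_mul, ← pow_add, show k + (i + 1) = i + k + 1 by ring]; exact (he ▸ hy : y ∈ h.B _).2⟩
    exact gen_all h.gen (P := fun c => ∃ u ∈ h.B (i + 1), d (u ^ 2 ^ i) = c)
      (fun _ ⟨u, hu, e⟩ => ⟨ρ u, hk u hu, by rw [hq u hu, e]⟩)
      (fun e => h1 (h2 ▸ h.ker _ (h.powC h3) e)) ⟨_, h3, rfl⟩ hx

section
variable {e : ℕ} (he : A = h.B (e + 1)) (h0 : ∃ y ∈ A, y ^ 2 ^ e ≠ 1)
include he h0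

theorem coordA : Coord ρ A (h.B e) (fun y => d (y ^ 2 ^ e)) l := by
  have := h.coordB he h0 le_rfl
  rwa [← he] at this

theorem coordX : Coord ρ ⊤ A (fun x => d (co α x ^ 2 ^ e)) l := by
  have hc := h.coordA he h0
  have add : ∀ u v : Q, d (co α (u * v) ^ 2 ^ e) = d (co α u ^ 2 ^ e) + d (co α v ^ 2 ^ e) := fun u v => by
    have h1 := h.c_conj (he ▸ h.co_mem u) v⁻¹
    rw [inv_inv] at h1
    rw [aa_mul, ← h1]
    exact hc.add _ (by simpa using h.nrm.conj_mem _ (h.co_mem u) v⁻¹) _ (h.co_mem v)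
  have surj : ∀ x, ∃ u, d (co α u ^ 2 ^ e) = x := fun x => by
    obtain ⟨u, hu, e1⟩ := hc.surj x
    obtain ⟨v, rfl⟩ := (h.mem u).1 hu
    exact ⟨v, e1⟩
  let f : Q →* Multiplicative F := MonoidHom.mk' (fun x => Multiplicative.ofAdd (d (co α x ^ 2 ^ e)))
    fun u v => by rw [add]; rfl
  have hle : A ≤ f.ker := fun y hy => by
    change d (co α y ^ 2 ^ e) = 0
    rw [h.co_A hy, inv_pow, ← pow_two, ← pow_mul, ← pow_succ', (he ▸ hy : y ∈ h.B _).2, inv_one, h.d_one]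
  have hk : f.ker = A := by
    refine (eq_of_le_of_card_ge hle (le_of_eq ?_)).symm
    have e1 := f.ker.card_mul_index
    rw [← A.card_mul_index, index_ker, (MonoidHom.range_eq_top (f := f)).2 (fun x => surj x), card_top, h.idx,
      Nat.card_eq_fintype_card (α := Multiplicative F), Fintype.card_multiplicative] at e1
    exact Nat.eq_of_mul_eq_mul_right Fintype.card_pos e1
  exact ⟨le_top, kinv_top, fun u _ v _ => add u v, fun u _ => by rw [← hk]; rfl,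
    fun x => (surj x).imp fun u hu => ⟨trivial, hu⟩,
    fun u _ => by rw [h.aa_rho]; exact hc.equiv _ (h.co_mem u), h.gen⟩

theorem C_le_A : Cc α ≤ A := fun c hc =>
  ((h.coordX he h0).ker c trivial).1 (by simp only [aa_eq_one.2 hc, one_pow, h.d_one])

theorem sq_memA (x : Q) : x * x ∈ A := (h.coordX he h0).sq_mem trivial

theorem exists_sqrt {z : Q} (hz : z ∈ h.B e) : ∃ w ∈ A, z = (w * w)⁻¹ := by
  obtain ⟨w, rfl⟩ := (h.mem z).1 hz.1
  have : w ∈ A := ((h.coordX he h0).ker w trivial).1 (by simp only [hz.2, h.d_one])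
  exact ⟨w, this, h.co_A this⟩

theorem rel (x : Q) : ⁅x, co α x⁆ = ((x * x * co α x) * (x * x * co α x))⁻¹ := by
  have h1 := h.inv (h.sq_memA he h0 x)
  have h2 : α x = x * co α x := by simp [co]
  rw [map_mul, h2] at h1
  have h3 := (h.ab (h.sq_memA he h0 x) (h.co_mem x)).eq
  set a := co α x
  rw [eq_inv_iff_mul_eq_one, commutatorElement_def]
  calc x * a * x⁻¹ * a⁻¹ * (x * x * a * (x * x * a)) = x * a * x⁻¹ * (a⁻¹ * (x * x * a)) * (x * x * a) := by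
        group
    _ = (x * a * (x * a)) * (a⁻¹ * (x * x * a)) := by rw [h3]; group
    _ = 1 := by rw [h1, h3]; group

theorem comm_of_central (hc : ∀ x : Q, ∀ y ∈ A, ⁅x, y⁆ = 1) (x y : Q) : ⁅x, y⁆ = 1 := by
  have hX := h.coordX he h0
  have hA : ∀ x y : Q, ⁅x, y⁆ ∈ A := fun x y =>
    commutator_mem_of_sq (U := ⊤) (fun u _ => h.sq_memA he h0 u) trivial trivial
  have hz : ∀ x, ∀ y ∈ A, x * y * x⁻¹ = y := fun x y hy => mul_inv_eq_one.1 (hc x y hy)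
  have hl : ∀ x y z : Q, ⁅x * y, z⁆ = ⁅y, z⁆ * ⁅x, z⁆ := fun x y z => by rw [comm_mul_left, hz _ _ (hA _ _)]
  have hr : ∀ x y z : Q, ⁅x, y * z⁆ = ⁅x, y⁆ * ⁅x, z⁆ := fun x y z => by rw [comm_mul_right, hz _ _ (hA _ _)]
  have hC : ∀ x y : Q, ⁅x, y⁆ ∈ Cc α := fun x y =>
    h.memC (hA x y) (by rw [← hr, hc _ _ (h.sq_memA he h0 y)])
  obtain ⟨g, hg⟩ := hX.lift2 hX (fun x y => d ⁅x, y⁆)
    (fun u _ v _ w _ => by rw [hl, h.add _ _ (hC _ _) (hC _ _), add_comm])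
    (fun u _ v _ w _ => by rw [hr, h.add _ _ (hC _ _) (hC _ _)])
    (fun u hu w _ => by rw [← commutatorElement_inv, hc _ _ hu, inv_one, h.d_one])
    (fun u _ w hw => by rw [hc _ _ hw, h.d_one])
  have := alt_eq_zero g h.gen (fun u v => by
      obtain ⟨u, -, rfl⟩ := hX.surj u
      obtain ⟨v, -, rfl⟩ := hX.surj v
      rw [← hX.equiv u trivial, ← hX.equiv v trivial, hg _ trivial _ trivial, hg _ trivial _ trivial,
        ← map_commutatorElement, h.eqv _ (hC _ _)])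
    (fun u => by
      obtain ⟨u, -, rfl⟩ := hX.surj u
      rw [hg _ trivial _ trivial, commutatorElement_self, h.d_one])
  exact h.ker _ (hC x y) (by rw [← hg _ trivial _ trivial, this])

theorem nonab (hn : ∃ x y : Q, ⁅x, y⁆ ≠ 1) :
    e = 1 ∧ (∀ x, x * x ∈ Cc α) ∧ ∀ x : Q, ∀ y ∈ A, ⁅x, y⁆ = 1 → x ∈ A ∨ y * y = 1 := by
  classical
  have := h.nrm
  have hX := h.coordX he h0
  have hc := h.coordA he h0
  have hex : ∃ i, ∀ x, ∀ y ∈ A, ⁅x, y⁆ ∈ h.B i := ⟨e + 1, fun x y hy => he ▸ comm_mem_of_normal x hy⟩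
  have i0 : Nat.find hex ≠ 0 := fun e0 => by
    obtain ⟨x, y, hxy⟩ := hn
    exact hxy (h.comm_of_central he h0 (fun x y hy => by simpa [e0] using (Nat.find_spec hex x y hy).2) x y)
  obtain ⟨j, hj⟩ := Nat.exists_eq_succ_of_ne_zero i0
  have h1 := Nat.find_spec hex
  have h2 := Nat.find_min hex (m := j) (by omega)
  have h3 := Nat.find_min' hex (m := e + 1) fun x y hy => he ▸ comm_mem_of_normal x hy
  rw [hj] at h1 h3
  have hb := h.coordB he h0 (i := j) (by omega)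
  have br : ∀ u, ∀ v ∈ A, ∀ w ∈ A, d (⁅u, v * w⁆ ^ 2 ^ j) = d (⁅u, v⁆ ^ 2 ^ j) + d (⁅u, w⁆ ^ 2 ^ j) :=
    fun u v hv w hw => by
      rw [comm_mul_right, ← h.c_conj (h1 u w hw) v]
      exact hb.add _ (h1 u v hv) _ (h.B_conj (h1 u w hw) v)
  obtain ⟨g, hg⟩ := hX.lift2 hc (fun x y => d (⁅x, y⁆ ^ 2 ^ j))
    (fun u _ v _ w hw => by
      rw [comm_mul_left, ← h.c_conj (h1 v w hw) u, add_comm]
      exact hb.add _ (h.B_conj (h1 v w hw) u) _ (h1 u w hw))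
    (fun u _ => br u)
    (fun u hu w hw => by rw [(h.ab hu hw).commutator_eq, one_pow, h.d_one])
    (fun u _ w hw => by
      obtain ⟨v, hv, rfl⟩ := h.exists_sqrt he h0 hw
      rw [mul_inv_rev, br u _ (inv_mem hv) _ (inv_mem hv), CharTwo.add_self_eq_zero])
  have hnd : ∀ u v, g u v = 0 → u = 0 ∨ v = 0 := by
    refine (equiv_nondeg h.big g h.gen h.gen fun u v => ?_).resolve_left fun hz => h2 fun x y hy => ?_
    · obtain ⟨u, -, rfl⟩ := hX.surj u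
      obtain ⟨v, hv, rfl⟩ := hc.surj v
      rw [← hX.equiv u trivial, ← hc.equiv v hv, hg _ trivial _ (h.kinv v hv), hg _ trivial _ hv,
        ← map_commutatorElement]
      exact hb.equiv _ (h1 u v hv)
    · exact (hb.ker _ (h1 x y hy)).1 (by rw [← hg _ trivial _ hy, hz])
  have nd : ∀ x, ∀ y ∈ A, ⁅x, y⁆ ^ 2 ^ j = 1 → x ∈ A ∨ y ∈ h.B e := fun x y hy e1 =>
    (hnd _ _ (by rw [hg _ trivial _ hy, e1, h.d_one])).imp (hX.ker x trivial).1 (hc.ker y hy).1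
  have hs : ∀ x, x ∉ A → x * x ∈ h.B e := fun x hx =>
    (nd x _ (h.sq_memA he h0 x) (by rw [((Commute.refl x).mul_right (Commute.refl x)).commutator_eq, one_pow])).resolve_left hx
  obtain ⟨x, -, hx1⟩ := hX.exists_not_mem
  have ha : co α x ∉ h.B e := fun e1 => hx1 ((hX.ker x trivial).1 (by simp only [e1.2, h.d_one]))
  have hsa : x * x * co α x ∈ A := mul_mem (h.sq_memA he h0 x) (h.co_mem x)
  have hej : e = j + 1 := by
    have r := h.rel he h0 x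
    rw [← pow_two] at r
    have a1 := (h1 x _ (h.co_mem x)).2
    rw [r, inv_pow, inv_eq_one, ← pow_mul, ← pow_succ'] at a1
    have a2 : ¬ j + 2 ≤ e := fun hle => ha ((mul_mem_cancel_left (hs x hx1)).1 ⟨hsa, by
      obtain ⟨k, rfl⟩ := Nat.exists_eq_add_of_le hle
      rw [pow_add, pow_mul, a1, one_pow]⟩)
    have a3 : j ≠ e := fun e1 => (nd x _ (h.co_mem x) (by
      rw [r, inv_pow, inv_eq_one, ← pow_mul, ← pow_succ', e1]
      exact (he ▸ hsa : _ ∈ h.B _).2)).elim hx1 ha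
    omega
  have hj0 : j = 0 := by
    by_contra j0
    obtain ⟨k, rfl⟩ := Nat.exists_eq_succ_of_ne_zero j0
    have key : ∀ u v, u ≠ 0 → g u v = v := fun u v hu => by
      obtain ⟨x, -, rfl⟩ := hX.surj u
      obtain ⟨y, hy, rfl⟩ := hc.surj v
      obtain ⟨w, hw, e1⟩ := h.exists_sqrt he h0 (z := ⁅x, y⁆) (by rw [hej]; exact h1 x y hy)
      have e2 : x * ⁅x, y⁆ * x⁻¹ * ⁅x, y⁆ = 1 := by
        have c1 := (h.ab (h.sq_memA he h0 x) hy).eq
        have c2 := (h.ab (h.nrm.conj_mem _ hy x) hy).eq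
        calc x * ⁅x, y⁆ * x⁻¹ * ⁅x, y⁆ = (x * x * y) * (x * x)⁻¹ * y⁻¹ := by
              simp only [commutatorElement_def]; group
          _ = 1 := by rw [c1]; group
      have e3 : (⁅x, w⁆ * (w * w)) * (⁅x, w⁆ * (w * w)) = 1 := by
        have c1 := h.ab (h.nrm.conj_mem _ hw x) hw
        rw [e1, ← inv_eq_one, mul_inv_rev, inv_inv] at e2
        calc (⁅x, w⁆ * (w * w)) * (⁅x, w⁆ * (w * w)) = (x * w * x⁻¹ * w) ^ 2 := by
              simp only [commutatorElement_def, pow_two]; group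
          _ = w ^ 2 * (x * w * x⁻¹) ^ 2 := by rw [← c1.symm.mul_pow, c1.eq]
          _ = w * w * (x * (w * w)⁻¹ * x⁻¹)⁻¹ := by simp [pow_two, mul_assoc]
          _ = 1 := e2
      have hww : w * w ∈ h.B (k + 1 + 1) := ⟨mul_mem hw hw, by
        rw [← pow_two, ← pow_mul, ← pow_succ', ← hej]; exact (he ▸ hw : _ ∈ h.B _).2⟩
      have e4 : d (⁅x, w⁆ ^ 2 ^ (k + 1)) + d ((w * w) ^ 2 ^ (k + 1)) = 0 := by
        rw [← hb.add _ (h1 x w hw) _ hww, pow_succ' 2 k, pow_mul, pow_two, e3, one_pow, h.d_one]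
      have e5 : (w * w) ^ 2 ^ (k + 1) = w ^ 2 ^ e := by rw [← pow_two, ← pow_mul, ← pow_succ', hej]
      have e6 : g (d (co α x ^ 2 ^ e)) (d (y ^ 2 ^ e)) = d (w ^ 2 ^ e) := by
        rw [hg _ trivial _ hy, e1, inv_pow, h.d_inv (h.powC hww), e5]
      rw [e5, ← hg _ trivial _ hw] at e4
      have e7 : g (d (co α x ^ 2 ^ e)) (d (y ^ 2 ^ e) + d (w ^ 2 ^ e)) = 0 := by
        rw [map_add, e6, add_comm, e4]
      rw [e6]
      exact (CharTwo.add_eq_zero.1 ((hnd _ _ e7).resolve_left hu)).symm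
    have k1 := key (1 + l) 1 fun e1 => h.gen.ne_one h.big (CharTwo.add_eq_zero.1 e1).symm
    rw [map_add, AddMonoidHom.add_apply, key 1 1 one_ne_zero, key l 1 (h.gen.ne_zero h.big),
      CharTwo.add_self_eq_zero] at k1
    exact zero_ne_one k1
  subst hj0
  subst hej
  refine ⟨rfl, fun x => h.memC (h.sq_memA he h0 x) ?_, fun x y hy e1 =>
    (nd x y hy (by rw [e1, one_pow])).imp_right fun e2 => by simpa [pow_two] using e2.2⟩
  by_cases hx : x ∈ A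
  · rw [← (he ▸ hx : x ∈ h.B _).2]; norm_num [pow_succ, mul_assoc]
  · simpa [pow_two] using (hs x hx).2

theorem ab_cases (hc : ∀ x y : Q, ⁅x, y⁆ = 1) :
    (∀ x, x * x = 1 → x ∈ Cc α) ∨ (Nat.card Q = Fintype.card F ^ 2 ∧ ∀ x : Q, x * x = 1) := by
  have hX := h.coordX he h0
  refine (em _).imp_right fun hn => ?_
  push Not at hn
  obtain ⟨x, h1, h2⟩ := hn
  have hx : x ∉ A := fun e1 => h2 (h.memC e1 h1)
  have ha : co α x ∉ h.B e := fun e1 => hx ((hX.ker x trivial).1 (by simp only [e1.2, h.d_one]))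
  have r := h.rel he h0 x
  rw [hc, h1, one_mul, eq_comm, inv_eq_one] at r
  have e0 : e = 0 := by
    by_contra e1
    obtain ⟨k, rfl⟩ := Nat.exists_eq_succ_of_ne_zero e1
    exact ha ⟨h.co_mem x, by rw [pow_succ', pow_mul, pow_two, r, one_pow]⟩
  subst e0
  have hA : ∀ y ∈ A, y * y = 1 := fun y hy => by
    rw [← (he ▸ hy : y ∈ h.B _).2]; norm_num [pow_succ]
  have hm : ∀ a b : Q, a * b = b * a := fun a b => commutatorElement_eq_one_iff_mul_comm.1 (hc a b)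
  refine ⟨?_, fun y => ?_⟩
  · rw [← A.card_mul_index, h.idx, show A = Cc α from
      le_antisymm (fun y hy => h.memC hy (hA y hy)) (h.C_le_A he h0), h.card_C, pow_two]
  · obtain ⟨v, hv, e1⟩ := hX.irred (V := Om Q) kinv_Om le_top
      (fun hl => hx (hl ⟨mem_center_iff.2 fun g => hm g x, h1⟩)) (d (co α y ^ 2 ^ 0))
    have h3 := hA _ ((hX.eq_iff trivial trivial).1 e1)
    calc y * y = v * (v⁻¹ * y * v) * (v⁻¹ * y) := by group
      _ = v * v * (v⁻¹ * y * (v⁻¹ * y)) := by rw [hm (v⁻¹ * y) v]; group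
      _ = 1 := by rw [hv.2, h3, mul_one]

end

end HB

end Cfsg.Agent.L0.HG
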