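/-
Coordinates in the non-abelian case.
-/
import Cfsg.Agent.L0.HG2

set_option autoImplicit false
set_option linter.unusedSectionVars false

namespace Cfsg.Agent.L0.HG

open Subgroup H4
open scoped commutatorElement

variable {F : Type*} [Field F] [Fintype F] [CharP F 2]

theorem biadd_eq (g : F →+ F →+ F) {m : F} (hm : Gen m) (h : ∀ x y, g (m * x) (m * y) = m * m * g x y) (x y : F) :
    g x y = g 1 1 * (x * y) := by
  classical
  letI : Fintype (F ≃+* F) := Fintype.ofFinite _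
  obtain ⟨c, hc, hc2⟩ := biadd_equiv_expand g h
  have hz : ∀ σ τ, c σ τ ≠ 0 → σ = RingEquiv.refl F ∧ τ = RingEquiv.refl F := fun σ τ h0 => by
    rcases prod_aut_eq (hm.ext2 (σ₃ := RingEquiv.refl F) (σ₄ := RingEquiv.refl F) (hc2 σ τ h0)) with e | e
    exacts [e, e]
  rw [hc, hc, sum_single2 hz, sum_single2 hz]
  simp

/-- Coordinates identifying the group with a Heisenberg-type group. -/
structure HC {Q : Type*} [Group Q] (U V W : Q → F) (a : F) : Prop where
  addU : ∀ p r, U (p * r) = U p + U r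
  addV : ∀ p r, V (p * r) = V p + V r
  addW : ∀ p r, W (p * r) = W p + W r + (V p * V r + U p * V r + a * (U p * U r))
  ker : ∀ p, U p = 0 → V p = 0 → W p = 0 → p = 1
  surj : ∀ u v w, ∃ p, U p = u ∧ V p = v ∧ W p = w

namespace HB

variable {Q : Type*} [Group Q] [Finite Q] {α ρ : MulAut Q} {d : Q → F} {l : F} {A : Subgroup Q}
  (h : HB α ρ d l A)
include h

theorem exists_ext {c : Q → F} (hc : Coord ρ A (Cc α) c l) (h2 : ∀ x, x * x ∈ Cc α)
    (hρ : ρ ^ (Fintype.card F - 1) = 1) : ∃ V : Q → F, (∀ p r, V (p * r) = V p + V r) ∧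
      (∀ y ∈ A, V y = c y) ∧ ∀ p, V (ρ p) = l * V p := by
  haveI : Fact (Nat.Prime 2) := ⟨Nat.prime_two⟩
  have := h.C_normal
  have hVc : ∀ a b : Q ⧸ Cc α, a * b = b * a := fun a b => by
    obtain ⟨a, rfl⟩ := QuotientGroup.mk_surjective a
    obtain ⟨b, rfl⟩ := QuotientGroup.mk_surjective b
    rw [← QuotientGroup.mk_mul, ← QuotientGroup.mk_mul, QuotientGroup.eq]
    have := commutator_mem_of_sq (U := ⊤) (fun u _ => h2 u) (x := b⁻¹) (y := a⁻¹) trivial trivial
    simpa [commutatorElement_def, mul_assoc] using this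
  letI : CommGroup (Q ⧸ Cc α) := { (inferInstance : Group (Q ⧸ Cc α)) with mul_comm := hVc }
  letI : Module (ZMod 2) (Additive (Q ⧸ Cc α)) := AddCommGroup.zmodModule (n := 2) fun x => by
    obtain ⟨a, ha⟩ := QuotientGroup.mk_surjective x.toMul
    rw [two_nsmul]
    change Additive.ofMul (x.toMul * x.toMul) = Additive.ofMul 1
    rw [← ha, ← QuotientGroup.mk_mul, (QuotientGroup.eq_one_iff _).2 (h2 a)]
  letI : Module (ZMod 2) F := AddCommGroup.zmodModule (n := 2)
    (fun x => by rw [two_nsmul]; exact CharTwo.add_self_eq_zero x)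
  choose s hs hcs using hc.surj
  have hm : ∀ y ∈ A, ((s (c y) : Q) : Q ⧸ Cc α) = y := fun y hy =>
    QuotientGroup.eq.2 ((hc.eq_iff (hs _) hy).1 (hcs _))
  let ι : F →+ Additive (Q ⧸ Cc α) := AddMonoidHom.mk' (fun w => Additive.ofMul (s w : Q ⧸ Cc α)) fun a b => by
    rw [← ofMul_mul, ← QuotientGroup.mk_mul, ← hm _ (mul_mem (hs a) (hs b)), hc.add _ (hs a) _ (hs b), hcs, hcs]
  obtain ⟨π, hπ⟩ := (ι.toZModLinearMap 2).exists_leftInverse_of_injective
    (LinearMap.ker_eq_bot.2 fun a b e => by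
      have : (s a : Q ⧸ Cc α) = s b := e
      rw [← hcs a, ← hcs b]
      exact (hc.eq_iff (hs a) (hs b)).2 (QuotientGroup.eq.1 this))
  have hπι : ∀ w, π (Additive.ofMul (s w : Q ⧸ Cc α)) = w := fun w => DFunLike.congr_fun hπ w
  set N := Fintype.card F - 1 with hN
  have hl0 := h.gen.ne_zero h.big
  have hlN : l ^ N = 1 := FiniteField.pow_card_sub_one_eq_one l hl0
  have hNF : (N : F) = 1 := by
    rw [hN, Nat.cast_sub Fintype.card_pos, FiniteField.cast_card_eq_zero, Nat.cast_one, zero_sub, CharTwo.neg_eq]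
  let f : Q → ℕ → F := fun p i => l⁻¹ ^ i * π (Additive.ofMul ((ρ ^ i) p : Q ⧸ Cc α))
  refine ⟨fun p => ∑ i ∈ Finset.range N, f p i, fun p r => ?_, fun y hy => ?_, fun p => ?_⟩
  · simp only [f, map_mul, QuotientGroup.mk_mul, ofMul_mul, map_add, mul_add, Finset.sum_add_distrib]
  · have : ∀ i, f y i = c y := fun i => by
      simp only [f]
      rw [← hm _ (h.kinv.pow i hy), hπι, hc.pow i hy, ← mul_assoc, ← mul_pow, inv_mul_cancel₀ hl0, one_pow,
        one_mul]
    simp only [this, Finset.sum_const, Finset.card_range, nsmul_eq_mul, hNF, one_mul]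
  · have e1 : ∀ i, f (ρ p) i = l * f p (i + 1) := fun i => by
      simp only [f]
      rw [pow_succ ρ, MulAut.mul_apply, pow_succ', ← mul_assoc, ← mul_assoc, mul_inv_cancel₀ hl0, one_mul]
    have e2 : f p N = f p 0 := by simp only [f, hρ, inv_pow, hlN, pow_zero]
    simp only [e1, ← Finset.mul_sum]
    congr 1
    exact add_right_cancel ((Finset.sum_range_succ' (f p) N).symm.trans (by rw [Finset.sum_range_succ, e2]))

theorem exists_HC (hn : ∃ x y : Q, ⁅x, y⁆ ≠ 1) (hρ : ρ ^ (Fintype.card F - 1) = 1) :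
    ∃ (U V W : Q → F) (a : F), HC U V W a := by
  have t : (2 : F) = 0 := CharTwo.two_eq_zero
  have hne : A ≠ ⊥ := fun e => by
    obtain ⟨x, y, hxy⟩ := hn
    exact hxy (commutatorElement_eq_one_iff_mul_comm.2
      (h.cen (aa_eq_one.1 (mem_bot.1 (e ▸ h.co_mem y))) x))
  obtain ⟨e, he, h0⟩ := h.exists_exp hne
  obtain ⟨rfl, h2, nd⟩ := h.nonab he h0 hn
  have hX := h.coordX he h0
  have hCA := h.C_le_A he h0
  have hB : h.B 1 = Cc α := le_antisymm (fun y hy => h.memC hy.1 (by simpa [pow_two] using hy.2))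
    fun y hy => ⟨hCA hy, by simpa [pow_two] using h.sq hy⟩
  have hc := h.coordA he h0
  simp only [hB, pow_one, pow_two] at hc hX
  obtain ⟨V0, v1, v2, v3⟩ := h.exists_ext hc h2 hρ
  set s := sqrtAut F
  have hs : ∀ x, s x * s x = x := sqrtAut_mul_self
  let U : Q → F := fun x => s (d (co α x * co α x))
  let V : Q → F := fun x => s (V0 x)
  have aU : ∀ p r, U (p * r) = U p + U r := fun p r => by
    simp only [U]; rw [hX.add p trivial r trivial, map_add]
  have aV : ∀ p r, V (p * r) = V p + V r := fun p r => by simp only [V, v1, map_add]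
  have kU : ∀ p, U p = 0 ↔ p ∈ A := fun p => by simp only [U]; rw [map_eq_zero, hX.ker p trivial]
  have eU : ∀ p, U (ρ p) = s l * U p := fun p => by simp only [U]; rw [hX.equiv p trivial, map_mul]
  have cA : Coord ρ A (Cc α) V (s l) := ⟨hCA, h.kinv, fun u _ v _ => aV u v,
    fun u hu => by simp only [V]; rw [map_eq_zero, v2 u hu, hc.ker u hu],
    fun x => by
      obtain ⟨u, hu, e⟩ := hc.surj (s.symm x)
      exact ⟨u, hu, by simp only [V]; rw [v2 u hu, e, s.apply_symm_apply]⟩,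
    fun u _ => by simp only [V]; rw [v3, map_mul], h.gen.map s⟩
  let fV : Q →* Multiplicative F := MonoidHom.mk' (fun x => Multiplicative.ofAdd (V x)) fun u v => by
    rw [aV]; rfl
  have mK : ∀ p, p ∈ fV.ker ↔ V p = 0 := fun p => Iff.rfl
  have dec : ∀ x, ∃ p ∈ fV.ker, ∃ y ∈ A, x = p * y := fun x => by
    obtain ⟨y, hy, e⟩ := cA.surj (V x)
    exact ⟨x * y⁻¹, (mK _).2 (by rw [aV, cA.inv' hy, e, CharTwo.add_self_eq_zero]), y, hy, by simp⟩
  have cK : Coord ρ fV.ker (Cc α) U (s l) := ⟨fun c hc => (mK c).2 (cA.zero hc),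
    fun x hx => (mK _).2 (by simp only [V]; rw [v3, map_mul]; exact mul_eq_zero_of_right _ ((mK x).1 hx)),
    fun u _ v _ => aU u v,
    fun u hu => by
      rw [kU]
      exact ⟨fun e => (cA.ker u e).1 ((mK u).1 hu), fun e => hCA e⟩,
    fun x => by
      obtain ⟨u, -, e⟩ := hX.surj (s.symm x)
      obtain ⟨p, hp, y, hy, rfl⟩ := dec u
      refine ⟨p, hp, ?_⟩
      rw [← add_zero (U p), ← (kU y).2 hy, ← aU]
      simp only [U]; rw [e, s.apply_symm_apply],
    fun u _ => eU u, h.gen.map s⟩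
  have hC : ∀ x y : Q, ⁅x, y⁆ ∈ Cc α := fun x y =>
    commutator_mem_of_sq (U := ⊤) (fun u _ => h2 u) trivial trivial
  have hz : ∀ x, ∀ y ∈ Cc α, x * y * x⁻¹ = y := fun x y hy => by rw [h.cen hy, mul_inv_cancel_right]
  have hl : ∀ x y z : Q, d ⁅x * y, z⁆ = d ⁅x, z⁆ + d ⁅y, z⁆ := fun x y z => by
    rw [comm_mul_left, hz _ _ (hC _ _), h.add _ _ (hC _ _) (hC _ _), add_comm]
  obtain ⟨g, hg⟩ := cK.lift2 cA (fun x y => d ⁅x, y⁆) (fun u _ v _ w _ => hl u v w)
    (fun u _ v _ w _ => by rw [comm_mul_right, hz _ _ (hC _ _), h.add _ _ (hC _ _) (hC _ _)])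
    (fun u hu w _ => by rw [commutatorElement_eq_one_iff_mul_comm.2 (h.cen hu w).symm, h.d_one])
    (fun u _ w hw => by rw [commutatorElement_eq_one_iff_mul_comm.2 (h.cen hw u), h.d_one])
  have gb := biadd_eq g (h.gen.map s) fun u v => by
    obtain ⟨u, hu, rfl⟩ := cK.surj u
    obtain ⟨v, hv, rfl⟩ := cA.surj v
    rw [← cK.equiv u hu, ← cA.equiv v hv, hg _ (cK.inv u hu) _ (cA.inv v hv), hg _ hu _ hv,
      ← map_commutatorElement, h.eqv _ (hC _ _), hs]
  set b := g 1 1 with hb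
  obtain ⟨p0, hp0, e0⟩ := cK.surj 1
  have b0 : b ≠ 0 := fun e => by
    obtain ⟨y0, hy0, e1⟩ := cA.surj 1
    rcases nd p0 y0 hy0 (h.ker _ (hC _ _) (by rw [← hg _ hp0 _ hy0, e0, e1, ← hb, e])) with e2 | e2
    · rw [(kU p0).2 e2] at e0; exact zero_ne_one e0
    · rw [cA.zero (h.memC hy0 e2)] at e1; exact zero_ne_one e1
  have sK : ∀ p ∈ fV.ker, d (p * p) = d (p0 * p0) * (U p * U p) := fun p hp => by
    by_cases e : U p = 0
    · rw [h.sq ((cK.ker p hp).1 e), h.d_one, e]; ring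
    obtain ⟨i, hi⟩ := cK.gen _ e
    have h3 := (cK.eq_iff (cK.inv.pow i hp0) hp).1 (by rw [cK.pow i hp0, e0, mul_one, hi])
    have h4 : p * p = (ρ ^ i) (p0 * p0) := by
      set c := ((ρ ^ i) p0)⁻¹ * p
      have : p = (ρ ^ i) p0 * c := by simp [c]
      rw [this, map_mul, mul_assoc, ← mul_assoc c, ← h.cen h3, mul_assoc, h.sq h3, mul_one]
    rw [h4, h.coordC.pow i (h2 p0), ← hi, ← mul_pow, hs, mul_comm]
  have sQ : ∀ x, d (x * x) = V x * V x + b * U x * V x + d (p0 * p0) / b ^ 2 * (b * U x * (b * U x)) :=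
    fun x => by
      obtain ⟨p, hp, y, hy, rfl⟩ := dec x
      have h3 : d ⁅p⁻¹, y⁆ = d ⁅p, y⁆ := by
        have := hl p⁻¹ p y
        rw [inv_mul_cancel, commutatorElement_one_left, h.d_one] at this
        exact CharTwo.add_eq_zero.1 this.symm
      rw [sq_mul, h.add _ _ (mul_mem (h2 p) (hC _ _)) (h2 y), h.add _ _ (h2 p) (hC _ _), h3, sK p hp,
        ← hg p hp y hy, gb, aU, aV, (kU y).2 hy, (mK p).1 hp, ← v2 y hy, ← hs (V0 y)]
      simp only [V]
      field_simp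
      ring
  have hO : Om Q = Cc α := by
    refine le_antisymm (fun z hz => ?_) fun c hc => ⟨h.C_le hc, h.sq hc⟩
    obtain ⟨y, hy, e1⟩ := cA.exists_not_mem
    exact h.memC ((nd z y hy (commutatorElement_eq_one_iff_mul_comm.2 (mem_center_iff.1 hz.1 y).symm)).resolve_right
      fun e2 => e1 (h.memC hy e2)) hz.2
  obtain ⟨W, w1, w2⟩ := exists_second_coord (hO ▸ h.coordC)
    (fun p r => V p * V r + b * U p * V r + d (p0 * p0) / b ^ 2 * (b * U p * (b * U r)))
    (fun x y z => by rw [aU, aV]; ring) (fun x y z => by rw [aU, aV]; ring)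
    (fun x hx z => by rw [cA.zero (hO ▸ hx), cK.zero (hO ▸ hx)]; ring)
    (fun x z hz => by rw [cA.zero (u := z) (hO ▸ hz), cK.zero (u := z) (hO ▸ hz)]; ring) (fun x => hO ▸ h2 x) sQ
  refine ⟨fun p => b * U p, V, W, d (p0 * p0) / b ^ 2, fun p r => by rw [aU, mul_add], aV, w1,
    fun p e1 e2 e3 => ?_, fun u v w => ?_⟩
  · have h3 := (cA.ker p ((kU p).1 ((mul_eq_zero.1 e1).resolve_left b0))).1 e2
    exact h.ker p h3 (by rw [← w2 p (hO ▸ h3), e3])
  · obtain ⟨p, hp, e1⟩ := cK.surj (u / b)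
    obtain ⟨y, hy, e2⟩ := cA.surj v
    obtain ⟨c, hc, e3⟩ := h.surj (w + W (p * y))
    refine ⟨p * y * c, ?_, ?_, ?_⟩
    · rw [aU, aU, e1, (kU y).2 hy, cK.zero hc]; field_simp; ring
    · rw [aV, aV, e2, (mK p).1 hp, cA.zero hc]; ring
    · rw [w1, w2 c (hO ▸ hc), e3, cA.zero hc, cK.zero hc]; linear_combination W (p * y) * t

end HB

end Cfsg.Agent.L0.HG
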