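/-
Identification with the Sylow 2-subgroups of `L₃(q)` and `U₃(q)`.
-/
import Cfsg.Agent.L0.HG3
import Cfsg.Agent.H11.U3
import Cfsg.Agent.H12.Lin

set_option autoImplicit false
set_option linter.unusedSectionVars false

namespace Cfsg.Agent.L0.HG

open Subgroup H4 H11 Matrix
open scoped commutatorElement MatrixGroups

variable {F : Type*} [Field F] [Fintype F] [CharP F 2]

namespace HC

variable {Q : Type*} [Group Q] [Finite Q] {U V W : Q → F} {a : F} (h : HC U V W a)
include h

theorem ext {p r : Q} (h1 : U p = U r) (h2 : V p = V r) (h3 : W p = W r) : p = r := by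
  have e : r = p * (p⁻¹ * r) := by simp
  have a1 := h.addU p (p⁻¹ * r)
  have a2 := h.addV p (p⁻¹ * r)
  have a3 := h.addW p (p⁻¹ * r)
  rw [← e] at a1 a2 a3
  have b1 : U (p⁻¹ * r) = 0 := by linear_combination -a1 - h1
  have b2 : V (p⁻¹ * r) = 0 := by linear_combination -a2 - h2
  rw [b1, b2] at a3
  exact inv_mul_eq_one.1 (h.ker _ b1 b2 (by linear_combination -a3 - h3))

theorem card_eq : Nat.card Q = Fintype.card F ^ 3 := by
  rw [Nat.card_congr (Equiv.ofBijective (fun p => (U p, V p, W p)) ⟨fun p r e => by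
    simp only [Prod.mk.injEq] at e
    exact h.ext e.1 e.2.1 e.2.2, fun ⟨u, v, w⟩ => by simpa using h.surj u v w⟩)]
  simp [pow_succ, mul_assoc]

theorem psl (hQ : IsPGroup 2 Q) {r : F} (hr : r * r + r = a) (P : Sylow 2 PSL(3, F)) : Nonempty (Q ≃* P) := by
  have t : (2 : F) = 0 := CharTwo.two_eq_zero
  let m : Q → Matrix (Fin 3) (Fin 3) F := fun p => !![1, V p + r * U p, W p + (1 + r) * U p * V p;
      0, 1, V p + (r + 1) * U p; 0, 0, 1]
  have hm : ∀ p s, m (p * s) = m p * m s := fun p s => by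
    ext i j
    fin_cases i <;> fin_cases j <;> simp [m, mul_apply, Fin.sum_univ_three, h.addU, h.addV, h.addW]
    · ring
    · linear_combination (U p * V s) * t - U p * U s * hr
    · ring
  let f : Q →* SL(3, F) := MonoidHom.mk' (fun p => ⟨m p, by simp [m, det_fin_three]⟩) fun p s =>
    Subtype.ext (hm p s)
  refine nonempty_equiv_sylow ((QuotientGroup.mk' _).comp f) ((injective_iff_map_eq_one _).2 fun p hp => ?_) hQ
    (m := (Fintype.card F ^ 3 - 1) * (Fintype.card F ^ 2 - 1)) ?_ ?_ P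
  · obtain ⟨c, -, hc⟩ := Matrix.SpecialLinearGroup.mem_center_iff.1 ((QuotientGroup.eq_one_iff (f p)).1 hp)
    change _ = m p at hc
    have e1 := congrFun (congrFun hc 0) 1
    have e2 := congrFun (congrFun hc 0) 2
    have e3 := congrFun (congrFun hc 1) 2
    simp [m] at e1 e2 e3
    have u : U p = 0 := by linear_combination e1 - e3
    have v : V p = 0 := by linear_combination -e1 - r * u
    exact h.ker p u v (by linear_combination -e2 - (1 + r) * V p * u)
  · have h2 := FiniteField.even_card_of_char_two (F := F) (ringChar.eq F 2)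
    have h3 : 0 < Fintype.card F := Fintype.card_pos
    have ho : ∀ k, ¬ 2 ∣ Fintype.card F ^ (k + 1) - 1 := fun k hk => by
      have h4 : 2 ∣ Fintype.card F ^ (k + 1) := (Nat.dvd_of_mod_eq_zero h2).trans (dvd_pow_self _ k.succ_ne_zero)
      have h5 := pow_pos h3 (k + 1)
      omega
    exact fun hd => (Nat.prime_two.dvd_mul.1 hd).elim (ho 2) (ho 1)
  · refine (card_quotient_dvd_card _).trans (dvd_of_eq ?_)
    have h1 := H12.card_SL_fin (F := F) rfl 3 (by norm_num)
    have h2 : 1 < Fintype.card F := Fintype.one_lt_card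
    rw [h.card_eq]
    refine Nat.eq_of_mul_eq_mul_left (Nat.sub_pos_of_lt h2) (h1.trans ?_)
    rw [Fin.prod_univ_three]
    set q := Fintype.card F
    have e1 : 1 ≤ q ^ 3 := Nat.one_le_pow _ _ (by omega)
    have e2 : 1 ≤ q ^ 2 := Nat.one_le_pow _ _ (by omega)
    have e3 : q ^ 1 ≤ q ^ 3 := Nat.pow_le_pow_right (by omega) (by norm_num)
    have e4 : q ^ 2 ≤ q ^ 3 := Nat.pow_le_pow_right (by omega) (by norm_num)
    simp only [Fin.val_zero, Fin.val_one, Fin.val_two, pow_zero]
    zify [e1, e2, e3, e4, h2.le]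
    ring

theorem uc {E : Type*} [Field E] {σ : E →+* E} (hσ : Cj σ) (ι : F →+* E) (h1 : ∀ x, σ (ι x) = ι x)
    (h2 : ∀ y, σ y = y → ∃ x, ι x = y) {θ : E} (h3 : θ + σ θ = 1) (h4 : σ θ * θ = ι a) :
    UC σ (fun p => ι (V p) + θ * ι (U p))
      (fun p => ι (W p) + θ * (σ (ι (V p) + θ * ι (U p)) * (ι (V p) + θ * ι (U p)))) := by
  have t := hσ.two
  have h5 : σ θ = θ + 1 := by linear_combination h3 - θ * t
  have h6 : ι a = θ * θ + θ := by rw [← h4, h5]; ring
  have lin : ∀ u v u' v', ι v + θ * ι u = ι v' + θ * ι u' → u = u' ∧ v = v' := fun u v u' v' e => by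
    have e1 := congrArg σ e
    simp only [map_add, map_mul, h1, h5] at e1
    have e2 : ι u = ι u' := by linear_combination e1 - e
    exact ⟨ι.injective e2, ι.injective (by linear_combination e - θ * e2)⟩
  refine ⟨hσ, fun p => ?_, fun p r => ?_, fun p r => ?_, fun p r e1 e2 => ?_, fun x y e => ?_⟩
  · rw [map_add σ (ι (W p)), map_mul σ θ, hσ.norm, h1]
    linear_combination (σ (ι (V p) + θ * ι (U p)) * (ι (V p) + θ * ι (U p))) * h3 + ι (W p) * t
  · simp only [h.addU, h.addV, map_add]; ring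
  · simp only [h.addU, h.addV, h.addW, map_add, map_mul, h1, h5, h6]
    linear_combination (θ * ι (V p) * ι (V r) + θ ^ 2 * (ι (V p) * ι (U r) + ι (U p) * ι (V r))
      + θ ^ 2 * (θ + 1) * ι (U p) * ι (U r)) * t
  · obtain ⟨a1, a2⟩ := lin _ _ _ _ e1
    rw [e1] at e2
    exact h.ext a1 a2 (ι.injective (add_right_cancel e2))
  · obtain ⟨u, hu⟩ := h2 (x + σ x) (by rw [map_add, hσ.inv, add_comm])
    obtain ⟨v, hv⟩ := h2 (x + θ * (x + σ x)) (by
      simp only [map_add, map_mul, hσ.inv, h5]; linear_combination σ x * t)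
    obtain ⟨w, hw⟩ := h2 (y + θ * (σ x * x)) (by
      rw [map_add, map_mul, hσ.norm, h5]; linear_combination e + (σ x * x - y) * t)
    obtain ⟨p, rfl, rfl, rfl⟩ := h.surj u v w
    have e1 : ι (V p) + θ * ι (U p) = x := by rw [hu, hv]; linear_combination θ * (x + σ x) * t
    exact ⟨p, e1, by rw [e1, hw]; linear_combination θ * (σ x * x) * t⟩

end HC

theorem exists_theta {E : Type*} [Field E] {σ : E →+* E} (hσ : Cj σ) (ι : F →+* E) (h1 : ∀ x, σ (ι x) = ι x)
    (h2 : ∀ y, σ y = y → ∃ x, ι x = y) {a : F} (ha : ¬ ∃ r, r * r + r = a) :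
    ∃ θ : E, θ + σ θ = 1 ∧ σ θ * θ = ι a := by
  have t := hσ.two
  have t' : (2 : F) = 0 := CharTwo.two_eq_zero
  obtain ⟨ω, hω⟩ := hσ.omega
  obtain ⟨b, hb⟩ := h2 _ (hσ.norm ω)
  have h5 : σ ω = ω + 1 := by linear_combination hω - ω * t
  let f : F →+ F := AddMonoidHom.mk' (fun r => r * r + r) fun r s => by linear_combination r * s * t'
  have hi : f.range.index = 2 := by
    have e1 := f.range.card_mul_index
    have e2 := f.ker.card_mul_index
    have e3 : Nat.card f.ker = 2 := by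
      rw [Nat.card_eq_two_iff' (0 : f.ker)]
      refine ⟨⟨1, CharTwo.add_eq_zero.2 (mul_one 1)⟩, fun e => one_ne_zero (congrArg Subtype.val e), fun y hy => ?_⟩
      have h6 : y.1 * (y.1 + 1) = 0 := by rw [mul_add, mul_one]; exact y.2
      exact Subtype.ext (CharTwo.add_eq_zero.1 ((mul_eq_zero.1 h6).resolve_left fun e => hy (Subtype.ext e)))
    rw [AddSubgroup.index_ker, e3, ← e1, mul_comm] at e2
    exact (Nat.eq_of_mul_eq_mul_left Nat.card_pos e2).symm
  have hb' : b ∉ f.range := fun ⟨r, hr⟩ => by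
    have e1 : ι r * ι r + ι r = ι b := by rw [← hr]; simp [f]
    have e2 : (ω + ι r) * (ω + ι r + 1) = 0 := by
      rw [hb, h5] at e1
      linear_combination e1 + (ω * ι r + (ω + 1) * ω) * t
    have e3 : σ ω = ω := by
      rcases mul_eq_zero.1 e2 with e | e
      · rw [hσ.eq_of_add e, h1]
      · rw [add_assoc] at e
        rw [hσ.eq_of_add e, map_add, h1, map_one]
    rw [e3, hσ.add_self] at hω
    exact zero_ne_one hω
  obtain ⟨r, hr⟩ := (AddSubgroup.add_mem_iff_of_index_two hi).2 (iff_of_false (a := a ∈ f.range) ha hb')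
  have e1 : ι r * ι r + ι r = ι a + ι b := by rw [← map_add, ← hr]; simp [f]
  refine ⟨ω + ι r, by rw [map_add, h1]; linear_combination hω + ι r * t, ?_⟩
  rw [map_add, h1, h5]
  rw [hb, h5] at e1
  linear_combination e1 + (ω * ι r + (ω + 1) * ω) * t

end Cfsg.Agent.L0.HG
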