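/-
The classification of the 2-groups with a commuting involution and Singer-type automorphism.
-/
import Cfsg.Agent.L0.HG4

set_option autoImplicit false
set_option linter.unusedSectionVars false

namespace Cfsg.Agent.L0.HG

open Subgroup H4 H11 H12 Matrix
open scoped commutatorElement MatrixGroups

theorem exists_HB {Q : Type*} [Group Q] [Finite Q] (hQ : IsPGroup 2 Q) {α ρ : MulAut Q} (ha : ∀ x, α (α x) = x)
    (har : ∀ x, α (ρ x) = ρ (α x)) {F : Type*} [Field F] [Fintype F] [CharP F 2] (hF : 2 < Fintype.card F)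
    (hρ : ρ ^ (Fintype.card F - 1) = 1) (h2 : ∀ x ∈ Cc α, x * x = 1) (hc : Nat.card (Cc α) = Fintype.card F)
    (htr : ∀ x ∈ Cc α, ∀ y ∈ Cc α, x ≠ 1 → y ≠ 1 → ∃ k : ℕ, (ρ ^ k) x = y) :
    ∃ (d : Q → F) (l : F) (A : Subgroup Q), HB α ρ d l A := by
  classical
  have hm : ∀ x, ρ x ∈ Cc α ↔ x ∈ Cc α := fun x => by rw [mem_Cc, mem_Cc, har, ρ.injective.eq_iff]
  let κ : MulAut (Cc α) :=
    { toFun := fun x => ⟨ρ x, (hm x).2 x.2⟩
      invFun := fun x => ⟨ρ.symm x, (hm _).1 (by simp)⟩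
      left_inv := fun x => by simp
      right_inv := fun x => by simp
      map_mul' := fun x y => Subtype.ext (map_mul ρ _ _) }
  have hκ : ∀ (i : ℕ) (x : Cc α), ((κ ^ i) x : Q) = (ρ ^ i) x := fun i x => by
    induction i with
    | zero => rfl
    | succ i ih => rw [pow_succ', pow_succ', MulAut.mul_apply, MulAut.mul_apply, ← ih]; rfl
  set N := Fintype.card F - 1 with hN
  have hκN : κ ^ N = 1 := MulEquiv.ext fun x => Subtype.ext (by rw [hκ, hρ]; rfl)
  have tr : ∀ x y : Cc α, x ≠ 1 → y ≠ 1 → ∃ i : ℕ, (κ ^ i) x = y := fun x y hx hy => by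
    obtain ⟨k, hk⟩ := htr x x.2 y y.2 (fun e => hx (Subtype.ext e)) fun e => hy (Subtype.ext e)
    exact ⟨k, Subtype.ext (by rw [hκ, hk])⟩
  have hs : HS (Cc α) κ N := by
    refine ⟨hQ.to_subgroup _, Finite.one_lt_card_iff_nontrivial.1 (by omega), by omega, hκN, fun i x hx => ?_,
      fun x y hx _ hy _ => tr x y hx hy⟩
    refine (em _).imp_right fun x1 => ?_
    have g0 : 0 < Nat.gcd i N := Nat.gcd_pos_of_pos_right _ (by omega)
    have h1 : κ ^ i ∈ MulAction.stabilizer (MulAut (Cc α)) x := hx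
    have h3 : κ ^ Nat.gcd i N ∈ MulAction.stabilizer (MulAut (Cc α)) x := by
      rw [← _root_.zpow_natCast, Nat.gcd_eq_gcd_ab, _root_.zpow_add, _root_.zpow_mul, _root_.zpow_mul,
        _root_.zpow_natCast, _root_.zpow_natCast, hκN, _root_.one_zpow, mul_one]
      exact zpow_mem h1 _
    have h4 : Nat.card (Cc α) ≤ Nat.card (Option (Fin (Nat.gcd i N))) :=
      Nat.card_le_card_of_surjective (fun j => j.elim 1 fun j => (κ ^ j.1) x) fun y => by
        by_cases y1 : y = 1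
        · exact ⟨none, y1.symm⟩
        obtain ⟨k, rfl⟩ := tr x y x1 y1
        refine ⟨some ⟨k % Nat.gcd i N, Nat.mod_lt _ g0⟩, ?_⟩
        conv_rhs => rw [← Nat.mod_add_div k (Nat.gcd i N), pow_add, pow_mul, MulAut.mul_apply]
        exact congrArg _ (pow_mem h3 _ : _ • x = x).symm
    rw [hc, Nat.card_eq_fintype_card, Fintype.card_option, Fintype.card_fin] at h4
    have h5 := Nat.le_of_dvd (by omega) (Nat.gcd_dvd_right i N)
    exact (show Nat.gcd i N = N by omega) ▸ Nat.gcd_dvd_left i N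
  obtain ⟨d, l, hd⟩ := hs.exists_coord_Om (F := F) (by omega)
  have hO : ∀ x : Cc α, x ∈ Om (Cc α) := fun x => hs.mem_Om.2 (Subtype.ext (h2 x x.2))
  let d' : Q → F := fun x => if hx : x ∈ Cc α then d ⟨x, hx⟩ else 0
  have hd' : ∀ x (hx : x ∈ Cc α), d' x = d ⟨x, hx⟩ := fun x hx => dif_pos hx
  have h : HH α ρ d' l := ⟨hQ, ha, har,
    fun x y hx hy => by
      rw [hd' x hx, hd' y hy, hd' _ (mul_mem hx hy)]
      exact hd.add ⟨x, hx⟩ (hO _) ⟨y, hy⟩ (hO _),
    fun x hx e => congrArg Subtype.val (mem_bot.1 ((hd.ker ⟨x, hx⟩ (hO _)).1 (hd' x hx ▸ e))),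
    fun c => by
      obtain ⟨x, -, e⟩ := hd.surj c
      exact ⟨x, x.2, (hd' x x.2).trans e⟩,
    fun x hx => by
      rw [hd' x hx, hd' _ ((hm x).2 hx)]
      exact hd.equiv ⟨x, hx⟩ (hO _), hd.gen, hF⟩
  obtain ⟨A, h1, h3, h4⟩ := h.exists_A
  exact ⟨d', l, A, h, h1, h3, h4⟩

/-- the fixed field -/
abbrev FF {E : Type*} [Field E] (σ : E →+* E) : Subfield E := σ.eqLocusField (RingHom.id E)

theorem card_FF {E : Type*} [Field E] [Fintype E] {q : ℕ} (hE : Fintype.card E = q ^ 2)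
    [Fintype (FF (frobq hE))] : Fintype.card (FF (frobq hE)) = q := by
  rw [← Nat.card_eq_fintype_card]
  exact q0_frobq hE

theorem HB.nonab_cases {Q : Type*} [Group Q] [Finite Q] {E : Type*} [Field E] [Fintype E] [CharP E 2] {q : ℕ}
    (hE : Fintype.card E = q ^ 2) (hq : Even q) [Fintype (FF (frobq hE))] {α ρ : MulAut Q}
    {d : Q → FF (frobq hE)} {l : FF (frobq hE)} {A : Subgroup Q} (h : HB α ρ d l A)
    (hρ : ρ ^ (Fintype.card (FF (frobq hE)) - 1) = 1) (hn : ∃ x y : Q, ⁅x, y⁆ ≠ 1) :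
    (∀ P : Sylow 2 PSL(3, FF (frobq hE)), Nonempty (Q ≃* P)) ∨ ∀ P : Sylow 2 (PSU 3 E q), Nonempty (Q ≃* P) := by
  obtain ⟨U, V, W, a, hc⟩ := h.exists_HC hn hρ
  by_cases ha : ∃ r, r * r + r = a
  · obtain ⟨r, hr⟩ := ha
    exact Or.inl (hc.psl h.pg hr)
  · have hσ := cj_frobq hE hq
    have h1 : ∀ x : FF (frobq hE), frobq hE ((FF (frobq hE)).subtype x) = (FF (frobq hE)).subtype x := fun x => x.2
    have h2 : ∀ y, frobq hE y = y → ∃ x, (FF (frobq hE)).subtype x = y := fun y hy => ⟨⟨y, hy⟩, rfl⟩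
    obtain ⟨θ, h3, h4⟩ := exists_theta hσ _ h1 h2 ha
    refine Or.inr fun P => ?_
    obtain ⟨X, Y, hu⟩ := exists_uc_PSU hE hq P
    obtain ⟨f, -⟩ := (hc.uc hσ _ h1 h2 h3 h4).exists_equiv hu
    exact ⟨f⟩

end Cfsg.Agent.L0.HG
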