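import Cfsg.Agent.BG.S04b
import Cfsg.Agent.H24.Base4

/-! A `p`-group (`p` odd) with `|R : ℧₁(R)| ≤ p ^ 2` is metacyclic (adapted from the proof of BG 4.11). -/

set_option autoImplicit false
set_option linter.style.haveILetI false

namespace Cfsg.Agent.BG

open Subgroup Cfsg.Agent.H20 Cfsg.Agent.H21
open scoped commutatorElement

universe u

variable {G : Type*} [Group G] [Finite G] {R T : Subgroup G} {p : ℕ}

/-- Every quotient of exponent `p` has order at most `p ^ 2`. -/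
def SmallAg (p : ℕ) (R : Subgroup G) : Prop := ∀ N, N ⊴ R → (∀ g ∈ R, g ^ p ∈ N) → N.relIndex R ∣ p ^ 2

theorem SmallAg.quo (h : SmallAg p R) (hT : T ⊴ R) : SmallAg p (quo R T) := fun N hN h1 => by
  obtain ⟨B, b1, b2, rfl⟩ := exists_quo_eq hT hN.le
  rw [relIndex_quo_of_normalIn (hT.of_le b1 b2) hT]
  exact h B ((quo_normalIn_iff b1 hT b2).1 hN) fun g hg => (cos_mem_quo_iff (pow_mem (hT.norm hg) p) b1).1
    (cos_pow (hT.norm hg) p ▸ h1 _ (cos_mem_quo hg))

theorem agemo_metacyclic_aux [hp : Fact p.Prime] (h3 : p ≠ 2) (n : ℕ) :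
    ∀ {G : Type u} [Group G] [Finite G] {R : Subgroup G}, ♯R = n → IsPGroup p R →
      SmallAg p R → IsMetacyclic R := by
  induction n using Nat.strong_induction_on with | _ n ih =>
  intro G _ _ R hn hR h
  have hodd := odd_of_pgroup h3 hR
  have hF := frattiniOf_normalIn (NormalIn.refl R)
  have hΦ : (frattiniOf R).relIndex R ∣ p ^ 2 := h _ hF fun g hg => H24.pow_mem_frattiniOf hR hg
  by_cases hc : IsMulCommutative R
  · by_cases h1 : R = ⊥
    · exact isMetacyclic_iff.2 ⟨R, NormalIn.refl R, h1 ▸ inferInstance, by rw [quo_self]; infer_instance⟩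
    obtain ⟨u, hu, hu'⟩ := SetLike.exists_of_lt (frattiniOf_lt h1)
    exact metacyclic_of_normal_zpowers hR hΦ hu' (NormalIn.of_comm hc (zpowers_le.2 hu))
  obtain ⟨T, hTd, hT, hTc⟩ := normal_pgroup (r := 1) hR (NormalIn.der_self R)
    (by simpa using dvd_card_of_isPGroup (hR.to_le (der_le R)) fun h => hc (der_eq_bot_iff.1 h))
  rw [pow_one] at hTc
  have hTp : (♯T).Prime := hTc ▸ hp.out
  have hTZ := le_cent_of_card_dvd_prime hR hT.norm hTc.dvd
  obtain ⟨Y, hY, hY1, hY2⟩ := isMetacyclic_iff.1 (ih _ (hn ▸ card_quo_lt hT (ne_bot_of_card_prime hTp)) rfl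
    (quo_isPGroup hR T) (h.quo hT))
  obtain ⟨X, hTX, hXR, rfl⟩ := exists_quo_eq hT hY.le
  have hX : X ⊴ R := (quo_normalIn_iff hTX hT hXR).1 hY
  obtain ⟨e⟩ := thirdIso (A := R) hTX (sup_le hT.norm (hXR.trans hT.norm)) hX.norm
  rw [e.isCyclic] at hY2
  by_cases hXc : IsCyclic X
  · exact isMetacyclic_iff.2 ⟨X, hX, hXc, hY2⟩
  have hXa := comm_of_quo_cyclic (le_centerOf hTX (cent_symm (hXR.trans hTZ))) hY1
  obtain ⟨x, hx, hTx⟩ := exists_sup_zpowers_of_quo_cyclic (hT.of_le hTX hXR) hY1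
  obtain ⟨y, hy, hXy⟩ := exists_sup_zpowers_of_quo_cyclic hX hY2
  have hTx1 : T ⊓ zpowers x = ⊥ := (prime_inf_eq_bot_or_le hTp).resolve_right fun h =>
    hXc (by rw [← hTx, sup_eq_right.2 h]; infer_instance)
  have hmem : ∀ z ∈ X, ∃ k : ℕ, ∃ t ∈ T, z = x ^ k * t := fun z hz => by
    rw [← hTx, sup_comm] at hz
    obtain ⟨a, ha, t, ht, rfl⟩ := (mem_sup_of_norm (zpowers_le.2 (hT.norm (hXR hx)))).1 hz
    obtain ⟨k, rfl⟩ := exists_pow_eq_of_mem_zpowers ha
    exact ⟨k, t, ht, rfl⟩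
  have hcX : ⁅x, y⁆ ∈ X := hX.commg_le le_rfl (commutator_mem_commutator hx hy)
  have hcx : Commute ⁅x, y⁆ x := comm_iff.1 hXa _ hcX _ hx
  -- `R'` is cyclic
  have hd : ⁅R, R⁆ ≤ zpowers ⁅x, y⁆ := by
    have h1 : R = T ⊔ closure {x, y} := le_antisymm
      (hXy.ge.trans (sup_le (hTx.ge.trans (sup_le_sup_left (zpowers_le.2 (H9.left_mem_closure_pair x y)) _))
        ((zpowers_le.2 (H9.right_mem_closure_pair x y)).trans le_sup_right)))
      (sup_le hT.le (H9.closure_pair_le (hXR hx) hy))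
    rw [h1, der_sup_of_cent (cent_symm ((H9.closure_pair_le (hXR hx) hy).trans hTZ)),
      der_eq_bot_iff.2 (comm_of_cyclic (isCyclic_of_card_prime hTp)), bot_sup_eq]
    refine H9.commutator_closure_pair_le (cent1_le_norm_zpowers _ (mem_cent1.2 hcx.symm.eq)) ?_ (mem_zpowers _)
    refine mem_norm_of_cj_le ?_
    rw [cj_zpowers, zpowers_le]
    obtain ⟨k, t, ht, e⟩ := hmem _ (hX.conj_mem hy hx)
    have : y * ⁅x, y⁆ * y⁻¹ = ⁅y * x * y⁻¹, y⁆ := by simp only [commutatorElement_def]; group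
    rw [this, e, commutatorElement_mul_left_of_commute (mem_cent.1 (hTZ hy) t ht),
      H9.commutatorElement_pow_left_of_commute hcx]
    exact npow_mem_zpowers _ _
  have hTe : ExpDvd p T := fun t ht => (elem_of_card_prime hp.out hTc).2 t ht
  have hd2 : ⁅R, R⁆ ≤ T := by
    have h1 : ⁅x, y⁆ ^ p = 1 := by
      by_contra h1
      refine inf_ne_bot_of_cyclic_pgroup (S := zpowers ⁅x, y⁆) (B := zpowers (⁅x, y⁆ ^ p)) inferInstance
        (hR.to_le (zpowers_le.2 (hXR hcX))) (hTd.trans hd) (zpowers_le.2 (npow_mem_zpowers _ _))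
        (ne_bot_of_card_prime hTp) (zpowers_ne_bot.2 h1) (eq_bot_iff.2 (hTx1 ▸ inf_le_inf_left _ ?_))
      obtain ⟨k, t, ht, e⟩ := hmem _ hcX
      have h2 : Commute (x ^ k) t := (mem_cent.1 (hTZ (pow_mem (hXR hx) k)) t ht).symm
      rw [e, h2.mul_pow, hTe t ht, mul_one, ← pow_mul, zpowers_le]
      exact npow_mem_zpowers _ _
    refine hd.trans (eq_of_le_card (hTd.trans hd) ?_).ge
    rw [hTc, Nat.card_zpowers]
    exact Nat.le_of_dvd hp.out.pos (orderOf_dvd_of_pow_eq_one h1)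
  have hreg := reg1_of_class_two hR hodd (hd2.trans (cent_symm hTZ))
  have hmul : ∀ a ∈ R, ∀ b ∈ R, (a * b) ^ p = a ^ p * b ^ p :=
    fun a ha b hb => reg_mul_pow hreg (hTe.of_le hd2) ha hb
  let M : Subgroup G :=
    { carrier := {z | ∃ a ∈ R, a ^ p = z}
      mul_mem' := by
        rintro _ _ ⟨a, ha, rfl⟩ ⟨b, hb, rfl⟩
        exact ⟨a * b, mul_mem ha hb, hmul a ha b hb⟩
      one_mem' := ⟨1, one_mem _, one_pow _⟩
      inv_mem' := by
        rintro _ ⟨a, ha, rfl⟩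
        exact ⟨a⁻¹, inv_mem ha, inv_pow _ _⟩ }
  have hMR : M ≤ R := by rintro _ ⟨a, ha, rfl⟩; exact pow_mem ha p
  have hMZ : M ≤ C⟦R⟧ := by
    rintro _ ⟨a, ha, rfl⟩
    refine mem_cent.2 fun b hb => (commutatorElement_eq_one_iff_mul_comm.1 ?_).symm
    have h1 := hd2 (commutator_mem_commutator ha hb)
    rw [H9.commutatorElement_pow_left_of_commute (mem_cent.1 (hTZ ha) _ h1), hTe _ h1]
  rcases prime_inf_eq_bot_or_le (A := M) hTp with h1 | h1
  · have hM := normalIn_of_le_centerOf (le_centerOf hMR hMZ)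
    have h2 := (quo_comm_iff hM.norm).1 (comm_of_card_dvd_psq (p := p)
      (by rw [card_quo hM.norm]; exact h M hM fun a ha => ⟨a, ha, rfl⟩))
    exact absurd (eq_bot_iff.2 (h1 ▸ le_inf le_rfl (hTd.trans h2))) (ne_bot_of_card_prime hTp)
  · obtain ⟨S, hTS, hS⟩ := (Set.toFinite {S : Subgroup G | S ≤ R ∧ IsCyclic S}).exists_le_maximal
      (a := T) ⟨hT.le, isCyclic_of_card_prime hTp⟩
    obtain ⟨u, rfl⟩ := exists_zpowers_of_cyclic hS.prop.2
    refine metacyclic_of_normal_zpowers hR hΦ (fun hu => ?_) (NormalIn.of_der_le hS.prop.1 (hd2.trans hTS))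
    obtain ⟨v, hv, rfl⟩ : u ∈ M := frattiniOf_le_of hp.out (hd2.trans h1) (fun a ha => ⟨a, ha, rfl⟩) hu
    have h2 := hS.eq_of_le (y := zpowers v) ⟨zpowers_le.2 hv, inferInstance⟩
      (zpowers_le.2 (npow_mem_zpowers v p))
    have h4 : p ∣ orderOf v := by
      rw [← Nat.card_zpowers, ← h2]
      exact (dvd_of_eq hTc.symm).trans (card_dvd hTS)
    have h5 := congrArg (fun S : Subgroup G => ♯S) h2
    simp only [Nat.card_zpowers] at h5
    rw [orderOf_pow_of_dvd hp.out.ne_zero h4] at h5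
    exact (Nat.div_lt_self (orderOf_pos v) hp.out.one_lt).ne h5

theorem agemo_metacyclic [Fact p.Prime] (hR : IsPGroup p R) (h2 : p ≠ 2) (h : SmallAg p R) : IsMetacyclic R :=
  agemo_metacyclic_aux h2 _ rfl hR h

end Cfsg.Agent.BG
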