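/-
Generalized characters of norm three that depend only on the `p`-part.
-/
import Cfsg.Agent.H6.AbFrob
import Cfsg.Agent.S0925
import Cfsg.Agent.S4710

set_option autoImplicit false
set_option linter.unusedSectionVars false

namespace Cfsg.Agent.L0.Ni

open Subgroup Cfsg.Agent.H4 Cfsg.Agent.H6
open scoped commutatorElement

variable {G : Type*} [Group G] [Fintype G] {p : ℕ}

theorem not_dvd_of_mem [Fact p.Prime] {M : Ideal AlgInt} (hM : IsPModular p M)
    (h2 : (Nat.card G).factorization p ≤ 2) {χ : IrrCharacter G} (hχ : χ ∈ principalBlock M G) {d : ℕ}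
    (hd : (χ : G → ℂ) 1 = d) : ¬ p ∣ d := by
  haveI := hM.2.1
  have h0 : sInf ((fun ψ : IrrCharacter G => (charDegree (ψ : G → ℂ)).factorization p) '' principalBlock M G) = 0 :=
    Nat.sInf_eq_zero.2 (Or.inl ⟨irrOne G, irrOne_mem_principal, by
      simp [charDegree_eq_of (χ := (irrOne G : G → ℂ)) (d := 1) (by simp)]⟩)
  obtain ⟨h3, h4⟩ := (S4710.result p M hM _ isPBlock_principal _ rfl).2 χ hχ
  have h5 : blockHeight p (principalBlock M G) (χ : G → ℂ) = 0 := by
    rw [blockDefect, h0] at h3 h4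
    omega
  rw [blockHeight, h0, charDegree_eq_of hd, tsub_zero] at h5
  obtain ⟨n, hn, h6⟩ := χ.2.exists_degree
  obtain rfl : d = n := by exact_mod_cast hd.symm.trans h6
  exact fun h => ((Fact.out : p.Prime).factorization_pos_of_dvd hn.ne' h).ne' h5

theorem mem_principal [Fact p.Prime] {M : Ideal AlgInt} (hM : IsPModular p M) {θ : G → ℂ} (hθ : IsClassFunction G θ)
    (hs : ∀ g z, IsPPart p g z → θ g = θ z) {χ : IrrCharacter G} (h : classInner θ χ ≠ 0) :
    χ ∈ principalBlock M G := by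
  classical
  haveI := hM.2.1
  by_contra h1
  have hB := isPBlock_blockOf (M := M) χ
  have h2 : irrOne G ∉ blockOf M (χ : G → ℂ) := fun h2 =>
    h1 (block_eq_of_mem hB isPBlock_principal h2 irrOne_mem_principal ▸ mem_blockOf_self χ)
  have h3 : blockPart (blockOf M (χ : G → ℂ)) θ = 0 := by
    ext g
    obtain ⟨z, hz⟩ := exists_isPPart hM.1 g
    have := (S0925.result p M hM).1 (θ - θ z • (irrOne G : G → ℂ)) (fun a b => by simp [hθ a b]) z (IsPPart.pow_order hz)
      (fun u w h4 h5 => by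
        obtain ⟨c, rfl⟩ := isConj_iff.1 h5
        simp [hs _ _ h4, hθ z c]) _ hB g z hz (IsConj.refl z)
    rwa [blockPart_sub, blockPart_smul, blockPart_irr_of_not_mem h2, smul_zero, sub_zero] at this
  have := classInner_blockPart (blockOf M (χ : G → ℂ)) θ χ
  rw [h3, classInner_zero_left, if_pos (mem_blockOf_self χ)] at this
  exact h this.symm

variable [IsSimpleGroup G]

theorem center_eq (hG : ¬ IsMulCommutative G) : center G = ⊥ :=
  (inferInstance : (center G).Normal).eq_bot_or_eq_top.resolve_right fun h =>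
    hG ⟨⟨fun a b => mem_center_iff.1 (h ▸ mem_top b) a⟩⟩

theorem two_le (hG : ¬ IsMulCommutative G) {χ : G → ℂ} (h : IsIrrCharacter G χ) (h1 : χ ≠ fun _ => 1) {d : ℕ}
    (hd : χ 1 = d) : 2 ≤ d := by
  obtain ⟨n, hn, h6⟩ := h.exists_degree
  obtain rfl : d = n := by exact_mod_cast hd.symm.trans h6
  by_contra h2
  obtain rfl : d = 1 := by omega
  obtain ⟨l, rfl⟩ := h.isCharacter.exists_linear (by simpa using hd)
  refine hG ⟨⟨fun a b => commutatorElement_eq_one_iff_mul_comm.1 (mem_bot.1 ?_)⟩⟩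
  rw [← h.charKer_eq_bot_of_simple h1, h.isCharacter.mem_charKer]
  simp [commutatorElement_def, mul_comm (l a)]

theorem ne_deg {χ : G → ℂ} (h : IsIrrCharacter G χ) (h1 : χ ≠ fun _ => 1) {g : G} (hg : g ≠ 1) : χ g ≠ χ 1 :=
  fun e => hg (mem_bot.1 (h.charKer_eq_bot_of_simple h1 ▸ h.isCharacter.mem_charKer.2 e))

theorem van (hG : ¬ IsMulCommutative G) {χ : G → ℂ} (h : IsIrrCharacter G χ) (h1 : χ ≠ fun _ => 1) {d : ℕ}
    (hd : χ 1 = d) {g : G} (hg : g ≠ 1) (hc : d.Coprime (centralizer ({g} : Set G)).index) : χ g = 0 :=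
  (h.eq_zero_or_norm_eq_of_coprime hd hc).resolve_right fun e => hg (mem_bot.1 (by
    rw [← center_eq hG, ← h.charCenter_eq_center (h.charKer_eq_bot_of_simple h1)]
    exact h.isCharacter.mem_charCenter.2 e))

theorem three (hG : ¬ IsMulCommutative G) {θ : G → ℂ} (hθ : IsGeneralizedCharacter G θ) (h3 : classInner θ θ = 3)
    (h1 : classInner θ (fun _ => 1) = 1) (h0 : θ 1 = 0) : ∃ (χ ψ : G → ℂ) (d : ℕ), IsIrrCharacter G χ ∧
      IsIrrCharacter G ψ ∧ (χ ≠ fun _ => 1) ∧ (ψ ≠ fun _ => 1) ∧ χ 1 = d ∧ ψ 1 = (d + 1 : ℕ) ∧ 2 ≤ d ∧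
      (∀ g, θ g = 1 + χ g - ψ g) ∧ classInner θ χ ≠ 0 ∧ classInner θ ψ ≠ 0 := by
  have h4 : classInner (θ - fun _ => 1) (fun _ => 1) = 0 := by rw [classInner_sub_left, h1, classInner_one_one, sub_self]
  obtain ⟨χ, ψ, hχ, hψ, hne, h5⟩ := H5.exists_of_norm_two (hθ.sub isGen_one) (by
    rw [classInner_sub_right, h4, classInner_sub_left, h3, isGen_one.classInner_comm hθ, h1]; norm_num)
  obtain ⟨d, hd, h6⟩ := hχ.exists_degree
  obtain ⟨e, he, h7⟩ := hψ.exists_degree
  have h8 := fun g => h5.imp (congrFun · g) (Or.imp (congrFun · g) (congrFun · g))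
  have h9 := h8 1
  simp only [Pi.sub_apply, Pi.add_apply, Pi.neg_apply, h0, h6, h7] at h9
  have h10 : (θ - fun _ => 1) = χ - ψ ∧ e = d + 1 := by
    rcases h5 with h5 | h5 | h5 <;> have := congrFun h5 1 <;>
      simp only [Pi.sub_apply, Pi.add_apply, Pi.neg_apply, h0, h6, h7] at this
    · have : (0 - 1 : ℤ) = d + e := by exact_mod_cast this
      omega
    · have : (0 - 1 : ℤ) = d - e := by exact_mod_cast this
      exact ⟨h5, by omega⟩
    · have : (0 - 1 : ℤ) = -d - e := by exact_mod_cast this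
      omega
  obtain ⟨h10, rfl⟩ := h10
  have hψ1 : ψ ≠ fun _ => 1 := fun e => by
    rw [e] at h7
    have h7' : (1 : ℂ) = _ := h7
    have : 1 = d + 1 := by exact_mod_cast h7'
    omega
  have hχ1 : χ ≠ fun _ => 1 := fun e => by
    rw [h10, classInner_sub_left, hψ.classInner_of_ne isIrrCharacter_one hψ1, e, classInner_one_one] at h4
    norm_num at h4
  have h11 : θ = (fun _ => 1) + (χ - ψ) := by rw [← h10]; simp
  refine ⟨χ, ψ, d, hχ, hψ, hχ1, hψ1, h6, h7, two_le hG hχ hχ1 h6, fun g => by simp [h11, add_sub_assoc], ?_, ?_⟩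
  · rw [h11, classInner_add_left, classInner_sub_left, isIrrCharacter_one.classInner_of_ne hχ hχ1.symm,
      hχ.classInner_self, hψ.classInner_of_ne hχ hne.symm]
    norm_num
  · rw [h11, classInner_add_left, classInner_sub_left, isIrrCharacter_one.classInner_of_ne hψ hψ1.symm,
      hψ.classInner_self, hχ.classInner_of_ne hψ hne]
    norm_num

/-- a character of prime degree forces a Sylow subgroup of prime order -/
theorem syl (hG : ¬ IsMulCommutative G) [hp : Fact p.Prime] {χ : G → ℂ} (h : IsIrrCharacter G χ) (hd : χ 1 = p)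
    (Q : Sylow p G) : Nat.card Q ∣ p := by
  classical
  have h1 : χ ≠ fun _ => 1 := fun e => hp.out.one_lt.ne (by rw [e] at hd; have hd' : (1 : ℂ) = _ := hd; exact_mod_cast hd')
  have h2 : ∀ z ∈ center Q, z ≠ 1 → χ z = 0 := fun z hz h2 => van hG h h1 hd (fun e => h2 (Subtype.ext e))
    ((hp.out.coprime_iff_not_dvd).2 fun h3 => Q.not_dvd_index (h3.trans (index_dvd_of_le fun y hy =>
      mem_centralizer_singleton_iff.2 (congrArg Subtype.val (mem_center_iff.1 hz ⟨y, hy⟩)))))
  have hr := h.isCharacter.restrict Q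
  obtain ⟨k, hk⟩ := hr.exists_nat_of_vanishing (center Q) h2
  suffices center Q = ⊤ by
    rw [this, card_top, OneMemClass.coe_one, hd] at hk
    exact ⟨k, by exact_mod_cast hk⟩
  refine eq_top_iff.2 fun a _ => mem_center_iff.2 fun b => Subtype.ext (commutatorElement_eq_one_iff_mul_comm.1 ?_)
  by_contra h3
  have := (nontrivial_iff_ne_bot (Q : Subgroup G)).2 fun e => h3 (by
    rw [mem_bot.1 (e ▸ b.2 : (b : G) ∈ (⊥ : Subgroup G))]; simp)
  refine ne_deg h h1 h3 (hr.mem_charKer.1 (hr.mem_charKer_of_forall_constituent (g := ⁅b, a⁆) fun ψ hψ h4 => ?_))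
  obtain ⟨e, he, h5⟩ := hψ.exists_degree
  obtain ⟨n, hn⟩ := Q.isPGroup'.exists_card_eq
  obtain ⟨j, -, rfl⟩ := (Nat.dvd_prime_pow hp.out).1 (hn ▸ hψ.degree_dvd_card h5)
  have h6 := hr.degree_le_of_constituent hψ h4 hd h5
  rcases j with _ | j
  · obtain ⟨l, rfl⟩ := hψ.isCharacter.exists_linear (by simpa using h5)
    simp [commutatorElement_def, mul_comm (l b)]
  have h7 : p ^ (j + 1) = p := le_antisymm h6 (Nat.le_self_pow j.succ_ne_zero p)
  have h8 := (hr.sub_irr hψ h4).eq_zero_of_apply_one (by simp [h5, h7, hd])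
  have := Q.isPGroup'.center_nontrivial
  obtain ⟨z, hz⟩ := exists_ne (1 : center Q)
  have h9 := hψ.isCharacter.mem_charCenter.1 (hψ.center_le_charCenter z.2)
  rw [← sub_eq_zero.1 h8] at h9
  simp only [h2 z z.2 fun e => hz (Subtype.ext e), OneMemClass.coe_one, hd] at h9
  simp [eq_comm, hp.out.ne_zero] at h9

end Cfsg.Agent.L0.Ni
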