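/-
A strongly closed subgroup of order three in a Sylow subgroup of order nine: counting.
-/
import Cfsg.Agent.L0.Ni1
import Mathlib.GroupTheory.Focal

set_option autoImplicit false
set_option linter.unusedSectionVars false

namespace Cfsg.Agent.L0.Ni

open Subgroup Cfsg.Agent.H4 Cfsg.Agent.H6
open scoped commutatorElement

theorem tri {H : Type*} [Group H] {x b : H} (hx : orderOf x = 3) (hb : b ∈ zpowers x) : b = 1 ∨ b = x ∨ b = x⁻¹ := by
  classical
  have := isOfFinOrder_iff_pow_eq_one.2 ⟨3, by norm_num, hx ▸ pow_orderOf_eq_one x⟩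
  obtain ⟨i, hi, rfl⟩ := Finset.mem_image.1 (this.mem_zpowers_iff_mem_range_orderOf.1 hb)
  rw [hx, Finset.mem_range] at hi
  interval_cases i
  · simp
  · simp
  · exact Or.inr (Or.inr (eq_inv_of_mul_eq_one_left (by
      rw [← pow_succ]; exact orderOf_dvd_iff_pow_eq_one.1 (by simp [hx]))))

variable {G : Type*} [Group G] [Fintype G]

theorem exists_conj_le {p : ℕ} [Fact p.Prime] (P : Sylow p G) {S : Subgroup G} (hS : IsPGroup p S) :
    ∃ c : G, ∀ s ∈ S, c * s * c⁻¹ ∈ (P : Subgroup G) := by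
  obtain ⟨Q, hQ⟩ := hS.exists_le_sylow
  obtain ⟨c, rfl⟩ := MulAction.exists_smul_eq G Q P
  exact ⟨c, fun s hs => by
    rw [Sylow.coe_subgroup_smul]; exact smul_mem_pointwise_smul s (MulAut.conj c) _ (hQ hs)⟩

/-- elements with `3`-part conjugate to `u` -/
def Tu (u : G) : Set G := {g | ∃ z, IsPPart 3 g z ∧ IsConj u z}

theorem card_Tu (u : G) : (Tu u).ncard ≤ (centralizer ({u} : Set G)).index * Nat.card {h // IsPPart 3 h u} := by
  choose c hc using fun x : {x // IsConj u x} => isConj_iff.1 x.2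
  rw [← card_isConj_eq_index, ← Nat.card_prod, ← Set.ncard_univ]
  refine (Set.ncard_le_ncard (t := (fun x : {x // IsConj u x} × {h // IsPPart 3 h u} =>
    c x.1 * x.2 * (c x.1)⁻¹) '' Set.univ) ?_).trans (Set.ncard_image_le (Set.toFinite _))
  rintro g ⟨z, h1, h2⟩
  refine ⟨(⟨z, h2⟩, ⟨(c ⟨z, h2⟩)⁻¹ * g * (c ⟨z, h2⟩)⁻¹⁻¹, ?_⟩), trivial, by simp [mul_assoc]⟩
  convert IsPPart.conj h1 (c ⟨z, h2⟩)⁻¹ using 1
  rw [eq_comm, mul_inv_eq_iff_eq_mul, inv_mul_eq_iff_eq_mul, ← mul_assoc, hc]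

theorem reg {u h : G} (hh : IsPPart 3 h u) : Commute u (u⁻¹ * h) ∧ ¬ 3 ∣ orderOf (u⁻¹ * h) := by
  obtain ⟨y, rfl, h1, -, h2⟩ := hh
  simpa using ⟨h1, h2⟩

/-- the situation -/
structure St (P : Sylow 3 G) (k : G) : Prop where
  card : Nat.card P = 9
  mem : k ∈ (P : Subgroup G)
  ord : orderOf k = 3
  inv : ∀ n ∈ normalizer ((P : Subgroup G) : Set G), n * k * n⁻¹ ∈ zpowers k

instance : Fact (Nat.Prime 3) := ⟨Nat.prime_three⟩

theorem comm9 {P : Sylow 3 G} (h : Nat.card P = 9) : IsMulCommutative (P : Subgroup G) :=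
  IsPGroup.isMulCommutative_of_card_eq_prime_sq (p := 3) h

namespace St

variable {P : Sylow 3 G} {k u v : G} (h : St P k)
include h

theorem comm (hu : u ∈ (P : Subgroup G)) (hv : v ∈ (P : Subgroup G)) : Commute u v :=
  congrArg Subtype.val ((comm9 h.card).1.1 ⟨u, hu⟩ ⟨v, hv⟩)

theorem le : zpowers k ≤ (P : Subgroup G) := zpowers_le.2 h.mem

theorem inv' {n : G} (hn : n ∈ normalizer ((P : Subgroup G) : Set G)) (hv : v ∈ zpowers k) :
    n * v * n⁻¹ ∈ zpowers k := by
  obtain ⟨i, rfl⟩ := mem_zpowers_iff.1 hv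
  rw [← conj_zpow]
  exact zpow_mem (h.inv n hn) i

theorem closed (hu : u ∈ (P : Subgroup G)) (hc : IsConj v u) (hv : v ∈ zpowers k) : u ∈ zpowers k := by
  have := comm9 h.card
  obtain ⟨c, rfl⟩ := isConj_iff.1 hc
  obtain ⟨n, hn, h1⟩ := P.conj_eq_normalizer_conj_of_mem v c⁻¹ (h.le hv) (by rw [inv_inv]; exact hu)
  rw [inv_inv] at h1
  simpa [h1] using h.inv' (inv_mem hn) hv

theorem card_quot : haveI := comm9 h.card
    Nat.card ((P : Subgroup G) ⧸ (zpowers k).subgroupOf P) = 3 := by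
  have := card_eq_card_quotient_mul_card_subgroup ((zpowers k).subgroupOf P)
  rw [Nat.card_congr (subgroupOfEquivOfLe h.le).toEquiv, Nat.card_zpowers, h.ord, h.card] at this
  omega

theorem tri' (hu : u ∈ (P : Subgroup G)) (h1 : u ∉ zpowers k) (hv : v ∈ (P : Subgroup G)) :
    v ∈ zpowers k ∨ u⁻¹ * v ∈ zpowers k ∨ u * v ∈ zpowers k := by
  have := comm9 h.card
  let f := QuotientGroup.mk' ((zpowers k).subgroupOf P)
  have hf : ∀ x, f x = 1 ↔ (x : G) ∈ zpowers k := fun x => QuotientGroup.eq_one_iff x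
  have h2 : f ⟨u, hu⟩ ≠ 1 := mt (hf _).1 h1
  refine (tri (orderOf_eq_prime (orderOf_dvd_iff_pow_eq_one.1 ((_root_.orderOf_dvd_natCard _).trans h.card_quot.dvd)) h2)
    (mem_zpowers_of_prime_card h.card_quot h2)
    (b := f ⟨v, hv⟩)).imp (hf _).1 (Or.imp (fun e => (hf (⟨u, hu⟩⁻¹ * ⟨v, hv⟩)).1 (by simp [e]))
      fun e => (hf (⟨u, hu⟩ * ⟨v, hv⟩)).1 (by rw [map_mul, e, mul_inv_cancel]))

theorem pow9 (hu : u ∈ (P : Subgroup G)) : u ^ 9 = 1 := by
  simpa [h.card] using congrArg Subtype.val (pow_card_eq_one' (x := (⟨u, hu⟩ : (P : Subgroup G))))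

theorem three_mul (hu : u ∈ (P : Subgroup G)) (h1 : u ∉ zpowers k) : 3 * (Tu u).ncard < Nat.card G := by
  have h2 : u ^ 2 ∉ zpowers k := fun e => h1 (by
    simpa [← pow_mul, pow_succ' u 9, h.pow9 hu] using pow_mem e 5)
  have h3 : ∀ (i : ℕ) (x : {h // IsPPart 3 h u}), IsPPart 3 (u ^ i * (u⁻¹ * x)) (u ^ i) := fun i x =>
    isPPart_mul ((reg x.2).1.pow_left i) (exists_orderOf_eq_of_mem Nat.prime_three P.isPGroup' (pow_mem hu i)) (reg x.2).2
  have h4 : ∀ i : Fin 3, ∀ x : {h // IsPPart 3 h u}, k ≠ u ^ (i : ℕ) * (u⁻¹ * x) := fun i x e => by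
    have := IsPPart.unique Nat.prime_three (isPPart_self Nat.prime_three ⟨1, h.ord⟩) (e ▸ h3 i x)
    fin_cases i
    · simpa [this] using h.ord
    · exact h1 (by simp [this])
    · exact h2 (by simp [this])
  have h5 : 3 ≤ orderOf u := by
    by_contra h5
    have := orderOf_pos u
    exact h2 (by rw [orderOf_dvd_iff_pow_eq_one.1 (by interval_cases orderOf u <;> simp)]; exact one_mem _)
  have h6 := Nat.card_le_card_of_injective (β := centralizer ({u} : Set G))
    (fun x : Option (Fin 3 × {h // IsPPart 3 h u}) => x.elim ⟨k, mem_centralizer_singleton.2 (h.comm hu h.mem)⟩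
      fun x => ⟨u ^ (x.1 : ℕ) * (u⁻¹ * x.2), mem_centralizer_singleton.2
        (((Commute.refl u).pow_right _).mul_right (reg x.2.2).1)⟩) (by
      rintro (_ | ⟨i, x⟩) (_ | ⟨j, y⟩) e
      · rfl
      · exact absurd (congrArg Subtype.val e) (h4 j y)
      · exact absurd (congrArg Subtype.val e).symm (h4 i x)
      · replace e : u ^ (i : ℕ) * (u⁻¹ * x) = u ^ (j : ℕ) * (u⁻¹ * y) := congrArg Subtype.val e
        obtain rfl : i = j := Fin.ext (pow_injOn_Iio_orderOf (i.2.trans_le h5) (j.2.trans_le h5)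
          (IsPPart.unique Nat.prime_three (h3 i x) (e ▸ h3 j y)))
        rw [Subtype.ext (mul_left_cancel (mul_left_cancel e))])
  rw [Finite.card_option, Nat.card_prod, Nat.card_eq_fintype_card (α := Fin 3), Fintype.card_fin] at h6
  have h7 := card_Tu u
  have h8 := Nat.pos_of_ne_zero (centralizer ({u} : Set G)).index_ne_zero_of_finite
  rw [← (centralizer ({u} : Set G)).card_mul_index]
  nlinarith

theorem nine_mul (hu : u ∈ (P : Subgroup G)) (h1 : HasNormalPComplement 3 (centralizer ({u} : Set G))) :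
    9 * (Tu u).ncard ≤ Nat.card G := by
  have h6 := Nat.card_le_card_of_injective (β := centralizer ({u} : Set G))
    (fun x : ↥(P : Subgroup G) × {h // IsPPart 3 h u} => ⟨x.1 * (u⁻¹ * x.2), mem_centralizer_singleton.2
        ((h.comm hu x.1.2).mul_right (reg x.2.2).1)⟩) (by
      rintro ⟨i, x⟩ ⟨j, y⟩ e
      replace e : (i : G) * (u⁻¹ * x) = j * (u⁻¹ * y) := congrArg Subtype.val e
      have h2 := H3.hasNormalPComplement_iff_mul.1 h1 ⟨_, mem_centralizer_singleton.2 (reg y.2).1⟩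
        ⟨_, mem_centralizer_singleton.2 (reg x.2).1⟩⁻¹
        (by simpa using ((Nat.prime_three.coprime_iff_not_dvd).2 (reg y.2).2).symm)
        (by simpa using ((Nat.prime_three.coprime_iff_not_dvd).2 (reg x.2).2).symm)
      have h3 : u⁻¹ * y * (u⁻¹ * x)⁻¹ = (j⁻¹ * i : (P : Subgroup G)) := by
        rw [mul_inv_eq_iff_eq_mul, coe_mul, mul_assoc, e]; simp
      rw [← orderOf_coe, coe_mul, coe_inv, h3] at h2
      obtain rfl : j = i := inv_mul_eq_one.1 (Subtype.ext (orderOf_eq_one_iff.1 (Nat.eq_one_of_dvd_coprimes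
        (h2.pow_right 2) dvd_rfl (orderOf_dvd_of_pow_eq_one (h.pow9 (j⁻¹ * i).2)))))
      rw [Subtype.ext (mul_left_cancel (mul_left_cancel e))])
  rw [Nat.card_prod, h.card] at h6
  have h7 := card_Tu u
  rw [← (centralizer ({u} : Set G)).card_mul_index]
  nlinarith

theorem compl_or (hu : u ∈ (P : Subgroup G)) (h1 : u ∉ zpowers k) :
    HasNormalPComplement 3 (centralizer ({u} : Set G)) ∨ IsConj (u * k) (u * k⁻¹) := by
  refine or_iff_not_imp_right.2 fun h2 => H3.hasNormalPComplement_of_normalizer_le_centralizer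
    (P.subtype fun a ha => mem_centralizer_singleton.2 (h.comm hu ha)) fun n hn (a : centralizer ({u} : Set G)) ha => Subtype.ext ?_
  have h3 : (n : G) ∈ normalizer ((P : Subgroup G) : Set G) := H3.mem_normalizer_of_conj_mem fun x hx =>
    (mem_normalizer_iff.1 hn ⟨x, mem_centralizer_singleton.2 (h.comm hu hx)⟩).1 hx
  have h4 := mem_centralizer_singleton.1 n.2
  have h5 : Commute k n := by
    rcases tri h.ord (h.inv n h3) with e | e | e
    · have := h.ord
      simp [conj_eq_one_iff.1 e] at this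
    · exact (mul_inv_eq_iff_eq_mul.1 e).symm
    · exact absurd (isConj_iff.2 ⟨n, by rw [← e, ← mul_assoc (n : G), ← h4.eq]; group⟩ : IsConj (u * k) (u * k⁻¹)) h2
  have h6 : ∀ x ∈ zpowers k, Commute x n := fun x hx => by
    obtain ⟨i, rfl⟩ := mem_zpowers_iff.1 hx
    exact h5.zpow_left i
  rcases h.tri' hu h1 (v := (a : G)) ha with e | e | e
  · exact h6 _ e
  · simpa using (h4.mul_left (h6 _ e)).eq
  · simpa using (h4.inv_left.mul_left (h6 _ e)).eq

end St

end Cfsg.Agent.L0.Ni
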