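/-
A strongly closed subgroup of order three in a Sylow subgroup of order nine: the generalized character.
-/
import Cfsg.Agent.L0.Ni2

set_option autoImplicit false
set_option linter.unusedSectionVars false

namespace Cfsg.Agent.L0.Ni

open Subgroup Cfsg.Agent.H4 Cfsg.Agent.H6
open scoped commutatorElement

variable {G : Type*} [Group G] [Fintype G]

/-- elements with `3`-part conjugate into `P` minus `⟨k⟩` -/
def T (P : Sylow 3 G) (k : G) : Set G := {g | ∃ u ∈ (P : Subgroup G), u ∉ zpowers k ∧ g ∈ Tu u}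

open Classical in
/-- three times the indicator -/
noncomputable def th (P : Sylow 3 G) (k : G) : G → ℂ := fun g => if g ∈ T P k then 3 else 0

theorem mem_Tu {u g z : G} (hz : IsPPart 3 g z) : g ∈ Tu u ↔ IsConj u z :=
  ⟨fun ⟨_, h1, h2⟩ => IsPPart.unique Nat.prime_three h1 hz ▸ h2, fun h => ⟨z, hz, h⟩⟩

theorem Tu_congr {u v : G} (h : IsConj u v) : Tu u ⊆ Tu v := fun _ ⟨z, h1, h2⟩ => ⟨z, h1, h.symm.trans h2⟩

theorem th_congr {P : Sylow 3 G} {k g z : G} (h : ∀ u, g ∈ Tu u ↔ z ∈ Tu u) : th P k g = th P k z := by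
  have : g ∈ T P k ↔ z ∈ T P k := exists_congr fun u => and_congr_right fun _ => and_congr_right fun _ => h u
  by_cases h1 : z ∈ T P k <;> simp [th, this, h1]

theorem th_part (P : Sylow 3 G) (k g z : G) (hz : IsPPart 3 g z) : th P k g = th P k z :=
  th_congr fun u => by rw [mem_Tu hz, mem_Tu (isPPart_self Nat.prime_three (IsPPart.pow_order hz))]

theorem th_class (P : Sylow 3 G) (k : G) : IsClassFunction G (th P k) := fun g c => by
  obtain ⟨z, hz⟩ := exists_isPPart Nat.prime_three g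
  have : ∀ u, IsConj u (c * z * c⁻¹) ↔ IsConj u z := fun u =>
    ⟨fun h => h.trans (isConj_iff.2 ⟨c, rfl⟩).symm, fun h => h.trans (isConj_iff.2 ⟨c, rfl⟩)⟩
  exact th_congr fun u => by rw [mem_Tu hz, mem_Tu (IsPPart.conj hz c), this]

namespace St

variable {P : Sylow 3 G} {k u v : G} (h : St P k)
include h

theorem th_apply (hv : v ∈ (P : Subgroup G)) [Decidable (v ∈ zpowers k)] :
    th P k v = if v ∈ zpowers k then 0 else 3 := by
  have h1 := isPPart_self Nat.prime_three (exists_orderOf_eq_of_mem Nat.prime_three P.isPGroup' hv)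
  have : v ∈ T P k ↔ v ∉ zpowers k :=
    ⟨fun ⟨u, h2, h3, h4⟩ h5 => h3 (h.closed h2 ((mem_Tu h1).1 h4).symm h5),
      fun h2 => ⟨v, hv, h2, (mem_Tu h1).2 (IsConj.refl v)⟩⟩
  by_cases h2 : v ∈ zpowers k <;> simp [th, this, h2]

theorem isGen : IsGeneralizedCharacter G (th P k) := by
  classical
  have := comm9 h.card
  refine isGen_of_prod Nat.prime_three (th_class P k) fun S F hS hF hc => ?_
  obtain ⟨c, h1⟩ := exists_conj_le P hS
  let φ : S × F →* (P : Subgroup G) := ((MulAut.conj c).toMonoidHom.comp (S.subtype.comp (MonoidHom.fst S F))).codRestrict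
    _ fun x => h1 _ x.1.2
  convert (isGen_one.natCast_smul 3).sub ((isCharacter_regChar.isGen.comp
    (QuotientGroup.mk' ((zpowers k).subgroupOf P))).comp φ) using 1
  ext x
  rw [th_part P k _ x.1 (isPPart_mul (hc _ x.1.2 _ x.2.2) (exists_orderOf_eq_of_mem Nat.prime_three hS x.1.2)
    fun e => hF (e.trans (F.orderOf_dvd_natCard x.2.2))), ← th_class P k _ c, h.th_apply (h1 _ x.1.2)]
  have h2 : QuotientGroup.mk' ((zpowers k).subgroupOf P) (φ x) = 1 ↔ c * x.1 * c⁻¹ ∈ zpowers k :=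
    QuotientGroup.eq_one_iff _
  simp only [Pi.sub_apply, Pi.smul_apply, regChar_apply, h2, h.card_quot]
  split_ifs <;> norm_num

theorem sum_P [Fintype (P : Subgroup G)] : ∑ u : (P : Subgroup G), th P k u = 18 := by
  classical
  have h1 : Nat.card {u : (P : Subgroup G) // (u : G) ∈ zpowers k} = 3 :=
    (Nat.card_congr (subgroupOfEquivOfLe h.le).toEquiv).trans ((Nat.card_zpowers k).trans h.ord)
  have h2 := natCard_subtype_eq_sum (R := ℂ) fun u : (P : Subgroup G) => (u : G) ∈ zpowers k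
  have h3 : ∀ u : (P : Subgroup G), th P k u = 3 - 3 * if (u : G) ∈ zpowers k then 1 else 0 := fun u => by
    rw [h.th_apply u.2]; split_ifs <;> norm_num
  rw [Finset.sum_congr rfl fun u _ => h3 u, Finset.sum_sub_distrib, ← Finset.mul_sum, ← h2, h1, Finset.sum_const,
    Finset.card_univ, ← Nat.card_eq_fintype_card]
  erw [h.card]
  norm_num

variable [IsSimpleGroup G] (hG : ¬ IsMulCommutative G)
include hG

theorem exists_base : ∃ u ∈ (P : Subgroup G), u ∉ zpowers k ∧
    T P k ⊆ Tu u ∪ Tu (u * k) ∪ Tu (u * k⁻¹) := by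
  have := comm9 h.card
  have h0 : commutator G = ⊤ := (inferInstance : (commutator G).Normal).eq_bot_or_eq_top.resolve_left fun e =>
    hG ⟨⟨fun a b => commutatorElement_eq_one_iff_mul_comm.1 (mem_bot.1 (e ▸ commutator_mem_commutator trivial trivial))⟩⟩
  have h1 : ¬ (P : Subgroup G).focalSubgroup ≤ zpowers k := fun e => by
    rw [← commutator_inf_eq_focalSubgroup, h0, top_inf_eq] at e
    have := card_le_of_le e
    rw [Nat.card_zpowers, h.ord] at this
    erw [h.card] at this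
    omega
  rw [focalSubgroup_def, closure_le] at h1
  obtain ⟨_, ⟨h1, x, hx, g, rfl⟩, h2⟩ := Set.not_subset.1 h1
  have h3 : g⁻¹⁻¹ * x⁻¹ * g⁻¹ ∈ (P : Subgroup G) := by
    simpa [commutatorElement_def, mul_assoc] using mul_mem (inv_mem hx) h1
  obtain ⟨n, hn, h4⟩ := P.conj_eq_normalizer_conj_of_mem x⁻¹ g⁻¹ (inv_mem hx) h3
  replace h2 : x⁻¹⁻¹ * (n⁻¹ * x⁻¹ * n) ∉ zpowers k := by
    rw [← h4]; simpa [commutatorElement_def, mul_assoc] using h2
  rw [h4] at h3
  have hu := inv_mem hx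
  generalize x⁻¹ = u at h2 h3 hu
  have h5 : ∀ y ∈ zpowers k, n⁻¹ * y * n ∈ zpowers k := fun y hy => by simpa using h.inv' (inv_mem hn) hy
  have h6 : u ∉ zpowers k := fun e => h2 (mul_mem (inv_mem e) (h5 u e))
  have h7 : u * (n⁻¹ * u * n) ∈ zpowers k := ((h.tri' hu h6 h3).resolve_left fun e =>
    h6 (h.closed hu (isConj_iff.2 ⟨n, by group⟩) e)).resolve_left h2
  have key : ∀ v, u⁻¹ * v ∈ zpowers k → Tu v ⊆ Tu u ∪ Tu (u * k) ∪ Tu (u * k⁻¹) := fun v hv => by
    rcases tri h.ord hv with e | e | e <;> rw [inv_mul_eq_iff_eq_mul] at e <;> rw [e]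
    · rw [mul_one]; exact fun _ e => Or.inl (Or.inl e)
    · exact fun _ e => Or.inl (Or.inr e)
    · exact fun _ e => Or.inr e
  refine ⟨u, hu, h6, fun g ⟨v, e1, e2, e3⟩ => ?_⟩
  rcases (h.tri' hu h6 e1).resolve_left e2 with e | e
  · exact key v e e3
  · refine key (n⁻¹ * v * n) ?_ (Tu_congr (isConj_iff.2 ⟨n⁻¹, by simp⟩) e3)
    convert mul_mem (inv_mem h7) (h5 _ e) using 1
    rw [(h.comm hu h3).eq]
    group

theorem card_T : 3 * (T P k).ncard < 2 * Nat.card G ∧ 0 < (T P k).ncard := by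
  obtain ⟨u, hu, h1, h2⟩ := h.exists_base hG
  have hk := mem_zpowers k
  have m1 : u * k ∈ (P : Subgroup G) := mul_mem hu h.mem
  have m2 : u * k⁻¹ ∈ (P : Subgroup G) := mul_mem hu (inv_mem h.mem)
  have n1 : u * k ∉ zpowers k := fun e => h1 (by simpa using mul_mem e (inv_mem hk))
  have n2 : u * k⁻¹ ∉ zpowers k := fun e => h1 (by simpa using mul_mem e hk)
  have k3 : k * k = k⁻¹ := eq_inv_of_mul_eq_one_left (by rw [← pow_three', ← h.ord, pow_orderOf_eq_one])
  refine ⟨?_, (Set.ncard_pos (Set.toFinite _)).2 ⟨u, u, hu, h1, u,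
    isPPart_self Nat.prime_three (exists_orderOf_eq_of_mem Nat.prime_three P.isPGroup' hu), IsConj.refl u⟩⟩
  have a0 := h.three_mul hu h1
  have a1 := h.three_mul m1 n1
  have a2 := h.three_mul m2 n2
  have two : ∀ v w : G, T P k ⊆ Tu v ∪ Tu w → (T P k).ncard ≤ (Tu v).ncard + (Tu w).ncard := fun v w e =>
    (Set.ncard_le_ncard e).trans (Set.ncard_union_le _ _)
  rcases h.compl_or hu h1 with b0 | b0
  swap
  · have := two u (u * k) fun g hg => (h2 hg).elim id fun e => Or.inr (Tu_congr b0.symm e)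
    omega
  rcases h.compl_or m1 n1 with b1 | b1
  swap
  · rw [mul_assoc, k3, mul_inv_cancel_right] at b1
    have := two u (u * k) fun g hg => (h2 hg).elim id fun e => Or.inl (Tu_congr b1 e)
    omega
  rcases h.compl_or m2 n2 with b2 | b2
  swap
  · rw [mul_assoc u k⁻¹ k⁻¹, ← mul_inv_rev, k3, inv_inv, inv_mul_cancel_right] at b2
    have := two u (u * k⁻¹) fun g hg => (h2 hg).imp_left fun e => e.elim id fun e => Tu_congr b2.symm e
    omega
  have c0 := h.nine_mul hu b0
  have c1 := h.nine_mul m1 b1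
  have c2 := h.nine_mul m2 b2
  have := (Set.ncard_le_ncard h2).trans ((Set.ncard_union_le _ _).trans
    (Nat.add_le_add_right (Set.ncard_union_le _ _) _))
  omega

theorem inner : classInner (th P k) (th P k) = 3 ∧ classInner (th P k) (fun _ => 1) = 1 := by
  classical
  have h1 : ∑ g, th P k g = 3 * (T P k).ncard := by
    rw [← Nat.card_coe_set_eq, natCard_subtype_eq_sum (R := ℂ) (· ∈ T P k), Finset.mul_sum]
    exact Finset.sum_congr rfl fun g _ => by simp [th]
  have h2 : classInner (th P k) (th P k) = 3 * classInner (th P k) (fun _ => 1) := by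
    rw [classInner, classInner, mul_left_comm, Finset.mul_sum _ _ (3 : ℂ)]
    refine congrArg _ (Finset.sum_congr rfl fun g _ => ?_)
    simp only [th]
    split_ifs <;> simp [map_ofNat]
  obtain ⟨n, hn⟩ := h.isGen.classInner_int isGen_one
  have h3 := hn
  rw [classInner_one_right, h1, inv_mul_eq_iff_eq_mul₀ (by simp)] at h3
  have h4 : (3 * (T P k).ncard : ℤ) = Nat.card G * n := by exact_mod_cast h3
  obtain ⟨h5, h6⟩ := h.card_T hG
  have h7 : n = 1 := by
    have : (0 : ℤ) < Nat.card G := by exact_mod_cast Nat.card_pos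
    have h8 : 0 < n := by nlinarith
    have h9 : n < 2 := by nlinarith
    omega
  rw [h2, hn, h7]
  norm_num

theorem chars : ∃ (χ ψ : G → ℂ) (d : ℕ), IsIrrCharacter G χ ∧ IsIrrCharacter G ψ ∧ (χ ≠ fun _ => 1) ∧
    (ψ ≠ fun _ => 1) ∧ χ 1 = d ∧ ψ 1 = (d + 1 : ℕ) ∧ 2 ≤ d ∧ (∀ g, th P k g = 1 + χ g - ψ g) ∧ ¬ 3 ∣ d ∧
    ¬ 3 ∣ d + 1 := by
  classical
  obtain ⟨χ, ψ, d, h1, h2, h3, h4, h5, h6, h7, h8, h9, h10⟩ := three hG h.isGen (h.inner hG).1 (h.inner hG).2
    (by simp [h.th_apply (one_mem _)])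
  obtain ⟨M, hM⟩ := exists_isPModular Nat.prime_three
  have h11 : (Nat.card G).factorization 3 ≤ 2 := by
    have := P.card_eq_multiplicity
    rw [h.card] at this
    exact (Nat.pow_right_injective (a := 3) (by norm_num) (a₂ := 2) this.symm).le
  exact ⟨χ, ψ, d, h1, h2, h3, h4, h5, h6, h7, h8,
    not_dvd_of_mem hM h11 (mem_principal hM (th_class P k) (th_part P k) (χ := ⟨χ, h1⟩) h9) h5,
    not_dvd_of_mem hM h11 (mem_principal hM (th_class P k) (th_part P k) (χ := ⟨ψ, h2⟩) h10) h6⟩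

end St

end Cfsg.Agent.L0.Ni
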