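/-
Simple groups of order `9 * 2 ^ a * q ^ b`: existence of the strongly closed subgroup, arithmetic, the prime `5`.
-/
import Cfsg.Agent.L0.Ni3

set_option autoImplicit false
set_option linter.unusedSectionVars false

namespace Cfsg.Agent.L0.Ni

open Subgroup Cfsg.Agent.H4 Cfsg.Agent.H6

variable {G : Type*} [Group G] [Fintype G]

theorem exists_st {P : Sylow 3 G} (hP : Nat.card P = 9)
    (h3 : 3 ≤ Nat.card {C : ConjClasses G // ∃ g ∈ C.carrier, g ≠ 1 ∧ orderOf g ∣ 9}) : ∃ k, St P k := by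
  classical
  have hc := comm9 hP
  suffices ∃ z ∈ (P : Subgroup G), z ≠ 1 ∧ ∀ n ∈ normalizer ((P : Subgroup G) : Set G), n * z * n⁻¹ ∈ zpowers z by
    obtain ⟨z, h1, h2, h4⟩ := this
    obtain ⟨j, hj⟩ := exists_orderOf_eq_of_mem Nat.prime_three P.isPGroup' h1
    have h5 : 3 ∣ orderOf z := hj ▸ dvd_pow_self 3 fun e => h2 (orderOf_eq_one_iff.1 (by simpa [e] using hj))
    refine ⟨z ^ (orderOf z / 3), hP, pow_mem h1 _, orderOf_pow_orderOf_div (orderOf_pos z).ne' h5, fun n hn => ?_⟩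
    obtain ⟨i, hi⟩ := mem_zpowers_iff.1 (h4 n hn)
    rw [← conj_pow, ← hi, ← zpow_natCast (z ^ i), ← zpow_mul, mul_comm, zpow_mul, zpow_natCast]
    exact zpow_mem (mem_zpowers _) i
  let s := (Finset.univ.filter (· ∈ (P : Subgroup G))).erase 1
  have hs : ∀ x, x ∈ s ↔ x ≠ 1 ∧ x ∈ (P : Subgroup G) := fun x => by simp [s]
  have h8 : s.card = 8 := by
    rw [Finset.card_erase_of_mem (by simp), ← Fintype.card_subtype, ← Nat.card_eq_fintype_card]
    erw [hP]
  have h4 : 3 ≤ (s.image ConjClasses.mk).card := by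
    rw [← Fintype.card_coe, ← Nat.card_eq_fintype_card]
    refine h3.trans (Nat.card_le_card_of_injective (fun C => ⟨C.1, ?_⟩) fun C D e => Subtype.ext (congrArg Subtype.val e :))
    obtain ⟨C, g, h4, h5, h6⟩ := C
    obtain ⟨c, h7⟩ := exists_conj_le P (isPGroup_zpowers Nat.prime_three
      (((Nat.dvd_prime_pow Nat.prime_three (m := 2)).1 h6).imp fun _ h => h.2))
    exact Finset.mem_image.2 ⟨_, (hs _).2 ⟨mt conj_eq_one_iff.1 h5, h7 g (mem_zpowers g)⟩,
      (ConjClasses.mk_eq_mk_iff_isConj.2 (isConj_iff.2 ⟨c, rfl⟩)).symm.trans (ConjClasses.mem_carrier_iff_mk_eq.1 h4)⟩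
  obtain ⟨C, h5, h6⟩ : ∃ C ∈ s.image ConjClasses.mk, (s.filter (ConjClasses.mk · = C)).card ≤ 2 := by
    by_contra! h5
    have := Finset.mul_card_image_le_card s 3 h5
    omega
  obtain ⟨u, hu, rfl⟩ := Finset.mem_image.1 h5
  have h7 : ∀ n ∈ normalizer ((P : Subgroup G) : Set G), ∀ x ∈ s.filter (ConjClasses.mk · = ConjClasses.mk u),
      n * x * n⁻¹ ∈ s.filter (ConjClasses.mk · = ConjClasses.mk u) := fun n hn x hx => by
    obtain ⟨e1, e2⟩ := Finset.mem_filter.1 hx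
    exact Finset.mem_filter.2 ⟨(hs _).2 ⟨mt conj_eq_one_iff.1 ((hs x).1 e1).1, (mem_normalizer_iff.1 hn x).1 ((hs x).1 e1).2⟩,
      (ConjClasses.mk_eq_mk_iff_isConj.2 (isConj_iff.2 ⟨n, rfl⟩)).symm.trans e2⟩
  have hu' : u ∈ s.filter (ConjClasses.mk · = ConjClasses.mk u) := Finset.mem_filter.2 ⟨hu, rfl⟩
  by_contra! h9
  obtain ⟨n, hn, h10⟩ := h9 u ((hs u).1 hu).2 ((hs u).1 hu).1
  have hw := h7 n hn u hu'
  generalize n * u * n⁻¹ = w at h10 hw
  have h11 : u ≠ w := fun e => h10 (e ▸ mem_zpowers u)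
  have h12 : s.filter (ConjClasses.mk · = ConjClasses.mk u) = {u, w} := (Finset.eq_of_subset_of_card_le
    (by intro x hx; rcases Finset.mem_insert.1 hx with rfl | hx; exacts [hu', Finset.mem_singleton.1 hx ▸ hw])
    (by rwa [Finset.card_pair h11])).symm
  have hwP := ((hs w).1 (Finset.mem_filter.1 hw).1).2
  obtain ⟨m, hm, h13⟩ := h9 (u * w) (mul_mem ((hs u).1 hu).2 hwP) fun e =>
    h10 (eq_inv_of_mul_eq_one_right e ▸ inv_mem (mem_zpowers u))
  have e1 := h7 m hm u hu'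
  have e2 := h7 m hm w hw
  have e3 : m * u * m⁻¹ ≠ m * w * m⁻¹ := by simpa using h11
  have e4 : w * u = u * w := congrArg Subtype.val (hc.1.1 ⟨w, hwP⟩ ⟨u, ((hs u).1 hu).2⟩)
  rw [h12, Finset.mem_insert, Finset.mem_singleton] at e1 e2
  rw [← conj_mul] at h13
  rcases e1 with e1 | e1 <;> rcases e2 with e2 | e2 <;> simp_all

theorem pow_one_of {q n m : ℕ} (hq : q.Prime) (h2 : q ≠ 2) (h3 : q ≠ 3) (hn : n ≠ 0)
    (h : q ^ n + 1 = 2 ^ m ∨ q ^ n = 2 ^ m + 1) : n = 1 := by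
  have ho := hq.odd_of_ne_two h2
  have h5 : 5 ≤ q := hq.five_le_of_ne_two_of_ne_three h2 h3
  have key : ∀ x y : ℤ, Odd x → Odd y → Odd n → (∑ i ∈ Finset.range n, x ^ i * y ^ (n - 1 - i)) ∣ 2 ^ m →
      (∑ i ∈ Finset.range n, x ^ i * y ^ (n - 1 - i)).natAbs = 1 := fun x y hx hy hn h => by
    have h1 : Odd (∑ i ∈ Finset.range n, x ^ i * y ^ (n - 1 - i)) := by
      rw [Int.odd_iff, Finset.sum_int_mod, Finset.sum_congr rfl fun i _ => Int.odd_iff.1 (hx.pow.mul hy.pow)]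
      simpa using Int.odd_iff.1 hn.natCast
    exact Nat.eq_one_of_dvd_coprimes (Nat.Coprime.pow_right m (Nat.coprime_two_right.2 h1.natAbs)) dvd_rfl
      (by simpa using Int.natAbs_dvd_natAbs.2 h)
  have hq' : Odd (q : ℤ) := by exact_mod_cast ho
  rcases Nat.even_or_odd n with ⟨j, rfl⟩ | hn'
  · exfalso
    have h6 : 5 ≤ q ^ j := h5.trans (Nat.le_self_pow (by omega) q)
    obtain ⟨r, hr⟩ := ho.pow (n := j)
    rw [pow_add, hr] at h
    rw [hr] at h6
    have : (2 * r + 1) * (2 * r + 1) = 4 * (r * r + r) + 1 := by ring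
    rcases h with h | h
    · rcases m with _ | _ | m
      · omega
      · omega
      · have : 2 ^ (m + 1 + 1) = 4 * 2 ^ m := by ring
        omega
    · have h7 : (2 * r) * (2 * (r + 1)) = 2 ^ m := by nlinarith
      obtain ⟨i, -, hi⟩ := (Nat.dvd_prime_pow Nat.prime_two).1 (⟨4 * (r + 1), by rw [← h7]; ring⟩ : r ∣ 2 ^ m)
      obtain ⟨l, -, hl⟩ := (Nat.dvd_prime_pow Nat.prime_two).1 (⟨4 * r, by rw [← h7]; ring⟩ : r + 1 ∣ 2 ^ m)
      rcases i with _ | i
      · omega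
      rcases l with _ | l
      · omega
      rw [pow_succ] at hi hl
      omega
  refine Nat.pow_right_injective hq.two_le (?_ : q ^ n = q ^ 1)
  rcases h with h | h
  · have h6 := Commute.geom_sum₂_mul (Commute.all (q : ℤ) (-1)) n
    rw [hn'.neg_one_pow, sub_neg_eq_add, sub_neg_eq_add] at h6
    have h7 := congrArg Int.natAbs h6
    rw [Int.natAbs_mul, key q (-1) hq' (by decide) hn' ⟨_, by rw [h6]; exact_mod_cast h.symm⟩] at h7
    rw [← Nat.cast_pow] at h7
    rw [pow_one]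
    omega
  · have h6 := Commute.geom_sum₂_mul (Commute.all (q : ℤ) 1) n
    rw [one_pow] at h6
    have h7 := congrArg Int.natAbs h6
    have h8 : (q : ℤ) ^ n = 2 ^ m + 1 := by exact_mod_cast h
    rw [Int.natAbs_mul, key q 1 hq' (by decide) hn' ⟨_, by rw [h6, h8]; simp⟩, ← Nat.cast_pow] at h7
    have := Nat.one_le_pow n q hq.pos
    rw [pow_one]
    omega

theorem arith {q a b d : ℕ} (hq : q.Prime) (h2 : q ≠ 2) (h3 : q ≠ 3) (hd : 2 ≤ d) (e1 : d ∣ 9 * 2 ^ a * q ^ b)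
    (e2 : d + 1 ∣ 9 * 2 ^ a * q ^ b) (e3 : ¬ 3 ∣ d) (e4 : ¬ 3 ∣ d + 1) :
    ∃ m, (d = q ∧ q + 1 = 2 ^ m) ∨ (d + 1 = q ∧ d = 2 ^ m) := by
  have key : ∀ x, x ∣ 9 * 2 ^ a * q ^ b → ¬ 3 ∣ x → (¬ 2 ∣ x → ∃ n, x = q ^ n) ∧ (¬ q ∣ x → ∃ m, x = 2 ^ m) :=
    fun x h4 h5 => by
    rw [mul_assoc] at h4
    have h6 := (((Nat.prime_three.coprime_iff_not_dvd).2 h5).symm.pow_right 2).dvd_of_dvd_mul_left h4
    exact ⟨fun h7 => ((Nat.dvd_prime_pow hq).1 ((((Nat.prime_two.coprime_iff_not_dvd).2 h7).symm.pow_right a).dvd_of_dvd_mul_left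
      h6)).imp fun _ h => h.2, fun h7 => ((Nat.dvd_prime_pow Nat.prime_two).1
        ((((hq.coprime_iff_not_dvd).2 h7).symm.pow_right b).dvd_of_dvd_mul_right h6)).imp fun _ h => h.2⟩
  have hn : q ∣ d → ¬ q ∣ d + 1 := fun h h' => hq.one_lt.ne' (Nat.dvd_one.1 ((Nat.dvd_add_right h).1 h'))
  by_cases h : 2 ∣ d
  · obtain ⟨n, h4⟩ := (key _ e2 e4).1 (by omega)
    have h5 : n ≠ 0 := by rintro rfl; rw [pow_zero] at h4; omega
    obtain ⟨m, h6⟩ := (key _ e1 e3).2 fun h6 => hn h6 (h4 ▸ dvd_pow_self q h5)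
    obtain rfl := pow_one_of hq h2 h3 h5 (Or.inr (by rw [← h4, h6]))
    exact ⟨m, Or.inr ⟨by simpa using h4, h6⟩⟩
  · obtain ⟨n, h4⟩ := (key _ e1 e3).1 h
    have h5 : n ≠ 0 := by rintro rfl; rw [pow_zero] at h4; omega
    obtain ⟨m, h6⟩ := (key _ e2 e4).2 (hn (h4 ▸ dvd_pow_self q h5))
    obtain rfl := pow_one_of hq h2 h3 h5 (Or.inl (by rw [← h4, h6]))
    exact ⟨m, Or.inl ⟨by simpa using h4, by simpa [h4] using h6⟩⟩

theorem int_congr {χ : G → ℂ} (hχ : IsCharacter G χ) {r k : ℕ} (hr : r.Prime) {v : G} (hv : v ^ r ^ k = 1)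
    {n : ℤ} (h0 : χ v = n) : (r : ℤ) ∣ n - charDegree χ := by
  obtain ⟨M, hM⟩ := exists_isPModular hr
  haveI := hM.2.1
  have : redC M (χ v) = charDegree χ := by
    obtain ⟨ε, h1, h2⟩ := hχ.exists_roots hχ.charDegree_cast.symm v
    have h3 : ∀ i, ε i ^ r ^ k = 1 := fun i => by
      obtain ⟨c, hc⟩ := orderOf_dvd_of_pow_eq_one hv
      rw [hc, pow_mul, h1, one_pow]
    have := h2 1
    simp only [pow_one] at this
    rw [this, redC_sum _ fun i _ => mem_locRing_of_pow_eq_one (orderOf_pos v).ne' (h1 i),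
      Finset.sum_congr rfl fun i _ => redC_eq_one_of_pow_eq_one hM (h3 i)]
    simp
  rw [h0, redC_intCast] at this
  exact (intCast_res_eq_zero_iff hM _).mp (by push_cast; rw [this, sub_self])

theorem St.not_four [IsSimpleGroup G] {P : Sylow 3 G} {k : G} (h : St P k) {χ ψ : G → ℂ} (hχ : IsIrrCharacter G χ)
    (hψ : IsIrrCharacter G ψ) (h1 : χ ≠ fun _ => 1) (h4 : χ 1 = (4 : ℕ)) (h5 : ψ 1 = (4 + 1 : ℕ))
    (h6 : ∀ g, th P k g = 1 + χ g - ψ g) : False := by
  classical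
  have h7 : ∀ (σ : ℂ ≃+* ℂ) g, σ (χ g) = χ g := fun σ => by
    have e1 := hχ.map_ringHom σ.toRingHom
    have e2 := hψ.map_ringHom σ.toRingHom
    have e3 : (fun g => σ.toRingHom (χ g)) = χ - ψ + fun g => σ.toRingHom (ψ g) := by
      ext g
      have e3 : σ (th P k g) = th P k g := by simp only [th]; split_ifs <;> simp [map_ofNat]
      rw [h6, map_sub, map_add, map_one] at e3
      simp only [Pi.add_apply, Pi.sub_apply, RingEquiv.toRingHom_eq_coe, RingHom.coe_coe]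
      linear_combination e3
    have e4 : ∀ φ : G → ℂ, φ 1 = (4 + 1 : ℕ) → φ ≠ χ := fun φ e e' => by
      rw [e', h4] at e
      norm_num at e
    refine congrFun (e1.eq_of_classInner_ne_zero hχ ?_)
    rw [e3, classInner_add_left, classInner_sub_left, hχ.classInner_self, hψ.classInner_of_ne hχ (e4 _ h5),
      e2.classInner_of_ne hχ (e4 _ (by simp [h5, map_ofNat]))]
    norm_num
  choose X hX using fun g => exists_int_of_forall_ringEquiv (hχ.isGen.isIntegral g) fun σ => h7 σ g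
  have h8 : ∀ u ∈ (P : Subgroup G), u ≠ 1 → X u = 1 ∨ X u = -2 := fun u hu e => by
    have e1 := int_congr hχ.isCharacter Nat.prime_three (k := 2) (h.pow9 hu) (hX u)
    have e2 := ne_deg hχ h1 e
    have e3 := hχ.isCharacter.norm_le u
    rw [charDegree_eq_of h4] at e1
    rw [hX, h4] at e2 e3
    have e4 : X u ≠ 4 := fun e4 => e2 (by simp [e4])
    have e5 : |X u| ≤ 4 := by
      rw [Complex.norm_intCast, Complex.norm_natCast] at e3
      exact_mod_cast e3
    rw [abs_le] at e5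
    omega
  obtain ⟨m, hm⟩ := (hχ.isCharacter.restrict P).classInner_nat isCharacter_one
  obtain ⟨m', hm'⟩ := (hψ.isCharacter.restrict P).classInner_nat isCharacter_one
  have hP : (Nat.card (P : Subgroup G) : ℂ) = 9 := by exact_mod_cast h.card
  rw [classInner_one_right, hP, inv_mul_eq_iff_eq_mul₀ (by norm_num)] at hm hm'
  have h9 := h.sum_P
  simp only [h6, Finset.sum_sub_distrib, Finset.sum_add_distrib, hm, hm', Finset.sum_const, Finset.card_univ,
    ← Nat.card_eq_fintype_card, nsmul_eq_mul, hP] at h9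
  have h10 : m = m' + 1 := by
    have : (m : ℂ) = m' + 1 := by linear_combination h9 / 9
    exact_mod_cast this
  let A := Finset.univ.filter fun u : (P : Subgroup G) => X u = -2
  have h11 : ∑ u : (P : Subgroup G), X u = ∑ u : (P : Subgroup G),
      (1 + (if u = 1 then 3 else 0) - 3 * if X u = -2 then 1 else 0) := Finset.sum_congr rfl fun u _ => by
    by_cases e : u = 1
    · have : X 1 = 4 := by exact_mod_cast (hX 1).symm.trans h4
      simp [e, this]
    · rcases h8 u u.2 (fun e' => e (Subtype.ext e')) with e1 | e1 <;> simp [e, e1]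
  have h12 : ∑ u : (P : Subgroup G), X u = 9 * m := by
    simp only [hX] at hm
    exact_mod_cast hm
  have h13 : Even A.card := by
    rw [← ZMod.natCast_eq_zero_iff_even, Finset.card_eq_sum_ones, Nat.cast_sum]
    refine Finset.sum_involution (fun u _ => u⁻¹) (fun _ _ => by decide) (fun u hu _ e => ?_) (fun u hu => ?_)
      fun _ _ => inv_inv _
    · have e1 : (u : G) ^ 2 = 1 := by rw [sq, ← eq_inv_iff_mul_eq_one]; exact (congrArg Subtype.val e).symm
      have e2 : (u : G) = 1 := by simpa [pow_succ' _ 8, pow_mul _ 2 4, e1] using h.pow9 u.2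
      have := (hX 1).symm.trans h4
      rw [← e2, (Finset.mem_filter.1 hu).2] at this
      norm_num at this
    · have := hχ.isGen.apply_inv u
      rw [hX, hX, (Finset.mem_filter.1 hu).2, map_intCast] at this
      exact Finset.mem_filter.2 ⟨Finset.mem_univ _, by exact_mod_cast this⟩
  have hP' : Fintype.card (P : Subgroup G) = 9 := by rw [← Nat.card_eq_fintype_card]; exact h.card
  rw [h12, Finset.sum_sub_distrib, Finset.sum_add_distrib, ← Finset.mul_sum, Finset.sum_boole] at h11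
  simp only [Finset.sum_const, Finset.card_univ, hP', Finset.sum_ite_eq', Finset.mem_univ, if_true] at h11
  obtain ⟨r, hr⟩ := h13
  simp only [A] at hr
  rw [hr] at h11
  push_cast at h11
  simp only [nsmul_eq_mul] at h11
  omega

end Cfsg.Agent.L0.Ni
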