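/-
Simple groups of order `63 * 2 ^ a`.
-/
import Cfsg.Agent.L0.Ni4
import Cfsg.Agent.S1001

set_option autoImplicit false
set_option linter.unusedSectionVars false

namespace Cfsg.Agent.L0.Ni

open Subgroup Cfsg.Agent.H4 Cfsg.Agent.H6

variable {G : Type*} [Group G] [Fintype G]

theorem card_sylow {p k m : ℕ} [hp : Fact p.Prime] (h : Nat.card G = p ^ k * m) (hm : ¬ p ∣ m) (P : Sylow p G) :
    Nat.card P = p ^ k := by
  rw [P.card_eq_multiplicity, h, Nat.factorization_mul (pow_ne_zero _ hp.out.ne_zero) (by rintro rfl; simp at hm),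
    Finsupp.add_apply, hp.out.factorization_pow, Finsupp.single_eq_same, Nat.factorization_eq_zero_of_not_dvd hm, add_zero]

theorem sum_invol {θ χ ψ : G → ℂ} {d : ℕ} (hχ : IsIrrCharacter G χ) (hψ : IsIrrCharacter G ψ) (h1 : χ 1 = d)
    (h2 : ψ 1 = (d + 1 : ℕ)) (hd : 2 ≤ d) (h : ∀ g, θ g = 1 + χ g - ψ g) {t : G} (h0 : θ t = 0) {k : ℕ}
    (hk : χ t = d - 2 * k) : (∑ c, θ (c * t * c⁻¹ * t)) * (d * (d + 1)) = Nat.card G * (4 * k ^ 2) := by
  have h3 : ψ t = 1 + (d - 2 * k) := by rw [← hk]; linear_combination h t - h0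
  have h4 : (d : ℂ) ≠ 0 := Nat.cast_ne_zero.2 (by omega)
  have h5 : (d : ℂ) + 1 ≠ 0 := by exact_mod_cast d.succ_ne_zero
  simp only [h, Finset.sum_sub_distrib, Finset.sum_add_distrib, hχ.sum_conj_mul, hψ.sum_conj_mul, h1, h2, h3, hk,
    Finset.sum_const, Finset.card_univ, ← Nat.card_eq_fintype_card, nsmul_eq_mul]
  push_cast
  field_simp
  ring

theorem lower {F : G → ℝ} (h0 : ∀ g, 0 ≤ F g) (h1 : F 1 = 0) (hF : ∀ g c, F (c * g * c⁻¹) = F g) {Q : Subgroup G}
    [Fintype Q] (h7 : ∀ y ∈ Q, y ^ 7 = 1) {t : G} (ht : t * t = 1) (hi : ∀ y ∈ Q, t * y * t⁻¹ = y⁻¹)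
    (hN : ∀ n, ∀ y ∈ Q, y ≠ 1 → n * y * n⁻¹ ∈ Q → Commute t n → n = 1 ∨ n = t) :
    (Nat.card (centralizer ({t} : Set G)) : ℝ) ^ 2 * ∑ y : Q, F y ≤ 2 * ∑ c, F (c * t * c⁻¹ * t) := by
  classical
  let C := centralizer ({t} : Set G)
  let m : C × Q × C → G := fun x => x.1 * x.2.1 ^ 4 * x.2.2
  have h2 : ∀ x, m x * t * (m x)⁻¹ * t = x.1 * x.2.1 * (x.1 : G)⁻¹ := fun ⟨u, y, v⟩ => by
    have e1 := (mem_centralizer_singleton.1 u.2).inv_right.eq
    have e2 := (mem_centralizer_singleton.1 v.2).eq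
    have e3 := hi _ (inv_mem (pow_mem y.2 4))
    rw [inv_inv, inv_eq_of_mul_eq_one_right ht] at e3
    calc (u : G) * y ^ 4 * v * t * ((u : G) * y ^ 4 * v)⁻¹ * t
        = (u : G) * (y : G) ^ 4 * ((v : G) * t) * (v : G)⁻¹ * ((y : G) ^ 4)⁻¹ * ((u : G)⁻¹ * t) := by group
      _ = (u : G) * ((y : G) ^ 4 * (t * ((y : G) ^ 4)⁻¹ * t)) * (u : G)⁻¹ := by rw [← e1, ← e2]; group
      _ = _ := by rw [e3, ← pow_add, pow_succ _ 7, h7 y y.2, one_mul]
  calc _ = ∑ x : C × Q × C, F (m x * t * (m x)⁻¹ * t) := by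
        simp only [h2, hF, Fintype.sum_prod_type, Finset.sum_const, Finset.card_univ, ← Nat.card_eq_fintype_card,
          nsmul_eq_mul, ← Finset.mul_sum]
        ring
    _ = ∑ c, ((Finset.univ.filter (m · = c)).card : ℝ) * F (c * t * c⁻¹ * t) := by
        rw [← Finset.sum_fiberwise Finset.univ m]
        refine Finset.sum_congr rfl fun c _ => ?_
        rw [Finset.sum_congr rfl fun x hx => by rw [(Finset.mem_filter.1 hx).2], Finset.sum_const, nsmul_eq_mul]
    _ ≤ _ := by
        rw [Finset.mul_sum]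
        refine Finset.sum_le_sum fun c _ => ?_
        by_cases h3 : F (c * t * c⁻¹ * t) = 0
        · simp [h3]
        refine mul_le_mul_of_nonneg_right ?_ (h0 _)
        rcases (Finset.univ.filter (m · = c)).eq_empty_or_nonempty with h4 | ⟨x, h4⟩
        · simp [h4]
        have h5 : ∀ x ∈ Finset.univ.filter (m · = c), c * t * c⁻¹ * t = x.1 * x.2.1 * (x.1 : G)⁻¹ := fun x hx => by
          rw [← h2, (Finset.mem_filter.1 hx).2]
        have : (Finset.univ.filter (m · = c)).card ≤ ({(x.1 : G), x.1 * t} : Finset G).card := by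
          refine Finset.card_le_card_of_injOn (fun y => y.1) (fun y hy => ?_) fun y hy z hz e => ?_
          · have h6 := hN ((x.1 : G)⁻¹ * y.1) _ y.2.1.2 (fun e => h3 (by rw [h5 y hy, e, hF, h1])) (by
              convert x.2.1.2 using 1
              calc _ = (x.1 : G)⁻¹ * (y.1 * y.2.1 * (y.1 : G)⁻¹) * x.1 := by group
                _ = _ := by rw [← h5 y hy, h5 x h4]; group)
              ((mem_centralizer_singleton.1 x.1.2).inv_right.mul_right (mem_centralizer_singleton.1 y.1.2))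
            simp only [inv_mul_eq_iff_eq_mul, mul_one] at h6
            simpa using h6
          · have e1 : y.1 = z.1 := Subtype.ext e
            have e2 : y.2.1 = z.2.1 := Subtype.ext (by simpa [e1] using (h5 y hy).symm.trans (h5 z hz))
            have e3 := (Finset.mem_filter.1 hy).2.trans (Finset.mem_filter.1 hz).2.symm
            simp only [m, e1, e2, mul_right_inj] at e3
            exact Prod.ext e1 (Prod.ext e2 (Subtype.ext e3))
        exact_mod_cast this.trans Finset.card_le_two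

instance : Fact (Nat.Prime 7) := ⟨by norm_num⟩

theorem seven [IsSimpleGroup G] (hG : ¬ IsMulCommutative G) {a : ℕ} (hc : Nat.card G = 7 * 3 ^ 2 * 2 ^ a) : a = 3 := by
  classical
  let Q : Sylow 7 G := default
  have hQ : Nat.card Q = 7 := card_sylow (k := 1) (m := 3 ^ 2 * 2 ^ a) (by rw [hc]; ring) (fun h => by
    rcases (Nat.Prime.dvd_mul (by norm_num)).1 h with h | h
    · norm_num at h
    · exact absurd (Nat.Prime.dvd_of_dvd_pow (by norm_num) h) (by norm_num)) Q
  have h7 : ∀ y ∈ (Q : Subgroup G), y ^ 7 = 1 := fun y hy =>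
    orderOf_dvd_iff_pow_eq_one.1 (((Q : Subgroup G).orderOf_dvd_natCard hy).trans hQ.dvd)
  have hz : ∀ y ∈ (Q : Subgroup G), y ≠ 1 → zpowers y = Q := fun y hy h1 => eq_of_le_of_card_ge (zpowers_le.2 hy)
    (by rw [Nat.card_zpowers, orderOf_eq_prime (h7 y hy) h1]; exact hQ.le)
  have hC : ∀ y ∈ (Q : Subgroup G), y ≠ 1 → centralizer {y} = (Q : Subgroup G) := fun y hy h1 =>
    (S1001.result 7 2 a (by norm_num) hc y (orderOf_eq_prime (h7 y hy) h1)).trans (hz y hy h1)
  have hcyc : IsCyclic (Q : Subgroup G) := isCyclic_of_prime_card hQ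
  have := (Finite.one_lt_card_iff_nontrivial (α := (Q : Subgroup G))).1 (by erw [hQ]; norm_num)
  obtain ⟨x, hx⟩ := exists_ne (1 : (Q : Subgroup G))
  have hCQ : centralizer ((Q : Subgroup G) : Set G) = (Q : Subgroup G) := le_antisymm
    ((centralizer_le (Set.singleton_subset_iff.2 x.2)).trans (hC x x.2 fun e => hx (Subtype.ext e)).le) (le_centralizer _)
  have af : AF Q := ⟨fun a b => (mul_comm' a b), fun y hy h1 => by rw [hC y hy h1, hCQ]; exact inf_le_left⟩
  have h1 := relIndex_mul_index (centralizer_le_normalizer ((Q : Subgroup G) : Set G))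
  have h2 := (Q : Subgroup G).card_mul_index
  have h3 := card_sylow_modEq_one 7 G
  have h4 : Nat.card (autz (Q : Subgroup G)) ∣ 6 := by
    convert card_subgroup_dvd_card (autz (Q : Subgroup G))
    rw [hcyc.card_mulAut]
    erw [hQ]
    rfl
  have h5 : Nat.card (autz (Q : Subgroup G)) ≠ 1 := fun e => by
    rw [card_autz, relIndex_eq_one] at e
    obtain ⟨P, N, hN, h5⟩ := H3.hasNormalPComplement_of_normalizer_le_centralizer Q e
    have h6 := h5.card_mul_card
    erw [Nat.card_congr (P.equiv Q).toEquiv, hQ] at h6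
    rcases hN.eq_bot_or_eq_top with rfl | rfl
    · rw [card_bot, hc] at h6
      have := Nat.one_le_two_pow (n := a)
      omega
    · have := Nat.card_pos (α := G)
      rw [card_top] at h6
      omega
  rw [← card_autz, hCQ] at h1
  rw [Q.card_eq_index_normalizer] at h3
  erw [hQ, hc, ← h1] at h2
  obtain ⟨he, b, rfl⟩ : Nat.card (autz (Q : Subgroup G)) = 2 ∧ ∃ b, a = 3 * b := by
    have h6 : 8 ^ (a / 3) % 7 = 1 := by simp [Nat.pow_mod]
    have h8 : 2 ^ a = 8 ^ (a / 3) * 2 ^ (a % 3) := by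
      rw [show 8 = 2 ^ 3 from rfl, ← pow_mul, ← pow_add, Nat.div_add_mod]
    have h9 := Nat.le_of_dvd (by norm_num) h4
    have h10 := Nat.mod_lt a (show 0 < 3 by norm_num)
    refine (?_ : _ ∧ a % 3 = 0).imp_right fun h => ⟨a / 3, by omega⟩
    rw [h8] at h2
    unfold Nat.ModEq at h3
    generalize Nat.card (autz (Q : Subgroup G)) = e at *
    generalize a % 3 = r at *
    generalize 8 ^ (a / 3) = w at *
    change 7 * (e * (normalizer (Q : Set G)).index) = _ at h2
    interval_cases e <;> interval_cases r <;> omega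
  have hb : b ≠ 0 := by
    rintro rfl
    rw [he] at h2
    omega
  obtain ⟨M, hM⟩ := exists_isPModular (p := 7) (by norm_num)
  haveI := hM.2.1
  obtain ⟨l, hl⟩ : ∃ l : (Q : Subgroup G) →* ℂˣ, l ≠ 1 := by
    have := Fintype.ofFinite ((Q : Subgroup G) →* ℂˣ)
    exact (Fintype.exists_ne_of_one_lt_card (by rw [card_lf af.comm]; erw [hQ]; norm_num) 1)
  obtain ⟨χ, ψ, d, e1, e2, e3, -, e4, e5, e6, e7, -⟩ := three hG (isGen_ucol (M := M) l).neg (by
    rw [classInner_neg_left, classInner_neg_right, neg_neg, af.inner_ucol' hM hl hl, he, if_pos rfl]; norm_num)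
    (by rw [classInner_neg_left]; exact neg_eq_iff_eq_neg.2 (inner_ucol_one hl))
    (by simp [ucol_of_regular hM l (g := 1) (by simp)])
  have hcl := (isGen_ucol (M := M) l).isClassFunction
  have key : ∀ t : G, orderOf t = 2 → ∃ k : ℕ, 0 < k ∧ k ≤ d ∧
      (∑ c, (-ucol M l) (c * t * c⁻¹ * t)) * (d * (d + 1)) = Nat.card G * (4 * k ^ 2) := fun t ht => by
    obtain ⟨k, h5, h6⟩ := e1.isCharacter.exists_int_of_sq_eq_one (ht ▸ pow_orderOf_eq_one t) e4
    refine ⟨k, Nat.pos_of_ne_zero ?_, h5, sum_invol e1 e2 e4 e5 e6 e7 (by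
      simp [ucol_of_regular hM l (g := t) (by simp [ht])]) h6⟩
    rintro rfl
    exact ne_deg e1 e3 (g := t) (by rintro rfl; simp at ht) (by simp [h6, e4])
  have sing : ∀ g : G, 7 ∣ orderOf g → ∃ z c, IsPPart 7 g z ∧ z ≠ 1 ∧ c * z * c⁻¹ ∈ (Q : Subgroup G) := fun g hg => by
    obtain ⟨z, h5⟩ := exists_isPPart hM.1 g
    obtain ⟨c, h6⟩ := exists_conj_le Q (isPGroup_zpowers hM.1 (IsPPart.pow_order h5))
    exact ⟨z, c, h5, fun e => (IsPPart.eq_one_iff hM.1 h5).1 e hg, h6 z (mem_zpowers z)⟩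
  obtain ⟨t, ht, h5, h6⟩ : ∃ t : G, orderOf t = 2 ∧ 2 ^ (3 * b) ≤ Nat.card (centralizer ({t} : Set G)) ∧
      ∀ y ∈ (Q : Subgroup G), t * y * t⁻¹ = y⁻¹ := by
    let S : Sylow 2 G := default
    have hS : Nat.card S = 2 ^ (3 * b) := card_sylow (m := 63) (by rw [hc]; ring) (by norm_num) S
    have := (Finite.one_lt_card_iff_nontrivial (α := (S : Subgroup G))).1 (by
      erw [hS]; exact Nat.one_lt_two_pow (by omega))
    have := S.isPGroup'.center_nontrivial
    obtain ⟨n, hn, h5⟩ := (S.isPGroup'.to_subgroup (center S)).nontrivial_iff_card.1 this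
    obtain ⟨t, ht⟩ := exists_prime_orderOf_dvd_card' (G := center S) 2 (h5 ▸ dvd_pow_self 2 hn.ne')
    rw [← orderOf_coe, ← orderOf_coe] at ht
    have h6 : 2 ^ (3 * b) ≤ Nat.card (centralizer ({((t : (S : Subgroup G)) : G)} : Set G)) := hS ▸ card_le_of_le
      fun y hy => mem_centralizer_singleton_iff.2 (congrArg Subtype.val (mem_center_iff.1 t.2 ⟨y, hy⟩))
    generalize ((t : (S : Subgroup G)) : G) = t at ht h6
    obtain ⟨k, h8, -, h9⟩ := key t ht
    obtain ⟨c, -, h10⟩ := Finset.exists_ne_zero_of_sum_ne_zero (left_ne_zero_of_mul (h9.trans_ne (by simp [h8.ne'])))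
    obtain ⟨z, e, h11, h12, h13⟩ := sing (c * t * c⁻¹ * t) (by_contra fun h => h10 (by simp [ucol_of_regular hM l h]))
    have t2 : t⁻¹ = t := inv_eq_of_mul_eq_one_right (by rw [← sq, ← ht, pow_orderOf_eq_one])
    have h14 : t * z * t⁻¹ = z⁻¹ := IsPPart.unique hM.1 (IsPPart.conj h11 t) (by
      rw [mul_assoc t, mul_inv_cancel_right]
      simpa [mul_assoc, t2] using IsPPart.inv h11)
    refine ⟨e * t * e⁻¹, (orderOf_conj' e t).trans ht, h6.trans (Nat.card_le_card_of_injective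
      (fun x => ⟨e * x * e⁻¹, mem_centralizer_singleton.2 ((mem_centralizer_singleton.1 x.2).conj e)⟩)
      fun x y h => Subtype.ext (by simpa using h)), fun y hy => ?_⟩
    rw [← hz _ h13 (mt conj_eq_one_iff.1 h12)] at hy
    obtain ⟨i, rfl⟩ := mem_zpowers_iff.1 hy
    rw [← conj_zpow, ← inv_zpow]
    congr 1
    rw [mul_inv_rev (e * z), mul_inv_rev e z, ← h14]
    group
  have t2 : t * t = 1 := by rw [← sq, ← ht, pow_orderOf_eq_one]
  have odd : ∀ y ∈ (Q : Subgroup G), Commute t y → y = 1 := fun y hy h => by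
    have h8 := h6 y hy
    rw [h.eq, mul_inv_cancel_right, eq_inv_iff_mul_eq_one, ← sq] at h8
    simpa [pow_succ' _ 6, pow_mul _ 2 3, h8] using h7 y hy
  have hl2 := lower (F := fun g => ((-ucol M l) g).re) (fun g => ?_)
    (by simp [ucol_of_regular hM l (g := 1) (by simp)]) (fun g c => by simp [hcl g c]) h7 t2 h6 fun n y hy h8 h9 h10 => ?_
  · obtain ⟨k, h8, h9, h10⟩ := key t ht
    have h11 : ∑ y : (Q : Subgroup G), (-ucol M l) y = 14 := by
      have := congrArg (∑ y, · y) (af.ucol_restrict hM l)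
      simp only [Finset.sum_apply, Pi.sub_apply] at this
      rw [Finset.sum_comm] at this
      simp only [Pi.neg_apply, Finset.sum_neg_distrib, this, Finset.sum_sub_distrib]
      rw [Finset.sum_eq_zero fun α _ => (isIrrCharacter_linear _).sum_eq_zero fun e =>
        AF.comp_ne_one hl α.1 (lf_injective (e.trans lf_one.symm))]
      simp only [Finset.sum_const, Finset.card_univ, ← Nat.card_eq_fintype_card, he]
      erw [hQ]
      norm_num
    rw [← Complex.re_sum, ← Complex.re_sum, h11] at hl2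
    have h12 := congrArg Complex.re h10
    rw [show (d : ℂ) * (d + 1) = ((d * (d + 1) : ℝ) : ℂ) by push_cast; rfl, Complex.re_mul_ofReal,
      show (Nat.card G : ℂ) * (4 * k ^ 2) = ((Nat.card G * (4 * k ^ 2) : ℝ) : ℂ) by push_cast; rfl, Complex.ofReal_re,
      hc] at h12
    by_contra h13
    have h14 : (64 : ℝ) ≤ 2 ^ (3 * b) := by
      rw [pow_mul]; exact (by norm_num : (64 : ℝ) = (2 ^ 3) ^ 2).le.trans (pow_le_pow_right₀ (by norm_num) (by omega))
    have h15 : (2 : ℝ) ^ (3 * b) ≤ Nat.card (centralizer ({t} : Set G)) := by exact_mod_cast h5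
    have h16 : (k : ℝ) ≤ d := by exact_mod_cast h9
    have h17 : (2 : ℝ) ≤ d := by exact_mod_cast e6
    have h18 : (0 : ℝ) ≤ k := k.cast_nonneg
    push_cast at h12
    simp only [Complex.re_ofNat] at hl2
    generalize (2 : ℝ) ^ (3 * b) = A at *
    generalize (∑ c, (-ucol M l) (c * t * c⁻¹ * t)).re = S at *
    generalize (Nat.card (centralizer ({t} : Set G)) : ℝ) = c at *
    have h19 : 7 * (64 * A) ≤ S := by nlinarith
    have h20 : (k : ℝ) ^ 2 ≤ d * (d + 1) := by nlinarith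
    have h21 : 0 < (d : ℝ) * (d + 1) := by positivity
    nlinarith [mul_le_mul_of_nonneg_right h19 h21.le, mul_le_mul_of_nonneg_left h20 (by linarith : 0 ≤ A),
      mul_pos (by linarith : 0 < A) h21]
  · by_cases hg : 7 ∣ orderOf g
    · obtain ⟨z, c, h8, h9, h10⟩ := sing g hg
      rw [Pi.neg_apply, ← hcl g c, af.ucol_apply hM l (y := ⟨_, h10⟩) (IsPPart.conj h8 c)
        fun e => h9 (conj_eq_one_iff.1 (congrArg Subtype.val e)), neg_sub, Complex.sub_re, Complex.re_sum, sub_nonneg,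
        Complex.natCast_re, Nat.card_eq_fintype_card]
      refine (Finset.sum_le_card_nsmul _ _ 1 fun α _ => (Complex.re_le_norm _).trans ?_).trans (by simp)
      simpa using (isIrrCharacter_linear l).isCharacter.norm_le (α.1 ⟨_, h10⟩)
    · simp [ucol_of_regular hM l hg]
  · have norm : ∀ n : G, n * y * n⁻¹ ∈ (Q : Subgroup G) → n ∈ normalizer ((Q : Subgroup G) : Set G) := fun n h =>
      H3.mem_normalizer_of_conj_mem fun x hx => by
        rw [← hz y hy h8] at hx
        obtain ⟨i, rfl⟩ := mem_zpowers_iff.1 hx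
        rw [← conj_zpow]
        exact zpow_mem h i
    have hn := norm n h9
    have ht' := norm t (h6 y hy ▸ inv_mem hy)
    have triv : ∀ m (hm : m ∈ normalizer ((Q : Subgroup G) : Set G)), Commute t m →
        (Q : Subgroup G).normalizerMonoidHom ⟨m, hm⟩ = 1 → m = 1 := fun m hm h11 h12 => odd m (by
      rw [← MonoidHom.mem_ker, normalizerMonoidHom_ker, hCQ] at h12
      exact h12) h11
    refine or_iff_not_imp_left.2 fun h11 => ?_
    obtain ⟨α, -, h12⟩ := (Nat.card_eq_two_iff' (1 : autz (Q : Subgroup G))).1 he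
    have h13 := (h12 ⟨_, ⟨n, hn⟩, rfl⟩ fun e => h11 (triv n hn h10 (congrArg Subtype.val e))).trans
      (h12 ⟨_, ⟨t, ht'⟩, rfl⟩ fun e => by simp [triv t ht' (Commute.refl t) (congrArg Subtype.val e)] at ht).symm
    exact (inv_mul_eq_one.1 (triv _ (mul_mem (inv_mem ht') hn) ((Commute.refl t).inv_right.mul_right h10) (by
      rw [show (⟨t⁻¹ * n, _⟩ : normalizer ((Q : Subgroup G) : Set G)) = ⟨t, ht'⟩⁻¹ * ⟨n, hn⟩ from rfl, map_mul, map_inv,
        inv_mul_eq_one]
      exact (congrArg Subtype.val h13).symm))).symm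

end Cfsg.Agent.L0.Ni
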