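/-
Simple groups of order `9 * 2 ^ a * q ^ b` with a strongly closed subgroup of order three.
-/
import Cfsg.Agent.L0.Ni5
import Cfsg.Agent.S0997
import Cfsg.Agent.S1011
import Cfsg.Agent.H12.Lin
import Cfsg.Agent.H12.Transport

set_option autoImplicit false
set_option linter.unusedSectionVars false

namespace Cfsg.Agent.L0.Ni

open Subgroup Cfsg.Agent.H4 Cfsg.Agent.H6

theorem odd_part {x y m n : ℕ} (hx : Odd x) (hy : Odd y) (h : x * 2 ^ m = y * 2 ^ n) : x = y :=
  Nat.dvd_antisymm (((Nat.coprime_two_right.2 hx).pow_right n).dvd_of_dvd_mul_right ⟨_, h.symm⟩)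
    (((Nat.coprime_two_right.2 hy).pow_right m).dvd_of_dvd_mul_right ⟨_, h⟩)

theorem ne_ten (m : ℕ) : 2 ^ m ≠ 10 := fun h =>
  absurd (Nat.prime_five.dvd_of_dvd_pow (h ▸ by norm_num : 5 ∣ 2 ^ m)) (by norm_num)

theorem St.main {G : Type*} [Group G] [Fintype G] [IsSimpleGroup G] (hG : ¬ IsMulCommutative G) {q a b : ℕ}
    (hq : q.Prime) (hq2 : q ≠ 2) (hq3 : q ≠ 3) (hc : Nat.card G = 9 * 2 ^ a * q ^ b) {P : Sylow 3 G} {k : G}
    (h : St P k) : (∃ (F : Type) (_ : Field F) (_ : Fintype F), Fintype.card F = 8 ∧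
        Nonempty (G ≃* Matrix.ProjectiveSpecialLinearGroup (Fin 2) F)) ∨
      Nonempty (G ≃* Matrix.ProjectiveSpecialLinearGroup (Fin 2) (ZMod 17)) := by
  obtain ⟨χ, ψ, d, h1, h2, h3, h4, h5, h6, h7, h8, h9, h10⟩ := h.chars hG
  obtain ⟨m, hm⟩ := arith hq hq2 hq3 h7 (hc ▸ h1.degree_dvd_card h5) (hc ▸ h2.degree_dvd_card h6) h9 h10
  have := Fact.mk hq
  have h11 : Nat.card (default : Sylow q G) ∣ q :=
    hm.elim (fun e => syl hG h1 (e.1 ▸ h5) _) fun e => syl hG h2 (e.1 ▸ h6) _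
  have h12 : q ∣ Nat.card G := hm.elim (fun e => e.1 ▸ h1.degree_dvd_card h5) fun e => e.1 ▸ h2.degree_dvd_card h6
  have h13 : ¬ q ∣ 9 * 2 ^ a := fun e => ((Nat.Prime.dvd_mul hq).1 e).elim
    (fun e => hq3 ((Nat.prime_dvd_prime_iff_eq hq Nat.prime_three).1 (hq.dvd_of_dvd_pow (n := 2) e)))
    fun e => hq2 ((Nat.prime_dvd_prime_iff_eq hq Nat.prime_two).1 (hq.dvd_of_dvd_pow e))
  rw [card_sylow (hc.trans (mul_comm _ _)) h13] at h11
  obtain rfl : b = 1 := by
    rcases b with _ | b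
    · exact absurd (by rwa [hc, pow_zero, mul_one] at h12) h13
    · have := (Nat.pow_dvd_pow_iff_le_right hq.one_lt (k := b + 1) (l := 1)).1 (by rwa [pow_one])
      omega
  by_cases h14 : q = 5
  · subst h14
    rcases hm with ⟨-, e⟩ | ⟨e, -⟩
    · exact absurd (Nat.prime_three.dvd_of_dvd_pow (e ▸ by norm_num : 3 ∣ 2 ^ m)) (by norm_num)
    · obtain rfl : d = 4 := by omega
      exact (h.not_four h1 h2 h3 h5 h6 h8).elim
  by_cases h15 : q = 7
  · subst h15
    obtain rfl := seven hG (a := a) (by rw [hc]; ring)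
    have : Fact (Nat.Prime 2) := ⟨Nat.prime_two⟩
    have := Fintype.ofFinite (GaloisField 2 3)
    have h16 : Fintype.card (GaloisField 2 3) = 8 := by
      rw [← Nat.card_eq_fintype_card, GaloisField.card 2 3 (by norm_num)]; rfl
    exact Or.inl ⟨GaloisField 2 3, inferInstance, _, h16, S1011.result hc h16⟩
  have h16 : 9 < q - 1 := by
    have := hq.two_le
    by_contra h16
    have : q ≤ 10 := by omega
    interval_cases q <;> simp_all (config := {decide := true})
  have ho := hq.odd_of_ne_two hq2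
  rcases S0997.result (fun e => hG e.isMulCommutative) q 2 a 9 hq Nat.prime_two hq2 (by rw [hc]; ring) h16 with
    ⟨n, F, _, _, e1, e2, ⟨e⟩⟩ | ⟨n, F, _, _, e1, e2, e3, ⟨e⟩⟩
  · have e4 := H12.card_PSL2 e1
    rw [← Nat.card_congr e.toEquiv, hc, Nat.gcd_eq_left (by obtain ⟨r, hr⟩ := ho; omega), pow_one, ← mul_assoc,
      mul_comm q] at e4
    have e5 := Nat.eq_of_mul_eq_mul_right hq.pos e4
    obtain rfl : q = 17 := by
      rcases n with _ | _ | n
      · omega
      · omega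
      have e6 := Nat.one_le_two_pow (n := n)
      rcases e2 with e2 | e2
      · have := odd_part (x := 9) (y := 2 ^ (n + 1) + 1) (m := a + 1) (n := n + 3) (by decide) ⟨2 ^ n, by ring⟩ (by
          rw [show 9 * 2 ^ (a + 1) = 2 * (9 * 2 ^ a) by ring, e5, e2]
          exact Nat.sub_eq_of_eq_add (by ring))
        rw [pow_succ 2 (n + 1)] at e2
        omega
      · obtain ⟨w, hw⟩ := Nat.exists_eq_add_of_le e6
        have e7 : q = 4 * w + 3 := by rw [pow_succ, pow_succ] at e2; omega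
        have := odd_part (x := 9) (y := 2 * w + 1) (m := a + 1) (n := n + 3) (by decide) ⟨w, rfl⟩ (by
          rw [show 9 * 2 ^ (a + 1) = 2 * (9 * 2 ^ a) by ring, e5, e7, pow_add, hw]
          exact Nat.sub_eq_of_eq_add (by ring))
        exact absurd (by rw [pow_succ]; omega) (ne_ten (n + 1))
    exact Or.inr ⟨e.trans (H12.pslCongr _ (FiniteField.ringEquivOfCardEq (by simpa using e1)))⟩
  · have e4 := H12.card_PSL2 e1
    rcases n with _ | n
    · omega
    obtain ⟨w, hw⟩ := Nat.exists_eq_add_of_le (Nat.one_le_two_pow (n := n))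
    have e6 : 2 ^ (n + 1) = 2 * w + 2 := by rw [pow_succ]; omega
    rw [← Nat.card_congr e.toEquiv, hc, Nat.coprime_two_left.2 ⟨w, by omega⟩, one_mul, pow_one,
      show (2 ^ (n + 1)) ^ 2 - 1 = (2 * w + 1) * q by rw [e2, e6]; exact Nat.sub_eq_of_eq_add (by ring),
      ← mul_assoc, mul_comm (2 ^ (n + 1))] at e4
    have := odd_part (by decide) ⟨w, rfl⟩ (Nat.eq_of_mul_eq_mul_right hq.pos e4)
    exact absurd (by omega) (ne_ten (n + 1))

end Cfsg.Agent.L0.Ni
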