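/-
Groups whose involution centralizers look like those of `PGU₃(q)`, `q` even.
-/
import Cfsg.Agent.L0.PG3
import Cfsg.Agent.BS.BY
import Cfsg.Agent.H25.AbInv
import Cfsg.Agent.H25.SzMax
import Cfsg.Agent.H1.Generation
import Cfsg.Agent.S1141

set_option autoImplicit false
set_option linter.unusedSectionVars false

namespace Cfsg.Agent.L0.PG

open Subgroup H11

variable {G : Type*} [Group G] [Finite G] {q : ℕ}

theorem le_of_odd_index {Q R : Subgroup G} [Q.Normal] (hQ : Odd Q.index) (hR : IsPGroup 2 R) : R ≤ Q := by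
  intro r hr
  obtain ⟨k, hk⟩ := hR ⟨r, hr⟩
  have h1 : (r : G ⧸ Q) ^ 2 ^ k = 1 := by
    rw [← QuotientGroup.mk_pow, show r ^ 2 ^ k = 1 from congrArg Subtype.val hk]; rfl
  have h2 : (r : G ⧸ Q) ^ Q.index = 1 := pow_card_eq_one'
  have h3 := pow_gcd_eq_one.2 ⟨h1, h2⟩
  rw [((Nat.coprime_two_left.2 hQ).pow_left k).gcd_eq_one, pow_one] at h3
  exact (QuotientGroup.eq_one_iff r).1 h3

theorem ord2 {x : G} : orderOf x = 2 ↔ x * x = 1 ∧ x ≠ 1 := by
  rw [orderOf_eq_prime_iff, pow_two]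

variable (hG : ∀ x : G, orderOf x = 2 → CS q (centralizer ({x} : Set G)))
include hG

theorem cent_le {x z : G} (hx : orderOf x = 2) (hz : z * z = 1) (hc : z * x = x * z) :
    centralizer ({x} : Set G) ≤ centralizer {z} := fun g hg =>
  mem_centralizer_singleton_iff.2 (congrArg Subtype.val
    ((hG x hx).cen ⟨z, mem_centralizer_singleton_iff.2 hc⟩ (Subtype.ext hz) ⟨g, hg⟩))

theorem cent_eq {x z : G} (hx : orderOf x = 2) (hz : orderOf z = 2) (hc : z * x = x * z) :
    centralizer ({z} : Set G) = centralizer {x} :=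
  le_antisymm (cent_le hG hz (ord2.1 hx).1 hc.symm) (cent_le hG hx (ord2.1 hz).1 hc)

theorem cent_eq_of_norm {x t : G} (hx : orderOf x = 2) (ht : orderOf t = 2)
    (hn : t ∈ normalizer (centralizer ({x} : Set G) : Set G)) : centralizer ({t} : Set G) = centralizer {x} := by
  have h1 : t * x * t⁻¹ ∈ centralizer ({x} : Set G) :=
    (mem_normalizer_iff.1 hn x).1 (mem_centralizer_singleton_iff.2 rfl)
  rw [mem_centralizer_singleton_iff] at h1
  have hx2 := (ord2.1 hx).1
  have ht2 := (ord2.1 ht).1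
  have hi : t⁻¹ = t := inv_eq_of_mul_eq_one_right ht2
  rw [hi] at h1
  by_cases e : x * (t * x * t) = 1
  · refine cent_eq hG hx ht ?_
    calc t * x = t * x * (x * (t * x * t)) * 1 := by rw [e]; group
      _ = t * (x * x) * t * x * t := by group
      _ = x * t := by rw [hx2, mul_one, ht2, one_mul]
  · have hz : orderOf (x * (t * x * t)) = 2 := ord2.2 ⟨by
      calc x * (t * x * t) * (x * (t * x * t)) = x * (t * x * t * x) * (t * x * t) := by group
        _ = (x * x) * (t * (x * (t * t) * x) * t) := by rw [h1]; group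
        _ = 1 := by rw [ht2, mul_one x, hx2, mul_one, ht2, mul_one], e⟩
    rw [← cent_eq hG hx hz (by rw [mul_assoc, h1])]
    refine cent_eq hG hz ht ?_
    calc t * (x * (t * x * t)) = t * x * t * x * t := by group
      _ = x * (t * x * t) * t := by rw [h1]

theorem syl (he : Even (Nat.card G)) (P : Sylow 2 G) : Nat.card P = q ^ 3 ∧ Nat.card (center P) = q ∧
    ∃ z, orderOf z = 2 ∧ (P : Subgroup G) ≤ centralizer {z} ∧ ∀ R : Subgroup G, IsPGroup 2 R → R ≤ centralizer {z} → R ≤ P := by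
  have hP : Nontrivial P := (P : Subgroup G).nontrivial_iff_ne_bot.2 (P.ne_bot_of_dvd_card he.two_dvd)
  have := P.2.center_nontrivial
  obtain ⟨z, hz⟩ := exists_prime_orderOf_dvd_card' (G := center P) 2 (by
    obtain ⟨k, hk, e⟩ := (P.2.to_subgroup (center P)).nontrivial_iff_card.1 this
    rw [e]; exact dvd_pow_self 2 hk.ne')
  have hz' : orderOf (z.1.1 : G) = 2 := by rw [orderOf_coe, orderOf_coe, hz]
  have hle : (P : Subgroup G) ≤ centralizer {z.1.1} := fun g hg =>
    mem_centralizer_singleton_iff.2 (congrArg Subtype.val (mem_center_iff.1 z.2 ⟨g, hg⟩))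
  obtain ⟨Q, h1, h2, h3, h4, h5, -⟩ := (hG _ hz').syl
  have key : ∀ R : Subgroup G, IsPGroup 2 R → R ≤ centralizer {z.1.1} → R ≤ Q.map (Subgroup.subtype _) :=
    fun R hR hl g hg => ⟨⟨g, hl hg⟩, le_of_odd_index h3 (hR.comap_subtype (K := centralizer {z.1.1})) hg, rfl⟩
  have e : Q.map (Subgroup.subtype _) = P := P.3 (h2.map _) (key P P.2 hle)
  have f : Q ≃* P := (Q.equivMapOfInjective _ (subtype_injective _)).trans (MulEquiv.subgroupCongr e)
  exact ⟨by rw [← Nat.card_congr f.toEquiv, h4], by rw [← Nat.card_congr (centerCongr f).toEquiv, h5],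
    _, hz', hle, fun R hR hl => e ▸ key R hR hl⟩

theorem se (hS : ∀ P : Sylow 2 G, ¬ (P : Subgroup G).Normal) {x : G} (hx : orderOf x = 2) :
    IsStronglyEmbedded (normalizer (centralizer ({x} : Set G) : Set G)) := by
  have hm : x ∈ normalizer (centralizer ({x} : Set G) : Set G) :=
    le_normalizer (mem_centralizer_singleton_iff.2 rfl)
  refine isStronglyEmbedded_iff.2 ⟨fun e => ?_, even_iff_two_dvd.2 (hx ▸ orderOf_dvd_natCard _ hm),
    fun t h1 h2 g hg => ?_⟩
  · obtain ⟨P⟩ : Nonempty (Sylow 2 G) := inferInstance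
    obtain ⟨-, -, z, hz, hP, h⟩ := syl hG (even_iff_two_dvd.2 (hx ▸ orderOf_dvd_natCard x)) P
    have h1 := cent_eq_of_norm hG hx hz (e ▸ mem_top _)
    have h2 : (centralizer ({z} : Set G)).Normal := h1 ▸ normalizer_eq_top_iff.1 e
    refine hS P ⟨fun n hn g => h ((P : Subgroup G).map (MulAut.conj g).toMonoidHom) (P.2.map _) ?_ ⟨n, hn, rfl⟩⟩
    rintro _ ⟨m, hm, rfl⟩
    exact h2.conj_mem m (hP hm) g
  · have h3 := cent_eq_of_norm hG hx h2 h1
    have h4 := cent_eq_of_norm hG hx (by rw [← h2]; exact (MulAut.conj g).orderOf_eq t) hg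
    rw [mem_normalizer_iff]
    intro y
    conv_lhs => rw [← h3]
    conv_rhs => rw [← h4]
    simp only [SetLike.mem_coe, mem_centralizer_singleton_iff]
    rw [← (MulAut.conj g).injective.eq_iff, map_mul, map_mul]
    rfl

theorem exists_two {x : G} (hx : orderOf x = 2) : ∃ y, orderOf y = 2 ∧ y ≠ x ∧ y * x = x * y := by
  obtain ⟨u, v, h1, h2, h3, h4, h5⟩ := (hG x hx).two
  by_cases e : u.1 = x
  · exact ⟨v, ord2.2 ⟨congrArg Subtype.val h5, fun e' => h2 (Subtype.ext e')⟩,
      fun e' => h3 (Subtype.ext (e.trans e'.symm)), mem_centralizer_singleton_iff.1 v.2⟩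
  · exact ⟨u, ord2.2 ⟨congrArg Subtype.val h4, fun e' => h1 (Subtype.ext e')⟩, e,
      mem_centralizer_singleton_iff.1 u.2⟩

theorem odd_normal {x : G} (hx : orderOf x = 2) (O : Subgroup G) [O.Normal] (hO : Odd (Nat.card O)) : O = ⊥ := by
  obtain ⟨y, hy, h1, h2⟩ := exists_two hG hx
  let A : Subgroup G := closure {x, y}
  have hc : ∀ a ∈ ({x, y} : Set G), ∀ b ∈ ({x, y} : Set G), a * b = b * a := by
    rintro a (rfl | rfl) b (rfl | rfl)
    · rfl
    · exact h2.symm
    · exact h2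
    · rfl
  have : IsMulCommutative A := isMulCommutative_closure hc
  have hsq : ∀ a ∈ A, a * a = 1 := fun a ha => by
    induction ha using closure_induction with
    | mem a ha => rcases ha with rfl | rfl; exacts [(ord2.1 hx).1, (ord2.1 hy).1]
    | one => exact mul_one 1
    | mul a b ha hb h3 h4 =>
      have := congrArg Subtype.val (mul_comm' (⟨a, ha⟩ : A) ⟨b, hb⟩)
      simp only [Subgroup.coe_mul] at this
      rw [mul_assoc, ← mul_assoc b, ← this, mul_assoc, h4, mul_one, h3]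
    | inv a _ h3 => rw [← mul_inv_rev, h3, inv_one]
  have hA : IsPGroup 2 A := fun a => ⟨1, Subtype.ext (by simpa [pow_two] using hsq a a.2)⟩
  obtain ⟨k, hk⟩ := hA.exists_card_eq
  refine le_bot_iff.1 (H1.le_of_forall_centralizer_singleton_le (A := A)
    (H25.not_cyclic_of_two (subset_closure (by simp)) (subset_closure (by simp)) hy hx h1)
    (by rw [normalizer_eq_top]; exact le_top) (hk ▸ (Nat.coprime_two_left.2 hO).pow_left k) fun a ha h3 => ?_)
  have h4 := (hG a (ord2.2 ⟨hsq a ha, h3⟩)).odd_normal (O.subgroupOf _)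
    (hO.of_dvd_nat (card_comap_dvd_of_injective _ _ (subtype_injective _)))
  rw [subgroupOf_eq_bot] at h4
  exact h4.le_bot

theorem syl_tr (he : Even (Nat.card G)) {L : Subgroup G} (hL : Odd L.index) {X : Type*} [Group X] (e : L ≃* X)
    (S : Sylow 2 X) : Nat.card S = q ^ 3 ∧ Nat.card (center S) = q := by
  have : Finite X := Finite.of_equiv _ e.toEquiv
  obtain ⟨P⟩ : Nonempty (Sylow 2 G) := inferInstance
  obtain ⟨f⟩ := nonempty_equiv_sylow (L.subtype.comp (e.symm.toMonoidHom.comp (S : Subgroup X).subtype))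
    ((subtype_injective _).comp (e.symm.injective.comp (subtype_injective _))) S.2
    (m := (S : Subgroup X).index * L.index) (fun h => by
      rcases (Nat.prime_two.dvd_mul).1 h with h | h
      · exact S.not_dvd_index h
      · exact hL.not_two_dvd_nat h)
    (by rw [← mul_assoc, card_mul_index, ← Nat.card_congr e.toEquiv, card_mul_index]) P
  obtain ⟨h1, h2, -⟩ := syl hG he P
  exact ⟨by rw [Nat.card_congr f.toEquiv, h1], by rw [Nat.card_congr (centerCongr f).toEquiv, h2]⟩

theorem exists_L (hq : 2 < q) (he : Even (Nat.card G)) (hS : ∀ P : Sylow 2 G, ¬ (P : Subgroup G).Normal)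
    {F : Type*} [Field F] [Fintype F] (hF : Fintype.card F = q ^ 2) :
    ∃ L : Subgroup G, L.Normal ∧ Odd L.index ∧ Nonempty (L ≃* PSU 3 F q) ∧
      ∀ a b : L, orderOf a = 2 → orderOf b = 2 → IsConj a b := by
  obtain ⟨x, hx⟩ := exists_prime_orderOf_dvd_card' (G := G) 2 he.two_dvd
  have hH := se hG hS hx
  obtain ⟨y, hy, h1, h2⟩ := exists_two hG hx
  have hT : BS.Two G := ⟨y, x, (ord2.1 hy).2, (ord2.1 hx).2, h1, (ord2.1 hy).1, (ord2.1 hx).1, h2⟩
  have hO : oddCore G = ⊥ := odd_normal hG hx _ BS.Bd.odd_oddCore'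
  obtain ⟨t, h3, h4⟩ := SE.exists_invol_not_mem hH
  obtain ⟨Q, r, K, _, τ, κ, h⟩ := BS.Bd.exists_R1_se hH hT hO h4 h3
  have hi := h.odd_index_L0
  have hq3 : q ^ 3 ≠ q := fun e => by
    have : q ^ 1 < q ^ 3 := Nat.pow_lt_pow_right (by omega) (by norm_num)
    rw [pow_one] at this
    omega
  refine ⟨BS.L0 t, inferInstance, hi, ?_, fun a b ha hb => SE.isConj_invol (SE.subgroupOf_se hH
    (fun hl => h3 (hl h.t_mem_L0)) (even_iff_two_dvd.2 (hx ▸ orderOf_dvd_natCard _ (mem_inf.2 ⟨?_, ?_⟩)))) ha hb⟩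
  · rcases h.isBender_L0 with ⟨E, _, _, ⟨n, -, hn⟩, ⟨e⟩⟩ | hz | ⟨E, _, _, n, hn, hE, ⟨e⟩⟩
    · exfalso
      have := charP_two_of_card hn
      obtain ⟨S⟩ : Nonempty (Sylow 2 (Matrix.ProjectiveSpecialLinearGroup (Fin 2) E)) := inferInstance
      obtain ⟨c1, c2⟩ := syl_tr hG he hi e S
      have : Nontrivial (center S) := Finite.one_lt_card_iff_nontrivial.1 (by omega)
      obtain ⟨a, ha⟩ := exists_ne (1 : center S)
      have h5 : center S = ⊤ := eq_top_iff.2 fun b _ => mem_center_iff.2 fun c => Subtype.ext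
        (H25.psl2_comm_of_comm (a := a.1.1) (fun e => ha (Subtype.ext (Subtype.ext e)))
          (congrArg Subtype.val (mem_center_iff.1 a.2 c)) (congrArg Subtype.val (mem_center_iff.1 a.2 b)))
      rw [h5, card_top, c1] at c2
      exact hq3 c2
    · exfalso
      obtain ⟨E, _, _, _, m, hE, M, -, -⟩ := H25.exists_szModel hz
      obtain ⟨c1, c2⟩ := syl_tr hG he hi (MulEquiv.refl _) M.sylow
      rw [M.coe_sylow, M.card_Q] at c1
      rw [M.coe_sylow, M.card_center_Q] at c2
      rw [c2] at c1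
      have : q ^ 2 < q ^ 3 := Nat.pow_lt_pow_right (by omega) (by norm_num)
      omega
    · obtain ⟨S⟩ : Nonempty (Sylow 2 (PSU 3 E (2 ^ n))) := inferInstance
      obtain ⟨-, c2⟩ := syl_tr hG he hi e S
      obtain rfl : 2 ^ n = q := (S1141.result hn hE S).2.1.symm.trans c2
      exact ⟨e.trans (H12.psuCongr 3 _ (FiniteField.ringEquivOfCardEq (hE.trans hF.symm)))⟩
  · exact le_of_odd_index hi (IsPGroup.of_card (G := zpowers x) (n := 1) (p := 2)
      (by rw [Nat.card_zpowers, hx, pow_one])) (mem_zpowers x)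
  · exact le_normalizer (mem_centralizer_singleton_iff.2 rfl)

end Cfsg.Agent.L0.PG
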