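import Cfsg.Agent.L0.PresA1

/-! Tools for bounded presentations of alternating and symmetric groups; small degrees. -/

set_option autoImplicit false

namespace Cfsg.Agent.L0

open Subgroup Equiv Equiv.Perm

variable {α : Type*} [Fintype α] [DecidableEq α] {H : Type*} [Group H] {ι : Type}

def SPres {P : Type*} [Group P] (g : ι → P) (r : ℕ) : Prop :=
  ∃ R : List (FreeGroup ι), R.length ≤ r ∧ (∀ w ∈ R, FreeGroup.lift g w = 1) ∧
    ∀ (H : Type) [Group H] (g' : ι → H) (π : H →* P), (∀ i, π (g' i) = g i) →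
      closure (Set.range g') = ⊤ → (∀ w ∈ R, FreeGroup.lift g' w = 1) → Function.Injective π

theorem SPres.alt {g : ι → Perm α} {r : ℕ} (h : SPres g r)
    (h1 : alternatingGroup α ≤ closure (Set.range g)) (h2 : ∀ i, sign (g i) = 1) :
    ∃ g' : ι → alternatingGroup α, (∀ i, (g' i : Perm α) = g i) ∧ Pres g' r := by
  obtain ⟨R, hr, hR, hi⟩ := h
  refine ⟨fun i => ⟨g i, h2 i⟩, fun _ => rfl, Pres.intro R hr ?_ (fun w hw => ?_) ?_⟩
  · rw [eq_top_iff]; intro σ _
    have : σ.1 ∈ (closure (Set.range fun i => (⟨g i, h2 i⟩ : alternatingGroup α))).map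
        (alternatingGroup α).subtype := by
      rw [MonoidHom.map_closure, ← Set.range_comp]; exact h1 σ.2
    obtain ⟨τ, a, b⟩ := this
    rwa [← Subtype.ext b]
  · apply Subtype.ext
    exact (map_lift (alternatingGroup α).subtype _ w).trans (hR w hw)
  · intro H _ g' π a b c
    have := hi H g' ((alternatingGroup α).subtype.comp π) (fun i => by simp [a]) b c
    exact Function.Injective.of_comp (f := (alternatingGroup α).subtype) this

theorem SPres.sym {g : ι → Perm α} {r : ℕ} (h : SPres g r)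
    (h1 : alternatingGroup α ≤ closure (Set.range g)) {i : ι} (h2 : sign (g i) = -1) : Pres g r := by
  obtain ⟨R, hr, hR, hi⟩ := h
  refine Pres.intro R hr ?_ hR hi
  rw [eq_top_iff]; intro σ _
  rcases Int.units_eq_one_or (sign σ) with e | e
  · exact h1 e
  · exact (mul_mem_cancel_right (Subgroup.subset_closure (Set.mem_range_self i))).1
      (h1 (show sign (σ * g i) = 1 by simp [e, h2]))

theorem fin2 (π : H →* Perm α) (M : Subgroup H) (y : H) (hM : ∀ g ∈ M, sign (π g) = 1)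
    (hi : ∀ g ∈ M, π g = 1 → g = 1) (hn : ∀ g ∈ M, y * g * y⁻¹ ∈ M) (h2 : y * y ∈ M)
    (hy : y ∈ M ∨ sign (π y) = -1) {S : Set H} (hS : closure S = ⊤)
    (hg : ∀ s ∈ S, s ∈ M ∨ s * y⁻¹ ∈ M) : Function.Injective π := by
  have hn' : ∀ g ∈ M, y⁻¹ * g * y ∈ M := fun g hg => by
    have := mul_mem (mul_mem (inv_mem h2) (hn g hg)) h2
    convert this using 1; group
  have key : ∀ g ∈ closure S, g ∈ M ∨ g * y⁻¹ ∈ M := fun g hg' => by
    induction hg' using closure_induction with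
    | mem s hs => exact hg s hs
    | one => exact Or.inl (one_mem _)
    | mul u v _ _ a b =>
      rcases a with a | a <;> rcases b with b | b
      · exact Or.inl (mul_mem a b)
      · exact Or.inr (by rw [mul_assoc]; exact mul_mem a b)
      · exact Or.inr (by convert mul_mem a (hn _ b) using 1; group)
      · exact Or.inl (by convert mul_mem (mul_mem a (hn _ b)) h2 using 1; group)
    | inv u _ a =>
      rcases a with a | a
      · exact Or.inl (inv_mem a)
      · exact Or.inr (by convert mul_mem (hn' _ (inv_mem a)) (inv_mem h2) using 1; group)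
  rw [injective_iff_map_eq_one]
  intro g e
  rcases key g (hS ▸ mem_top g) with a | a
  · exact hi g a e
  rcases hy with b | b
  · exact hi g (by simpa using mul_mem a b) e
  · have := hM _ a
    simp [e, b] at this

/-- conjugates of `z` by powers of `a` -/
def xx (a z : H) (ε : ℤˣ) (k : ℕ) : H := a ^ k * z ^ ((ε ^ k : ℤˣ) : ℤ) * (a ^ k)⁻¹

theorem xx_map {H' : Type*} [Group H'] (φ : H →* H') (a z : H) (ε : ℤˣ) (k : ℕ) :
    φ (xx a z ε k) = xx (φ a) (φ z) ε k := by simp [xx]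

theorem xx_zero (a z : H) (ε : ℤˣ) : xx a z ε 0 = z := by simp [xx]

theorem xx_add (a z : H) (ε : ℤˣ) (k l : ℕ) :
    xx a z ε (k + l) = a ^ k * xx a z ε l ^ ((ε ^ k : ℤˣ) : ℤ) * (a ^ k)⁻¹ := by
  simp only [xx, conj_zpow, ← zpow_mul, ← Units.val_mul, ← pow_add, add_comm l k]
  rw [pow_add a]; group

theorem xx_succ (a z : H) (ε : ℤˣ) (k : ℕ) :
    a * xx a z ε k * a⁻¹ = xx a z ε (k + 1) ^ (ε : ℤ) := by
  rw [add_comm, xx_add, pow_one, pow_one, conj_zpow, ← zpow_mul, ← Units.val_mul, Int.units_mul_self]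
  simp

theorem xx_mod {a z : H} {ε : ℤˣ} {r : ℕ} (h : xx a z ε r = z) (k : ℕ) :
    xx a z ε (k % r) = xx a z ε k := by
  have : ∀ m l, xx a z ε (l + r * m) = xx a z ε l := fun m => by
    induction m with
    | zero => simp
    | succ m ih => intro l; rw [mul_add, mul_one, ← add_assoc, xx_add, h, ← ih l]; rfl
  conv_rhs => rw [← Nat.mod_add_div k r, this]

theorem xx_cube {a z : H} {ε : ℤˣ} (h : z ^ 3 = 1) (k : ℕ) : xx a z ε k ^ 3 = 1 := by
  rw [xx, conj_pow, ← zpow_natCast (z ^ _), ← zpow_mul, mul_comm _ ((3 : ℕ) : ℤ), zpow_mul, zpow_natCast z, h]; simp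

theorem xx_pair {a z : H} {ε : ℤˣ} {j : ℕ} (h : (z * xx a z ε j) ^ 2 = 1) (k : ℕ) :
    (xx a z ε k * xx a z ε (k + j)) ^ 2 = 1 := by
  have : (z ^ ((ε ^ k : ℤˣ) : ℤ) * xx a z ε j ^ ((ε ^ k : ℤˣ) : ℤ)) ^ 2 = 1 := by
    rcases Int.units_eq_one_or (ε ^ k) with e | e <;> rw [e]
    · simpa using h
    · simp only [Units.val_neg, Units.val_one, zpow_neg_one]
      rw [← mul_inv_rev, inv_pow, sq_swap h, inv_one]
  rw [xx_add, xx, conj_mul, conj_pow, this]; simp

omit [Fintype α] in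
theorem xx_c3 {p q o : α} (hpq : p ≠ q) (h1 : o ≠ p) (h2 : o ≠ q) {a : Perm α} {ε : ℤˣ}
    (h : a p = p ∧ a q = q ∧ ε = 1 ∨ a p = q ∧ a q = p ∧ ε = -1) (k : ℕ) :
    (a ^ k) o ≠ p ∧ (a ^ k) o ≠ q ∧ xx a (c3 p q o) ε k = c3 p q ((a ^ k) o) := by
  induction k with
  | zero => simp [xx, h1, h2]
  | succ k ih =>
    obtain ⟨i1, i2, i3⟩ := ih
    have e := xx_succ a (c3 p q o) ε k
    rw [i3, c3_conj] at e
    rw [pow_succ', mul_apply]
    rcases h with ⟨a1, a2, rfl⟩ | ⟨a1, a2, rfl⟩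
    · refine ⟨fun e => i1 (a.injective (e.trans a1.symm)), fun e => i2 (a.injective (e.trans a2.symm)), ?_⟩
      rw [a1, a2] at e; simpa using e.symm
    · have j1 : a ((a ^ k) o) ≠ p := fun e => i2 (a.injective (e.trans a2.symm))
      have j2 : a ((a ^ k) o) ≠ q := fun e => i1 (a.injective (e.trans a1.symm))
      refine ⟨j1, j2, ?_⟩
      rw [a1, a2, c3_swap j1.symm hpq j2.symm] at e; simpa using e.symm

/-- a cycle through `E`, corrected by the transposition `(p q)` to have sign `η` -/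
theorem exists_cyc {p q : α} (hpq : p ≠ q) (E : Finset α) (hp : p ∉ E) (hq : q ∉ E) (η : ℤˣ) :
    ∃ (a : Perm α) (ε : ℤˣ), sign a = η ∧ (a p = p ∧ a q = q ∧ ε = 1 ∨ a p = q ∧ a q = p ∧ ε = -1) ∧
      (∀ t, t ∉ E → t ≠ p → t ≠ q → a t = t) ∧ a.IsCycleOn E := by
  obtain ⟨f, h1, h2⟩ := E.exists_cycleOn
  have h3 : ∀ t, t ∉ E → f t = t := fun t ht => by
    by_contra e; exact ht (h2 (mem_support.2 e))
  by_cases e : sign f = η
  · exact ⟨f, 1, e, Or.inl ⟨h3 p hp, h3 q hq, rfl⟩, fun t a _ _ => h3 t a, h1⟩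
  · have h4 : ∀ t ∈ E, (f * swap p q) t = f t := fun t ht => by
      rw [mul_apply, swap_apply_of_ne_of_ne (by rintro rfl; exact hp ht) (by rintro rfl; exact hq ht)]
    have h5 : ∀ k : ℕ, ∀ t ∈ E, ((f * swap p q) ^ k) t = (f ^ k) t := fun k t ht => by
      induction k with
      | zero => rfl
      | succ k ih => rw [pow_succ', pow_succ', mul_apply, ih, h4 _ (h1.1.perm_pow k |>.mapsTo ht), mul_apply]
    refine ⟨f * swap p q, -1, ?_, Or.inr ⟨by simp [h3 q hq], by simp [h3 p hp], rfl⟩,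
      fun t a b c => by rw [mul_apply, swap_apply_of_ne_of_ne b c, h3 t a], h1.1.congr fun t ht => (h4 t ht).symm,
      fun s hs t ht => ?_⟩
    · rw [Perm.sign_mul, sign_swap hpq]
      rcases Int.units_eq_one_or (sign f) with a | a <;> rcases Int.units_eq_one_or η with b | b <;> simp_all
    · obtain ⟨k, -, e⟩ := h1.exists_pow_eq hs ht
      exact ⟨k, by rw [zpow_natCast, h5 k s hs, e]⟩

theorem exists_gen {p q o : α} (hpq : p ≠ q) (E : Finset α) (hp : p ∉ E) (hq : q ∉ E) (ho : o ∈ E) :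
    ∃ a : Perm α, a ∈ AltOn {t | t ∈ E ∨ t = p ∨ t = q} ∧
      ∀ L : Subgroup (Perm α), a ∈ L → c3 p q o ∈ L → ∀ i ∈ E, c3 p q i ∈ L := by
  obtain ⟨a, ε, h1, h2, h3, h4⟩ := exists_cyc hpq E hp hq 1
  refine ⟨a, ⟨h1, fun t ht => ?_⟩, fun L l1 l2 i hi => ?_⟩
  · simp only [Set.mem_ofPred_eq, not_or] at ht; exact h3 t ht.1 ht.2.1 ht.2.2
  · obtain ⟨k, -, e⟩ := h4.exists_pow_eq ho hi
    rw [← e, ← (xx_c3 hpq (by rintro rfl; exact hp ho) (by rintro rfl; exact hq ho) h2 k).2.2]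
    exact mul_mem (mul_mem (pow_mem l1 _) (zpow_mem l2 _)) (inv_mem (pow_mem l1 _))

theorem sign_of_odd {σ : Perm α} {m : ℕ} (hm : Odd m) (h : σ ^ m = 1) : sign σ = 1 := by
  have := congrArg sign h
  rw [map_pow, map_one] at this
  rcases Int.units_eq_one_or (sign σ) with a | a
  · exact a
  · rwa [a, hm.neg_one_pow, ← a] at this

theorem exists_odd_cyc (E : Finset α) (hE : Odd E.card) {o : α} (ho : o ∈ E) :
    ∃ a : Perm α, a ∈ AltOn (E : Set α) ∧ a ^ E.card = 1 ∧ ∀ i ∈ E, ∃ k : ℕ, (a ^ k) o = i := by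
  obtain ⟨f, h1, h2⟩ := E.exists_cycleOn
  have h3 : ∀ t, t ∉ E → f t = t := fun t ht => by
    by_contra e; exact ht (h2 (mem_support.2 e))
  have h4 : f ^ E.card = 1 := by
    ext t
    by_cases ht : t ∈ E
    · exact h1.pow_card_apply ht
    · exact pow_apply_eq_self_of_apply_eq_self (h3 t ht) _
  exact ⟨f, ⟨sign_of_odd hE h4, h3⟩, h4, fun i hi => (h1.exists_pow_eq ho hi).imp fun _ e => e.2⟩

theorem lift_closure {g : ι → H} {κ : Type*} {W : κ → FreeGroup ι} {I : Set κ} {w : FreeGroup ι}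
    (h : w ∈ closure (W '' I)) {X : κ → H} (hX : ∀ i, FreeGroup.lift g (W i) = X i) :
    FreeGroup.lift g w ∈ closure (X '' I) := by
  have := mem_map_of_mem (FreeGroup.lift g) h
  rwa [MonoidHom.map_closure, Set.image_image, funext hX] at this

theorem conj_closure {S : Set H} {y : H} {M : Subgroup H} (h : ∀ s ∈ S, y * s * y⁻¹ ∈ M) :
    ∀ g ∈ closure S, y * g * y⁻¹ ∈ M := fun _ hg =>
  (Subgroup.closure_le (M.comap (MulAut.conj y).toMonoidHom)).2 h hg

theorem small {p q o : α} (hpq : p ≠ q) (h1 : o ≠ p) (h2 : o ≠ q) (η : ℤˣ) :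
    ∃ g : Fin 2 → Perm α, SPres g (3 + (Fintype.card α - 2) / 2) ∧
      alternatingGroup α ≤ closure (Set.range g) ∧ sign (g 0) = η ∧ sign (g 1) = 1 := by
  set E : Finset α := (Finset.univ.erase p).erase q with hE
  have mE : ∀ t, t ∈ E ↔ t ≠ p ∧ t ≠ q := fun t => by simp [hE, and_comm]
  have cE : E.card = Fintype.card α - 2 := by
    rw [hE, Finset.card_erase_of_mem (by simp [hpq.symm]), Finset.card_erase_of_mem (by simp)]; rfl
  rw [← cE]
  have ho := (mE o).2 ⟨h1, h2⟩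
  obtain ⟨a, ε, a1, a2, -, a4⟩ := exists_cyc hpq E (by simp [mE]) (by simp [mE]) η
  have hκ : ∀ i, ∃ k, i ∈ E → k < E.card ∧ (a ^ k) o = i := fun i => by
    by_cases hi : i ∈ E
    · exact (a4.exists_pow_eq ho hi).imp fun _ e _ => e
    · exact ⟨0, fun e => absurd e hi⟩
  choose κ hκ using hκ
  have hc := xx_c3 hpq h1 h2 a2
  have hπ : ∀ {H : Type} [Group H] (g : Fin 2 → H) (π : H →* Perm α), (∀ i, π (g i) = ![a, c3 p q o] i) →
      ∀ i ∈ (E : Set α), i ≠ p ∧ i ≠ q ∧ π (xx (g 0) (g 1) ε (κ i)) = c3 p q i := fun g π h i hi =>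
    ⟨((mE i).1 hi).1, ((mE i).1 hi).2, by
      rw [xx_map, h, h]; exact ((hc _).2.2).trans (by rw [(hκ i hi).2])⟩
  have hs : ∀ σ : Perm α, sign σ = 1 → ∃ w ∈ closure ((fun i => xx (FreeGroup.of (0 : Fin 2))
      (FreeGroup.of 1) ε (κ i)) '' E), FreeGroup.lift ![a, c3 p q o] w = σ := fun σ h =>
    carm_surj hpq _ (Ω := Set.univ) (fun i _ b c => ⟨(mE i).2 ⟨b, c⟩,
      (hπ FreeGroup.of _ (by simp) i ((mE i).2 ⟨b, c⟩)).2.2⟩) ⟨h, by simp⟩
  obtain ⟨w, w1, w2⟩ := hs (a ^ (if η = 1 then 1 else 2)) (by split_ifs with e <;> simp [a1, *, pow_two])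
  refine ⟨![a, c3 p q o], ⟨[FreeGroup.of 1 ^ 3, xx (FreeGroup.of 0) (FreeGroup.of 1) ε E.card * (FreeGroup.of 1)⁻¹,
    FreeGroup.of 0 ^ (if η = 1 then 1 else 2) * w⁻¹] ++ (List.range (E.card / 2)).map fun j =>
      (FreeGroup.of 1 * xx (FreeGroup.of 0) (FreeGroup.of 1) ε (j + 1)) ^ 2, by simp; omega, ?_, ?_⟩,
      fun σ h => ?_, a1, c3_sign h1.symm hpq⟩
  · simp only [List.mem_append, List.mem_cons, List.not_mem_nil, or_false, List.mem_map, List.mem_range]
    rintro _ ((rfl | rfl | rfl) | ⟨j, hj, rfl⟩) <;>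
      simp only [map_pow, map_mul, map_inv, xx_map, FreeGroup.lift_apply_of, w2, Matrix.cons_val_zero,
        Matrix.cons_val_one, (hc _).2.2, mul_inv_cancel]
    · exact c3_cube h1.symm hpq h2.symm
    · rw [a4.pow_card_apply ho, mul_inv_cancel]
    · refine c3_pair h1.symm hpq h2.symm (hc _).1.symm (hc _).2.1.symm fun e => ?_
      have := Nat.le_of_dvd (by omega) ((a4.pow_apply_eq ho).1 e.symm)
      omega
  · intro H _ g π b1 b2 b3
    simp only [List.mem_append, List.mem_cons, List.not_mem_nil, or_false, List.mem_map, List.mem_range,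
      or_imp, forall_and, forall_eq, forall_exists_index, and_imp, forall_apply_eq_imp_iff₂,
      map_pow, map_mul, map_inv, xx_map, FreeGroup.lift_apply_of, mul_inv_eq_one] at b3
    obtain ⟨⟨r1, r2, r3⟩, r4⟩ := b3
    have hp : ∀ k l, k < l → l < E.card → (xx (g 0) (g 1) ε k * xx (g 0) (g 1) ε l) ^ 2 = 1 := fun k l u v => by
      by_cases e : l - k ≤ E.card / 2
      · have := xx_pair (r4 (l - k - 1) (by omega)) k
        rwa [show k + (l - k - 1 + 1) = l by omega] at this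
      · have := xx_pair (r4 (E.card - (l - k) - 1) (by omega)) l
        rw [show l + (E.card - (l - k) - 1 + 1) = k + E.card by omega, ← xx_mod r2 (k + _), Nat.add_mod_right,
          xx_mod r2] at this
        exact sq_swap this
    set M := closure ((fun i => xx (g 0) (g 1) ε (κ i)) '' E) with hM
    have hx : ∀ k, xx (g 0) (g 1) ε k ∈ M := fun k => by
      have u := (mE _).2 ⟨(hc k).1, (hc k).2.1⟩
      have v := (a4.pow_apply_eq_pow_apply ho).1 (hκ _ u).2
      refine Subgroup.subset_closure ⟨_, u, ?_⟩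
      simp only
      rw [← xx_mod r2, ← xx_mod r2 k, v]
    have hw : FreeGroup.lift g w ∈ M := lift_closure w1 (by simp [xx_map])
    refine fin2 π M (g 0) (fun u hu => (c3_closure hpq π (Ω := Set.univ) (fun i hi =>
      ⟨(hπ g π b1 i hi).1, (hπ g π b1 i hi).2.2⟩) trivial trivial (by simp) hu).1)
      (carm_inj hpq π _ (hπ g π b1) (fun i _ => xx_cube r1 _) fun i hi j hj e => ?_)
      (conj_closure ?_) ?_ ?_ b2 ?_
    · rcases lt_trichotomy (κ i) (κ j) with u | u | u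
      · exact hp _ _ u (hκ j hj).1
      · exact absurd (by rw [← (hκ i hi).2, u, (hκ j hj).2]) e
      · exact sq_swap (hp _ _ u (hκ i hi).1)
    · rintro _ ⟨i, _, rfl⟩; rw [xx_succ]; exact zpow_mem (hx _) _
    · rw [← r3] at hw
      split_ifs at hw
      · rw [pow_one] at hw; exact mul_mem hw hw
      · rwa [← sq]
    · rw [← r3] at hw
      split_ifs at hw with e
      · exact Or.inl (by simpa using hw)
      · exact Or.inr (by rw [b1]; exact a1.trans ((Int.units_eq_one_or η).resolve_left e))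
    · rintro _ ⟨i, rfl⟩
      fin_cases i
      · exact Or.inr (by simp)
      · exact Or.inl (by simpa [xx_zero] using hx 0)
  · obtain ⟨w, -, rfl⟩ := hs σ h
    exact lift_mem (fun i => Subgroup.subset_closure (Set.mem_range_self i)) w

end Cfsg.Agent.L0
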