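import Cfsg.Agent.L0.PresA2

/-! Gluing two alternating groups; a central extension lemma. -/

set_option autoImplicit false

namespace Cfsg.Agent.L0

open Subgroup Equiv Equiv.Perm

variable {α : Type*} [Fintype α] [DecidableEq α] {H : Type*} [Group H]

theorem glue {p q o s : α} (hpq : p ≠ q) (π : H →* Perm α) (X : α → H) (y : H) (E D : Set α)
    (hE : ∀ i ∈ E, i ≠ p ∧ i ≠ q) (hy : y * y = 1) (yp : π y p = p) (yq : π y q = q)
    (hΩ : ∀ i, i ∉ E → i ≠ p → i ≠ q → π y i ∈ D) (hD : ∀ i ∈ D, i ∈ E ∧ π y i ∉ E)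
    (hK : ∀ i ∈ E, i ∉ D → π y i ∈ E)
    (x1 : ∀ i ∈ E, π (X i) = c3 p q i) (x2 : ∀ i ∈ E, X i ^ 3 = 1)
    (x3 : ∀ i ∈ E, ∀ j ∈ E, i ≠ j → (X i * X j) ^ 2 = 1)
    (x4 : ∀ i, i ∉ E → i ≠ p → i ≠ q → X i = y * X (π y i) * y⁻¹) {A C1 C2 : H}
    (a1 : A ∈ closure (X '' E)) (a2 : y * A * y⁻¹ ∈ closure (X '' E)) (o1 : o ∈ E) (o2 : o ∉ D)
    (o3 : y * X o * y⁻¹ ∈ closure (X '' E))
    (a3 : ∀ L : Subgroup (Perm α), π A ∈ L → c3 p q o ∈ L → ∀ i ∈ E, i ∉ D → c3 p q i ∈ L)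
    (c1 : C1 ∈ closure (X '' E)) (c2 : C2 ∈ closure (X '' E)) (c3' : Commute C1 (y * C2 * y⁻¹))
    (c4 : π C1 p = p) (c5 : π C1 q = q) (c6 : π C1 (π y s) = π y s)
    (c7 : ∀ i ∈ D, ∃ k : ℕ, (π C1 ^ k) o = i) (s1 : s ∈ E) (s2 : s ∉ D)
    (c8 : ∀ L : Subgroup (Perm α), π C2 ∈ L → c3 p q s ∈ L → ∀ i ∈ D, c3 p q i ∈ L) :
    (∀ i, i ≠ p → i ≠ q → π (X i) = c3 p q i ∧ X i ^ 3 = 1 ∧ y * X i * y⁻¹ = X (π y i)) ∧
      ∀ i j, i ≠ p → i ≠ q → j ≠ p → j ≠ q → i ≠ j → (X i * X j) ^ 2 = 1 := by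
  set N := closure (X '' E)
  have mN : ∀ i ∈ E, X i ∈ N := fun i hi => Subgroup.subset_closure ⟨i, hi, rfl⟩
  have inj : ∀ u ∈ N, ∀ v ∈ N, π u = π v → u = v := fun u hu v hv e => by
    rw [← mul_inv_eq_one]
    exact carm_inj hpq π E (fun i hi => ⟨(hE i hi).1, (hE i hi).2, x1 i hi⟩) x2 x3 _
      (mul_mem hu (inv_mem hv)) (by simp [e])
  have yy : ∀ i, π y (π y i) = i := fun i => by rw [← mul_apply, ← map_mul, hy]; simp
  have yi : y⁻¹ = y := inv_eq_of_mul_eq_one_right hy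
  have sub : ∀ S : Subgroup H, ∀ i ∈ E, c3 p q i ∈ (N ⊓ S).map π → X i ∈ S := fun S i hi h => by
    obtain ⟨u, ⟨u1, u2⟩, u3⟩ := h
    rwa [← inj u u1 _ (mN i hi) (u3.trans (x1 i hi).symm)]
  have cj : ∀ g, π g p = p → π g q = q → ∀ i ∈ E, π g i ∈ E → g * X i * g⁻¹ ∈ N →
      g * X i * g⁻¹ = X (π g i) := fun g g1 g2 i hi hj h => inj _ h _ (mN _ hj) (by
    rw [map_mul, map_mul, map_inv, x1 i hi, x1 _ hj, c3_conj, g1, g2])
  have k1 : ∀ i ∈ E, i ∉ D → y * X i * y⁻¹ = X (π y i) := fun i hi hi' =>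
    cj y yp yq i hi (hK i hi hi') (sub (N.comap (MulAut.conj y).toMonoidHom) i hi
      (a3 ((N ⊓ N.comap (MulAut.conj y).toMonoidHom).map π) ⟨A, ⟨a1, a2⟩, rfl⟩ ⟨X o, ⟨mN o o1, o3⟩, x1 o o1⟩ i hi hi'))
  have k2 : ∀ i, i ≠ p → i ≠ q → y * X i * y⁻¹ = X (π y i) := fun i b c => by
    by_cases hi : i ∈ E
    · by_cases hi' : i ∈ D
      · rw [x4 _ (hD i hi').2 (fun e => b ((π y).injective (e.trans yp.symm)))
          (fun e => c ((π y).injective (e.trans yq.symm))), yy]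
      · exact k1 i hi hi'
    · rw [x4 i hi b c, yi, ← mul_assoc, ← mul_assoc, hy, mul_assoc, mul_assoc, hy]; simp
  have k3 : ∀ i ∈ D, y * X i * y⁻¹ ∈ centralizer {C1} := fun i hi =>
    sub ((centralizer {C1}).comap (MulAut.conj y).toMonoidHom) i (hD i hi).1
      (c8 ((N ⊓ (centralizer {C1}).comap (MulAut.conj y).toMonoidHom).map π) ⟨C2, ⟨c2, mem_centralizer_singleton_iff.2 c3'.symm⟩, rfl⟩ ⟨X s, ⟨mN s s1, by
        have := hK s s1 s2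
        have e := cj C1 c4 c5 _ this (by rwa [c6]) (mul_mem (mul_mem c1 (mN _ this)) (inv_mem c1))
        rw [c6, mul_inv_eq_iff_eq_mul, ← k1 s s1 s2] at e
        exact mem_centralizer_singleton_iff.2 e.symm⟩, x1 s s1⟩ i hi)
  have k4 : ∀ i j, i ≠ p → i ≠ q → j ≠ p → j ≠ q → i ≠ j → π y i ∈ E → π y j ∈ E →
      (X i * X j) ^ 2 = 1 := fun i j b c d e f g h => by
    have := x3 _ g _ h ((π y).injective.ne f)
    rw [← k2 i b c, ← k2 j d e, conj_mul, conj_pow] at this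
    simpa using this
  have k5 : ∀ i ∈ D, ∀ j, j ∉ E → j ≠ p → j ≠ q → (X i * X j) ^ 2 = 1 := fun i hi j b c d => by
    obtain ⟨k, e⟩ := c7 i hi
    have e1 := cj (C1 ^ k) (by rw [map_pow]; exact pow_apply_eq_self_of_apply_eq_self c4 k)
      (by rw [map_pow]; exact pow_apply_eq_self_of_apply_eq_self c5 k) o o1
      (by rw [map_pow, e]; exact (hD i hi).1)
      (mul_mem (mul_mem (pow_mem c1 k) (mN o o1)) (inv_mem (pow_mem c1 k)))
    rw [map_pow, e] at e1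
    have e2 : Commute (X j) C1 := by rw [x4 j b c d]; exact mem_centralizer_singleton_iff.1 (k3 _ (hΩ j b c d))
    have e3 : C1 ^ k * X j * (C1 ^ k)⁻¹ = X j := by rw [← (e2.pow_right k).eq]; simp
    rw [← e1, ← e3, conj_mul, conj_pow, k4 o j (hE o o1).1 (hE o o1).2 c d (by rintro rfl; exact b o1)
      (hK o o1 o2) (hD _ (hΩ j b c d)).1]
    simp
  refine ⟨fun i b c => ?_, fun i j b c d e f => ?_⟩
  · by_cases hi : i ∈ E
    · exact ⟨x1 i hi, x2 i hi, k2 i b c⟩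
    · have := (hD _ (hΩ i hi b c)).1
      refine ⟨?_, by rw [x4 i hi b c, conj_pow, x2 _ this]; simp, k2 i b c⟩
      rw [x4 i hi b c, map_mul, map_mul, map_inv, x1 _ this, c3_conj, yp, yq, yy]
  · by_cases hi : i ∈ E <;> by_cases hj : j ∈ E
    · exact x3 i hi j hj f
    · by_cases h : i ∈ D
      · exact k5 i h j hj d e
      · exact k4 i j b c d e f (hK i hi h) (hD _ (hΩ j hj d e)).1
    · by_cases h : j ∈ D
      · exact sq_swap (k5 j h i hi b c)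
      · exact k4 i j b c d e f (hD _ (hΩ i hi b c)).1 (hK j hj h)
    · exact k4 i j b c d e f (hD _ (hΩ i hi b c)).1 (hD _ (hΩ j hj d e)).1

theorem tetra {z z' : H} (hc : z ^ 3 ∈ center H) (h1 : z' ^ 3 = z ^ 3) (h2 : (z * z') ^ 2 = 1) :
    (z ^ 3) ^ 8 = 1 := by
  obtain ⟨t, rfl⟩ : ∃ t, z' = z⁻¹ * t := ⟨z * z', by simp⟩
  rw [mul_inv_cancel_left, sq] at h2
  obtain ⟨c, hz⟩ : ∃ c, c = z ^ 3 := ⟨_, rfl⟩
  obtain ⟨t1, ht1⟩ : ∃ t1, t1 = z⁻¹ * t * z := ⟨_, rfl⟩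
  obtain ⟨t2, ht2⟩ : ∃ t2, t2 = z⁻¹ * t1 * z := ⟨_, rfl⟩
  rw [← hz] at hc h1 ⊢
  have cm : ∀ g, Commute c g := fun g => (mem_center_iff.1 hc g).symm
  have e1 : t1 * t1 = 1 := by
    rw [show t1 * t1 = z⁻¹ * (t * t) * z by rw [ht1]; group, h2]; simp
  have e2 : t2 * t2 = 1 := by
    rw [show t2 * t2 = z⁻¹ * (t1 * t1) * z by rw [ht2]; group, e1]; simp
  have e3 : t1 * t2 = c * c * t := by
    have : (z⁻¹ * t) ^ 3 = t1 * t2 * c⁻¹ * t := by simp only [ht1, ht2, hz, pow_three]; group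
    rw [this, mul_assoc (t1 * t2), (cm t).inv_left.eq, ← mul_assoc, mul_inv_eq_iff_eq_mul] at h1
    rw [← h1, mul_assoc, h2, mul_one]
  have e4 : t1 * t2 * (t1 * t2) = c ^ 4 := by
    rw [e3, mul_assoc, ← mul_assoc t, ← ((cm t).mul_left (cm t)).eq, mul_assoc, mul_assoc _ t, h2]
    simp only [pow_succ, mul_assoc, pow_zero, one_mul, mul_one]
  have e5 : t1 * t2 * t1 = c ^ 4 * t2 := by rw [← e4]; simp only [mul_assoc, e2, mul_one]
  have e6 : t1 * (t1 * t2 * t1) * t1 = t2 := by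
    rw [← mul_assoc, ← mul_assoc, e1, mul_assoc, e1]; simp
  rw [e5, ← mul_assoc, ← ((cm t1).pow_left 4).eq, mul_assoc (c ^ 4), mul_assoc (c ^ 4), e5, ← mul_assoc,
    ← pow_add] at e6
  simpa using e6

theorem comm_pow {u v : H} (hc : u * v * u⁻¹ * v⁻¹ ∈ center H) (m : ℕ) :
    u ^ m * v * (u ^ m)⁻¹ * v⁻¹ = (u * v * u⁻¹ * v⁻¹) ^ m := by
  induction m with
  | zero => simp
  | succ m ih =>
    have := mem_center_iff.1 (pow_mem hc m) u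
    rw [pow_succ (u * v * u⁻¹ * v⁻¹), ← mul_assoc, ← mul_assoc, ← mul_assoc, ← this, ← ih, pow_succ']
    group

end Cfsg.Agent.L0
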