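import Cfsg.Agent.L0.PresA3

/-! A presentation of `A_n` and `S_n` with 3 generators and 7 relations (abstract data). -/

set_option autoImplicit false

namespace Cfsg.Agent.L0

open Subgroup Equiv Equiv.Perm

variable {α : Type*} [Fintype α] [DecidableEq α] {H : Type*} [Group H]

theorem agl_base {a b c : H} {p e s u : ℕ} (h1 : a ^ p = b ^ e * c) (h2 : b * a ^ (s + 1) * b⁻¹ = a ^ s)
    (h3 : Commute b c) (n1 : (s + 1) * u ≡ 1 [MOD p]) (n2 : (s * u) ^ e ≡ 1 [MOD p]) :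
    a ^ p = 1 ∧ (∀ j, b ^ j * a * (b ^ j)⁻¹ = a ^ (s * u) ^ j) ∧ Commute a c := by
  have e1 : a ^ p = 1 := by
    have c1 : Commute b (a ^ p) := h1 ▸ ((Commute.refl b).pow_right e).mul_right h3
    have := congrArg (· ^ p) h2
    simp only [conj_pow] at this
    rw [← pow_mul, ← pow_mul, mul_comm _ p, mul_comm _ p, pow_mul, pow_mul, (c1.pow_right _).eq,
      mul_inv_cancel_right, pow_succ] at this
    simpa using this
  have e2 : b * a * b⁻¹ = a ^ (s * u) := by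
    rw [pow_mul, ← h2, conj_pow, ← pow_mul, pow_eq_pow_of_modEq n1 e1, pow_one]
  have e3 : ∀ j, b ^ j * a * (b ^ j)⁻¹ = a ^ (s * u) ^ j := fun j => by
    induction j with
    | zero => simp
    | succ j ih =>
      rw [pow_succ' (s * u), pow_mul, ← e2, conj_pow, ← ih, pow_succ']; group
  refine ⟨e1, e3, ?_⟩
  have := e3 e
  rw [pow_eq_pow_of_modEq n2 e1, pow_one, mul_inv_eq_iff_eq_mul] at this
  rw [e1, eq_comm, ← eq_inv_iff_mul_eq_one] at h1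
  rw [← Commute.inv_right_iff, ← h1]
  exact this.symm

structure AD (α : Type*) [Fintype α] [DecidableEq α] where
  (P Q o s : α)
  (E D : Finset α)
  (a b y A C1 C2 : Perm α)
  (e t u m ε : ℕ)
  κ : α → ℕ
  hPQ : P ≠ Q
  hE : ∀ i ∈ E, i ≠ P ∧ i ≠ Q
  o1 : o ∈ E
  o2 : o ∉ D
  s1 : s ∈ E
  s2 : s ∉ D
  acyc : a.IsCycleOn E
  hκ : ∀ i ∈ E, (a ^ κ i) o = i
  aA : a ∈ AltOn (E : Set α)
  bA : b ∈ AltOn (E : Set α)
  be : b ^ e = 1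
  he : Odd e
  ba : b * a ^ (t + 1) * b⁻¹ = a ^ t
  bo : b o = o
  n1 : (t + 1) * u ≡ 1 [MOD E.card]
  n2 : (t * u) ^ e ≡ 1 [MOD E.card]
  n3 : ∀ k l, ¬ k ≡ l [MOD E.card] → ∃ j, l ≡ k + (t * u) ^ j [MOD E.card] ∨ k ≡ l + (t * u) ^ j [MOD E.card]
  n4 : a o ≠ o
  yy : y * y = 1
  yP : y P = P
  yQ : y Q = Q
  yo : y o = o
  hΩ : ∀ i, i ∉ E → i ≠ P → i ≠ Q → y i ∈ D
  hD : ∀ i ∈ D, i ∈ E ∧ y i ∉ E
  hK : ∀ i ∈ E, i ∉ D → y i ∈ E
  A1 : A ∈ AltOn {i | i ∈ E \ D ∨ i = P ∨ i = Q}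
  A2 : ∀ L : Subgroup (Perm α), A ∈ L → c3 P Q o ∈ L → ∀ i ∈ E \ D, c3 P Q i ∈ L
  c1 : C1 ∈ AltOn (E : Set α)
  c2 : C1 ^ m = 1
  c3' : Odd m
  c4 : C1 (y s) = y s
  c5 : ∀ i ∈ D, ∃ k : ℕ, (C1 ^ k) o = i
  c6 : C2 ∈ AltOn {i | i ∈ E ∨ i = P ∨ i = Q}
  c7 : ∀ L : Subgroup (Perm α), C2 ∈ L → c3 P Q s ∈ L → ∀ i ∈ D, c3 P Q i ∈ L
  c8 : Commute C1 (y * C2 * y⁻¹)
  hε : ε = 1 ∧ sign y = 1 ∨ ε = 0 ∧ sign y = -1

namespace AD

variable (D : AD α)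

def g : Fin 3 → Perm α := ![D.a, D.b, D.y * (c3 D.P D.Q D.o)⁻¹]

def X (g : Fin 3 → H) (i : α) : H :=
  if i ∈ D.E then xx (g 0) (g 2 ^ 2) 1 (D.κ i)
  else g 2 ^ 3 * xx (g 0) (g 2 ^ 2) 1 (D.κ (D.y i)) * (g 2 ^ 3)⁻¹

theorem X_map {H' : Type*} [Group H'] (φ : H →* H') (g : Fin 3 → H) (i : α) :
    φ (D.X g i) = D.X (fun j => φ (g j)) i := by
  unfold X; split_ifs <;> simp [xx_map]

theorem z3 : c3 D.P D.Q D.o ^ 3 = 1 := c3_cube (D.hE _ D.o1).1.symm D.hPQ (D.hE _ D.o1).2.symm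

theorem yz : Commute D.y (c3 D.P D.Q D.o) := by
  have := c3_conj D.y D.P D.Q D.o
  rwa [D.yP, D.yQ, D.yo, mul_inv_eq_iff_eq_mul] at this

theorem g2 : D.g 2 ^ 2 = c3 D.P D.Q D.o := by
  change (D.y * _) ^ 2 = _
  rw [D.yz.inv_right.mul_pow, sq, D.yy, one_mul, inv_pow, sq, cube_inv D.z3, inv_inv]

theorem g3 : D.g 2 ^ 3 = D.y := by
  change (D.y * _) ^ 3 = _
  rw [D.yz.inv_right.mul_pow, pow_three', D.yy, one_mul, inv_pow, D.z3]; simp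

theorem fP {σ : Perm α} (h : σ ∈ AltOn (D.E : Set α)) : σ D.P = D.P := h.2 _ fun e => (D.hE _ e).1 rfl
theorem fQ {σ : Perm α} (h : σ ∈ AltOn (D.E : Set α)) : σ D.Q = D.Q := h.2 _ fun e => (D.hE _ e).2 rfl

theorem xc (k : ℕ) : xx D.a (c3 D.P D.Q D.o) 1 k = c3 D.P D.Q ((D.a ^ k) D.o) :=
  (xx_c3 D.hPQ (D.hE _ D.o1).1 (D.hE _ D.o1).2 (Or.inl ⟨D.fP D.aA, D.fQ D.aA, rfl⟩) k).2.2

theorem ap : D.a ^ D.E.card = 1 := by
  ext t
  by_cases ht : t ∈ D.E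
  · exact D.acyc.pow_card_apply ht
  · exact pow_apply_eq_self_of_apply_eq_self (D.aA.2 t ht) _

theorem Xg {i : α} (h1 : i ≠ D.P) (h2 : i ≠ D.Q) : D.X D.g i = c3 D.P D.Q i := by
  unfold X
  rw [g2, g3]
  split_ifs with h
  · exact (D.xc _).trans (by rw [D.hκ i h])
  · rw [show D.g 0 = D.a from rfl, D.xc, D.hκ _ (D.hD _ (D.hΩ i h h1 h2)).1, c3_conj, D.yP, D.yQ,
      ← mul_apply, D.yy]; rfl

theorem Xπ {g : Fin 3 → H} {π : H →* Perm α} (h : ∀ i, π (g i) = D.g i) {i : α} (h1 : i ≠ D.P)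
    (h2 : i ≠ D.Q) : π (D.X g i) = c3 D.P D.Q i := by rw [X_map, funext h, D.Xg h1 h2]

theorem core {g : Fin 3 → H} {π : H →* Perm α} (h : ∀ i, π (g i) = D.g i)
    (hg : closure (Set.range g) = ⊤) {W A C1 C2 : H}
    (r1 : g 0 ^ D.E.card = g 1 ^ D.e * (g 2 ^ 2) ^ 3) (r2 : g 1 * g 0 ^ (D.t + 1) * (g 1)⁻¹ = g 0 ^ D.t)
    (r3 : (g 2 ^ 2 * xx (g 0) (g 2 ^ 2) 1 1) ^ 2 = 1) (r4 : Commute (g 1) (g 2 ^ 2))
    (r5 : g 1 = W * (g 2 ^ 3) ^ D.ε) (w5 : W ∈ closure (D.X g '' {i | i ≠ D.P ∧ i ≠ D.Q}))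
    (a1 : A ∈ closure (D.X g '' D.E)) (a2 : π A = D.A)
    (r6 : g 2 ^ 3 * A * (g 2 ^ 3)⁻¹ ∈ closure (D.X g '' D.E))
    (b1 : C1 ∈ closure (D.X g '' D.E)) (b2 : π C1 = D.C1)
    (c1 : C2 ∈ closure (D.X g '' D.E)) (c2 : π C2 = D.C2)
    (r7 : Commute C1 (g 2 ^ 3 * C2 * (g 2 ^ 3)⁻¹)) (hz : (g 2 ^ 2) ^ 3 = 1) : Function.Injective π := by
  obtain ⟨e1, e2, -⟩ := agl_base r1 r2 (r4.pow_right 3) D.n1 D.n2
  have hy : π (g 2 ^ 3) = D.y := by rw [map_pow, h, g3]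
  have yy : g 2 ^ 3 * g 2 ^ 3 = 1 := by rw [← hz, ← pow_add, ← pow_mul]
  have per : ∀ k l, k ≡ l [MOD D.E.card] → xx (g 0) (g 2 ^ 2) 1 k = xx (g 0) (g 2 ^ 2) 1 l := fun k l e => by
    simp only [xx, one_pow, pow_eq_pow_of_modEq e e1]
  have pr : ∀ k j, (xx (g 0) (g 2 ^ 2) 1 k * xx (g 0) (g 2 ^ 2) 1 (k + (D.t * D.u) ^ j)) ^ 2 = 1 := fun k j => by
    refine xx_pair ?_ k
    have c := (r4.pow_left j).eq
    have : g 1 ^ j * (g 2 ^ 2 * xx (g 0) (g 2 ^ 2) 1 1) * (g 1 ^ j)⁻¹ =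
        g 2 ^ 2 * xx (g 0) (g 2 ^ 2) 1 ((D.t * D.u) ^ j) := by
      simp only [xx, one_pow, pow_one, Units.val_one, zpow_one, ← e2]
      generalize g 2 ^ 2 = z at c ⊢
      generalize g 1 ^ j = b at c ⊢
      have c' : z = b * z * b⁻¹ := by rw [c]; simp
      conv_rhs => rw [c']
      group
    rw [← this, conj_pow, r3]; simp
  have XE : ∀ i ∈ D.E, D.X g i = xx (g 0) (g 2 ^ 2) 1 (D.κ i) := fun i hi => if_pos hi
  have hx : ∀ k, xx (g 0) (g 2 ^ 2) 1 k ∈ closure (D.X g '' D.E) := fun k => by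
    have u : (D.a ^ k) D.o ∈ D.E := (D.acyc.1.perm_pow k).mapsTo D.o1
    refine Subgroup.subset_closure ⟨_, u, ?_⟩
    rw [XE _ u]; exact per _ _ ((D.acyc.pow_apply_eq_pow_apply D.o1).1 (D.hκ _ u))
  have hz' : g 2 ^ 2 ∈ closure (D.X g '' D.E) := by simpa [xx_zero] using hx 0
  obtain ⟨k1, k2⟩ := glue (o := D.o) (s := D.s) D.hPQ π (D.X g) (g 2 ^ 3) D.E D.D D.hE yy (hy ▸ D.yP) (hy ▸ D.yQ)
    (hy ▸ D.hΩ) (hy ▸ D.hD) (hy ▸ D.hK) (fun i hi => D.Xπ h (D.hE i hi).1 (D.hE i hi).2)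
    (fun i hi => by rw [XE i hi]; exact xx_cube hz _) (fun i hi j hj e => by
      rw [XE i hi, XE j hj]
      obtain ⟨l, u | u⟩ := D.n3 (D.κ i) (D.κ j) fun u => e (by
        rw [← D.hκ i hi, ← D.hκ j hj]; exact (D.acyc.pow_apply_eq_pow_apply D.o1).2 u)
      · rw [per _ _ u]; exact pr _ _
      · rw [per _ _ u]; exact sq_swap (pr _ _))
    (fun i hi b c => by rw [hy, XE _ (D.hD _ (D.hΩ i hi b c)).1]; exact if_neg hi) a1 r6 D.o1 D.o2 (by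
      rw [XE _ D.o1, per (D.κ D.o) 0 ((D.acyc.pow_apply_eq_pow_apply D.o1).1 (D.hκ _ D.o1)), xx_zero,
        ← pow_add, add_comm, pow_add, mul_inv_cancel_right]
      exact hz')
    (fun L l1 l2 i hi hi' => D.A2 L (a2 ▸ l1) l2 i (Finset.mem_sdiff.2 ⟨hi, hi'⟩)) b1 c1 r7
    (b2 ▸ D.fP D.c1) (b2 ▸ D.fQ D.c1) (by rw [b2, hy, D.c4]) (b2 ▸ D.c5) D.s1 D.s2 (c2 ▸ D.c7)
  set M := closure (D.X g '' {i | i ≠ D.P ∧ i ≠ D.Q})
  have NM : closure (D.X g '' D.E) ≤ M := Subgroup.closure_mono (Set.image_mono D.hE)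
  have inj := carm_inj D.hPQ π {i | i ≠ D.P ∧ i ≠ D.Q} (x := D.X g)
    (fun i hi => ⟨hi.1, hi.2, (k1 i hi.1 hi.2).1⟩) (fun i hi => (k1 i hi.1 hi.2).2.1)
    fun i hi j hj => k2 i j hi.1 hi.2 hj.1 hj.2
  have hn : ∀ u ∈ M, g 2 ^ 3 * u * (g 2 ^ 3)⁻¹ ∈ M := conj_closure (by
    rintro _ ⟨i, hi, rfl⟩
    rw [(k1 i hi.1 hi.2).2.2, hy]
    exact Subgroup.subset_closure ⟨_, ⟨fun e => hi.1 (D.y.injective (e.trans D.yP.symm)),
      fun e => hi.2 (D.y.injective (e.trans D.yQ.symm))⟩, rfl⟩)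
  have bM : g 1 ∈ M ∧ (g 2 ^ 3 ∈ M ∨ sign (π (g 2 ^ 3)) = -1) := by
    rcases D.hε with ⟨e, -⟩ | ⟨e, e'⟩ <;> rw [e] at r5
    · have : g 1 ∈ M := by
        obtain ⟨k, hk⟩ := D.he
        rw [e1, hz, mul_one, hk, pow_succ, pow_mul] at r1
        have : g 1 ^ 2 ∈ M := by
          convert mul_mem w5 (hn _ w5) using 1
          rw [r5, pow_one, inv_eq_of_mul_eq_one_right yy, sq]; simp only [mul_assoc]
        exact (mul_mem_cancel_left (pow_mem this k)).1 (r1 ▸ one_mem _)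
      exact ⟨this, Or.inl ((mul_mem_cancel_left w5).1 (by rwa [r5, pow_one] at this))⟩
    · exact ⟨by simpa [r5] using w5, Or.inr (hy ▸ e')⟩
  have bN : g 1 ∈ closure (D.X g '' D.E) := by
    obtain ⟨u, u1, u2⟩ := carm_surj D.hPQ π (x := D.X g) (I := D.E) (Ω := D.E)
      (fun i hi b c => ⟨hi, D.Xπ h b c⟩) D.bA
    rw [mul_inv_eq_one.1 (inj _ (mul_mem bM.1 (inv_mem (NM u1))) (by simp [u2, h, AD.g]))]
    exact u1
  have aN : g 0 ∈ closure (D.X g '' D.E) := by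
    have an : ∀ k, ∀ u ∈ closure (D.X g '' D.E), g 0 ^ k * u * (g 0 ^ k)⁻¹ ∈ closure (D.X g '' D.E) :=
      fun k => conj_closure (by
        rintro _ ⟨i, hi, rfl⟩
        rw [XE i hi]; simpa [xx_add] using hx (k + D.κ i))
    have : (g 1)⁻¹ * (g 0 ^ D.t * g 1 * (g 0 ^ D.t)⁻¹) = g 0 := by
      rw [← mul_inv_eq_iff_eq_mul.1 r2]; group
    rw [← this]; exact mul_mem (inv_mem bN) (an _ _ bN)
  refine fin2 π M (g 2 ^ 3) (fun u hu => (c3_closure D.hPQ π (Ω := Set.univ) (fun i hi =>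
    ⟨hi.1, (k1 i hi.1 hi.2).1⟩) trivial trivial (by simp) hu).1) inj hn (yy ▸ one_mem _) bM.2 hg ?_
  rintro _ ⟨i, rfl⟩
  fin_cases i
  · exact Or.inl (NM aN)
  · exact Or.inl bM.1
  · exact Or.inr (by convert inv_mem (NM hz') using 1; simp only [Fin.reduceFinMk]; group)

theorem word {I Ω : Set α} (hI : ∀ i ∈ Ω, i ≠ D.P → i ≠ D.Q → i ∈ I) {σ : Perm α} (h : σ ∈ AltOn Ω) :
    ∃ w ∈ closure (D.X FreeGroup.of '' I), FreeGroup.lift D.g w = σ :=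
  carm_surj D.hPQ _ (fun i hi b c => ⟨hI i hi b c, D.Xπ (by simp) b c⟩) h

theorem spres : SPres D.g 7 := by
  obtain ⟨w5, w51, w52⟩ := D.word (I := {i | i ≠ D.P ∧ i ≠ D.Q}) (Ω := Set.univ) (fun i _ b c => ⟨b, c⟩)
    (σ := D.b * (D.y ^ D.ε)⁻¹) ⟨by rcases D.hε with ⟨e, e'⟩ | ⟨e, e'⟩ <;> simp [e, e', D.bA.1], by simp⟩
  have hI : ∀ i ∈ {i | i ∈ D.E ∨ i = D.P ∨ i = D.Q}, i ≠ D.P → i ≠ D.Q → i ∈ (D.E : Set α) :=
    fun i hi b c => by simpa [b, c] using hi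
  obtain ⟨wA, wA1, wA2⟩ := D.word hI (AltOn_mono (fun i hi => Or.imp_left (fun e => (Finset.mem_sdiff.1 e).1) hi) D.A1)
  obtain ⟨wB, wB1, wB2⟩ := D.word hI (AltOn_conj (g := D.y) D.A1 (by
    rintro i (e | rfl | rfl)
    · exact Or.inl (D.hK i (Finset.mem_sdiff.1 e).1 (Finset.mem_sdiff.1 e).2)
    · exact Or.inr (Or.inl D.yP)
    · exact Or.inr (Or.inr D.yQ)))
  obtain ⟨w1, w11, w12⟩ := D.word (fun i hi _ _ => hi) D.c1
  obtain ⟨w2, w21, w22⟩ := D.word hI D.c6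
  let x : Fin 3 → FreeGroup (Fin 3) := FreeGroup.of
  refine ⟨[x 0 ^ D.E.card * (x 1 ^ D.e * (x 2 ^ 2) ^ 3)⁻¹, x 1 * x 0 ^ (D.t + 1) * (x 1)⁻¹ * (x 0 ^ D.t)⁻¹,
    (x 2 ^ 2 * xx (x 0) (x 2 ^ 2) 1 1) ^ 2, x 1 * x 2 ^ 2 * (x 2 ^ 2 * x 1)⁻¹,
    x 1 * (w5 * (x 2 ^ 3) ^ D.ε)⁻¹, x 2 ^ 3 * wA * (x 2 ^ 3)⁻¹ * wB⁻¹,
    w1 * (x 2 ^ 3 * w2 * (x 2 ^ 3)⁻¹) * w1⁻¹ * (x 2 ^ 3 * w2 * (x 2 ^ 3)⁻¹)⁻¹ * ((x 2 ^ 2) ^ 3)⁻¹],
    le_rfl, ?_, ?_⟩
  · simp only [List.mem_cons, List.not_mem_nil, or_false, or_imp, forall_and, forall_eq, map_pow, map_mul,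
      map_inv, xx_map, x, FreeGroup.lift_apply_of, mul_inv_eq_one, g2, g3, z3, w52, wA2, wB2, w12, w22]
    refine ⟨by simp [g, D.ap, D.be], D.ba, ?_, ?_, by simp [g], trivial, by rw [D.c8.eq]; simp⟩
    · rw [show D.g 0 = D.a from rfl, D.xc, pow_one]
      have : D.a D.o ∈ D.E := D.acyc.1.mapsTo D.o1
      exact c3_pair (D.hE _ D.o1).1.symm D.hPQ (D.hE _ D.o1).2.symm (D.hE _ this).1.symm (D.hE _ this).2.symm
        D.n4.symm
    · have := c3_conj D.b D.P D.Q D.o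
      rwa [D.fP D.bA, D.fQ D.bA, D.bo, mul_inv_eq_iff_eq_mul] at this
  intro H _ g π h hg hR
  simp only [List.mem_cons, List.not_mem_nil, or_false, or_imp, forall_and, forall_eq, map_pow, map_mul,
    map_inv, xx_map, x, FreeGroup.lift_apply_of, mul_inv_eq_one] at hR
  obtain ⟨r1, r2, r3, r4, r5, r6, r7⟩ := hR
  obtain ⟨-, -, e3⟩ := agl_base r1 r2 (Commute.pow_right r4 3) D.n1 D.n2
  have hc : (g 2 ^ 2) ^ 3 ∈ center H := by
    rw [← Subgroup.centralizer_univ, ← coe_top, ← hg, Subgroup.centralizer_closure]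
    rintro _ ⟨i, rfl⟩
    fin_cases i
    · exact e3
    · exact Commute.pow_right r4 3
    · exact ((Commute.refl _).pow_right 2).pow_right 3
  have hl : ∀ {H : Type} [Group H] (g : Fin 3 → H) i, FreeGroup.lift g (D.X FreeGroup.of i) = D.X g i :=
    fun g i => by simp [X_map]
  have hk : ∀ u, π u = 1 → u ∈ zpowers ((g 2 ^ 2) ^ 3) := fun u hu => by
    haveI : (zpowers ((g 2 ^ 2) ^ 3)).Normal := ⟨fun n hn x => by
      rwa [mem_center_iff.1 (zpowers_le.2 hc hn), mul_inv_cancel_right]⟩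
    let φ := QuotientGroup.mk' (zpowers ((g 2 ^ 2) ^ 3))
    let ψ := QuotientGroup.lift (zpowers ((g 2 ^ 2) ^ 3)) π (zpowers_le.2 (by
      rw [MonoidHom.mem_ker, map_pow, map_pow, h, g2, z3]))
    have hz : (φ (g 2) ^ 2) ^ 3 = 1 := by
      rw [← map_pow, ← map_pow]; exact (QuotientGroup.eq_one_iff _).2 (mem_zpowers _)
    have hw : ∀ w, ψ (FreeGroup.lift (fun i => φ (g i)) w) = FreeGroup.lift D.g w := fun w => by
      rw [map_lift]; exact congrArg (fun f => FreeGroup.lift f w) (funext h)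
    have := D.core (g := fun i => φ (g i)) (π := ψ) h (by
        rw [Set.range_comp' φ g, ← MonoidHom.map_closure, hg, map_top_of_surjective _ (QuotientGroup.mk'_surjective _)])
      (by simpa using congrArg φ r1) (by simpa using congrArg φ r2) (by simpa [xx_map] using congrArg φ r3)
      (by simpa using Commute.map r4 φ) (by simpa [map_lift] using congrArg φ r5) (lift_closure w51 (hl _))
      (lift_closure wA1 (hl _)) ((hw _).trans wA2)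
      (by
        have := congrArg φ r6
        simp only [map_mul, map_pow, map_inv, map_lift] at this
        rw [this]; exact lift_closure wB1 (hl _))
      (lift_closure w11 (hl _)) ((hw _).trans w12) (lift_closure w21 (hl _)) ((hw _).trans w22)
      (by
        have := congrArg φ r7
        simp only [map_mul, map_pow, map_inv, map_lift, hz] at this
        exact commutatorElement_eq_one_iff_commute.1 this) hz
    exact (QuotientGroup.eq_one_iff _).1 (this (a₁ := φ u) (a₂ := 1) (by rw [map_one]; exact hu))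
  have c8 := tetra hc (z' := xx (g 0) (g 2 ^ 2) 1 1) (by
    rw [xx, conj_pow]; simp only [one_pow, Units.val_one, zpow_one, pow_one]; rw [e3.eq]; simp) r3
  have cm : ((g 2 ^ 2) ^ 3) ^ D.m = 1 := by
    have := zpowers_le.2 hc (hk (FreeGroup.lift g w1 ^ D.m) (by rw [map_pow, map_lift, funext h, w12, D.c2]))
    rw [← r7, ← comm_pow (r7 ▸ hc), ← mem_center_iff.1 this]; simp
  have c1 : (g 2 ^ 2) ^ 3 = 1 := by
    rw [← orderOf_eq_one_iff]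
    exact Nat.eq_one_of_dvd_coprimes ((Nat.coprime_two_left.2 D.c3').pow_left 3)
      (orderOf_dvd_of_pow_eq_one c8) (orderOf_dvd_of_pow_eq_one cm)
  rw [injective_iff_map_eq_one]
  intro u hu
  simpa [c1] using hk u hu

theorem gen : alternatingGroup α ≤ closure {D.g 0, D.g 2} := by
  rw [← AltOn_univ]
  refine alt_le D.hPQ _ fun i _ b c => ?_
  have m0 : D.g 0 ∈ closure {D.g 0, D.g 2} := Subgroup.subset_closure (by simp)
  have m2 : D.g 2 ∈ closure {D.g 0, D.g 2} := Subgroup.subset_closure (by simp)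
  have : ∀ k, xx (D.g 0) (D.g 2 ^ 2) 1 k ∈ closure {D.g 0, D.g 2} := fun k =>
    mul_mem (mul_mem (pow_mem m0 _) (zpow_mem (pow_mem m2 _) _)) (inv_mem (pow_mem m0 _))
  rw [← D.Xg b c, X]
  split_ifs
  · exact this _
  · exact mul_mem (mul_mem (pow_mem m2 _) (this _)) (inv_mem (pow_mem m2 _))

theorem sgn : sign (D.g 0) = 1 ∧ sign (D.g 1) = 1 ∧ sign (D.g 2) = sign D.y :=
  ⟨D.aA.1, D.bA.1, by simp [g, c3_sign (D.hE _ D.o1).1.symm D.hPQ]⟩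

end AD

end Cfsg.Agent.L0
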