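import Cfsg.Agent.L0.Pres

/-! Bounded presentations of `F_q ⋊ ⟨t⟩` (Baumslag's trick). -/

set_option autoImplicit false

namespace Cfsg.Agent.L0

open Subgroup Polynomial
open scoped IsMulCommutative

universe w

variable {H : Type w} [Group H]

def cw (u t : H) (i : ℕ) : H := t ^ i * u * (t ^ i)⁻¹

noncomputable def pw (u t : H) (f : ℤ[X]) : H :=
  ((List.range (f.natDegree + 1)).map fun i => cw u t i ^ f.coeff i).prod

theorem map_cw {H' : Type*} [Group H'] (φ : H →* H') (u t : H) (i : ℕ) :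
    φ (cw u t i) = cw (φ u) (φ t) i := by simp [cw]

theorem map_pw {H' : Type*} [Group H'] (φ : H →* H') (u t : H) (f : ℤ[X]) :
    φ (pw u t f) = pw (φ u) (φ t) f := by
  simp [pw, map_list_prod, Function.comp_def, map_cw]

variable {u t : H}

theorem cw_zero : cw u t 0 = u := by simp [cw]
theorem cw_one : cw u t 1 = t * u * t⁻¹ := by simp [cw]
theorem cw_succ (i : ℕ) : cw u t (i + 1) = t * cw u t i * t⁻¹ := by
  simp only [cw, pow_succ']; group
theorem cw_add (k i : ℕ) : t ^ k * cw u t i * (t ^ k)⁻¹ = cw u t (k + i) := by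
  simp only [cw, pow_add]; group
theorem conj_cw (k i : ℕ) : t ^ k * cw u t i * (t ^ k)⁻¹ = t ^ i * cw u t k * (t ^ i)⁻¹ := by
  rw [cw_add, cw_add, add_comm]

theorem commute_conj {a b : H} (h : Commute a b) (g : H) : Commute (g * a * g⁻¹) (g * b * g⁻¹) :=
  h.map (MulAut.conj g)

theorem cw_comm_of {n : ℕ} (h : ∀ i ≤ n, Commute u (cw u t i)) {i j : ℕ} (h1 : i ≤ j + n)
    (h2 : j ≤ i + n) : Commute (cw u t i) (cw u t j) := by
  have key : ∀ i j, i ≤ j → j ≤ i + n → Commute (cw u t i) (cw u t j) := fun i j a b => by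
    obtain ⟨d, rfl⟩ := Nat.exists_eq_add_of_le a
    have := commute_conj (h d (by omega)) (t ^ i)
    rwa [cw_add] at this
  rcases le_total i j with a | a
  · exact key i j a h2
  · exact (key j i a h1).symm

theorem baum1 {k : ℕ} (h1 : Commute u (cw u t 1)) (hs : cw u t k = u⁻¹ * cw u t 1) (i : ℕ) :
    Commute u (cw u t i) := by
  have key : ∀ n, ∀ i ≤ n + 1, Commute u (cw u t i) := by
    intro n
    induction n with
    | zero =>
      intro i hi
      interval_cases i
      · rw [cw_zero]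
      · exact h1
    | succ n ih =>
      intro i hi
      rcases hi.lt_or_eq with hi | rfl
      · exact ih i (by omega)
      have c := fun i j a b => cw_comm_of (i := i) (j := j) ih a b
      have a := commute_conj (ih (n + 1) le_rfl) (t ^ k)
      have e : t ^ k * cw u t (n + 1) * (t ^ k)⁻¹ = (cw u t (n + 1))⁻¹ * cw u t (n + 1 + 1) := by
        rw [conj_cw, hs, ← cw_add (n + 1) 1]; simp only [cw]; group
      rw [e, show t ^ k * u * (t ^ k)⁻¹ = cw u t k from rfl, hs] at a
      have b : Commute (u⁻¹ * cw u t 1) (cw u t (n + 1)) :=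
        (ih _ le_rfl).inv_left.mul_left (c _ _ (by omega) (by omega))
      have d := b.mul_right a
      rw [mul_inv_cancel_left] at d
      simpa using (d.mul_left (c 1 (n + 1 + 1) (by omega) (by omega)).inv_left).inv_left
  exact key i i (by omega)

theorem baum2 {k : ℕ} (h1 : Commute u (cw u t 1)) (h2 : Commute u (cw u t 2))
    (hs : cw u t k = u * (cw u t 1 ^ 2)⁻¹ * cw u t 2) (i : ℕ) : Commute u (cw u t i) := by
  have key : ∀ n, ∀ i ≤ n + 2, Commute u (cw u t i) := by
    intro n
    induction n with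
    | zero =>
      intro i hi
      interval_cases i
      · rw [cw_zero]
      · exact h1
      · exact h2
    | succ n ih =>
      intro i hi
      rcases hi.lt_or_eq with hi | rfl
      · exact ih i (by omega)
      have c := fun i j a b => cw_comm_of (i := i) (j := j) ih a b
      have a := commute_conj (ih (n + 1) (by omega)) (t ^ k)
      have e : t ^ k * cw u t (n + 1) * (t ^ k)⁻¹ =
          cw u t (n + 1) * (cw u t (n + 1 + 1) ^ 2)⁻¹ * cw u t (n + 1 + 2) := by
        rw [conj_cw, hs, ← cw_add (n + 1) 1, ← cw_add (n + 1) 2]; simp only [cw, sq]; group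
      rw [e, show t ^ k * u * (t ^ k)⁻¹ = cw u t k from rfl, hs] at a
      have b : ∀ j, j ≤ n + 2 → Commute (u * (cw u t 1 ^ 2)⁻¹ * cw u t 2) (cw u t j) := fun j hj =>
        ((ih _ hj).mul_left ((c 1 j (by omega) (by omega)).pow_left 2).inv_left).mul_left
          (c _ _ (by omega) (by omega))
      have d := ((b (n + 1) (by omega)).mul_right
        ((b (n + 1 + 1) (by omega)).pow_right 2).inv_right).inv_right.mul_right a
      rw [inv_mul_cancel_left] at d
      simpa using (d.mul_left (c 2 (n + 1 + 2) (by omega) (by omega)).inv_left).mul_left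
        ((c 1 (n + 1 + 2) (by omega) (by omega)).pow_left 2)
  exact key i i (by omega)

theorem pw_mem {L : Subgroup H} (h : ∀ i, cw u t i ∈ L) (f : ℤ[X]) : pw u t f ∈ L := by
  apply L.list_prod_mem
  intro x hx
  obtain ⟨i, -, rfl⟩ := List.mem_map.1 hx
  exact zpow_mem (h i) _

theorem exists_mod (hc : ∀ i, Commute u (cw u t i)) :
    ∃ (M : Type w) (_ : AddCommGroup M) (e : Multiplicative M →* H) (τ : Module.End ℤ M) (c : M),
      Function.Injective e ∧ (∀ y, e (.ofAdd (τ y)) = t * e (.ofAdd y) * t⁻¹) ∧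
      ∀ f, pw u t f = e (.ofAdd (aeval τ f c)) := by
  let V := closure (Set.range (cw u t))
  have hV : IsMulCommutative V := by
    apply Subgroup.isMulCommutative_closure
    rintro _ ⟨i, rfl⟩ _ ⟨j, rfl⟩
    exact (cw_comm_of (n := i + j) (fun i _ => hc i) (by omega) (by omega)).eq
  have hT : V ≤ V.comap (MulAut.conj t).toMonoidHom := by
    rw [Subgroup.closure_le]
    rintro _ ⟨i, rfl⟩
    exact Subgroup.subset_closure ⟨i + 1, cw_succ i⟩
  let τ0 : V →* V := ((MulAut.conj t).toMonoidHom.comp V.subtype).codRestrict V fun x => hT x.2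
  let τ : Module.End ℤ (Additive V) := (MonoidHom.toAdditive τ0).toIntLinearMap
  let c : ℕ → V := fun i => ⟨cw u t i, Subgroup.subset_closure ⟨i, rfl⟩⟩
  have hτ : ∀ i, (τ ^ i) (Additive.ofMul (c 0)) = Additive.ofMul (c i) := by
    intro i
    induction i with
    | zero => rfl
    | succ i ih =>
      rw [pow_succ', Module.End.mul_apply, ih]
      exact congrArg Additive.ofMul (Subtype.ext (cw_succ i).symm)
  let e : Multiplicative (Additive V) →* H :=
    V.subtype.comp (MulEquiv.multiplicativeAdditive V).toMonoidHom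
  refine ⟨Additive V, inferInstance, e, τ, Additive.ofMul (c 0), V.subtype_injective,
    fun y => rfl, fun f => ?_⟩
  rw [aeval_eq_sum_range, LinearMap.sum_apply, pw]
  induction f.natDegree + 1 with
  | zero => simp
  | succ n ih =>
    rw [List.range_succ, List.map_append, List.prod_append, ih, Finset.sum_range_succ, ofAdd_add,
      map_mul, LinearMap.smul_apply, hτ]
    simp only [List.map_cons, List.map_nil, List.prod_cons, List.prod_nil, mul_one, ofAdd_zsmul,
      map_zpow]
    rfl

theorem pw_one : pw u t 1 = u := by simp [pw, cw]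

section
variable (hc : ∀ i, Commute u (cw u t i))
include hc

theorem pw_add (f g : ℤ[X]) : pw u t (f + g) = pw u t f * pw u t g := by
  obtain ⟨M, _, e, τ, c, -, -, h⟩ := exists_mod hc
  simp [h]

theorem pw_sub (f g : ℤ[X]) : pw u t (f - g) = pw u t f * (pw u t g)⁻¹ := by
  rw [eq_mul_inv_iff_mul_eq, ← pw_add hc, sub_add_cancel]

theorem pw_X_mul (f : ℤ[X]) : pw u t (X * f) = t * pw u t f * t⁻¹ := by
  obtain ⟨M, _, e, τ, c, -, h', h⟩ := exists_mod hc
  simp [h, h']

theorem pw_X_pow (i : ℕ) : pw u t (X ^ i) = cw u t i := by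
  induction i with
  | zero => rw [pow_zero, pw_one, cw_zero]
  | succ i ih => rw [pow_succ', pw_X_mul hc, ih, cw_succ]

theorem pw_natCast (n : ℕ) : pw u t n = u ^ n := by
  induction n with
  | zero =>
    have := pw_add hc 0 0
    simpa using this
  | succ n ih => rw [Nat.cast_succ, pw_add hc, ih, pw_one, pow_succ]

theorem pw_mul_eq_one {f : ℤ[X]} (hf : pw u t f = 1) (g : ℤ[X]) : pw u t (f * g) = 1 := by
  obtain ⟨M, _, e, τ, c, hi, -, h⟩ := exists_mod hc
  rw [h, map_eq_one_iff _ hi, ofAdd_eq_one] at hf ⊢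
  rw [mul_comm, map_mul, Module.End.mul_apply, hf, map_zero]

theorem pw_fixed {k : ℕ} {g m : ℤ[X]} (hs : cw u t k = pw u t (g * (X - 1)))
    (hm : Commute t (pw u t m)) : pw u t m = 1 := by
  rw [← pw_X_pow hc] at hs
  obtain ⟨M, _, e, τ, c, hi, h', h⟩ := exists_mod hc
  have h1 : τ (aeval τ m c) = aeval τ m c := by
    apply Multiplicative.ofAdd.injective; apply hi
    rw [h', ← h, hm.eq, mul_inv_cancel_right]
  have h2 : ∀ i, (τ ^ i) (aeval τ m c) = aeval τ m c := fun i => by
    induction i with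
    | zero => rfl
    | succ i ih => rw [pow_succ, Module.End.mul_apply, h1, ih]
  rw [h, h] at hs
  have h3 := Multiplicative.ofAdd.injective (hi hs)
  rw [h, map_eq_one_iff _ hi, ofAdd_eq_one, ← h2 k, ← aeval_X (R := ℤ) τ, ← map_pow, aeval_X,
    ← Module.End.mul_apply, ← map_mul, mul_comm, map_mul, Module.End.mul_apply, h3,
    ← Module.End.mul_apply, ← map_mul, mul_comm, map_mul, map_mul, Module.End.mul_apply,
    Module.End.mul_apply]
  simp [h1]

theorem exists_x {F : Type*} [Field F] {θ : F} {p : ℕ} {m : ℤ[X]}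
    (hθ : ∀ a, ∃ f : ℤ[X], aeval θ f = a)
    (hm : ∀ f : ℤ[X], aeval θ f = 0 → ∃ g h, f = m * g + p * h) (hp : u ^ p = 1)
    (hm' : pw u t m = 1) : ∃ x : F → H, (∀ a b, x (a + b) = x a * x b) ∧ x 1 = u ∧
      (∀ a, t * x a * t⁻¹ = x (θ * a)) ∧ ∀ f, x (aeval θ f) = pw u t f := by
  choose s hs using hθ
  have key : ∀ f g : ℤ[X], aeval θ f = aeval θ g → pw u t f = pw u t g := fun f g e => by
    obtain ⟨a, b, h⟩ := hm (f - g) (by rw [map_sub, e, sub_self])
    rw [← mul_inv_eq_one, ← pw_sub hc, h, pw_add hc, pw_mul_eq_one hc hm',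
      pw_mul_eq_one hc ((pw_natCast hc p).trans hp), mul_one]
  refine ⟨fun a => pw u t (s a), fun a b => ?_, ?_, fun a => ?_, fun f => key _ _ (hs _)⟩
  · rw [← pw_add hc]; exact key _ _ (by simp [hs])
  · exact (key _ 1 (by simp [hs])).trans pw_one
  · rw [← pw_X_mul hc]; exact key _ _ (by simp [hs])

end

section
variable {F : Type*} [Field F] {θ : F} {x : F → H} (hx : ∀ a b, x (a + b) = x a * x b)
include hx

theorem add_zero' : x 0 = 1 := by simpa using hx 0 0
theorem add_neg' (a : F) : x (-a) = (x a)⁻¹ := by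
  rw [eq_inv_iff_mul_eq_one, ← hx, neg_add_cancel, add_zero' hx]
theorem add_comm' (a b : F) : Commute (x a) (x b) := by
  rw [Commute, SemiconjBy, ← hx, ← hx, add_comm]
theorem add_nat' (a : F) (n : ℕ) : x (n * a) = x a ^ n := by
  induction n with
  | zero => simp [add_zero' hx]
  | succ n ih => rw [Nat.cast_succ, add_mul, one_mul, hx, ih, pow_succ]
theorem add_int' (a : F) (n : ℤ) : x (n * a) = x a ^ n := by
  rcases n.eq_nat_or_neg with ⟨k, rfl | rfl⟩
  · simp [add_nat' hx]
  · simp [add_nat' hx, add_neg' hx]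

omit hx in
theorem cw_x (ht : ∀ a, t * x a * t⁻¹ = x (θ * a)) (i : ℕ) : cw (x 1) t i = x (θ ^ i) := by
  induction i with
  | zero => simp [cw]
  | succ i ih => rw [cw_succ, ih, ht, pow_succ']

theorem pw_x (ht : ∀ a, t * x a * t⁻¹ = x (θ * a)) (f : ℤ[X]) : pw (x 1) t f = x (aeval θ f) := by
  rw [aeval_eq_sum_range, pw]
  induction f.natDegree + 1 with
  | zero => simp [add_zero' hx]
  | succ n ih =>
    rw [List.range_succ, List.map_append, List.prod_append, ih, Finset.sum_range_succ, hx]
    simp [cw_x ht, add_int' hx]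

end

theorem exists_m {F : Type*} [Field F] [Finite F] (θ : F) (p : ℕ) [Fact p.Prime] [CharP F p] :
    ∃ m : ℤ[X], aeval θ m = 0 ∧ ∀ f : ℤ[X], aeval θ f = 0 → ∃ g h, f = m * g + p * h := by
  letI := ZMod.algebra F p
  have hs := map_surjective (Int.castRingHom (ZMod p)) (ZMod.ringHom_surjective _)
  have ha : ∀ f : ℤ[X], aeval θ (f.map (Int.castRingHom (ZMod p))) = aeval θ f := fun f =>
    aeval_map_algebraMap (ZMod p) θ f
  obtain ⟨m, hm⟩ := hs (minpoly (ZMod p) θ)
  refine ⟨m, by rw [← ha, hm, minpoly.aeval], fun f hf => ?_⟩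
  obtain ⟨g, hg⟩ := minpoly.dvd (ZMod p) θ ((ha f).trans hf)
  obtain ⟨g, rfl⟩ := hs g
  have : C (p : ℤ) ∣ f - m * g := by
    rw [C_dvd_iff_dvd_coeff]
    intro i
    rw [← ZMod.intCast_zmod_eq_zero_iff_dvd]
    have : (f - m * g).map (Int.castRingHom (ZMod p)) = 0 := by
      rw [Polynomial.map_sub, Polynomial.map_mul, hm, hg, sub_self]
    have := congrArg (fun q => q.coeff i) this
    rwa [coeff_map] at this
  obtain ⟨h, hh⟩ := this
  exact ⟨g, h, by rw [← sub_eq_iff_eq_add', hh]; simp⟩

end Cfsg.Agent.L0
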