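import Cfsg.Agent.L0.PresSt
import Cfsg.Agent.S2401

/-! Bounded presentations of `SL_n(q)`. -/

set_option autoImplicit false

namespace Cfsg.Agent.L0

open Subgroup Polynomial Matrix
open Equiv (Perm)

universe u

variable {F : Type u} [Field F] {I : Type} [Fintype I] [DecidableEq I]

def Xn0 (i j : I) (h : i ≠ j) (a : F) : SpecialLinearGroup I F :=
  ⟨transvection i j a, det_transvection_of_ne i j h a⟩

def Xn (i j : I) (a : F) : SpecialLinearGroup I F := if h : i = j then 1 else Xn0 i j h a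

theorem Xnv {i j : I} (h : i ≠ j) (a : F) : (Xn i j a).val = transvection i j a := by
  rw [Xn, dif_neg h]; rfl

def dn (i j : I) (z : Fˣ) : I → Fˣ := Pi.mulSingle i z * Pi.mulSingle j z⁻¹

def Dn (i j : I) (z : Fˣ) : SpecialLinearGroup I F :=
  ⟨diagonal fun m => (dn i j z m : F), by
    rw [det_diagonal, ← Units.coe_prod]
    simp [dn, Finset.prod_mul_distrib, Finset.prod_pi_mulSingle']⟩

theorem Dnv (i j : I) (z : Fˣ) : (Dn i j z).val = diagonal fun m => (dn i j z m : F) := rfl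

theorem Xn_add (i j : I) (a b : F) : Xn i j (a + b) = Xn i j a * Xn i j b := by
  by_cases h : i = j
  · simp [Xn, h]
  · apply Subtype.ext; rw [sl_mul, Xnv h, Xnv h, Xnv h, transvection_mul_transvection_same i j h]

theorem Dn_Xn (k l : I) (z : Fˣ) (i j : I) (a : F) :
    Dn k l z * Xn i j a * (Dn k l z)⁻¹ = Xn i j ((dn k l z i * (dn k l z j)⁻¹ : Fˣ) * a) := by
  by_cases h : i = j
  · simp [Xn, h]
  rw [mul_inv_eq_iff_eq_mul]
  apply Subtype.ext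
  rw [sl_mul, sl_mul, Xnv h, Xnv h, Dnv]
  ext p q
  simp only [diagonal_mul, mul_diagonal, transvection, Matrix.add_apply, one_apply, single_apply]
  by_cases h1 : i = p ∧ j = q
  · obtain ⟨rfl, rfl⟩ := h1
    simp [h]; field_simp
  · rw [if_neg h1, if_neg h1]
    by_cases h2 : p = q <;> simp [h2]

theorem Dn_mul (i j k : I) (z : Fˣ) : Dn i j z * Dn j k z = Dn i k z := by
  apply Subtype.ext
  rw [sl_mul, Dnv, Dnv, Dnv, diagonal_mul_diagonal]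
  congr 1; funext m
  rw [← Units.val_mul]; congr 1
  simp [dn, Pi.mulSingle_inv]

theorem Dn_self (i : I) (z : Fˣ) : Dn i i z = 1 := by
  apply Subtype.ext
  rw [Dnv]; simp [dn, Pi.mulSingle_inv]

theorem Dn_comm (i j k l : I) (z : Fˣ) : Commute (Dn i j z) (Dn k l z) := by
  apply Subtype.ext
  rw [sl_mul, sl_mul, Dnv, Dnv, diagonal_mul_diagonal, diagonal_mul_diagonal]
  simp only [mul_comm]

theorem Xn_far {i j k l : I} (hil : i ≠ l) (hjk : j ≠ k) (a b : F) : Commute (Xn i j a) (Xn k l b) := by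
  by_cases h : i = j
  · simp [Xn, h]
  by_cases h' : k = l
  · simp [Xn, h']
  apply Subtype.ext
  rw [sl_mul, sl_mul, Xnv h, Xnv h']
  simp [transvection, mul_add, add_mul, single_mul_single_of_ne, hjk, hil.symm]
  abel

theorem Xn_comm {i j k : I} (hij : i ≠ j) (hik : i ≠ k) (hjk : j ≠ k) (a b : F) :
    Xn i j a * Xn j k b * (Xn i j a)⁻¹ * (Xn j k b)⁻¹ = Xn i k (a * b) := by
  rw [mul_inv_eq_iff_eq_mul, mul_inv_eq_iff_eq_mul]
  apply Subtype.ext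
  rw [sl_mul, sl_mul, sl_mul, Xnv hij, Xnv hik, Xnv hjk]
  simp [transvection, mul_add, add_mul, single_mul_single_of_ne, hjk.symm, hik.symm]
  abel

theorem steinberg [Finite F] {n : ℕ} (hn : 3 ≤ n) :
    closure (Set.range fun p : Fin n × Fin n × F => Xn p.1 p.2.1 p.2.2) = ⊤ ∧
    ∀ (H : Type) [Group H] (x : Fin n → Fin n → F → H),
      (∀ i j a b, x i j (a + b) = x i j a * x i j b) →
      (∀ i j k l a b, i ≠ j → k ≠ l → i ≠ l → j ≠ k → Commute (x i j a) (x k l b)) →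
      (∀ i j k a b, i ≠ j → i ≠ k → j ≠ k →
        x i j a * x j k b * (x i j a)⁻¹ * (x j k b)⁻¹ = x i k (a * b)) →
      ∃ ψ : SpecialLinearGroup (Fin n) F →* H, ∀ i j a, i ≠ j → ψ (Xn i j a) = x i j a := by
  obtain ⟨e, he⟩ := S2401.result (K := F) n hn
  have he' : ∀ a t, e (PresentedGroup.of (a, t)) = Xn a.1.1 a.1.2 t := fun a t =>
    Subtype.ext ((he a t).trans (Xnv a.2 t).symm)
  constructor
  · have := congrArg (Subgroup.map e.toMonoidHom) (PresentedGroup.closure_range_of _)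
    rw [MonoidHom.map_closure, map_top_of_surjective _ e.surjective] at this
    rw [eq_top_iff, ← this]
    apply Subgroup.closure_mono
    rintro _ ⟨_, ⟨⟨a, t⟩, rfl⟩, rfl⟩
    exact ⟨(a.1.1, a.1.2, t), (he' a t).symm⟩
  · intro H _ x h1 h2 h3
    refine ⟨(PresentedGroup.toGroup (f := fun p => x p.1.1.1 p.1.1.2 p.2) ?_).comp e.symm.toMonoidHom,
      fun i j a hij => ?_⟩
    · rintro _ ((⟨a, t, u, rfl⟩ | ⟨a, b, t, u, c1, c2, rfl⟩) | ⟨a, b, h, t, u, c, rfl⟩)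
      · simp [h1]
      · simp [(h2 _ _ _ _ t u a.2 b.2 c1 c2).eq]
      · have := h3 _ _ _ t u a.2 h (c ▸ b.2)
        simp [← this, c]
    · have := he' ⟨(i, j), hij⟩ a
      simp only at this
      rw [← this]; simp

structure SLD (F : Type u) [Field F] (T : Type) [Group T] (n : ℕ) extends TD T (Fin n) where
  ρ : T →* SpecialLinearGroup (Fin n) F
  hX : ∀ τ i j a, ρ τ * Xn i j a * (ρ τ)⁻¹ = Xn (σ τ i) (σ τ j) a
  hD : ∀ τ i j z, ρ τ * Dn i j z * (ρ τ)⁻¹ = Dn (σ τ i) (σ τ j) z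
  Lc : List T
  c1 : ∀ τ ∈ Lc, σ τ i0 = i0 ∧ σ τ i1 = i1
  c2 : ∀ τ, σ τ i0 = i0 → σ τ i1 = i1 → τ ∈ closure {τ | τ ∈ Lc}
  Lb : List (Fin n)
  b1 : ∀ k ∈ Lb, k ≠ i0 ∧ k ≠ i1
  b2 : ∀ k, k ≠ i0 → k ≠ i1 → ∃ τ, σ τ i0 = i0 ∧ σ τ i1 = i1 ∧ ∃ k' ∈ i2 :: Lb, σ τ k' = k
  ta : ∀ i j k, i ≠ j → i ≠ k → j ≠ k → ∃ τ, σ τ i1 = j ∧
    (σ τ i0 = i ∧ σ τ i2 = k ∨ σ τ i0 = k ∧ σ τ i2 = i)
  tb : ∀ i j k, i ≠ j → i ≠ k → j ≠ k → ∃ τ, σ τ i0 = i ∧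
    (σ τ i1 = j ∧ σ τ i2 = k ∨ σ τ i1 = k ∧ σ τ i2 = j)
  L3 : List (Fin n × Fin n × Fin n × ℕ)
  t1 : ∀ e ∈ L3, e.1 ≠ e.2.1 ∧ e.1 ≠ e.2.2.1 ∧ e.2.1 ≠ e.2.2.1
  t2 : ∀ i j k, i ≠ j → i ≠ k → j ≠ k →
    (∀ c < 3, ∃ τ, ∃ e ∈ L3, σ τ e.1 = i ∧ σ τ e.2.1 = j ∧ σ τ e.2.2.1 = k ∧ e.2.2.2 = c) ∨
    ((∃ τ, ∃ e ∈ L3, σ τ e.1 = i ∧ σ τ e.2.1 = j ∧ σ τ e.2.2.1 = k ∧ e.2.2.2 = 0) ∧
      ∃ l, l ≠ i ∧ l ≠ j ∧ l ≠ k)
  L4 : List (Fin n × Fin n × Fin n × Fin n)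
  f1 : ∀ e ∈ L4, e.1 ≠ e.2.1 ∧ e.2.2.1 ≠ e.2.2.2 ∧ e.1 ≠ e.2.2.2 ∧ e.2.1 ≠ e.2.2.1
  f2 : ∀ i j k l, i ≠ j → i ≠ k → i ≠ l → j ≠ k → j ≠ l → k ≠ l →
    ∃ τ, ∃ e ∈ L4, σ τ e.1 = i ∧ σ τ e.2.1 = j ∧ σ τ e.2.2.1 = k ∧ σ τ e.2.2.2 = l
  τ0 : T
  k1 : normalClosure {τ0} = ⊤

namespace SLD

variable {T : Type} [Group T] {n : ℕ} (D : SLD F T n)

theorem cjX {i j : Fin n} (h : i ≠ j) (a : F) : D.cj D.ρ (Xn D.i0 D.i1 a) i j = Xn i j a := by
  rw [TD.cj, D.hX, D.s0 _ _ h, D.s1 _ _ h]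

theorem cjD {i j : Fin n} (h : i ≠ j) (z : Fˣ) : D.cj D.ρ (Dn D.i0 D.i1 z) i j = Dn i j z := by
  rw [TD.cj, D.hD, D.s0 _ _ h, D.s1 _ _ h]

theorem inj [Finite F] (hn : 3 ≤ n) {ζ : Fˣ} (hζ : ∀ e, e ∈ zpowers ζ) {H : Type} [Group H]
    (φ : T →* H) (h : H) (x : F → H) (π : H →* SpecialLinearGroup (Fin n) F)
    (p1 : ∀ τ, π (φ τ) = D.ρ τ) (p2 : ∀ a, π (x a) = Xn D.i0 D.i1 a)
    (hg : φ.range ⊔ closure {x 1, h} = ⊤)
    (add : ∀ a b, x (a + b) = x a * x b)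
    (act : ∀ a, D.cj φ h D.i0 D.i2 * x a * (D.cj φ h D.i0 D.i2)⁻¹ = x (ζ * a))
    (b5 : h * x 1 * h⁻¹ = x (ζ ^ 2))
    (rb : ∀ k ∈ D.Lb, D.cj φ h D.i0 k * x 1 * (D.cj φ h D.i0 k)⁻¹ = x ζ)
    (rc : ∀ τ ∈ D.Lc, Commute (φ τ) (x 1)) (rc' : ∀ τ ∈ D.Lc, Commute (φ τ) h)
    (inv : D.cj φ h D.i1 D.i0 = h⁻¹)
    (mul : h * D.cj φ h D.i1 D.i2 = D.cj φ h D.i0 D.i2) (comm : Commute h (D.cj φ h D.i0 D.i2))
    (r3 : ∀ e ∈ D.L3, TD.Rel.P D.toTD φ x e.1 e.2.1 e.2.2.1 1 (ζ ^ e.2.2.2))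
    (r4 : ∀ e ∈ D.L4, Commute (D.cj φ (x 1) e.1 e.2.1) (D.cj φ (x 1) e.2.2.1 e.2.2.2))
    (rk : φ D.τ0 ∈ closure (Set.range fun p : Fin n × Fin n × F =>
      if p.1 = p.2.1 then 1 else D.cj φ (x p.2.2) p.1 p.2.1)) : Function.Injective π := by
  have fix : ∀ y, (∀ τ ∈ D.Lc, Commute (φ τ) y) → D.Fix φ y := fun y hy τ a b => by
    have : closure {τ | τ ∈ D.Lc} ≤ (centralizer {y}).comap φ := by
      rw [Subgroup.closure_le]
      exact fun τ hτ => mem_centralizer_singleton_iff.2 (hy τ hτ)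
    exact mem_centralizer_singleton_iff.1 (this (D.c2 τ a b))
  have fh := fix _ rc'
  have inv' : ∀ i j, i ≠ j → D.cj φ h j i = (D.cj φ h i j)⁻¹ := fun i j hij => by
    have := fh.equiv (D.s i j) D.h01.symm
    rw [D.s0 _ _ hij, D.s1 _ _ hij, inv] at this
    rw [← this, TD.cj]; group
  have R : TD.Rel D.toTD φ ζ h x := by
    refine ⟨fix _ rc, fh, inv, fun i j k hij hik hjk => ?_, fun i j k hij hik hjk => ?_, add, act,
      gen_one ζ hζ, gen_sq ζ hζ, b5⟩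
    · have key : ∀ τ, D.cj φ h (D.σ τ D.i0) (D.σ τ D.i1) * D.cj φ h (D.σ τ D.i1) (D.σ τ D.i2) =
          D.cj φ h (D.σ τ D.i0) (D.σ τ D.i2) := fun τ => by
        rw [← fh.conj, ← fh.equiv _ D.h12, ← fh.equiv _ D.h02, ← mul]; group
      obtain ⟨τ, rfl, ⟨rfl, rfl⟩ | ⟨rfl, rfl⟩⟩ := D.ta i j k hij hik hjk
      · exact key τ
      · rw [inv' _ _ hij.symm, inv' _ _ hjk.symm, inv' _ _ hik.symm, ← key τ, _root_.mul_inv_rev]
    · have key : ∀ τ, Commute (D.cj φ h (D.σ τ D.i0) (D.σ τ D.i1))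
          (D.cj φ h (D.σ τ D.i0) (D.σ τ D.i2)) := fun τ => by
        rw [← fh.conj, ← fh.equiv _ D.h02]; exact commute_conj comm _
      obtain ⟨τ, rfl, ⟨rfl, rfl⟩ | ⟨rfl, rfl⟩⟩ := D.tb i j k hij hik hjk
      · exact key τ
      · exact (key τ).symm
  have b6 : ∀ k, k ≠ D.i0 → k ≠ D.i1 → D.cj φ h D.i0 k * x 1 * (D.cj φ h D.i0 k)⁻¹ = x ζ := by
    intro k k0 k1
    obtain ⟨τ, a0, a1, k', hk', rfl⟩ := D.b2 k k0 k1
    have e : D.cj φ h D.i0 k' * x 1 * (D.cj φ h D.i0 k')⁻¹ = x ζ := by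
      rcases List.mem_cons.1 hk' with rfl | hk'
      · rw [act, mul_one]
      · exact rb _ hk'
    have e1 := fh.equiv τ (i := D.i0) (j := k') (fun e => k0 (by rw [← e, a0]))
    rw [a0] at e1
    rw [← e1, ← mul_inv_eq_iff_eq_mul.2 (R.fx 1 τ a0 a1).eq, ← mul_inv_eq_iff_eq_mul.2 (R.fx ζ τ a0 a1).eq,
      ← e]
    group
  have hP : ∀ i j k, i ≠ j → i ≠ k → j ≠ k → ∀ s t, TD.Rel.P D.toTD φ x i j k s t := by
    intro i j k hij hik hjk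
    have key : ∀ c, (∃ τ, ∃ e ∈ D.L3, D.σ τ e.1 = i ∧ D.σ τ e.2.1 = j ∧ D.σ τ e.2.2.1 = k ∧
        e.2.2.2 = c) → TD.Rel.P D.toTD φ x i j k 1 (ζ ^ c) := by
      rintro c ⟨τ, e, he, rfl, rfl, rfl, rfl⟩
      obtain ⟨a, b, c⟩ := D.t1 e he
      have := r3 e he
      rw [TD.Rel.P] at this ⊢
      rw [← (R.fx _).equiv τ a, ← (R.fx _).equiv τ b, ← (R.fx _).equiv τ c, ← this]; group
    exact R.P_all hζ b6 hij hik hjk ((D.t2 i j k hij hik hjk).imp (fun a c hc => key c (a c hc))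
      fun a => ⟨key 0 a.1, a.2⟩)
  obtain ⟨gen, st⟩ := steinberg (F := F) hn
  obtain ⟨ψ, hψ⟩ := st H (fun i j a => D.cj φ (x a) i j) R.xadd (by
    intro i j k l a b hij hkl hil hjk
    by_cases hik : i = k
    · subst hik
      by_cases hjl : j = l
      · subst hjl; exact add_comm' (x := fun a => D.cj φ (x a) i j) (R.xadd i j) a b
      · exact R.row (hP i j l hij hil hjl) a b
    by_cases hjl : j = l
    · subst hjl; exact (R.col (hP i k j hik hij hkl) b a).symm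
    apply R.far b6 hij hik hil hjk hjl hkl
    apply Commute.symm
    apply R.far b6 hkl (Ne.symm hik) (Ne.symm hjk) (Ne.symm hil) (Ne.symm hjl) hij
    obtain ⟨τ, e, he, rfl, rfl, rfl, rfl⟩ := D.f2 i j k l hij hik hil hjk hjl hkl
    obtain ⟨a, b, -⟩ := D.f1 e he
    rw [← R.fu.equiv τ a, ← R.fu.equiv τ b]
    exact (commute_conj (r4 e he) _).symm) fun i j k a b hij hik hjk => hP i j k hij hik hjk a b
  have hx : ∀ i j a, i ≠ j → D.cj φ (x a) i j ∈ ψ.range := fun i j a hij => ⟨_, hψ i j a hij⟩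
  have nrm : ∀ g, (∀ i j a, i ≠ j → g * D.cj φ (x a) i j * g⁻¹ ∈ ψ.range) →
      g ∈ normalizer (ψ.range : Set H) := fun g hg => by
    haveI : Finite (ψ.range : Set H) := Finite.of_surjective _ ψ.rangeRestrict_surjective
    apply mem_normalizer_fintype
    rintro _ ⟨A, rfl⟩
    have : ⊤ ≤ (ψ.range.comap (MulAut.conj g).toMonoidHom).comap ψ := by
      rw [← gen, Subgroup.closure_le]
      rintro _ ⟨⟨i, j, a⟩, rfl⟩
      by_cases hij : i = j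
      · simp only [Xn, hij, dif_pos]; exact one_mem _
      · have := hg i j a hij
        rw [← hψ _ _ _ hij] at this
        exact this
    exact this (mem_top A)
  have hx1 : x 1 ∈ ψ.range := R.fu.base ▸ hx _ _ 1 D.h01
  haveI : ψ.range.Normal := by
    rw [← normalizer_eq_top_iff, eq_top_iff, ← hg, sup_le_iff, Subgroup.closure_le]
    constructor
    · rintro _ ⟨τ, rfl⟩
      exact nrm _ fun i j a hij => by
        rw [(R.fx a).equiv τ hij]; exact hx _ _ _ ((D.σ τ).injective.ne hij)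
    · rintro _ (rfl | rfl)
      · exact le_normalizer hx1
      · exact nrm _ fun i j a hij => by
          have := R.gact' b6 hij D.h01 a
          rw [fh.base] at this
          rw [this]; exact hx _ _ _ hij
  have hT : ∀ τ, φ τ ∈ ψ.range := fun τ => by
    have : normalClosure {D.τ0} ≤ ψ.range.comap φ := by
      apply normalClosure_le_normal
      rintro _ rfl
      refine (Subgroup.closure_le ψ.range).2 ?_ rk
      rintro _ ⟨⟨i, j, a⟩, rfl⟩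
      by_cases hij : i = j
      · simp only [hij, if_true]; exact one_mem _
      · simp only [hij, if_false]; exact hx _ _ _ hij
    exact this (D.k1 ▸ mem_top τ)
  have hh : h ∈ ψ.range := by
    rw [← QuotientGroup.eq_one_iff]
    have := congrArg (QuotientGroup.mk' ψ.range) mul
    simpa [TD.cj, (QuotientGroup.eq_one_iff _).2 (hT _)] using this
  have top : ψ.range = ⊤ := by
    rw [eq_top_iff, ← hg, sup_le_iff, Subgroup.closure_le]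
    refine ⟨?_, ?_⟩
    · rintro _ ⟨τ, rfl⟩; exact hT τ
    · rintro _ (rfl | rfl)
      exacts [hx1, hh]
  have e : π.comp ψ = MonoidHom.id _ := MonoidHom.eq_of_eqOn_dense gen (by
    rintro _ ⟨⟨i, j, a⟩, rfl⟩
    by_cases hij : i = j
    · simp [Xn, hij]
    · simp only [MonoidHom.comp_apply, hψ _ _ _ hij, TD.cj, map_mul, map_inv, p1, p2]
      exact D.cjX hij a)
  rw [injective_iff_map_eq_one]
  intro g hg
  obtain ⟨A, rfl⟩ : g ∈ ψ.range := top ▸ mem_top g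
  have : A = 1 := (DFunLike.congr_fun e A).symm.trans hg
  rw [this, map_one]

theorem pres [Finite F] (hn : 3 ≤ n) {ι : Type} {τ : ι → T} {r : ℕ} (hT : Pres τ r) :
    ∃ g : ι ⊕ Fin 2 → SpecialLinearGroup (Fin n) F,
      Pres g (r + (9 + D.Lb.length + 2 * D.Lc.length + D.L3.length + D.L4.length)) := by
  obtain ⟨ζ, hζ⟩ := IsCyclic.exists_generator (α := Fˣ)
  obtain ⟨gen, -⟩ := steinberg (F := F) hn
  obtain ⟨R, hR, b1, b2⟩ := brel1.{u} (gen_one ζ hζ)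
    (fun h => exists_pow_eq ζ hζ (sub_ne_zero.2 h)) (orderOf (Dn D.i0 D.i2 ζ))
  choose f hf using gen_one ζ hζ
  have act : ∀ a : F, Dn D.i0 D.i2 ζ * Xn D.i0 D.i1 a * (Dn D.i0 D.i2 ζ)⁻¹ = Xn D.i0 D.i1 (ζ * a) :=
    fun a => by rw [Dn_Xn]; simp [dn, D.h01.symm, D.h02, D.h12]
  let a : T → FreeGroup (T ⊕ Fin 2) := fun t => .of (.inl t)
  let U : FreeGroup (T ⊕ Fin 2) := .of (.inr 0)
  let V : FreeGroup (T ⊕ Fin 2) := .of (.inr 1)
  let c : FreeGroup (T ⊕ Fin 2) → Fin n → Fin n → FreeGroup (T ⊕ Fin 2) :=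
    fun y i j => a (D.s i j) * y * (a (D.s i j))⁻¹
  let P : F → FreeGroup (T ⊕ Fin 2) := fun t => pw U (c V D.i0 D.i2) (f t)
  have hc : ∀ {H : Type} [Group H] (φ : T →* H) (t : Fin 2 → H) y i j,
    FreeGroup.lift (Sum.elim φ t) (c y i j) = D.cj φ (FreeGroup.lift (Sum.elim φ t) y) i j := by
    intros; simp [c, a, TD.cj]
  have hgen : ∀ A : SpecialLinearGroup (Fin n) F, ∃ w : FreeGroup (T ⊕ Fin 2),
      FreeGroup.lift (Sum.elim D.ρ ![Xn D.i0 D.i1 1, Dn D.i0 D.i1 ζ]) w = A ∧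
      w ∈ closure (Set.range fun p : Fin n × Fin n × F =>
        if p.1 = p.2.1 then 1 else c (P p.2.2) p.1 p.2.1) := fun A => by
    have : ⊤ ≤ (closure (Set.range fun p : Fin n × Fin n × F =>
        if p.1 = p.2.1 then 1 else c (P p.2.2) p.1 p.2.1)).map
        (FreeGroup.lift (Sum.elim D.ρ ![Xn D.i0 D.i1 1, Dn D.i0 D.i1 ζ])) := by
      rw [← gen, MonoidHom.map_closure]
      apply Subgroup.closure_mono
      rintro _ ⟨⟨i, j, t⟩, rfl⟩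
      refine ⟨_, ⟨(i, j, t), rfl⟩, ?_⟩
      by_cases hij : i = j
      · simp [hij, Xn]
      · simp only [hij, if_false, c, a, P, U, V, map_mul, map_inv, map_pw, FreeGroup.lift_apply_of,
          Sum.elim_inl, Sum.elim_inr, cons_val_zero, cons_val_one]
        rw [D.hD, D.s0 _ _ D.h02, D.s1 _ _ D.h02, pw_x (Xn_add _ _) act, hf]
        exact D.cjX hij t
    obtain ⟨w, h1, h2⟩ := this (mem_top A)
    exact ⟨w, h2, h1⟩
  obtain ⟨W, W1, W2⟩ := hgen (D.ρ D.τ0)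
  refine ⟨_, (hT.ext D.ρ ![Xn D.i0 D.i1 1, Dn D.i0 D.i1 ζ]
    (R.map (FreeGroup.lift ![U, c V D.i0 D.i2]) ++
      D.Lb.map (fun k => c V D.i0 k * U * (c V D.i0 k)⁻¹ * (P ζ)⁻¹) ++
      D.Lc.map (fun t => a t * U * (U * a t)⁻¹) ++ D.Lc.map (fun t => a t * V * (V * a t)⁻¹) ++
      D.L3.map (fun e => c (P 1) e.1 e.2.1 * c (P (ζ ^ e.2.2.2)) e.2.1 e.2.2.1 * (c (P 1) e.1 e.2.1)⁻¹ *
        (c (P (ζ ^ e.2.2.2)) e.2.1 e.2.2.1)⁻¹ * (c (P (1 * ζ ^ e.2.2.2)) e.1 e.2.2.1)⁻¹) ++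
      D.L4.map (fun e => c U e.1 e.2.1 * c U e.2.2.1 e.2.2.2 * (c U e.2.2.1 e.2.2.2 * c U e.1 e.2.1)⁻¹) ++
      [V * U * V⁻¹ * (P (ζ ^ 2))⁻¹, c V D.i1 D.i0 * (V⁻¹)⁻¹, V * c V D.i1 D.i2 * (c V D.i0 D.i2)⁻¹,
        V * c V D.i0 D.i2 * (c V D.i0 D.i2 * V)⁻¹, a D.τ0 * W⁻¹]) ?_ ?_ ?_).mono (by simp; omega)⟩
  · simp only [List.forall_mem_append, List.forall_mem_map, lift_two, List.mem_cons,
      List.not_mem_nil, or_false, forall_eq_or_imp, forall_eq, map_mul, P, U, V, a, c,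
      map_inv, map_pw, mul_inv_eq_one, FreeGroup.lift_apply_of, Sum.elim_inl, Sum.elim_inr,
      cons_val_zero, cons_val_one, D.hX, D.hD, D.s0 _ _ D.h02, D.s1 _ _ D.h02, W1,
      D.s0 _ _ D.h12, D.s1 _ _ D.h12, D.s0 _ _ D.h01.symm, D.s1 _ _ D.h01.symm,
      pw_x (Xn_add _ _) act, hf]
    refine ⟨⟨⟨⟨⟨⟨b1 _ _ _ (Xn_add _ _) act (pow_orderOf_eq_one _), fun k hk => ?_⟩, fun t ht => ?_⟩,
      fun t ht => ?_⟩, fun e he => ?_⟩, fun e he => ?_⟩, ?_, ?_, Dn_mul .., Dn_comm .., trivial⟩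
    · obtain ⟨k0, k1⟩ := D.b1 k hk
      rw [D.s0 _ _ k0.symm, D.s1 _ _ k0.symm, Dn_Xn]; simp [dn, D.h01.symm, k0.symm, k1.symm]
    · rw [← mul_inv_eq_iff_eq_mul, D.hX, (D.c1 t ht).1, (D.c1 t ht).2]
    · rw [← mul_inv_eq_iff_eq_mul, D.hD, (D.c1 t ht).1, (D.c1 t ht).2]
    · obtain ⟨e1, e2, e3⟩ := D.t1 e he
      rw [D.s0 _ _ e1, D.s1 _ _ e1, D.s0 _ _ e2, D.s1 _ _ e2, D.s0 _ _ e3, D.s1 _ _ e3,
        Xn_comm e1 e2 e3]
    · obtain ⟨e1, e2, e3, e4⟩ := D.f1 e he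
      rw [D.s0 _ _ e1, D.s1 _ _ e1, D.s0 _ _ e2, D.s1 _ _ e2]
      exact Xn_far e3 e4 _ _
    · rw [Dn_Xn]; simp [dn, D.h01.symm, D.h01, sq]
    · rw [eq_inv_iff_mul_eq_one, Dn_mul, Dn_self]
  · rw [eq_top_iff]
    intro A _
    obtain ⟨w, rfl, -⟩ := hgen A
    refine lift_mem ?_ w
    rintro (t | j)
    · exact mem_sup_left ⟨t, rfl⟩
    · exact mem_sup_right (Subgroup.subset_closure ⟨j, rfl⟩)
  · intro H _ φ t π p1 p2 hg hR
    simp only [List.forall_mem_append, List.forall_mem_map, lift_two, List.mem_cons,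
      List.not_mem_nil, or_false, forall_eq_or_imp, forall_eq, map_mul, P, U, V, a, hc,
      map_inv, map_pw, mul_inv_eq_one, FreeGroup.lift_apply_of, Sum.elim_inl, Sum.elim_inr] at hR
    obtain ⟨⟨⟨⟨⟨⟨r0, r1⟩, r2⟩, r3⟩, r4⟩, r5⟩, r6, r7, r8, r9, r10⟩ := hR
    obtain ⟨-, x, hx, x1, ht, hp⟩ := b2 H _ _ r0
    simp only [← hp, hf] at r1 r4 r6
    rw [← x1] at r1 r2 r5 r6
    have e2 : π (D.cj φ (t 1) D.i0 D.i2) = Dn D.i0 D.i2 ζ := by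
      simp only [TD.cj, map_mul, map_inv, p1, p2]; exact D.cjD D.h02 ζ
    refine D.inj hn hζ φ (t 1) x π p1 (x_eq (gen_one ζ hζ) π hp (Xn_add _ _) (e2 ▸ act) (p2 0)) ?_
      hx ht r6 r1 r2 r3 r7 r8 r9 r4 r5 ?_
    · rw [← hg, x1]; congr 2; ext y; simp [eq_comm]
    · rw [r10]
      have := mem_map_of_mem (FreeGroup.lift (Sum.elim φ t)) W2
      rw [MonoidHom.map_closure, ← Set.range_comp] at this
      convert this using 3
      funext ⟨i, j, b⟩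
      by_cases hij : i = j
      · simp [hij]
      · simp [hij, hc, P, map_pw, U, V, ← hp, hf]

end SLD

end Cfsg.Agent.L0
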