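import Cfsg.Agent.L0.PresSL2

/-! From orbit representatives of relations to the Steinberg relations of type `A`. -/

set_option autoImplicit false

namespace Cfsg.Agent.L0

open Subgroup Polynomial
open Equiv (Perm)

variable {H : Type*} [Group H] {F : Type*} [Field F] {I : Type*} [DecidableEq I] {T : Type*} [Group T]

/-- combinatorial data: `T` acts 2-transitively on `I` -/
structure TD (T I : Type*) [Group T] where
  σ : T →* Perm I
  i0 : I
  i1 : I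
  i2 : I
  h01 : i0 ≠ i1
  h02 : i0 ≠ i2
  h12 : i1 ≠ i2
  s : I → I → T
  s0 : ∀ i j, i ≠ j → σ (s i j) i0 = i
  s1 : ∀ i j, i ≠ j → σ (s i j) i1 = j

namespace TD

variable (D : TD T I) (φ : T →* H)

def cj (y : H) (i j : I) : H := φ (D.s i j) * y * (φ (D.s i j))⁻¹

def Fix (y : H) : Prop := ∀ τ, D.σ τ D.i0 = D.i0 → D.σ τ D.i1 = D.i1 → Commute (φ τ) y

variable {D φ}

omit [DecidableEq I] in
theorem Fix.conj {y : H} (h : D.Fix φ y) (τ : T) :
    φ τ * y * (φ τ)⁻¹ = D.cj φ y (D.σ τ D.i0) (D.σ τ D.i1) := by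
  have hne : D.σ τ D.i0 ≠ D.σ τ D.i1 := (D.σ τ).injective.ne D.h01
  have := h ((D.s (D.σ τ D.i0) (D.σ τ D.i1))⁻¹ * τ)
    (by rw [map_mul, map_inv, Perm.mul_apply, Perm.inv_eq_iff_eq, D.s0 _ _ hne])
    (by rw [map_mul, map_inv, Perm.mul_apply, Perm.inv_eq_iff_eq, D.s1 _ _ hne])
  rw [map_mul, map_inv] at this
  rw [cj]
  generalize φ (D.s (D.σ τ D.i0) (D.σ τ D.i1)) = g at this ⊢
  calc _ = g * (g⁻¹ * φ τ * y) * (φ τ)⁻¹ := by group
    _ = _ := by rw [this.eq]; group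

omit [DecidableEq I] in
theorem Fix.base {y : H} (h : D.Fix φ y) : D.cj φ y D.i0 D.i1 = y := by
  simpa using (h.conj 1).symm

omit [DecidableEq I] in
theorem Fix.equiv {y : H} (h : D.Fix φ y) (τ : T) {i j : I} (hij : i ≠ j) :
    φ τ * D.cj φ y i j * (φ τ)⁻¹ = D.cj φ y (D.σ τ i) (D.σ τ j) := by
  have := h.conj (τ * D.s i j)
  rw [map_mul D.σ, Perm.mul_apply, Perm.mul_apply, D.s0 _ _ hij, D.s1 _ _ hij] at this
  rw [← this, cj, map_mul]; group

def cc (ζ : Fˣ) (i j m : I) : Fˣ := if m = i then 1 else if m = j then ζ ^ 2 else ζ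

/-- the relations, for all index tuples -/
structure Rel (D : TD T I) (φ : T →* H) (ζ : Fˣ) (h : H) (x : F → H) : Prop where
  fu : D.Fix φ (x 1)
  fh : D.Fix φ h
  inv : D.cj φ h D.i1 D.i0 = h⁻¹
  mul : ∀ i j k, i ≠ j → i ≠ k → j ≠ k → D.cj φ h i j * D.cj φ h j k = D.cj φ h i k
  comm : ∀ i j k, i ≠ j → i ≠ k → j ≠ k → Commute (D.cj φ h i j) (D.cj φ h i k)
  add : ∀ a b, x (a + b) = x a * x b
  act : ∀ a, D.cj φ h D.i0 D.i2 * x a * (D.cj φ h D.i0 D.i2)⁻¹ = x (ζ * a)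
  g1 : ∀ a : F, ∃ f : ℤ[X], aeval (ζ : F) f = a
  g2 : ∀ a : F, ∃ f : ℤ[X], aeval ((ζ : F) ^ 2) f = a
  b5 : h * x 1 * h⁻¹ = x (ζ ^ 2)

namespace Rel

variable {ζ : Fˣ} {h : H} {x : F → H} (R : Rel D φ ζ h x)
include R

omit [DecidableEq I] in
theorem act_of {g : H} {c : F} (h1 : Commute g (D.cj φ h D.i0 D.i2)) (h2 : g * x 1 * g⁻¹ = x c)
    (a : F) : g * x a * g⁻¹ = x (c * a) := by
  obtain ⟨f, rfl⟩ := R.g1 a
  have e := map_pw (MulAut.conj g).toMonoidHom (x 1) (D.cj φ h D.i0 D.i2) f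
  simp only [MulEquiv.coe_toMonoidHom, MulAut.conj_apply] at e
  rw [← pw_x R.add R.act, e, h2, h1.eq, mul_inv_cancel_right]
  have := pw_x (x := fun a => x (c * a)) (t := D.cj φ h D.i0 D.i2) (θ := (ζ : F))
    (fun a b => by rw [mul_add, R.add]) (fun a => by rw [R.act, mul_left_comm]) f
  simpa using this

omit [DecidableEq I] in
theorem hact (a : F) : h * x a * h⁻¹ = x ((ζ : F) ^ 2 * a) := by
  have := R.comm _ _ _ D.h01 D.h02 D.h12
  rw [R.fh.base] at this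
  exact R.act_of this R.b5 a

omit [DecidableEq I] in
theorem fx (a : F) : D.Fix φ (x a) := fun τ a0 a1 => by
  obtain ⟨f, rfl⟩ := R.g2 a
  rw [← pw_x R.add R.hact]
  have : pw (x 1) h f ∈ centralizer {φ τ} := pw_mem (fun i => by
    rw [mem_centralizer_singleton_iff]
    exact (((R.fh τ a0 a1).pow_right i).mul_right (R.fu τ a0 a1)).mul_right
      ((R.fh τ a0 a1).pow_right i).inv_right |>.eq.symm) f
  exact (mem_centralizer_singleton_iff.1 this).symm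

omit [DecidableEq I] in
theorem inv' {i j : I} (hij : i ≠ j) : D.cj φ h j i = (D.cj φ h i j)⁻¹ := by
  have := R.fh.equiv (D.s i j) D.h01.symm
  rw [D.s0 _ _ hij, D.s1 _ _ hij, R.inv] at this
  rw [← this, cj]; group

omit [DecidableEq I] in
theorem xadd (i j : I) (a b : F) : D.cj φ (x (a + b)) i j = D.cj φ (x a) i j * D.cj φ (x b) i j := by
  simp [cj, R.add]

theorem gact (b6 : ∀ k, k ≠ D.i0 → k ≠ D.i1 → D.cj φ h D.i0 k * x 1 * (D.cj φ h D.i0 k)⁻¹ = x ζ)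
    {k l : I} (hkl : k ≠ l) (a : F) : D.cj φ h k l * x a * (D.cj φ h k l)⁻¹ =
      x (((cc ζ D.i0 D.i1 k)⁻¹ * cc ζ D.i0 D.i1 l : Fˣ) * a) := by
  have k1 : ∀ m, m ≠ D.i0 → ∀ a, D.cj φ h D.i0 m * x a * (D.cj φ h D.i0 m)⁻¹ =
      x (cc ζ D.i0 D.i1 m * a) := fun m hm a => by
    by_cases h1 : m = D.i1
    · rw [h1, R.fh.base, R.hact]; simp [cc, D.h01.symm]
    · rw [R.act_of _ (b6 m hm h1)]
      · simp [cc, hm, h1]
      · by_cases h2 : m = D.i2
        · rw [h2]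
        · exact R.comm _ _ _ (Ne.symm hm) D.h02 h2
  have k2 : ∀ m, m ≠ D.i0 → ∀ a, (D.cj φ h D.i0 m)⁻¹ * x a * D.cj φ h D.i0 m =
      x (((cc ζ D.i0 D.i1 m)⁻¹ : Fˣ) * a) := fun m hm a => by
    have := k1 m hm (((cc ζ D.i0 D.i1 m)⁻¹ : Fˣ) * a)
    rw [Units.mul_inv_cancel_left] at this
    rw [← this]; group
  by_cases hk : k = D.i0
  · subst hk; rw [k1 _ hkl.symm]; simp [cc]
  by_cases hl : l = D.i0
  · subst hl; rw [R.inv' hkl.symm, inv_inv, k2 _ hk]; simp [cc]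
  rw [← R.mul k D.i0 l hk hkl (Ne.symm hl), R.inv' (Ne.symm hk), Units.val_mul, mul_assoc _ _ a,
    ← k2 _ hk, ← k1 _ hl]
  group

theorem gact' (b6 : ∀ k, k ≠ D.i0 → k ≠ D.i1 → D.cj φ h D.i0 k * x 1 * (D.cj φ h D.i0 k)⁻¹ = x ζ)
    {i j k l : I} (hij : i ≠ j) (hkl : k ≠ l) (a : F) :
    D.cj φ h k l * D.cj φ (x a) i j * (D.cj φ h k l)⁻¹ =
      D.cj φ (x (((cc ζ i j k)⁻¹ * cc ζ i j l : Fˣ) * a)) i j := by
  obtain ⟨k, rfl⟩ := (D.σ (D.s i j)).surjective k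
  obtain ⟨l, rfl⟩ := (D.σ (D.s i j)).surjective l
  have hkl' : k ≠ l := fun e => hkl (e ▸ rfl)
  have e : ∀ m, cc ζ i j (D.σ (D.s i j) m) = cc ζ D.i0 D.i1 m := fun m => by
    have e0 : D.σ (D.s i j) m = i ↔ m = D.i0 := by
      conv_lhs => rw [← Perm.eq_inv_iff_eq, Perm.inv_eq_iff_eq.2 (D.s0 _ _ hij).symm]
    have e1 : D.σ (D.s i j) m = j ↔ m = D.i1 := by
      conv_lhs => rw [← Perm.eq_inv_iff_eq, Perm.inv_eq_iff_eq.2 (D.s1 _ _ hij).symm]
    simp only [cc, e0, e1]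
  rw [e, e, ← R.fh.equiv _ hkl']
  simp only [cj]
  rw [← R.gact b6 hkl', cj]
  group

/-- the commutator relation -/
def P (D : TD T I) (φ : T →* H) (x : F → H) (i j k : I) (s t : F) : Prop :=
  D.cj φ (x s) i j * D.cj φ (x t) j k * (D.cj φ (x s) i j)⁻¹ * (D.cj φ (x t) j k)⁻¹ =
    D.cj φ (x (s * t)) i k

omit R [DecidableEq I] in
theorem P_conj {i j k : I} {s t s' t' : F} (g : H)
    (h1 : g * D.cj φ (x s) i j * g⁻¹ = D.cj φ (x s') i j)
    (h2 : g * D.cj φ (x t) j k * g⁻¹ = D.cj φ (x t') j k)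
    (h3 : g * D.cj φ (x (s * t)) i k * g⁻¹ = D.cj φ (x (s' * t')) i k) :
    P D φ x i j k s t ↔ P D φ x i j k s' t' := by
  rw [P, P, ← h1, ← h2, ← h3, ← (MulAut.conj g).injective.eq_iff]
  simp only [MulAut.conj_apply]
  constructor <;> intro e <;> rw [← e] <;> group

theorem P_all (hζ : ∀ e, e ∈ zpowers ζ)
    (b6 : ∀ k, k ≠ D.i0 → k ≠ D.i1 → D.cj φ h D.i0 k * x 1 * (D.cj φ h D.i0 k)⁻¹ = x ζ)
    {i j k : I} (hij : i ≠ j) (hik : i ≠ k) (hjk : j ≠ k)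
    (h0 : (∀ c < 3, P D φ x i j k 1 (ζ ^ c)) ∨
      (P D φ x i j k 1 (ζ ^ 0) ∧ ∃ l, l ≠ i ∧ l ≠ j ∧ l ≠ k)) (s t : F) : P D φ x i j k s t := by
  let Q : ℤ → ℤ → Prop := fun a b => P D φ x i j k (ζ ^ a : Fˣ) (ζ ^ b : Fˣ)
  have z := ζ.ne_zero
  have m1 : ∀ a b, Q a b ↔ Q (a + 2) (b - 1) := fun a b => by
    apply P_conj (D.cj φ h i j) <;> rw [R.gact' b6 (by assumption) hij] <;> congr 2 <;>
      simp [cc, hij, hij.symm, hik, hjk, zpow_add₀ z, zpow_sub₀ z] <;> field_simp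
  have m2 : ∀ a b, Q a b ↔ Q (a + 1) (b + 1) := fun a b => by
    apply P_conj (D.cj φ h i k) <;> rw [R.gact' b6 (by assumption) hik] <;> congr 2 <;>
      simp [cc, hij, hik, hik.symm, hjk.symm, zpow_add₀ z] <;> field_simp
  have q0 : Q 0 0 ∧ Q 0 1 ∧ Q 0 2 := by
    rcases h0 with h0 | ⟨h0, l, l1, l2, l3⟩
    · exact ⟨by simpa [Q] using h0 0 (by norm_num), by simpa [Q] using h0 1 (by norm_num),
        by simpa [Q, zpow_ofNat] using h0 2 (by norm_num)⟩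
    · have m3 : ∀ a b, Q a b ↔ Q (a + 1) b := fun a b => by
        apply P_conj (D.cj φ h i l) <;> rw [R.gact' b6 (by assumption) l1.symm] <;> congr 2 <;>
          simp [cc, hij, hik, l1, l2, l3, zpow_add₀ z] <;> field_simp
      have a0 : Q 0 0 := by simpa [Q] using h0
      have a1 : Q 0 1 := (m3 0 1).2 ((m2 0 0).1 a0)
      exact ⟨a0, a1, (m3 0 2).2 ((m2 0 1).1 a1)⟩
  have n1 : ∀ (m a b : ℤ), Q a b → Q (a + 2 * m) (b - m) := fun m => by
    induction m using Int.induction_on with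
    | zero => simp
    | succ m ih =>
      intro a b q
      convert (m1 _ _).1 (ih a b q) using 1 <;> ring
    | pred m ih =>
      intro a b q
      apply (m1 _ _).2
      convert ih a b q using 1 <;> ring
  have n2 : ∀ (m a b : ℤ), Q a b → Q (a + m) (b + m) := fun m => by
    induction m using Int.induction_on with
    | zero => simp
    | succ m ih =>
      intro a b q
      convert (m2 _ _).1 (ih a b q) using 1 <;> ring
    | pred m ih =>
      intro a b q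
      apply (m2 _ _).2
      convert ih a b q using 1 <;> ring
  have z0 := add_zero' R.add
  by_cases hs : s = 0
  · simp [P, hs, z0, cj]
  by_cases ht : t = 0
  · simp [P, ht, z0, cj]
  obtain ⟨a, ha⟩ := hζ (Units.mk0 s hs)
  obtain ⟨b, hb⟩ := hζ (Units.mk0 t ht)
  have : Q a b := by
    have key : ∀ c m, Q 0 c → a - b + c = 3 * m → Q a b := fun c m q e => by
      convert n2 (a - 2 * m) _ _ (n1 m _ _ q) using 1 <;> omega
    have : (a - b) % 3 = 0 ∨ (a - b) % 3 = 1 ∨ (a - b) % 3 = 2 := by omega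
    rcases this with e | e | e
    · exact key 0 ((a - b) / 3) q0.1 (by omega)
    · exact key 2 ((a - b) / 3 + 1) q0.2.2 (by omega)
    · exact key 1 ((a - b) / 3 + 1) q0.2.1 (by omega)
  simp only at ha hb
  simp only [Q, ha, hb] at this
  exact this

omit [DecidableEq I] in
theorem row {i j k : I} (hP : ∀ s t, P D φ x i j k s t) (s v : F) :
    Commute (D.cj φ (x s) i j) (D.cj φ (x v) i k) := by
  have A := fun s => hP s 1
  simp only [P, mul_one, mul_inv_eq_iff_eq_mul (a := _ * _⁻¹)] at A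
  have e := A (s + v)
  rw [R.xadd, R.xadd, mul_inv_rev, mul_assoc (D.cj φ (x s) i j), mul_assoc (D.cj φ (x s) i j),
    ← mul_assoc (_ * _), A v, mul_assoc _ _ (_⁻¹), ← inv_mul_cancel_left (D.cj φ (x s) i j)
      (D.cj φ (x 1) j k * (D.cj φ (x s) i j)⁻¹), ← mul_assoc _ (D.cj φ (x 1) j k), A s,
    ← R.xadd, add_comm, R.xadd] at e
  simp only [← mul_assoc, mul_left_inj] at e
  exact mul_inv_eq_iff_eq_mul.1 e

omit [DecidableEq I] in
theorem col {i j k : I} (hP : ∀ s t, P D φ x i j k s t) (t v : F) :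
    Commute (D.cj φ (x t) j k) (D.cj φ (x v) i k) := by
  have A : ∀ t, D.cj φ (x t) j k * (D.cj φ (x 1) i j)⁻¹ * (D.cj φ (x t) j k)⁻¹ =
      (D.cj φ (x 1) i j)⁻¹ * D.cj φ (x t) i k := fun t => by
    have := hP 1 t
    rw [P, one_mul] at this
    rw [← this]; group
  have e := A (t + v)
  rw [R.xadd, R.xadd, mul_inv_rev, mul_assoc (D.cj φ (x t) j k), mul_assoc (D.cj φ (x t) j k),
    ← mul_assoc (_ * _), A v, ← mul_assoc _ _ (D.cj φ (x v) i k), ← A t] at e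
  simp only [mul_assoc, mul_right_inj] at e
  have := congrArg (fun y => D.cj φ (x t) j k * y * D.cj φ (x t) j k) e
  rw [Commute, SemiconjBy]
  simpa [mul_assoc] using this

theorem far (b6 : ∀ k, k ≠ D.i0 → k ≠ D.i1 → D.cj φ h D.i0 k * x 1 * (D.cj φ h D.i0 k)⁻¹ = x ζ)
    {i j k l : I} (hij : i ≠ j) (hik : i ≠ k) (hil : i ≠ l) (hjk : j ≠ k) (hjl : j ≠ l) (hkl : k ≠ l)
    {t : F} (h1 : Commute (D.cj φ (x 1) i j) (D.cj φ (x t) k l)) (s : F) :
    Commute (D.cj φ (x s) i j) (D.cj φ (x t) k l) := by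
  obtain ⟨f, rfl⟩ := R.g2 s
  have a1 : ∀ a, D.cj φ h i j * D.cj φ (x a) i j * (D.cj φ h i j)⁻¹ =
      D.cj φ (x ((ζ : F) ^ 2 * a)) i j := fun a => by
    rw [R.gact' b6 hij hij]; simp [cc, hij.symm]
  have a2 : Commute (D.cj φ h i j) (D.cj φ (x t) k l) := by
    have := R.gact' b6 hkl hij t
    simp only [cc, hik, hil, hjk, hjl, if_false, inv_mul_cancel, Units.val_one, one_mul] at this
    exact mul_inv_eq_iff_eq_mul.1 this
  rw [← pw_x (x := fun a => D.cj φ (x a) i j) (R.xadd i j) a1]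
  have : pw (D.cj φ (x 1) i j) (D.cj φ h i j) f ∈ centralizer {D.cj φ (x t) k l} := pw_mem (fun m => by
    rw [mem_centralizer_singleton_iff]
    exact (((a2.pow_left m).mul_left h1).mul_left (a2.pow_left m).inv_left).eq) f
  exact mem_centralizer_singleton_iff.1 this

end Rel

end TD

end Cfsg.Agent.L0
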