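import Cfsg.Agent.H12.Lin

/-! Subgroups of `SL` containing many transvections. -/

set_option autoImplicit false
set_option linter.unusedSectionVars false

namespace Cfsg.Agent.L0.RU

open Matrix

variable {F : Type*} [Field F] {ι : Type*} [Fintype ι] [DecidableEq ι]

def InG (G : Subgroup (SpecialLinearGroup ι F)) (M : Matrix ι ι F) : Prop :=
  ∃ g ∈ G, (g : Matrix ι ι F) = M

variable {G : Subgroup (SpecialLinearGroup ι F)}

theorem InG.one : InG G 1 := ⟨1, G.one_mem, rfl⟩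

theorem InG.mul {M N : Matrix ι ι F} (h : InG G M) (h' : InG G N) : InG G (M * N) := by
  obtain ⟨g, hg, rfl⟩ := h
  obtain ⟨g', hg', rfl⟩ := h'
  exact ⟨g * g', G.mul_mem hg hg', rfl⟩

theorem InG.inv {M N : Matrix ι ι F} (h : InG G M) (hM : M * N = 1) : InG G N := by
  obtain ⟨g, hg, rfl⟩ := h
  refine ⟨g⁻¹, G.inv_mem hg, ?_⟩
  have h1 : (g⁻¹).1 * g.1 = 1 := by
    have := congrArg Subtype.val (inv_mul_cancel g)
    exact this
  calc (g⁻¹).1 = (g⁻¹).1 * (g.1 * N) := by rw [hM, mul_one]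
    _ = N := by rw [← mul_assoc, h1, one_mul]

def R (G : Subgroup (SpecialLinearGroup ι F)) (a φ : ι → F) : Prop := InG G (1 + vecMulVec a φ)

theorem tv_mul (a φ b ψ : ι → F) : (1 + vecMulVec a φ) * (1 + vecMulVec b ψ) =
    1 + vecMulVec a φ + vecMulVec b ψ + vecMulVec ((φ ⬝ᵥ b) • a) ψ := by
  rw [add_mul, mul_add, mul_add, one_mul, one_mul, mul_one, vecMulVec_mul_vecMulVec,
    smul_vecMulVec, vecMulVec_smul]
  abel

theorem R.zero_left (φ : ι → F) : R G 0 φ := by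
  unfold R; rw [zero_vecMulVec, add_zero]; exact InG.one

theorem R.zero_right (a : ι → F) : R G a 0 := by
  unfold R; rw [vecMulVec_zero, add_zero]; exact InG.one

theorem R.smul_iff {a φ : ι → F} (s : F) : R G (s • a) φ ↔ R G a (s • φ) := by
  unfold R; rw [smul_vecMulVec, vecMulVec_smul]

theorem R.add_left {a b φ : ι → F} (h : R G a φ) (h' : R G b φ) (hb : φ ⬝ᵥ b = 0) :
    R G (a + b) φ := by
  have := InG.mul h h'
  rw [tv_mul, hb, zero_smul, zero_vecMulVec, add_zero, add_assoc, ← add_vecMulVec] at this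
  exact this

theorem R.add_right {a φ ψ : ι → F} (h : R G a φ) (h' : R G a ψ) (hb : φ ⬝ᵥ a = 0) :
    R G a (φ + ψ) := by
  have := InG.mul h h'
  rw [tv_mul, hb, zero_smul, zero_vecMulVec, add_zero, add_assoc, ← vecMulVec_add] at this
  exact this

theorem tv_inv {a φ : ι → F} (ha : φ ⬝ᵥ a = 0) :
    (1 + vecMulVec a φ) * (1 + vecMulVec (-a) φ) = 1 := by
  rw [tv_mul, dotProduct_neg, ha, neg_zero, zero_smul, zero_vecMulVec, add_zero, add_assoc,
    ← add_vecMulVec, add_neg_cancel, zero_vecMulVec, add_zero]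

theorem R.neg {a φ : ι → F} (h : R G a φ) (ha : φ ⬝ᵥ a = 0) : R G (-a) φ :=
  InG.inv h (tv_inv ha)

theorem R.sub_left {a b φ : ι → F} (h : R G a φ) (h' : R G b φ) (hb : φ ⬝ᵥ b = 0) :
    R G (a - b) φ := by
  rw [sub_eq_add_neg]
  exact h.add_left (h'.neg hb) (by rw [dotProduct_neg, hb, neg_zero])

theorem R.conj {M N : Matrix ι ι F} (hM : InG G M) (hMN : M * N = 1) {a φ : ι → F}
    (h : R G a φ) : R G (M *ᵥ a) (φ ᵥ* N) := by
  have := (hM.mul h).mul (hM.inv hMN)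
  rw [mul_add, mul_one, add_mul, hMN, mul_vecMulVec, vecMulVec_mul] at this
  exact this

theorem tv_mulVec (b ψ a : ι → F) : (1 + vecMulVec b ψ) *ᵥ a = a + (ψ ⬝ᵥ a) • b := by
  rw [add_mulVec, one_mulVec, vecMulVec_mulVec]
  simp

theorem vecMul_tv (b ψ φ : ι → F) : φ ᵥ* (1 + vecMulVec b ψ) = φ + (φ ⬝ᵥ b) • ψ := by
  rw [vecMul_add, vecMul_one, vecMul_vecMulVec]

theorem R.tconj {a φ b ψ : ι → F} (h : R G a φ) (h' : R G b ψ) (hb : ψ ⬝ᵥ b = 0) :
    R G (a + (ψ ⬝ᵥ a) • b) (φ - (φ ⬝ᵥ b) • ψ) := by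
  have := R.conj h' (tv_inv hb) h
  rw [tv_mulVec, vecMul_tv, dotProduct_neg, neg_smul, ← sub_eq_add_neg] at this
  exact this

/-- commutator: `T(a,φ)` with `T(b,ψ)`, `φ b = 0`. -/
theorem R.comm {a φ b ψ : ι → F} (h : R G a φ) (h' : R G b ψ) (ha : φ ⬝ᵥ a = 0) (hb : ψ ⬝ᵥ b = 0)
    (hab : φ ⬝ᵥ b = 0) : R G ((ψ ⬝ᵥ a) • b) φ := by
  have := h.tconj h' hb
  rw [hab, zero_smul, sub_zero] at this
  have h2 := this.sub_left h ha
  rwa [add_sub_cancel_left] at h2

def W (G : Subgroup (SpecialLinearGroup ι F)) (φ : ι → F) : Submodule F (ι → F) where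
  carrier := {a | φ ⬝ᵥ a = 0 ∧ ∀ s : F, R G (s • a) φ}
  zero_mem' := ⟨by simp, fun s => by rw [smul_zero]; exact R.zero_left φ⟩
  add_mem' := by
    rintro a b ⟨ha, ha'⟩ ⟨hb, hb'⟩
    refine ⟨by rw [dotProduct_add, ha, hb, add_zero], fun s => ?_⟩
    rw [smul_add]
    exact (ha' s).add_left (hb' s) (by rw [dotProduct_smul, hb, smul_zero])
  smul_mem' := by
    rintro c a ⟨ha, ha'⟩
    refine ⟨by rw [dotProduct_smul, ha, smul_zero], fun s => ?_⟩
    rw [smul_smul]; exact ha' _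

theorem mem_W {φ a : ι → F} : a ∈ W G φ ↔ φ ⬝ᵥ a = 0 ∧ ∀ s : F, R G (s • a) φ := Iff.rfl

theorem W_of {φ ψ a b : ι → F} (ha : a ∈ W G φ) (hb : b ∈ W G ψ) (hab : φ ⬝ᵥ b = 0)
    (hne : ψ ⬝ᵥ a ≠ 0) : b ∈ W G φ := by
  refine ⟨hab, fun s => ?_⟩
  have h1 : R G a φ := by simpa using ha.2 1
  have := h1.comm (hb.2 (s / (ψ ⬝ᵥ a))) ha.1 (by rw [dotProduct_smul, hb.1, smul_zero])
    (by rw [dotProduct_smul, hab, smul_zero])
  rwa [smul_smul, mul_div_cancel₀ _ hne] at this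

def Ax (G : Subgroup (SpecialLinearGroup ι F)) : Submodule F (ι → F) where
  carrier := {φ | ∀ a, φ ⬝ᵥ a = 0 → R G a φ}
  zero_mem' := fun a _ => R.zero_right a
  smul_mem' := by
    intro c φ h a ha
    by_cases hc : c = 0
    · rw [hc, zero_smul]; exact R.zero_right a
    · rw [← R.smul_iff]
      rw [smul_dotProduct, smul_eq_mul, mul_eq_zero] at ha
      exact h _ (by rw [dotProduct_smul, ha.resolve_left hc, smul_zero])
  add_mem' := by
    intro φ ψ h h' a ha
    rw [add_dotProduct] at ha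
    by_cases hk : ∃ b, ψ ⬝ᵥ b = 0 ∧ φ ⬝ᵥ b ≠ 0
    · obtain ⟨b, hb, hb'⟩ := hk
      set b' := (-(φ ⬝ᵥ b)⁻¹) • b with hb''
      have e1 : ψ ⬝ᵥ b' = 0 := by rw [hb'', dotProduct_smul, hb, smul_zero]
      have e2 : φ ⬝ᵥ b' = -1 := by
        rw [hb'', dotProduct_smul, smul_eq_mul, neg_mul, inv_mul_cancel₀ hb']
      have e3 : φ ⬝ᵥ (a - (ψ ⬝ᵥ a) • b') = 0 := by
        rw [dotProduct_sub, dotProduct_smul, e2, smul_eq_mul]; linear_combination ha
      have := (h _ e3).tconj (h' b' e1) e1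
      rw [e2, dotProduct_sub, dotProduct_smul, e1, smul_zero, sub_zero, sub_add_cancel,
        neg_smul, one_smul, sub_neg_eq_add] at this
      exact this
    · push Not at hk
      by_cases hψ : ψ ⬝ᵥ a = 0
      · exact (h a (hk a hψ)).add_right (h' a hψ) (hk a hψ)
      · have : φ + ψ = 0 := by
          refine dotProduct_eq_zero _ fun x => ?_
          have := hk (x - ((ψ ⬝ᵥ x) / (ψ ⬝ᵥ a)) • a) (by
            rw [dotProduct_sub, dotProduct_smul, smul_eq_mul, div_mul_cancel₀ _ hψ, sub_self])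
          rw [dotProduct_sub, dotProduct_smul, smul_eq_mul] at this
          rw [add_dotProduct]
          have h3 : φ ⬝ᵥ a = -(ψ ⬝ᵥ a) := by linear_combination ha
          rw [h3, mul_neg, div_mul_cancel₀ _ hψ] at this
          linear_combination this
        rw [this]; exact R.zero_right a

theorem Ax_vecMul {M N : Matrix ι ι F} (hM : InG G M) (hMN : M * N = 1) {φ : ι → F}
    (h : φ ∈ Ax G) : φ ᵥ* N ∈ Ax G := by
  intro a ha
  have hNM : N * M = 1 := mul_eq_one_comm.1 hMN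
  have := R.conj hM hMN (h (N *ᵥ a) (by rw [dotProduct_mulVec]; exact ha))
  rwa [mulVec_mulVec, hMN, one_mulVec] at this

theorem eq_top_of_Ax (h : Ax G = ⊤) : G = ⊤ := by
  refine H12.SL_eq_top_of_transvection_mem fun i j hij c => ?_
  have h1 : (Pi.single j c : ι → F) ∈ Ax G := by rw [h]; trivial
  obtain ⟨g, hg, e⟩ := h1 (Pi.single i 1) (by simp [hij.symm])
  convert hg using 1
  apply Subtype.ext
  rw [SpecialLinearGroup.transvection_coe]
  change _ = (g : Matrix ι ι F)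
  rw [e]
  congr 1
  ext a b
  simp only [single, vecMulVec, Pi.single_apply, of_apply]
  by_cases h1 : i = a <;> by_cases h2 : j = b <;> simp [h1, h2, Ne.symm]

section RM
variable {κ : Type*} [Fintype κ] [DecidableEq κ]

def RM (G : Subgroup (SpecialLinearGroup ι F)) (A : Matrix ι κ F) (B : Matrix κ ι F)
    (M : Matrix κ κ F) : Prop := InG G (1 + A * M * B)

theorem rm_mul (A : Matrix ι κ F) (B : Matrix κ ι F) (M M' : Matrix κ κ F) :
    (1 + A * M * B) * (1 + A * M' * B) = 1 + A * (M + M' + M * (B * A) * M') * B := by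
  simp only [mul_add, add_mul, one_mul, mul_one, Matrix.mul_add, Matrix.add_mul, Matrix.mul_assoc]
  abel

theorem RM.mul {A : Matrix ι κ F} {B : Matrix κ ι F} {C : Matrix κ κ F} (hC : B * A = C)
    {M M' : Matrix κ κ F} (h : RM G A B M) (h' : RM G A B M') (M'' : Matrix κ κ F)
    (e : M + M' + M * C * M' = M'') : RM G A B M'' := by
  have := InG.mul h h'
  rw [rm_mul, hC, e] at this
  exact this

theorem RM.inv {A : Matrix ι κ F} {B : Matrix κ ι F} {C : Matrix κ κ F} (hC : B * A = C)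
    {M : Matrix κ κ F} (h : RM G A B M) (M' : Matrix κ κ F)
    (e : M + M' + M * C * M' = 0) : RM G A B M' :=
  InG.inv h (by rw [rm_mul, hC, e]; simp)

theorem rm_single (A : Matrix ι κ F) (B : Matrix κ ι F) (i j : κ) (s : F) :
    A * single i j s * B = vecMulVec (s • fun x => A x i) (B j) := by
  ext x y
  simp [mul_apply, single, vecMulVec, ite_and, mul_comm, mul_left_comm]

end RM

end Cfsg.Agent.L0.RU
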