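import Cfsg.Agent.L0.RU1

/-! Windows of transvections. -/

set_option autoImplicit false
set_option linter.unusedSectionVars false

namespace Cfsg.Agent.L0.RU

open Matrix

variable {F : Type*} [Field F] {ι : Type*} [Fintype ι] [DecidableEq ι]
variable {G : Subgroup (SpecialLinearGroup ι F)}

def A (v : SpecialLinearGroup ι F) (a : ι → F) (k : ℤ) : ι → F := (v ^ k).1 *ᵥ a
def Ph (v : SpecialLinearGroup ι F) (φ : ι → F) (j : ℤ) : ι → F := φ ᵥ* (v ^ (-j)).1
def c (v : SpecialLinearGroup ι F) (a φ : ι → F) (m : ℤ) : F := φ ⬝ᵥ A v a m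

variable {v : SpecialLinearGroup ι F} {a φ : ι → F}

theorem zp_mul (v : SpecialLinearGroup ι F) (i j : ℤ) : (v ^ i).1 * (v ^ j).1 = (v ^ (i + j)).1 := by
  rw [_root_.zpow_add]; rfl

theorem zp_zero (v : SpecialLinearGroup ι F) : (v ^ (0 : ℤ)).1 = 1 := by rw [zpow_zero]; rfl

theorem zp_A (i k : ℤ) : (v ^ i).1 *ᵥ A v a k = A v a (k + i) := by
  rw [A, A, mulVec_mulVec, zp_mul, add_comm]

theorem Ph_zp (i j : ℤ) : Ph v φ j ᵥ* (v ^ (-i)).1 = Ph v φ (j + i) := by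
  rw [Ph, Ph, vecMul_vecMul, zp_mul, neg_add]

theorem A_zero : A v a 0 = a := by rw [A, zp_zero, one_mulVec]
theorem Ph_zero : Ph v φ 0 = φ := by rw [Ph, neg_zero, zp_zero, vecMul_one]
theorem A_A (z k : ℤ) : A v (A v a z) k = A v a (z + k) := zp_A k z
theorem A_succ (k : ℤ) : A v a (k + 1) = v.1 *ᵥ A v a k := by
  rw [← zp_A, zpow_one]

theorem Ph_A (j k : ℤ) : Ph v φ j ⬝ᵥ A v a k = c v a φ (k - j) := by
  rw [Ph, ← dotProduct_mulVec, zp_A, c, sub_eq_add_neg]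

theorem zp_in (hv : v ∈ G) (i : ℤ) : InG G (v ^ i).1 := ⟨v ^ i, G.zpow_mem hv i, rfl⟩

theorem zp_inv (v : SpecialLinearGroup ι F) (i : ℤ) : (v ^ i).1 * (v ^ (-i)).1 = 1 := by
  rw [zp_mul, add_neg_cancel, zp_zero]

theorem shift (hv : v ∈ G) {s : F} {k : ℤ} (h : R G (s • A v a k) φ) (i : ℤ) :
    R G (s • A v a (k + i)) (Ph v φ i) := by
  have := R.conj (zp_in hv i) (zp_inv v i) h
  rwa [mulVec_smul, zp_A] at this

theorem unshift (hv : v ∈ G) {s : F} {k i : ℤ} (h : R G (s • A v a k) (Ph v φ i)) :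
    R G (s • A v a (k - i)) φ := by
  have := R.conj (zp_in hv (-i)) (zp_inv v (-i)) h
  rwa [mulVec_smul, zp_A, Ph_zp, add_neg_cancel, Ph_zero, ← sub_eq_add_neg] at this

theorem W_shift (hv : v ∈ G) {k : ℤ} (h : A v a k ∈ W G φ) (i : ℤ) :
    A v a (k + i) ∈ W G (Ph v φ i) :=
  ⟨by rw [Ph_A, add_sub_cancel_right]; exact h.1, fun s => shift hv (h.2 s) i⟩

theorem win (hv : v ∈ G) (m : ℤ) (w : ℕ) (hw : 2 ≤ w)
    (hz : ∀ k : ℤ, m ≤ k → k < m + w → A v a k ∈ W G φ) (hc : c v a φ (m + w) ≠ 0)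
    (hsp : ∀ P : Submodule F (ι → F), (∀ k : ℤ, m - 2 ≤ k → k < m + w → A v a k ∈ P) → P = ⊤)
    (hd : ∀ P : Submodule F (ι → F), φ ∈ P → (∀ ψ ∈ P, ψ ᵥ* v.1 ∈ P) → P = ⊤) : G = ⊤ := by
  refine eq_top_of_Ax (hd _ ?_ fun ψ hψ => ?_)
  · intro x hx
    have h1 := hsp (W G φ ⊔ W G (Ph v φ (-2))) fun k h1 h2 => by
      by_cases hk : m ≤ k
      · exact Submodule.mem_sup_left (hz k hk h2)
      · refine Submodule.mem_sup_right ?_
        have := W_shift hv (hz (k + 2) (by omega) (by omega)) (-2)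
        rwa [show k + 2 + -2 = k by ring] at this
    have hx' : x ∈ W G φ ⊔ W G (Ph v φ (-2)) := by rw [h1]; trivial
    obtain ⟨y, hy, z, hz', rfl⟩ := Submodule.mem_sup.1 hx'
    have hz0 : φ ⬝ᵥ z = 0 := by rw [dotProduct_add, hy.1, zero_add] at hx; exact hx
    have := W_of (hz (m + w - 2) (by omega) (by omega)) hz' hz0 (by
      rw [Ph_A, show m + w - 2 - -2 = m + w by ring]; exact hc)
    simpa using ((W G φ).add_mem hy this).2 1
  · have := Ax_vecMul (zp_in hv (-1)) (N := v.1) (by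
      have := zp_mul v (-1) 1
      rw [zpow_one] at this
      rw [this, neg_add_cancel, zp_zero]) hψ
    exact this

/-- commutator law -/
theorem S_comm (hv : v ∈ G) {s s' : F} {m m' : ℤ} (i : ℤ) (h : R G (s • A v a m) φ)
    (h' : R G (s' • A v a m') φ) (hm : c v a φ m = 0) (hm' : c v a φ m' = 0)
    (hi : c v a φ (m + i) = 0) : R G ((s * s' * c v a φ (m' - i)) • A v a (m + i)) φ := by
  have := h'.comm (shift hv h i) (by rw [dotProduct_smul, ← c, hm', smul_zero])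
    (by rw [dotProduct_smul, Ph_A, add_sub_cancel_right, hm, smul_zero])
    (by rw [dotProduct_smul, ← c, hi, smul_zero])
  rw [dotProduct_smul, Ph_A, smul_smul, smul_eq_mul] at this
  convert this using 2
  ring

def gg (v : SpecialLinearGroup ι F) (a φ : ι → F) (l : F) (j : ℤ) : Matrix ι ι F :=
  1 + vecMulVec (l • A v a j) (Ph v φ j)

theorem gg_mul {l ν : F} (hν : ν * (1 + l * c v a φ 0) = 1) (j : ℤ) :
    gg v a φ l j * gg v a φ (-(l * ν)) j = 1 := by
  rw [gg, gg, tv_mul, dotProduct_smul, Ph_A, sub_self, smul_smul, add_assoc, add_assoc,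
    ← add_vecMulVec, ← add_vecMulVec, ← add_smul, ← add_smul]
  have : l + (-(l * ν) + (-(l * ν) • c v a φ 0) * l) = 0 := by
    rw [smul_eq_mul]; linear_combination (-l) * hν
  rw [this, zero_smul, zero_vecMulVec, add_zero]

theorem gg_conj (l : F) (j i : ℤ) :
    (v ^ i).1 * gg v a φ l j * (v ^ (-i)).1 = gg v a φ l (j + i) := by
  rw [gg, mul_add, mul_one, add_mul, zp_inv, mul_vecMulVec, vecMulVec_mul, mulVec_smul, zp_A,
    Ph_zp, gg]

def Y (G : Subgroup (SpecialLinearGroup ι F)) (v : SpecialLinearGroup ι F) (a φ : ι → F)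
    (l ν : F) (j : ℤ) : Prop := InG G (gg v a φ l j * gg v a φ (-(l * ν)) (j + 1))

theorem Y_shift (hv : v ∈ G) {l ν : F} (h : Y G v a φ l ν 0) (j : ℤ) : Y G v a φ l ν j := by
  have := ((zp_in hv j).mul h).mul (zp_in hv (-j))
  unfold Y
  convert this using 1
  have e1 := gg_conj (v := v) (a := a) (φ := φ) l 0 j
  have e2 := gg_conj (v := v) (a := a) (φ := φ) (-(l * ν)) (0 + 1) j
  rw [zero_add] at e1
  rw [show 0 + 1 + j = j + 1 by ring] at e2
  have e3 : (v ^ (-j)).1 * (v ^ j).1 = 1 := by rw [zp_mul, neg_add_cancel, zp_zero]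
  rw [← e1, ← e2]
  simp only [mul_assoc]
  rw [← mul_assoc (v ^ (-j)).1, e3, one_mul]

theorem Y_of (hv : v ∈ G) {l ν : F}
    (hu : InG G (gg v a φ l 0 * v.1 * gg v a φ (-(l * ν)) 0)) : Y G v a φ l ν 0 := by
  have := hu.mul (zp_in hv (-1))
  unfold Y
  convert this using 1
  rw [← gg_conj (-(l * ν)) 0 1, zpow_one]
  simp only [mul_assoc]

theorem Y_inv {l ν : F} (hν : ν * (1 + l * c v a φ 0) = 1) (j : ℤ) :
    gg v a φ l j * gg v a φ (-(l * ν)) (j + 1) * (gg v a φ l (j + 1) * gg v a φ (-(l * ν)) j) = 1 := by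
  have h1 := mul_eq_one_comm.1 (gg_mul hν (j + 1))
  rw [mul_assoc, ← mul_assoc (gg v a φ (-(l * ν)) (j + 1)), h1, one_mul, gg_mul hν]

theorem gg_A (l : F) (j k : ℤ) :
    gg v a φ l j *ᵥ A v a k = A v a k + (l * c v a φ (k - j)) • A v a j := by
  rw [gg, tv_mulVec, Ph_A, smul_smul, mul_comm]

theorem vecMul_gg (l : F) {j : ℤ} (h : c v a φ j = 0) : φ ᵥ* gg v a φ l j = φ := by
  rw [gg, vecMul_tv, dotProduct_smul, ← c, h, smul_zero, zero_smul, add_zero]

theorem Y_conj {l ν : F} (hν : ν * (1 + l * c v a φ 0) = 1) {j : ℤ} (hY : Y G v a φ l ν j)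
    (h1 : c v a φ j = 0) (h2 : c v a φ (j + 1) = 0) {x : ι → F} (h : R G x φ) :
    R G (gg v a φ l j *ᵥ (gg v a φ (-(l * ν)) (j + 1) *ᵥ x)) φ := by
  have := R.conj hY (Y_inv hν j) h
  rwa [← vecMul_vecMul, vecMul_gg _ h2, vecMul_gg _ h1, ← mulVec_mulVec] at this

theorem step {l ν : F} (hν : ν * (1 + l * c v a φ 0) = 1) {m : ℤ} (hY : Y G v a φ l ν m)
    (h1 : c v a φ m = 0) (h2 : c v a φ (m + 1) = 0) (h3 : c v a φ 1 = 0) {s : F}
    (h : R G (s • A v a m) φ) (h' : R G ((s * (1 + l * c v a φ 0)) • A v a m) φ) :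
    R G ((s * l * ν * c v a φ (-1)) • A v a (m + 1)) φ := by
  have := Y_conj hν hY h1 h2 h
  rw [mulVec_smul, gg_A, mulVec_smul, mulVec_add, mulVec_smul, gg_A, gg_A, sub_self,
    add_sub_cancel_left, h3, show m - (m + 1) = -1 by ring] at this
  have h4 := h'.sub_left this (by
    unfold c at h1 h2
    simp only [dotProduct_smul, dotProduct_add, h1, h2, smul_zero, add_zero])
  convert h4 using 1
  module

theorem scale {l ν : F} (hν : ν * (1 + l * c v a φ 0) = 1) {m : ℤ} (hY : Y G v a φ l ν m)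
    (h1 : c v a φ m = 0) (h2 : c v a φ (m + 1) = 0) (h3 : c v a φ 1 = 0) {s : F}
    (h : R G (s • A v a (m + 1)) φ) : R G ((s * ν) • A v a (m + 1)) φ := by
  have := Y_conj hν hY h1 h2 h
  rw [mulVec_smul, gg_A, mulVec_smul, mulVec_add, mulVec_smul, gg_A, sub_self,
    add_sub_cancel_left, h3] at this
  convert this using 1
  have e : ν = 1 + -(l * ν) * c v a φ 0 := by linear_combination hν
  conv_lhs => rw [e]
  module

/-- the main finishing theorem for the window `[1, n-2]` -/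
theorem fin4 (hv : v ∈ G) (n : ℕ) (hn : 4 ≤ n) {l ν : F} (hν : ν * (1 + l * c v a φ 0) = 1)
    (hY : Y G v a φ l ν 0) (hl : l ≠ 0) (hz : ∀ k : ℤ, 1 ≤ k → k ≤ n - 2 → c v a φ k = 0)
    (ht : c v a φ (-1) ≠ 0) (hc : c v a φ (n - 1) ≠ 0)
    (h2 : ∀ s : F, R G (s • A v a 2) φ)
    (hsp : ∀ P : Submodule F (ι → F), (∀ k : ℤ, -1 ≤ k → k < n - 1 → A v a k ∈ P) → P = ⊤)
    (hd : ∀ P : Submodule F (ι → F), φ ∈ P → (∀ ψ ∈ P, ψ ᵥ* v.1 ∈ P) → P = ⊤) : G = ⊤ := by
  have hν0 : ν ≠ 0 := by rintro rfl; simp at hν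
  have key : ∀ k : ℕ, (k : ℤ) + 2 ≤ n - 2 → ∀ s : F, R G (s • A v a (k + 2)) φ := by
    intro k
    induction k with
    | zero => intro _ s; simpa using h2 s
    | succ k ih =>
      intro hk s
      push_cast at hk ⊢
      have := step hν (Y_shift hv hY (k + 2)) (hz _ (by omega) (by omega))
        (hz _ (by omega) (by omega)) (hz 1 le_rfl (by omega))
        (ih (by omega) (s / (l * ν * c v a φ (-1)))) (ih (by omega) _)
      rw [show (k : ℤ) + 1 + 2 = k + 2 + 1 by ring]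
      convert this using 2
      field_simp
  have key' : ∀ k : ℤ, 2 ≤ k → k ≤ n - 2 → ∀ s : F, R G (s • A v a k) φ := by
    intro k h1 h2
    have := key (k - 2).toNat (by omega)
    rwa [show ((k - 2).toNat : ℤ) + 2 = k by omega] at this
  have k1 : ∀ s : F, R G (s • A v a 1) φ := by
    intro s
    have := S_comm hv (3 - n) (key' (n - 2) (by omega) le_rfl (s / c v a φ (n - 1))) (h2 1)
      (hz _ (by omega) le_rfl) (hz 2 (by omega) (by omega))
      (hz _ (by omega) (by omega))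
    rw [show (2 : ℤ) - (3 - n) = n - 1 by ring, show (n : ℤ) - 2 + (3 - n) = 1 by ring, mul_one,
      div_mul_cancel₀ _ hc] at this
    exact this
  refine win (a := a) (φ := φ) hv 1 (n - 2) (by omega) (fun k h1 h2 => ⟨hz k h1 (by omega), ?_⟩) ?_
    (fun P hP => hsp P fun k h1 h2 => hP k (by omega) (by omega)) hd
  · by_cases hk : k = 1
    · rw [hk]; exact k1
    · exact key' k (by omega) (by omega)
  · rw [show (1 : ℤ) + ((n - 2 : ℕ) : ℤ) = n - 1 by omega]; exact hc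

/-- support matrices -/
def Am (v : SpecialLinearGroup ι F) (a : ι → F) (r : ℕ) : Matrix ι (Fin r) F :=
  of fun x i => A v a (i : ℕ) x
def Bm (v : SpecialLinearGroup ι F) (φ : ι → F) (r : ℕ) : Matrix (Fin r) ι F :=
  of fun i => Ph v φ (i : ℕ)

theorem Bm_Am (r : ℕ) : Bm v φ r * Am v a r = of fun i j : Fin r => c v a φ ((j : ℕ) - (i : ℕ)) := by
  ext i j
  rw [of_apply, ← Ph_A]; rfl

theorem rm_sing (r : ℕ) (i j : Fin r) (s : F) :
    Am v a r * single i j s * Bm v φ r = vecMulVec (s • A v a (i : ℕ)) (Ph v φ (j : ℕ)) :=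
  rm_single _ _ _ _ _

theorem RM_Y {r : ℕ} {l ν : F} (i j : Fin r) (hij : (j : ℕ) = i + 1) (hY : Y G v a φ l ν (i : ℕ))
    {C : Matrix (Fin r) (Fin r) F} (hC : Bm v φ r * Am v a r = C) (M : Matrix (Fin r) (Fin r) F)
    (e : single i i l + single j j (-(l * ν)) + single i i l * C * single j j (-(l * ν)) = M) :
    RM G (Am v a r) (Bm v φ r) M := by
  unfold Y gg at hY
  have : ((i : ℕ) : ℤ) + 1 = (j : ℕ) := by omega
  rw [this, ← rm_sing, ← rm_sing, rm_mul, hC, e] at hY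
  exact hY

end Cfsg.Agent.L0.RU
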