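import Cfsg.Agent.L0.RU2

/-! The Jordan block. -/

set_option autoImplicit false
set_option linter.unusedSectionVars false

namespace Cfsg.Agent.L0.RU

open Matrix

variable {F : Type*} [Field F] {n : ℕ}

def Nn (F : Type*) [Field F] (n k : ℕ) : Matrix (Fin n) (Fin n) F :=
  of fun i j => if (i : ℕ) = j + k then 1 else 0

theorem Nn_mulVec (k : ℕ) (x : Fin n → F) (i : Fin n) :
    (Nn F n k *ᵥ x) i = if h : k ≤ i then x ⟨i - k, by omega⟩ else 0 := by
  simp only [mulVec, dotProduct, Nn, of_apply]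
  split_ifs with h
  · rw [Finset.sum_eq_single ⟨i - k, by omega⟩]
    · rw [if_pos (by simp; omega), one_mul]
    · intro b _ hb
      rw [if_neg, zero_mul]
      intro h'; apply hb; ext; simp; omega
    · simp
  · refine Finset.sum_eq_zero fun b _ => ?_
    rw [if_neg (by omega), zero_mul]

theorem vecMul_Nn (k : ℕ) (x : Fin n → F) (j : Fin n) :
    (x ᵥ* Nn F n k) j = if h : j + k < n then x ⟨j + k, h⟩ else 0 := by
  simp only [vecMul, dotProduct, Nn, of_apply]
  split_ifs with h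
  · rw [Finset.sum_eq_single ⟨j + k, h⟩]
    · rw [if_pos rfl, mul_one]
    · intro b _ hb
      rw [if_neg, mul_zero]
      intro h'; apply hb; ext; simp; omega
    · simp
  · refine Finset.sum_eq_zero fun b _ => ?_
    rw [if_neg (by omega), mul_zero]

theorem Nn_pow (k : ℕ) : Nn F n 1 ^ k = Nn F n k := by
  induction k with
  | zero => ext i j; simp [Nn, one_apply, Fin.ext_iff]
  | succ k ih =>
    rw [pow_succ', ih]
    ext i j
    have := Nn_mulVec 1 (fun l => Nn F n k l j) i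
    change (Nn F n 1 *ᵥ fun l => Nn F n k l j) i = _
    rw [this]
    simp only [Nn, of_apply]
    split_ifs <;> first | rfl | omega

theorem Nn_nil : IsNilpotent (Nn F n 1) := ⟨n, by
  rw [Nn_pow]; ext i j; simp only [Nn, of_apply, Matrix.zero_apply]; rw [if_neg (by omega)]⟩

theorem Nn_ne (hn : 1 ≤ n) : Nn F n 1 ^ (n - 1) ≠ 0 := by
  rw [Nn_pow]
  intro h
  have := congrFun (congrFun h ⟨n - 1, by omega⟩) ⟨0, by omega⟩
  simp [Nn] at this

def Jn (F : Type*) [Field F] (n : ℕ) : SpecialLinearGroup (Fin n) F :=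
  ⟨1 + Nn F n 1, by
    rw [det_of_isLowerTriangular]
    · refine Finset.prod_eq_one fun i _ => ?_
      simp [Nn]
    · intro i j hij
      have : i < j := hij
      rw [Matrix.add_apply, one_apply_ne this.ne, Nn, of_apply, if_neg (by omega), add_zero]⟩

theorem Jn_sub : (Jn F n).1 - 1 = Nn F n 1 := add_sub_cancel_left _ _

def Reg (M : Matrix (Fin n) (Fin n) F) : Prop := IsNilpotent (M - 1) ∧ (M - 1) ^ (n - 1) ≠ 0

theorem Jn_reg (hn : 1 ≤ n) : Reg (Jn F n).1 := by
  unfold Reg; rw [Jn_sub]; exact ⟨Nn_nil, Nn_ne hn⟩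

theorem Reg.conj {M P Q : Matrix (Fin n) (Fin n) F} (h : Reg M) (hPQ : P * Q = 1) :
    Reg (P * M * Q) := by
  have hQP : Q * P = 1 := mul_eq_one_comm.1 hPQ
  have e : P * M * Q - 1 = P * (M - 1) * Q := by
    rw [mul_sub, sub_mul, mul_one, hPQ]
  have e2 : ∀ k : ℕ, (P * (M - 1) * Q) ^ k = P * (M - 1) ^ k * Q := by
    intro k
    induction k with
    | zero => simp [hPQ]
    | succ k ih =>
      rw [pow_succ, ih, pow_succ]
      simp only [mul_assoc]
      rw [← mul_assoc Q, hQP, one_mul]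
  obtain ⟨⟨k, hk⟩, h2⟩ := h
  refine ⟨⟨k, by rw [e, e2, hk, mul_zero, zero_mul]⟩, fun h3 => h2 ?_⟩
  rw [e, e2] at h3
  have : Q * (P * (M - 1) ^ (n - 1) * Q) * P = (M - 1) ^ (n - 1) := by
    simp only [← mul_assoc]
    rw [hQP, one_mul, mul_assoc, hQP, mul_one]
  rw [← this, h3, mul_zero, zero_mul]

def vec (n : ℕ) (f : ℕ → F) : Fin n → F := fun i => f i

theorem Jn_vec (f : ℕ → F) :
    (Jn F n).1 *ᵥ vec n f = vec n fun i => f i + if i = 0 then 0 else f (i - 1) := by
  ext i
  change ((1 + Nn F n 1) *ᵥ vec n f) i = _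
  rw [add_mulVec, one_mulVec, Pi.add_apply, Nn_mulVec]
  simp only [vec]
  split_ifs <;> first | rfl | omega

def e0 (F : Type*) [Field F] (n : ℕ) : Fin n → F := vec n fun i => if i = 0 then 1 else 0

theorem B_nat (k : ℕ) : A (Jn F n) (e0 F n) k = vec n fun i => (k.choose i : F) := by
  induction k with
  | zero =>
    rw [Nat.cast_zero, A_zero, e0]
    congr 1
    ext i
    cases i <;> simp
  | succ k ih =>
    rw [Nat.cast_succ, A_succ, ih, Jn_vec]
    congr 1
    ext i
    cases i with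
    | zero => simp
    | succ i => simp [Nat.choose_succ_succ, add_comm]

theorem A_pred {ι : Type*} [Fintype ι] [DecidableEq ι] {v : SpecialLinearGroup ι F} {a x : ι → F}
    {k : ℤ} (h : v.1 *ᵥ x = A v a (k + 1)) : A v a k = x := by
  have := congrArg ((v ^ (-1 : ℤ)).1 *ᵥ ·) h
  simp only [zp_A] at this
  rw [mulVec_mulVec] at this
  have e := zp_mul v (-1) 1
  rw [zpow_one, neg_add_cancel, zp_zero] at e
  rw [e, one_mulVec, add_neg_cancel_right] at this
  exact this.symm

theorem B_m1 : A (Jn F n) (e0 F n) (-1) = vec n fun i => (-1 : F) ^ i := by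
  refine A_pred ?_
  rw [neg_add_cancel, A_zero, Jn_vec, e0]
  congr 1
  ext i
  cases i with
  | zero => simp
  | succ i => simp [pow_succ]

theorem B_m2 : A (Jn F n) (e0 F n) (-2) = vec n fun i => (-1 : F) ^ i * (i + 1) := by
  refine A_pred ?_
  rw [show (-2 : ℤ) + 1 = -1 by ring, B_m1, Jn_vec]
  congr 1
  ext i
  cases i with
  | zero => simp
  | succ i => simp [pow_succ]; ring

theorem B_span0 (P : Submodule F (Fin n → F)) (h : ∀ k : ℕ, k < n → A (Jn F n) (e0 F n) k ∈ P) :
    P = ⊤ := by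
  have key : ∀ i k : ℕ, i + k < n → Nn F n 1 ^ i *ᵥ A (Jn F n) (e0 F n) k ∈ P := by
    intro i
    induction i with
    | zero => intro k hk; rw [pow_zero, one_mulVec]; exact h k (by omega)
    | succ i ih =>
      intro k hk
      have := P.sub_mem (ih (k + 1) (by omega)) (ih k (by omega))
      rw [Nat.cast_succ, A_succ, ← mulVec_sub] at this
      rw [pow_succ, ← mulVec_mulVec, ← Jn_sub, sub_mulVec, one_mulVec, Jn_sub]
      exact this
  rw [eq_top_iff]
  intro x _
  rw [pi_eq_sum_univ' x]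
  refine P.sum_mem fun i _ => P.smul_mem _ ?_
  have := key i 0 (by omega)
  rw [Nat.cast_zero, A_zero, Nn_pow] at this
  convert this using 1
  ext j
  rw [Nn_mulVec]
  simp only [e0, vec, Pi.single_apply, Fin.ext_iff]
  split_ifs <;> first | rfl | omega

theorem B_span (z : ℤ) (P : Submodule F (Fin n → F))
    (h : ∀ k : ℤ, z ≤ k → k < z + n → A (Jn F n) (e0 F n) k ∈ P) : P = ⊤ := by
  have := B_span0 (P.comap ((Jn F n ^ z).1.mulVecLin)) fun k hk => by
    rw [Submodule.mem_comap, mulVecLin_apply, zp_A]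
    exact h _ (by omega) (by omega)
  rw [eq_top_iff]
  intro x _
  have hx : (Jn F n ^ (-z)).1 *ᵥ x ∈ P.comap ((Jn F n ^ z).1.mulVecLin) := by rw [this]; trivial
  rwa [Submodule.mem_comap, mulVecLin_apply, mulVec_mulVec, zp_inv, one_mulVec] at hx

theorem dual_span (hn : 1 ≤ n) {ε : Fin n → F} (hε : ε ⟨n - 1, by omega⟩ ≠ 0)
    (P : Submodule F (Fin n → F)) (h : ε ∈ P) (hP : ∀ ψ ∈ P, ψ ᵥ* (Jn F n).1 ∈ P) : P = ⊤ := by
  have h1 : ∀ k : ℕ, ε ᵥ* Nn F n 1 ^ k ∈ P := by
    intro k
    induction k with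
    | zero => rwa [pow_zero, vecMul_one]
    | succ k ih =>
      rw [pow_succ, ← vecMul_vecMul]
      have := P.sub_mem (hP _ ih) ih
      rw [← Jn_sub, vecMul_sub, vecMul_one, Jn_sub]
      exact this
  have key : ∀ i : ℕ, i ≤ n → ∀ x : Fin n → F, (∀ j : Fin n, i ≤ j → x j = 0) → x ∈ P := by
    intro i
    induction i with
    | zero =>
      intro _ x hx
      have : x = 0 := funext fun j => hx j (Nat.zero_le _)
      rw [this]; exact P.zero_mem
    | succ i ih =>
      intro hi x hx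
      have h2 := h1 (n - 1 - i)
      rw [Nn_pow] at h2
      have h3 := ih (by omega) (x - (x ⟨i, by omega⟩ / ε ⟨n - 1, by omega⟩) • (ε ᵥ* Nn F n (n - 1 - i)))
        fun j hj => by
          rw [Pi.sub_apply, Pi.smul_apply, vecMul_Nn]
          by_cases hij : (j : ℕ) = i
          · have e : j = ⟨i, by omega⟩ := Fin.ext hij
            rw [dif_pos (by omega)]
            have e2 : (⟨j + (n - 1 - i), by omega⟩ : Fin n) = ⟨n - 1, by omega⟩ := by
              ext; simp; omega
            rw [e2, smul_eq_mul, div_mul_cancel₀ _ hε, e, sub_self]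
          · rw [dif_neg (by omega), hx j (by omega), smul_zero, sub_zero]
      have := P.add_mem h3 (P.smul_mem (x ⟨i, by omega⟩ / ε ⟨n - 1, by omega⟩) h2)
      rwa [sub_add_cancel] at this
  rw [eq_top_iff]
  intro x _
  exact key n le_rfl x fun j hj => absurd j.2 (by omega)

/-- the form `γ e_{n-2}^* + γ' e_{n-1}^*` -/
def eps (n : ℕ) (hn : 2 ≤ n) (γ γ' : F) : Fin n → F :=
  Pi.single ⟨n - 2, by omega⟩ γ + Pi.single ⟨n - 1, by omega⟩ γ'

theorem eps_vec (hn : 2 ≤ n) (γ γ' : F) (f : ℕ → F) :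
    eps n hn γ γ' ⬝ᵥ vec n f = γ * f (n - 2) + γ' * f (n - 1) := by
  rw [eps, add_dotProduct, single_dotProduct, single_dotProduct]; rfl

theorem eps_last (hn : 2 ≤ n) (γ γ' : F) : eps n hn γ γ' ⟨n - 1, by omega⟩ = γ' := by
  rw [eps, Pi.add_apply, Pi.single_eq_same, Pi.single_eq_of_ne, zero_add]
  simp; omega

end Cfsg.Agent.L0.RU
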