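import Cfsg.Agent.L0.RU3

/-! First transvections. -/

set_option autoImplicit false
set_option linter.unusedSectionVars false
set_option linter.unusedSimpArgs false
set_option linter.unnecessarySeqFocus false
set_option linter.unusedTactic false
set_option linter.unreachableTactic false

namespace Cfsg.Agent.L0.RU

open Matrix

variable {F : Type*} [Field F] {ι : Type*} [Fintype ι] [DecidableEq ι]
variable {G : Subgroup (SpecialLinearGroup ι F)} {v : SpecialLinearGroup ι F} {a φ : ι → F}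

theorem C3 {m t r : F} (h0 : c v a φ 0 = m - 1) (h1 : c v a φ 1 = 0) (h2 : c v a φ 2 = 0)
    (ht : c v a φ (-1) = t) (hr : c v a φ (-2) = r) :
    Bm v φ 3 * Am v a 3 = !![m - 1, 0, 0; t, m - 1, 0; r, t, m - 1] := by
  rw [Bm_Am]
  ext i j; fin_cases i <;> fin_cases j <;> simp [h0, h1, h2, ht, hr]

theorem RM_top {s : F} (h : RM G (Am v a 3) (Bm v φ 3) !![0, 0, 0; 0, 0, 0; s, 0, 0]) :
    R G (s • A v a 2) φ := by
  have e : (!![0, 0, 0; 0, 0, 0; s, 0, 0] : Matrix (Fin 3) (Fin 3) F) = single 2 0 s := by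
    ext i j; fin_cases i <;> fin_cases j <;> simp [single]
  unfold RM at h
  rw [e, rm_sing] at h
  have e2 : ((0 : Fin 3) : ℕ) = 0 := rfl
  rw [e2, Nat.cast_zero, Ph_zero] at h
  exact h

theorem homol (hv : v ∈ G) {m : F} (hm : m ≠ 0) (h0 : c v a φ 0 = m - 1) (h1 : c v a φ 1 = 0)
    (h2 : c v a φ 2 = 0) (hY : Y G v a φ 1 m⁻¹ 0) :
    R G ((c v a φ (-1) ^ 2) • A v a 2) φ ∨ m ≠ 1 := by
  by_cases hm1 : m = 1
  swap
  · exact Or.inr hm1
  left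
  subst hm1
  set t := c v a φ (-1) with ht
  set r := c v a φ (-2) with hr
  have hC := C3 h0 h1 h2 ht.symm hr.symm
  have y0 := RM_Y (r := 3) 0 1 rfl (Y_shift hv hY _) hC !![1, 0, 0; 0, (-1), 0; 0, 0, 0] (by ext i j; fin_cases i <;> fin_cases j <;> simp [Matrix.mul_apply, Fin.sum_univ_three, Fin.sum_univ_two, single] <;> field_simp <;> ring)
  have y1 := RM_Y (r := 3) 1 2 rfl (Y_shift hv hY _) hC !![0, 0, 0; 0, 1, 0; 0, 0, (-1)] (by ext i j; fin_cases i <;> fin_cases j <;> simp [Matrix.mul_apply, Fin.sum_univ_three, Fin.sum_univ_two, single] <;> field_simp <;> ring)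
  have y0i := y0.inv hC !![(-1), 0, 0; (-1)*t, 1, 0; 0, 0, 0] (by ext i j; fin_cases i <;> fin_cases j <;> simp [Matrix.mul_apply, Fin.sum_univ_three, Fin.sum_univ_two, single] <;> field_simp <;> ring)
  have y1i := y1.inv hC !![0, 0, 0; 0, (-1), 0; 0, (-1)*t, 1] (by ext i j; fin_cases i <;> fin_cases j <;> simp [Matrix.mul_apply, Fin.sum_univ_three, Fin.sum_univ_two, single] <;> field_simp <;> ring)
  have x_0 := y0.mul hC y1 !![1, 0, 0; 0, 0, 0; 0, 0, (-1)] (by ext i j; fin_cases i <;> fin_cases j <;> simp [Matrix.mul_apply, Fin.sum_univ_three, Fin.sum_univ_two, single] <;> field_simp <;> ring)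
  have x_1 := x_0.mul hC y0i !![0, 0, 0; (-1)*t, 1, 0; r + t^2, (-1)*t, (-1)] (by ext i j; fin_cases i <;> fin_cases j <;> simp [Matrix.mul_apply, Fin.sum_univ_three, Fin.sum_univ_two, single] <;> field_simp <;> ring)
  have x := x_1.mul hC y1i !![0, 0, 0; (-1)*t, 0, 0; r + t^2, (-1)*t, 0] (by ext i j; fin_cases i <;> fin_cases j <;> simp [Matrix.mul_apply, Fin.sum_univ_three, Fin.sum_univ_two, single] <;> field_simp <;> ring)
  have xi := x.inv hC !![0, 0, 0; t, 0, 0; (-1)*r + (-1)*t^2, t, 0] (by ext i j; fin_cases i <;> fin_cases j <;> simp [Matrix.mul_apply, Fin.sum_univ_three, Fin.sum_univ_two, single] <;> field_simp <;> ring)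
  have z_0 := y0.mul hC x !![1, 0, 0; (-1)*t, (-1), 0; r + t^2, (-1)*t, 0] (by ext i j; fin_cases i <;> fin_cases j <;> simp [Matrix.mul_apply, Fin.sum_univ_three, Fin.sum_univ_two, single] <;> field_simp <;> ring)
  have z_1 := z_0.mul hC y0i !![0, 0, 0; (-1)*t, 0, 0; r + (2)*t^2, (-1)*t, 0] (by ext i j; fin_cases i <;> fin_cases j <;> simp [Matrix.mul_apply, Fin.sum_univ_three, Fin.sum_univ_two, single] <;> field_simp <;> ring)
  have z := z_1.mul hC xi !![0, 0, 0; 0, 0, 0; t^2, 0, 0] (by ext i j; fin_cases i <;> fin_cases j <;> simp [Matrix.mul_apply, Fin.sum_univ_three, Fin.sum_univ_two, single] <;> field_simp <;> ring)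
  exact RM_top z

set_option maxHeartbeats 1600000 in
theorem homol2 (hv : v ∈ G) {m : F} (hm : m ≠ 0) (h0 : c v a φ 0 = m - 1) (h1 : c v a φ 1 = 0)
    (h2 : c v a φ 2 = 0) (hY : Y G v a φ 1 m⁻¹ 0) :
    R G ((c v a φ (-1) ^ 2 * m⁻¹ ^ 5 * (m - 1) * (1 - m ^ 3)) • A v a 2) φ ∧
    ((2 : F) = 0 → R G ((c v a φ (-1) ^ 2 * m⁻¹ ^ 3 * (m - 1)) • A v a 2) φ) := by
  set t := c v a φ (-1) with ht
  set r := c v a φ (-2) with hr
  have hC := C3 h0 h1 h2 ht.symm hr.symm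
  have y0 := RM_Y (r := 3) 0 1 rfl (Y_shift hv hY _) hC !![1, 0, 0; 0, (-1)*m⁻¹, 0; 0, 0, 0] (by ext i j; fin_cases i <;> fin_cases j <;> simp [Matrix.mul_apply, Fin.sum_univ_three, Fin.sum_univ_two, single] <;> field_simp <;> ring)
  have y1 := RM_Y (r := 3) 1 2 rfl (Y_shift hv hY _) hC !![0, 0, 0; 0, 1, 0; 0, 0, (-1)*m⁻¹] (by ext i j; fin_cases i <;> fin_cases j <;> simp [Matrix.mul_apply, Fin.sum_univ_three, Fin.sum_univ_two, single] <;> field_simp <;> ring)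
  have y0i := y0.inv hC !![(-1)*m⁻¹, 0, 0; (-1)*m⁻¹*t, 1, 0; 0, 0, 0] (by ext i j; fin_cases i <;> fin_cases j <;> simp [Matrix.mul_apply, Fin.sum_univ_three, Fin.sum_univ_two, single] <;> field_simp <;> ring)
  have y1i := y1.inv hC !![0, 0, 0; 0, (-1)*m⁻¹, 0; 0, (-1)*m⁻¹*t, 1] (by ext i j; fin_cases i <;> fin_cases j <;> simp [Matrix.mul_apply, Fin.sum_univ_three, Fin.sum_univ_two, single] <;> field_simp <;> ring)
  have x_0 := y0.mul hC y1 !![1, 0, 0; 0, 0, 0; 0, 0, (-1)*m⁻¹] (by ext i j; fin_cases i <;> fin_cases j <;> simp [Matrix.mul_apply, Fin.sum_univ_three, Fin.sum_univ_two, single] <;> field_simp <;> ring)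
  have x_1 := x_0.mul hC y0i !![0, 0, 0; (-1)*m⁻¹*t, 1, 0; m⁻¹^2*r + m⁻¹^2*t^2, (-1)*m⁻¹*t, (-1)*m⁻¹] (by ext i j; fin_cases i <;> fin_cases j <;> simp [Matrix.mul_apply, Fin.sum_univ_three, Fin.sum_univ_two, single] <;> field_simp <;> ring)
  have x := x_1.mul hC y1i !![0, 0, 0; (-1)*m⁻¹*t, 0, 0; m⁻¹^2*r + m⁻¹^2*t^2, (-1)*m⁻¹^2*t, 0] (by ext i j; fin_cases i <;> fin_cases j <;> simp [Matrix.mul_apply, Fin.sum_univ_three, Fin.sum_univ_two, single] <;> field_simp <;> ring)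
  have xi := x.inv hC !![0, 0, 0; m⁻¹*t, 0, 0; (-1)*m⁻¹^3*t^2 + (-1)*m⁻¹^2*r, m⁻¹^2*t, 0] (by ext i j; fin_cases i <;> fin_cases j <;> simp [Matrix.mul_apply, Fin.sum_univ_three, Fin.sum_univ_two, single] <;> field_simp <;> ring)
  have x2_0 := y0.mul hC x !![1, 0, 0; (-1)*m⁻¹^2*t, (-1)*m⁻¹, 0; m⁻¹^2*r + m⁻¹^2*t^2, (-1)*m⁻¹^2*t, 0] (by ext i j; fin_cases i <;> fin_cases j <;> simp [Matrix.mul_apply, Fin.sum_univ_three, Fin.sum_univ_two, single] <;> field_simp <;> ring)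
  have x2 := x2_0.mul hC y0i !![0, 0, 0; (-1)*m⁻¹^3*t, 0, 0; m⁻¹^3*r + m⁻¹^3*t^2 + m⁻¹^2*t^2, (-1)*m⁻¹*t, 0] (by ext i j; fin_cases i <;> fin_cases j <;> simp [Matrix.mul_apply, Fin.sum_univ_three, Fin.sum_univ_two, single] <;> field_simp <;> ring)
  have x2i := x2.inv hC !![0, 0, 0; m⁻¹^3*t, 0, 0; (-1)*m⁻¹^4*t^2 + (-1)*m⁻¹^3*r + (-1)*m⁻¹^2*t^2, m⁻¹*t, 0] (by ext i j; fin_cases i <;> fin_cases j <;> simp [Matrix.mul_apply, Fin.sum_univ_three, Fin.sum_univ_two, single] <;> field_simp <;> ring)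
  have z_0 := x.mul hC x2 !![0, 0, 0; (-1)*m⁻¹^3*t + (-1)*m⁻¹*t, 0, 0; (-1)*m⁻¹^5*t^2 + m⁻¹^4*t^2 + m⁻¹^3*r + m⁻¹^3*t^2 + m⁻¹^2*r + (2)*m⁻¹^2*t^2, (-1)*m⁻¹^2*t + (-1)*m⁻¹*t, 0] (by ext i j; fin_cases i <;> fin_cases j <;> simp [Matrix.mul_apply, Fin.sum_univ_three, Fin.sum_univ_two, single] <;> field_simp <;> ring)
  have z_1 := z_0.mul hC xi !![0, 0, 0; (-1)*m⁻¹^3*t, 0, 0; (-1)*m⁻¹^5*t^2 + m⁻¹^4*t^2 + m⁻¹^3*r + m⁻¹^3*t^2 + (2)*m⁻¹^2*t^2 + (-1)*m⁻¹*t^2, (-1)*m⁻¹*t, 0] (by ext i j; fin_cases i <;> fin_cases j <;> simp [Matrix.mul_apply, Fin.sum_univ_three, Fin.sum_univ_two, single] <;> field_simp <;> ring)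
  have z := z_1.mul hC x2i !![0, 0, 0; 0, 0, 0; (-1)*m⁻¹^5*t^2 + m⁻¹^4*t^2 + m⁻¹^2*t^2 + (-1)*m⁻¹*t^2, 0, 0] (by ext i j; fin_cases i <;> fin_cases j <;> simp [Matrix.mul_apply, Fin.sum_univ_three, Fin.sum_univ_two, single] <;> field_simp <;> ring)
  refine ⟨by convert RM_top z using 2; field_simp; ring, fun h => ?_⟩
  have xx := x.mul hC x !![0, 0, 0; (-1)*m⁻¹*t*2, 0, 0;
    t ^ 2 * m⁻¹ ^ 3 * (m - 1) + (m⁻¹^2*r + m⁻¹^2*t^2) * 2, (-1)*m⁻¹^2*t*2, 0] (by ext i j; fin_cases i <;> fin_cases j <;> simp [Matrix.mul_apply, Fin.sum_univ_three, Fin.sum_univ_two, single] <;> field_simp <;> ring)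
  rw [h] at xx
  simp only [mul_zero, add_zero] at xx
  exact RM_top xx

end Cfsg.Agent.L0.RU
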