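import Cfsg.Agent.L0.RU5

/-! `SL_3(q)`: general tools. -/

set_option autoImplicit false
set_option linter.unusedSectionVars false

namespace Cfsg.Agent.L0.RU

open Matrix

variable {F : Type*} [Field F]

def stab [Finite F] (K : AddSubgroup F) : Subfield F where
  carrier := {x | ∀ s ∈ K, s * x ∈ K}
  mul_mem' := fun ha hb s hs => by rw [← mul_assoc]; exact hb _ (ha _ hs)
  one_mem' := fun s hs => by rwa [mul_one]
  add_mem' := fun ha hb s hs => by rw [mul_add]; exact K.add_mem (ha _ hs) (hb _ hs)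
  zero_mem' := fun s _ => by rw [mul_zero]; exact K.zero_mem
  neg_mem' := fun ha s hs => by rw [mul_neg]; exact K.neg_mem (ha _ hs)
  inv_mem' := by
    intro x hx s hs
    by_cases h0 : x = 0
    · rw [h0, _root_.inv_zero, mul_zero]; exact K.zero_mem
    have h1 : ∀ k : ℕ, s * x ^ k ∈ K := by
      intro k
      induction k with
      | zero => simpa using hs
      | succ k ih => rw [pow_succ, ← mul_assoc]; exact hx _ ih
    cases nonempty_fintype F
    have h2 := FiniteField.pow_card_sub_one_eq_one x h0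
    have h3 : 2 ≤ Fintype.card F := Fintype.one_lt_card
    have : x⁻¹ = x ^ (Fintype.card F - 2) := by
      refine inv_eq_of_mul_eq_one_right ?_
      rw [← pow_succ', ← h2]; congr 1; omega
    rw [this]; exact h1 _

theorem mem_stab [Finite F] {K : AddSubgroup F} {x : F} : x ∈ stab K ↔ ∀ s ∈ K, s * x ∈ K := Iff.rfl

theorem full_of_stab [Finite F] {K : AddSubgroup F} (h : stab K = ⊤) {s : F} (hs : s ∈ K) (h0 : s ≠ 0)
    (x : F) : x ∈ K := by
  have : x / s ∈ stab K := by rw [h]; trivial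
  have := this s hs
  rwa [mul_div_cancel₀ _ h0] at this

theorem subfield_top [Fintype F] (E : Subfield F) {l : Fˣ} (hl : ∀ x, x ∈ Submonoid.powers l)
    {k : ℕ} (hk : 0 < k) (h : (l : F) ^ k ∈ E) (hq : (k - 1) ^ 2 < Fintype.card F) : E = ⊤ := by
  classical
  by_contra hE
  have hord : orderOf l = Fintype.card F - 1 := by
    rw [← Fintype.card_units, ← Nat.card_eq_fintype_card]
    exact orderOf_eq_card_of_forall_mem_powers hl
  have h1 := Module.card_eq_pow_finrank (K := E) (V := F)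
  have hd : 2 ≤ Module.finrank E F := by
    by_contra hd
    have h0 : 0 < Module.finrank E F := Module.finrank_pos
    have : Module.finrank E F = 1 := by omega
    rw [this, pow_one] at h1
    apply hE
    have := Finset.card_eq_iff_eq_univ (Finset.univ.filter (· ∈ E))
    rw [eq_top_iff]
    intro x _
    have h2 : (Finset.univ.filter (· ∈ E)).card = Fintype.card F := by
      rw [h1, Fintype.card_subtype]
    have := this.1 h2
    have hx : x ∈ Finset.univ.filter (· ∈ E) := by rw [this]; exact Finset.mem_univ _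
    exact (Finset.mem_filter.1 hx).2
  set r := Fintype.card E with hr
  have hr2 : 2 ≤ r := Fintype.one_lt_card
  have h3 := FiniteField.pow_card_sub_one_eq_one (⟨_, h⟩ : E) (by
    intro h0; exact pow_ne_zero k l.ne_zero (congrArg Subtype.val h0))
  have h4 : l ^ (k * (r - 1)) = 1 := by
    ext
    have := congrArg Subtype.val h3
    rw [Units.val_pow_eq_pow_val, pow_mul]
    simpa using this
  have h5 := Nat.le_of_dvd (Nat.mul_pos hk (by omega)) (orderOf_dvd_of_pow_eq_one h4)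
  rw [hord] at h5
  have h6 : r ^ 2 ≤ Fintype.card F := by rw [h1]; exact Nat.pow_le_pow_right (by omega) hd
  obtain ⟨r', hr'⟩ : ∃ r', r = r' + 2 := ⟨r - 2, by omega⟩
  obtain ⟨k', rfl⟩ : ∃ k', k = k' + 1 := ⟨k - 1, by omega⟩
  rw [hr'] at h5 h6
  simp only [Nat.add_sub_cancel, show r' + 2 - 1 = r' + 1 by omega] at h5 hq
  have h7 : Fintype.card F ≤ (k' + 1) * (r' + 1) + 1 := by omega
  have h8 : r' + 2 ≤ k' := by nlinarith
  nlinarith

theorem subfield_prime [Fintype F] (hp : (Fintype.card F).Prime) (E : Subfield F) : E = ⊤ := by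
  rw [eq_top_iff]
  intro x _
  obtain ⟨k, rfl⟩ := nat_of_prime hp x
  exact natCast_mem E k

section Gen
variable {ι : Type*} [Fintype ι] [DecidableEq ι]
variable {G : Subgroup (SpecialLinearGroup ι F)} {v : SpecialLinearGroup ι F} {a φ : ι → F}

def SK (G : Subgroup (SpecialLinearGroup ι F)) (x φ : ι → F) (hx : φ ⬝ᵥ x = 0) : AddSubgroup F where
  carrier := {s | R G (s • x) φ}
  zero_mem' := by change R G _ _; rw [zero_smul]; exact R.zero_left _
  add_mem' := fun {s t} hs ht => by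
    change R G _ _; rw [add_smul]; exact R.add_left hs ht (by rw [dotProduct_smul, hx, smul_zero])
  neg_mem' := fun {s} hs => by
    change R G _ _; rw [neg_smul]; exact R.neg hs (by rw [dotProduct_smul, hx, smul_zero])

theorem exists_g' {l ρ : F} (hρ : ρ ≠ 0) (h0 : 1 + l * c v a φ 0 = ρ ^ Fintype.card ι) :
    ∃ g : SpecialLinearGroup ι F, ∀ G : Subgroup (SpecialLinearGroup ι F), v ∈ G → g * v * g⁻¹ ∈ G →
      Y G v a φ l (ρ ^ Fintype.card ι)⁻¹ 0 := by
  have hν : (ρ ^ Fintype.card ι)⁻¹ * (1 + l * c v a φ 0) = 1 := by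
    rw [h0, inv_mul_cancel₀ (pow_ne_zero _ hρ)]
  have hd : (ρ⁻¹ • gg v a φ l 0).det = 1 := by
    rw [det_smul, det_gg, inv_pow, hν]
  refine ⟨⟨ρ⁻¹ • gg v a φ l 0, hd⟩, fun G hv h => Y_of hv ⟨_, h, ?_⟩⟩
  have := inv_val (g := ⟨ρ⁻¹ • gg v a φ l 0, hd⟩)
    (N := ρ • gg v a φ (-(l * (ρ ^ Fintype.card ι)⁻¹)) 0) (by
      change ρ⁻¹ • _ * _ = _
      rw [smul_mul_smul_comm, inv_mul_cancel₀ hρ, one_smul, gg_mul hν])
  change (ρ⁻¹ • gg v a φ l 0) * v.1 * (_ : SpecialLinearGroup ι F).1 = _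
  rw [this, smul_mul_assoc, smul_mul_smul_comm, inv_mul_cancel₀ hρ, one_smul]

theorem Ph_gg (l : F) (i j : ℤ) :
    Ph v φ i ᵥ* gg v a φ l j = Ph v φ i + (l * c v a φ (j - i)) • Ph v φ j := by
  rw [gg, vecMul_tv, dotProduct_smul, Ph_A, smul_eq_mul]

theorem A_add (x y : ι → F) (k : ℤ) : A v (x + y) k = A v x k + A v y k := mulVec_add _ _ _
theorem A_smul (s : F) (x : ι → F) (k : ℤ) : A v (s • x) k = s • A v x k := mulVec_smul _ _ _

theorem C2 : Bm v φ 2 * Am v a 2 = !![c v a φ 0, c v a φ 1; c v a φ (-1), c v a φ 0] := by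
  rw [Bm_Am]
  ext i j; fin_cases i <;> fin_cases j <;> simp

theorem RM2 {x0 x1 y0 y1 : F} {M : Matrix (Fin 2) (Fin 2) F} (h : RM G (Am v a 2) (Bm v φ 2) M)
    (e : M = !![x0 * y0, x0 * y1; x1 * y0, x1 * y1]) :
    R G (x0 • a + x1 • A v a 1) (y0 • φ + y1 • Ph v φ 1) := by
  have e1 : M = vecMulVec ![x0, x1] ![y0, y1] := by
    rw [e]; ext i j; fin_cases i <;> fin_cases j <;> simp [vecMulVec]
  unfold RM at h
  rw [e1, mul_vecMulVec, vecMulVec_mul] at h
  have e2 : x0 • a + x1 • A v a 1 = Am v a 2 *ᵥ ![x0, x1] := by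
    ext i; simp [Am, mulVec, dotProduct, A_zero, mul_comm]
  have e3 : y0 • φ + y1 • Ph v φ 1 = ![y0, y1] ᵥ* Bm v φ 2 := by
    ext i; simp [Bm, vecMul, dotProduct, Ph_zero]
  rw [e2, e3]; exact h

end Gen

theorem col_span {n : ℕ} (hn : 1 ≤ n) {x : Fin n → F} (hx : x ⟨0, by omega⟩ ≠ 0) (z : ℤ)
    (P : Submodule F (Fin n → F)) (h : ∀ k : ℤ, z ≤ k → k < z + n → A (Jn F n) x k ∈ P) : P = ⊤ := by
  suffices H : ∀ P : Submodule F (Fin n → F), (∀ k : ℕ, k < n → A (Jn F n) x k ∈ P) → P = ⊤ by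
    have := H (P.comap ((Jn F n ^ z).1.mulVecLin)) fun k hk => by
      rw [Submodule.mem_comap, mulVecLin_apply, zp_A]
      exact h _ (by omega) (by omega)
    rw [eq_top_iff]
    intro y _
    have hy : (Jn F n ^ (-z)).1 *ᵥ y ∈ P.comap ((Jn F n ^ z).1.mulVecLin) := by rw [this]; trivial
    rwa [Submodule.mem_comap, mulVecLin_apply, mulVec_mulVec, zp_inv, one_mulVec] at hy
  intro P h
  have key : ∀ i k : ℕ, i + k < n → Nn F n 1 ^ i *ᵥ A (Jn F n) x k ∈ P := by
    intro i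
    induction i with
    | zero => intro k hk; rw [pow_zero, one_mulVec]; exact h k (by omega)
    | succ i ih =>
      intro k hk
      have := P.sub_mem (ih (k + 1) (by omega)) (ih k (by omega))
      rw [Nat.cast_succ, A_succ, ← mulVec_sub] at this
      rw [pow_succ, ← mulVec_mulVec, ← Jn_sub, sub_mulVec, one_mulVec, Jn_sub]
      exact this
  have key2 : ∀ i : ℕ, i ≤ n → ∀ y : Fin n → F, (∀ j : Fin n, j + i < n → y j = 0) → y ∈ P := by
    intro i
    induction i with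
    | zero =>
      intro _ y hy
      have : y = 0 := funext fun j => hy j (by omega)
      rw [this]; exact P.zero_mem
    | succ i ih =>
      intro hi y hy
      have h2 := key (n - 1 - i) 0 (by omega)
      rw [Nn_pow, Nat.cast_zero, A_zero] at h2
      have h3 := ih (by omega) (y - (y ⟨n - 1 - i, by omega⟩ / x ⟨0, by omega⟩) • (Nn F n (n - 1 - i) *ᵥ x))
        fun j hj => by
          rw [Pi.sub_apply, Pi.smul_apply, Nn_mulVec]
          by_cases hij : (j : ℕ) = n - 1 - i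
          · have e : j = ⟨n - 1 - i, by omega⟩ := Fin.ext hij
            rw [dif_pos (by omega)]
            have e2 : (⟨j - (n - 1 - i), by omega⟩ : Fin n) = ⟨0, by omega⟩ := by
              ext; simp; omega
            rw [e2, smul_eq_mul, div_mul_cancel₀ _ hx, e, sub_self]
          · rw [dif_neg (by omega), hy j (by omega), smul_zero, sub_zero]
      have := P.add_mem h3 (P.smul_mem (y ⟨n - 1 - i, by omega⟩ / x ⟨0, by omega⟩) h2)
      rwa [sub_add_cancel] at this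
  rw [eq_top_iff]
  intro y _
  exact key2 n le_rfl y fun j hj => absurd hj (by omega)

theorem fin3 {G : Subgroup (SpecialLinearGroup (Fin 3) F)} (hv : Jn F 3 ∈ G) {a φ : Fin 3 → F}
    (h0 : c (Jn F 3) a φ 0 = 0) (h1 : c (Jn F 3) a φ 1 = 0) (hm : c (Jn F 3) a φ (-1) ≠ 0)
    (h2 : c (Jn F 3) a φ 2 ≠ 0) (ha : a 0 ≠ 0) (hφ : φ 2 ≠ 0) (hK : ∀ s : F, R G (s • a) φ) :
    G = ⊤ := by
  have hK' : ∀ s : F, R G (s • A (Jn F 3) a 0) φ := by rw [A_zero]; exact hK
  refine win (a := a) (φ := φ) hv 0 2 le_rfl (fun k hk1 hk2 => ?_) h2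
    (fun P hP => col_span (by omega) ha (-1) P fun k h1 h2 => hP k (by omega) (by omega))
    (fun P => dual_span (n := 3) (by omega) hφ P)
  have : k = 0 ∨ k = 1 := by omega
  rcases this with rfl | rfl
  · exact ⟨h0, hK'⟩
  · refine ⟨h1, fun s => ?_⟩
    have := S_comm hv 1 (hK' (s / c (Jn F 3) a φ (-1))) (hK' 1) h0 h0 h1
    rw [mul_one, zero_sub, div_mul_cancel₀ _ hm] at this
    exact this

theorem J3 : (Jn F 3).1 = !![1, 0, 0; 1, 1, 0; 0, 1, 1] := by
  ext i j; fin_cases i <;> fin_cases j <;> simp [Jn, Nn]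

theorem A3_succ {x : Fin 3 → F} {k : ℤ} {p q r : F} (h : A (Jn F 3) x k = ![p, q, r]) :
    A (Jn F 3) x (k + 1) = ![p, p + q, q + r] := by
  rw [A_succ, h, J3]
  ext i; fin_cases i <;> simp [mulVec, dotProduct, Fin.sum_univ_three]

theorem A3_pred {x : Fin 3 → F} {k : ℤ} {p q r : F} (h : A (Jn F 3) x (k + 1) = ![p, q, r]) :
    A (Jn F 3) x k = ![p, q - p, r - q + p] := by
  refine A_pred ?_
  rw [h, J3]
  ext i; fin_cases i <;> simp [mulVec, dotProduct, Fin.sum_univ_three]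

theorem c3 (g0 g1 g2 : F) :
    c (Jn F 3) ![1, 0, 0] ![g0, g1, g2] 0 = g0 ∧ c (Jn F 3) ![1, 0, 0] ![g0, g1, g2] 1 = g0 + g1 ∧
    c (Jn F 3) ![1, 0, 0] ![g0, g1, g2] 2 = g0 + 2 * g1 + g2 ∧
    c (Jn F 3) ![1, 0, 0] ![g0, g1, g2] 3 = g0 + 3 * g1 + 3 * g2 ∧
    c (Jn F 3) ![1, 0, 0] ![g0, g1, g2] 4 = g0 + 4 * g1 + 6 * g2 ∧
    c (Jn F 3) ![1, 0, 0] ![g0, g1, g2] (-1) = g0 - g1 + g2 ∧
    c (Jn F 3) ![1, 0, 0] ![g0, g1, g2] (-2) = g0 - 2 * g1 + 3 * g2 := by
  have e0 : A (Jn F 3) ![1, 0, 0] 0 = ![1, 0, 0] := A_zero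
  have e1 := A3_succ e0
  have e2 := A3_succ e1
  have e3 := A3_succ e2
  have e4 := A3_succ e3
  have em1 := A3_pred (k := -1) e0
  have em2 := A3_pred (k := -2) em1
  norm_num at e1 e2 e3 e4 em1 em2
  simp only [c, e0, e1, e2, e3, e4, em1, em2, dotProduct, Fin.sum_univ_three]
  simp
  refine ⟨?_, ?_, ?_, ?_, ?_⟩ <;> ring

end Cfsg.Agent.L0.RU
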