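import Cfsg.Agent.L0.RU6

/-! `SL_3(q)` is generated by two conjugate regular unipotent elements. -/

set_option autoImplicit false
set_option linter.unusedSectionVars false
set_option linter.unusedSimpArgs false
set_option linter.unnecessarySeqFocus false
set_option linter.unusedTactic false
set_option linter.unreachableTactic false

namespace Cfsg.Agent.L0.RU

open Matrix

variable {F : Type*} [Field F]

theorem cube_top [Fintype F] (hq : Fintype.card F ≠ 4) {l : Fˣ} (hl : ∀ x, x ∈ Submonoid.powers l)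
    (E : Subfield F) (h : (l : F) ^ 3 ∈ E) : E = ⊤ := by
  by_cases h4 : 4 < Fintype.card F
  · exact subfield_top E hl (by norm_num) h h4
  · have := Fintype.one_lt_card (α := F)
    have : Fintype.card F = 2 ∨ Fintype.card F = 3 := by omega
    rcases this with h | h <;> exact subfield_prime (by rw [h]; norm_num) E

theorem sl3_even [Fintype F] (h2 : (2 : F) = 0) (hq : Fintype.card F ≠ 4) :
    ∃ g : SpecialLinearGroup (Fin 3) F, Subgroup.closure {Jn F 3, g * Jn F 3 * g⁻¹} = ⊤ := by
  obtain ⟨l, hl⟩ := exists_gen (F := F)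
  obtain ⟨c0, c1, c2, -, -, cm, -⟩ := c3 (0 : F) 0 l
  simp only [add_zero, mul_zero, zero_add, sub_zero] at c1 c2 cm
  obtain ⟨g, hg⟩ := exists_g 1 c0
  refine ⟨g, ?_⟩
  set G := Subgroup.closure {Jn F 3, g * Jn F 3 * g⁻¹}
  have hv : Jn F 3 ∈ G := Subgroup.subset_closure (by simp)
  have hY := hg _ hv (Subgroup.subset_closure (by simp))
  have hC := C2 (v := Jn F 3) (a := ![1, 0, 0]) (φ := ![0, 0, (l : F)])
  rw [c0, c1, cm] at hC
  have y0 := RM_Y (r := 2) 0 1 rfl hY hC !![1, 0; 0, -1] (by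
    ext i j; fin_cases i <;> fin_cases j <;> simp [Matrix.mul_apply, Fin.sum_univ_two, single])
  have yy := y0.mul hC y0 !![2, 0; -l, -2] (by
    ext i j; fin_cases i <;> fin_cases j <;> simp [Matrix.mul_apply, Fin.sum_univ_two] <;> ring)
  have h1 := RM2 (x0 := 0) (x1 := 1) (y0 := -(l : F)) (y1 := 0) yy (by rw [h2]; simp)
  rw [zero_smul, zero_add, one_smul, zero_smul, add_zero, ← R.smul_iff] at h1
  have hν : (1 : F) * (1 + 1 * c (Jn F 3) ![1, 0, 0] ![0, 0, (l : F)] 0) = 1 := by rw [c0]; ring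
  have h0 : ![0, 0, (l : F)] ⬝ᵥ A (Jn F 3) ![1, 0, 0] 0 = 0 := c0
  have h3 : ∀ s : F, R G (s • A (Jn F 3) ![1, 0, 0] 1) ![0, 0, (l : F)] →
      s * (-(l : F)) * (l : F) ∈ SK G _ _ h0 := fun s hs => by
    have := S_comm hv (-1) hs h1 c1 c1 (by rw [add_neg_cancel]; exact c0)
    rwa [show (1 : ℤ) - -1 = 2 by ring, c2, add_neg_cancel] at this
  have h4 : stab (SK G _ _ h0) = ⊤ := by
    refine cube_top hq hl _ fun s hs => ?_
    have := step hν hY c0 c1 c1 hs (by rw [c0, mul_zero, add_zero, mul_one]; exact hs)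
    have := (SK G _ _ h0).neg_mem (h3 _ this)
    convert this using 1
    rw [cm]; ring
  refine fin3 hv c0 c1 (by rw [cm]; exact l.ne_zero) (by rw [c2]; exact l.ne_zero) (by simp)
    (by simp) fun s => ?_
  have := full_of_stab h4 (h3 _ h1) (by simp) s
  rw [← A_zero (v := Jn F 3) (a := ![1, 0, 0])]
  exact this

theorem c3g (a0 a1 a2 f0 f1 f2 : F) :
    c (Jn F 3) ![a0, a1, a2] ![f0, f1, f2] 0 = f0 * a0 + f1 * a1 + f2 * a2 ∧
    c (Jn F 3) ![a0, a1, a2] ![f0, f1, f2] 1 = f0 * a0 + f1 * (a0 + a1) + f2 * (a1 + a2) ∧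
    c (Jn F 3) ![a0, a1, a2] ![f0, f1, f2] 2 =
      f0 * a0 + f1 * (2 * a0 + a1) + f2 * (a0 + 2 * a1 + a2) ∧
    c (Jn F 3) ![a0, a1, a2] ![f0, f1, f2] (-1) = f0 * a0 + f1 * (a1 - a0) + f2 * (a2 - a1 + a0) := by
  have e0 : A (Jn F 3) ![a0, a1, a2] 0 = ![a0, a1, a2] := A_zero
  have e1 := A3_succ e0
  have e2 := A3_succ e1
  have em1 := A3_pred (k := -1) e0
  rw [zero_add] at e1
  rw [show (0 : ℤ) + 1 + 1 = 2 by ring] at e2
  simp only [c, e0, e1, e2, em1, dotProduct, Fin.sum_univ_three]
  simp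
  ring

theorem m3_ext {a b c d e f g h i a' b' c' d' e' f' g' h' i' : F} (h1 : a = a') (h2 : b = b')
    (h3 : c = c') (h4 : d = d') (h5 : e = e') (h6 : f = f') (h7 : g = g') (h8 : h = h')
    (h9 : i = i') : !![a, b, c; d, e, f; g, h, i] = !![a', b', c'; d', e', f'; g', h', i'] := by
  subst_vars; rfl

theorem InG.mul' {G : Subgroup (SpecialLinearGroup (Fin 3) F)} {M N P : Matrix (Fin 3) (Fin 3) F}
    (h : InG G M) (h' : InG G N) (e : M * N = P) : InG G P := e ▸ h.mul h'

theorem tv3 (s a0 a1 a2 f0 f1 f2 : F) : 1 + vecMulVec (s • ![a0, a1, a2]) ![f0, f1, f2] =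
    !![1 + s * a0 * f0, s * a0 * f1, s * a0 * f2; s * a1 * f0, 1 + s * a1 * f1, s * a1 * f2;
      s * a2 * f0, s * a2 * f1, 1 + s * a2 * f2] := by
  ext i j; fin_cases i <;> fin_cases j <;> simp [vecMulVec]

theorem sl3_three [Fintype F] (hq : Fintype.card F = 3) :
    ∃ g : SpecialLinearGroup (Fin 3) F, Subgroup.closure {Jn F 3, g * Jn F 3 * g⁻¹} = ⊤ := by
  have h3 : (3 : F) = 0 := by
    have := FiniteField.cast_card_eq_zero F; rw [hq] at this; exact_mod_cast this
  let g : SpecialLinearGroup (Fin 3) F := ⟨!![0, 0, -1; -1, 0, 0; 1, 1, 0], by simp [det_fin_three]⟩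
  have gi : (g⁻¹).1 = !![0, -1, 0; 0, 1, 1; -1, 0, 0] := inv_val (by
    change !![0, 0, -1; -1, 0, 0; 1, 1, 0] * _ = _
    rw [Matrix.mul_fin_three, one_fin_three]; simp)
  refine ⟨g, ?_⟩
  set G := Subgroup.closure {Jn F 3, g * Jn F 3 * g⁻¹}
  have hv : Jn F 3 ∈ G := Subgroup.subset_closure (by simp)
  have v : InG G !![1, 0, 0; 1, 1, 0; 0, 1, 1] := ⟨_, hv, J3⟩
  have u : InG G !![1, -1, -1; 0, 1, 0; 0, -1, 1] :=
    ⟨g * Jn F 3 * g⁻¹, Subgroup.subset_closure (by simp), by
      change !![0, 0, -1; -1, 0, 0; 1, 1, 0] * (Jn F 3).1 * (g⁻¹).1 = _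
      rw [gi, J3, Matrix.mul_fin_three, Matrix.mul_fin_three]
      exact m3_ext (by ring) (by ring) (by ring) (by ring) (by ring) (by ring) (by ring) (by ring)
        (by ring)⟩
  have vu : InG G !![1, -1, -1; 1, 0, -1; 0, 0, 1] := v.mul' u (by
    rw [Matrix.mul_fin_three]
    exact m3_ext (by ring) (by ring) (by ring) (by ring) (by ring) (by ring) (by ring) (by ring)
        (by ring))
  have T : R G ((1 : F) • ![-1, 1, 0]) ![1, 1, 1] := by
    unfold R
    rw [tv3]
    refine vu.mul' vu ?_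
    rw [Matrix.mul_fin_three]
    exact m3_ext (by ring) (by ring) (by ring) (by ring) (by linear_combination -h3)
      (by linear_combination -h3) (by ring) (by ring) (by ring)
  obtain ⟨c0, c1, c2, cm⟩ := c3g (-1 : F) 1 0 1 1 1
  refine fin3 hv (a := ![-1, 1, 0]) (φ := ![1, 1, 1]) (by rw [c0]; ring) (by rw [c1]; ring)
    (by rw [cm]; norm_num) (by rw [c2]; norm_num) (by simp) (by simp) fun s => ?_
  obtain ⟨k, rfl⟩ := nat_of_prime (by rw [hq]; norm_num) s
  rw [one_smul] at T
  exact R_nat (by simp [dotProduct, Fin.sum_univ_three]) T k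

theorem sl3_four [Fintype F] (hq : Fintype.card F = 4) :
    ∃ g : SpecialLinearGroup (Fin 3) F, Subgroup.closure {Jn F 3, g * Jn F 3 * g⁻¹} = ⊤ := by
  classical
  have h2 : (2 : F) = 0 := by
    have := FiniteField.cast_card_eq_zero F
    rw [hq] at this
    have : (2 : F) * 2 = 0 := by rw [← this]; norm_num
    exact (mul_eq_zero.1 this).elim id id
  obtain ⟨w, -, hw0⟩ := Finset.exists_mem_notMem_of_card_lt_card
    (s := ({0, 1} : Finset F)) (t := Finset.univ)
    (lt_of_le_of_lt Finset.card_le_two (by rw [Finset.card_univ]; omega))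
  simp only [Finset.mem_insert, Finset.mem_singleton, not_or] at hw0
  have hw : w ^ 2 = w + 1 := by
    have h4 := FiniteField.pow_card w
    rw [hq] at h4
    have : w * (w - 1) * (w ^ 2 + w + 1) = 0 := by linear_combination h4
    have h5 := (mul_eq_zero.1 this).resolve_left (mul_ne_zero hw0.1 (sub_ne_zero.2 hw0.2))
    linear_combination h5 - (w + 1) * h2
  have gg1 : (!![1, 1, w; 0, 1, 0; 0, 0, 1] : Matrix (Fin 3) (Fin 3) F) * !![1, 1, w; 0, 1, 0; 0, 0, 1] = !![1, 0, 0; 0, 1, 0; 0, 0, 1] := (by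
      rw [Matrix.mul_fin_three]
      exact m3_ext (by linear_combination 0 * hw + (0 + 0 * w) * h2) (by linear_combination 0 * hw + (1 + 0 * w) * h2) (by linear_combination 0 * hw + (0 + 1 * w) * h2) (by linear_combination 0 * hw + (0 + 0 * w) * h2) (by linear_combination 0 * hw + (0 + 0 * w) * h2) (by linear_combination 0 * hw + (0 + 0 * w) * h2) (by linear_combination 0 * hw + (0 + 0 * w) * h2) (by linear_combination 0 * hw + (0 + 0 * w) * h2) (by linear_combination 0 * hw + (0 + 0 * w) * h2))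
  have gJ : (!![1, 1, w; 0, 1, 0; 0, 0, 1] : Matrix (Fin 3) (Fin 3) F) * !![1, 0, 0; 1, 1, 0; 0, 1, 1] = !![0, w + 1, w; 1, 1, 0; 0, 1, 1] := (by
      rw [Matrix.mul_fin_three]
      exact m3_ext (by linear_combination 0 * hw + (1 + 0 * w) * h2) (by linear_combination 0 * hw + (0 + 0 * w) * h2) (by linear_combination 0 * hw + (0 + 0 * w) * h2) (by linear_combination 0 * hw + (0 + 0 * w) * h2) (by linear_combination 0 * hw + (0 + 0 * w) * h2) (by linear_combination 0 * hw + (0 + 0 * w) * h2) (by linear_combination 0 * hw + (0 + 0 * w) * h2) (by linear_combination 0 * hw + (0 + 0 * w) * h2) (by linear_combination 0 * hw + (0 + 0 * w) * h2))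
  have gJg : (!![0, w + 1, w; 1, 1, 0; 0, 1, 1] : Matrix (Fin 3) (Fin 3) F) * !![1, 1, w; 0, 1, 0; 0, 0, 1] = !![0, w + 1, w; 1, 0, w; 0, 1, 1] := (by
      rw [Matrix.mul_fin_three]
      exact m3_ext (by linear_combination 0 * hw + (0 + 0 * w) * h2) (by linear_combination 0 * hw + (0 + 0 * w) * h2) (by linear_combination 0 * hw + (0 + 0 * w) * h2) (by linear_combination 0 * hw + (0 + 0 * w) * h2) (by linear_combination 0 * hw + (1 + 0 * w) * h2) (by linear_combination 0 * hw + (0 + 0 * w) * h2) (by linear_combination 0 * hw + (0 + 0 * w) * h2) (by linear_combination 0 * hw + (0 + 0 * w) * h2) (by linear_combination 0 * hw + (0 + 0 * w) * h2))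
  let g : SpecialLinearGroup (Fin 3) F := ⟨!![1, 1, w; 0, 1, 0; 0, 0, 1], by simp [det_fin_three]⟩
  have gi : (g⁻¹).1 = !![1, 1, w; 0, 1, 0; 0, 0, 1] := inv_val (gg1.trans one_fin_three.symm)
  refine ⟨g, ?_⟩
  set G := Subgroup.closure {Jn F 3, g * Jn F 3 * g⁻¹}
  have hv : Jn F 3 ∈ G := Subgroup.subset_closure (by simp)
  have v : InG G !![1, 0, 0; 1, 1, 0; 0, 1, 1] := ⟨_, hv, J3⟩
  have u : InG G !![0, w + 1, w; 1, 0, w; 0, 1, 1] :=
    ⟨g * Jn F 3 * g⁻¹, Subgroup.subset_closure (by simp), by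
      change !![1, 1, w; 0, 1, 0; 0, 0, 1] * (Jn F 3).1 * (g⁻¹).1 = _
      rw [gi, J3, gJ, gJg]⟩
  have uv : InG G !![w + 1, 1, w; 1, w, w; 1, 0, 1] := u.mul' v (by
      rw [Matrix.mul_fin_three]
      exact m3_ext (by linear_combination 0 * hw + (0 + 0 * w) * h2) (by linear_combination 0 * hw + (0 + 1 * w) * h2) (by linear_combination 0 * hw + (0 + 0 * w) * h2) (by linear_combination 0 * hw + (0 + 0 * w) * h2) (by linear_combination 0 * hw + (0 + 0 * w) * h2) (by linear_combination 0 * hw + (0 + 0 * w) * h2) (by linear_combination 0 * hw + (0 + 0 * w) * h2) (by linear_combination 0 * hw + (1 + 0 * w) * h2) (by linear_combination 0 * hw + (0 + 0 * w) * h2))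
  have vu : InG G !![0, w + 1, w; 1, w + 1, 0; 1, 1, w + 1] := v.mul' u (by
      rw [Matrix.mul_fin_three]
      exact m3_ext (by linear_combination 0 * hw + (0 + 0 * w) * h2) (by linear_combination 0 * hw + (0 + 0 * w) * h2) (by linear_combination 0 * hw + (0 + 0 * w) * h2) (by linear_combination 0 * hw + (0 + 0 * w) * h2) (by linear_combination 0 * hw + (0 + 0 * w) * h2) (by linear_combination 0 * hw + (0 + 1 * w) * h2) (by linear_combination 0 * hw + (0 + 0 * w) * h2) (by linear_combination 0 * hw + (0 + 0 * w) * h2) (by linear_combination 0 * hw + (0 + 0 * w) * h2))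
  have X : InG G !![w + 1, w + 1, 0; 0, 0, w + 1; 1, w, 1] := uv.mul' vu (by
      rw [Matrix.mul_fin_three]
      exact m3_ext (by linear_combination 0 * hw + (0 + 0 * w) * h2) (by linear_combination 1 * hw + (1 + 2 * w) * h2) (by linear_combination 2 * hw + (1 + 2 * w) * h2) (by linear_combination 0 * hw + (0 + 1 * w) * h2) (by linear_combination 1 * hw + (1 + 2 * w) * h2) (by linear_combination 1 * hw + (0 + 1 * w) * h2) (by linear_combination 0 * hw + (0 + 0 * w) * h2) (by linear_combination 0 * hw + (1 + 0 * w) * h2) (by linear_combination 0 * hw + (0 + 1 * w) * h2))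
  have Xv : InG G !![0, w + 1, 0; 0, w + 1, w + 1; w + 1, w + 1, 1] := X.mul' v (by
      rw [Matrix.mul_fin_three]
      exact m3_ext (by linear_combination 0 * hw + (1 + 1 * w) * h2) (by linear_combination 0 * hw + (0 + 0 * w) * h2) (by linear_combination 0 * hw + (0 + 0 * w) * h2) (by linear_combination 0 * hw + (0 + 0 * w) * h2) (by linear_combination 0 * hw + (0 + 0 * w) * h2) (by linear_combination 0 * hw + (0 + 0 * w) * h2) (by linear_combination 0 * hw + (0 + 0 * w) * h2) (by linear_combination 0 * hw + (0 + 0 * w) * h2) (by linear_combination 0 * hw + (0 + 0 * w) * h2))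
  have Xvu : InG G !![w + 1, 0, 1; w + 1, w + 1, w; w + 1, w + 1, 1] := Xv.mul' u (by
      rw [Matrix.mul_fin_three]
      exact m3_ext (by linear_combination 0 * hw + (0 + 0 * w) * h2) (by linear_combination 0 * hw + (0 + 0 * w) * h2) (by linear_combination 1 * hw + (0 + 1 * w) * h2) (by linear_combination 0 * hw + (0 + 0 * w) * h2) (by linear_combination 0 * hw + (0 + 0 * w) * h2) (by linear_combination 1 * hw + (1 + 1 * w) * h2) (by linear_combination 0 * hw + (0 + 0 * w) * h2) (by linear_combination 1 * hw + (1 + 1 * w) * h2) (by linear_combination 2 * hw + (1 + 2 * w) * h2))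
  have T1 : InG G !![w + 1, 0, 1; 0, 1, 0; w + 1, 0, w + 1] := Xvu.mul' X (by
      rw [Matrix.mul_fin_three]
      exact m3_ext (by linear_combination 1 * hw + (1 + 1 * w) * h2) (by linear_combination 1 * hw + (1 + 2 * w) * h2) (by linear_combination 0 * hw + (0 + 0 * w) * h2) (by linear_combination 1 * hw + (1 + 2 * w) * h2) (by linear_combination 2 * hw + (1 + 2 * w) * h2) (by linear_combination 1 * hw + (1 + 2 * w) * h2) (by linear_combination 1 * hw + (1 + 1 * w) * h2) (by linear_combination 1 * hw + (1 + 2 * w) * h2) (by linear_combination 1 * hw + (1 + 1 * w) * h2))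
  have vv : InG G !![1, 0, 0; 0, 1, 0; 1, 0, 1] := v.mul' v (by
      rw [Matrix.mul_fin_three]
      exact m3_ext (by linear_combination 0 * hw + (0 + 0 * w) * h2) (by linear_combination 0 * hw + (0 + 0 * w) * h2) (by linear_combination 0 * hw + (0 + 0 * w) * h2) (by linear_combination 0 * hw + (1 + 0 * w) * h2) (by linear_combination 0 * hw + (0 + 0 * w) * h2) (by linear_combination 0 * hw + (0 + 0 * w) * h2) (by linear_combination 0 * hw + (0 + 0 * w) * h2) (by linear_combination 0 * hw + (1 + 0 * w) * h2) (by linear_combination 0 * hw + (0 + 0 * w) * h2))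
  have vuvv : InG G !![w, w + 1, w; 1, w + 1, 0; w, 1, w + 1] := vu.mul' vv (by
      rw [Matrix.mul_fin_three]
      exact m3_ext (by linear_combination 0 * hw + (0 + 0 * w) * h2) (by linear_combination 0 * hw + (0 + 0 * w) * h2) (by linear_combination 0 * hw + (0 + 0 * w) * h2) (by linear_combination 0 * hw + (0 + 0 * w) * h2) (by linear_combination 0 * hw + (0 + 0 * w) * h2) (by linear_combination 0 * hw + (0 + 0 * w) * h2) (by linear_combination 0 * hw + (1 + 0 * w) * h2) (by linear_combination 0 * hw + (0 + 0 * w) * h2) (by linear_combination 0 * hw + (0 + 0 * w) * h2))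
  have vui : InG G !![w, 0, 1; w + 1, w, w; w, w + 1, w + 1] := vu.inv (Eq.trans (by
      rw [Matrix.mul_fin_three]
      exact m3_ext (by linear_combination 2 * hw + (1 + 2 * w) * h2) (by linear_combination 2 * hw + (1 + 2 * w) * h2) (by linear_combination 2 * hw + (1 + 2 * w) * h2) (by linear_combination 1 * hw + (1 + 2 * w) * h2) (by linear_combination 1 * hw + (0 + 1 * w) * h2) (by linear_combination 1 * hw + (1 + 1 * w) * h2) (by linear_combination 1 * hw + (1 + 2 * w) * h2) (by linear_combination 1 * hw + (1 + 2 * w) * h2) (by linear_combination 1 * hw + (1 + 2 * w) * h2)) one_fin_three.symm)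
  have T2 : InG G !![w, 0, w; 0, 1, 0; 1, 0, w] := vuvv.mul' vui (by
      rw [Matrix.mul_fin_three]
      exact m3_ext (by linear_combination 3 * hw + (2 + 2 * w) * h2) (by linear_combination 2 * hw + (1 + 2 * w) * h2) (by linear_combination 2 * hw + (1 + 2 * w) * h2) (by linear_combination 1 * hw + (1 + 2 * w) * h2) (by linear_combination 1 * hw + (0 + 1 * w) * h2) (by linear_combination 1 * hw + (1 + 1 * w) * h2) (by linear_combination 2 * hw + (1 + 2 * w) * h2) (by linear_combination 1 * hw + (1 + 2 * w) * h2) (by linear_combination 1 * hw + (1 + 2 * w) * h2))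
  have h0 : ![w, 0, 1] ⬝ᵥ ![1, 0, w] = 0 := by
    simp [dotProduct, Fin.sum_univ_three]; linear_combination w * h2
  have k1 : (1 : F) ∈ SK G _ _ h0 := by
    change InG G _
    rw [tv3]
    convert T1 using 1
    exact m3_ext (by ring) (by ring) (by ring) (by ring) (by ring) (by ring)
      (by linear_combination hw) (by ring) (by ring)
  have kw : w ∈ SK G _ _ h0 := by
    change InG G _
    rw [tv3]
    convert T2 using 1
    exact m3_ext (by linear_combination hw + h2) (by ring) (by ring) (by ring) (by ring) (by ring)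
      (by linear_combination (w + 1) * hw + w * h2) (by ring) (by linear_combination hw + h2)
  obtain ⟨c0, c1, c2, cm⟩ := c3g (1 : F) 0 w w 0 1
  refine fin3 hv (a := ![1, 0, w]) (φ := ![w, 0, 1]) (by rw [c0]; linear_combination w * h2)
    (by rw [c1]; linear_combination w * h2)
    (by rw [cm]; intro h; exact one_ne_zero (α := F) (by linear_combination h - w * h2))
    (by rw [c2]; intro h; exact one_ne_zero (α := F) (by linear_combination h - w * h2))
    (by simp) (by simp) fun s => ?_
  change s ∈ SK G _ _ h0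
  have h4 := FiniteField.pow_card s
  rw [hq] at h4
  have : s * (s - 1) * (s - w) * (s - (w + 1)) = 0 := by
    linear_combination h4 + (s ^ 2 - s) * hw + (-s ^ 3 * w - s ^ 3 + 2 * s ^ 2 * w + s ^ 2 - s * w) * h2
  simp only [mul_eq_zero, sub_eq_zero] at this
  rcases this with ((rfl | rfl) | rfl) | rfl
  · exact AddSubgroup.zero_mem _
  · exact k1
  · exact kw
  · exact AddSubgroup.add_mem _ kw k1

end Cfsg.Agent.L0.RU
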