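import Cfsg.Agent.L0.Ess2
import Cfsg.Agent.H3.PGroup1
import Cfsg.Agent.H1.Quaternion
import Cfsg.Prelude.Def_CaseTheorems

/-!
# `p`-groups of rank two with a normal subgroup of order `p ^ 3` and exponent `p`
-/

set_option autoImplicit false

namespace Cfsg.Agent.L0

open Subgroup Cfsg.Agent.H24
open scoped commutatorElement IsMulCommutative

variable {G : Type*} [Group G] {p : ℕ} {A B X Z L : Subgroup G} {a e g u v w x y z : G}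

theorem cm_eq_one' : ⁅x, a⁆ = 1 ↔ Commute x a := commutatorElement_eq_one_iff_commute

theorem cm_inv_mem (h : ⁅x, y⁆ ∈ A) : ⁅y, x⁆ ∈ A := by rw [← commutatorElement_inv]; exact inv_mem h

variable [hp : Fact p.Prime] [Finite G]

theorem eq_zpowers_of_card (h : Nat.card Z = p) (hw : w ∈ Z) (h1 : w ≠ 1) : Z = zpowers w := by
  have := eq_sup_zpowers_of_card (p := p) (C := Z) (D := ⊥) (IsPGroup.of_card (n := 1) (by simpa using h)) bot_le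
    (by simp [h]) hw (by simpa using h1)
  simpa using this

theorem exists_zpow_of_card (h : Nat.card Z = p) (hw : w ∈ Z) (h1 : w ≠ 1) (hu : u ∈ Z) : ∃ k : ℤ, u = w ^ k := by
  rw [eq_zpowers_of_card h hw h1] at hu
  obtain ⟨k, rfl⟩ := hu
  exact ⟨k, rfl⟩

theorem mem_of_zpow_mem (hy : y ^ p ∈ A) {k : ℤ} (hk : ¬ (p : ℤ) ∣ k) (h : y ^ k ∈ A) : y ∈ A :=
  (sup_le le_rfl (zpowers_le.2 h) : A ⊔ zpowers (y ^ k) ≤ A) (H3.mem_zpowers_of_zpow_not_dvd hy hk)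

/-- A normal subgroup `X` of order `p ^ 3` and exponent `p` of a `p`-group of rank two, with a chief series. -/
structure RL (p : ℕ) (X Z L : Subgroup G) : Prop where
  odd : p ≠ 2
  pg : IsPGroup p G
  rk : PRankLE p 2 G
  nX : X.Normal
  cX : Nat.card X = p ^ 3
  pow : ∀ x ∈ X, x ^ p = 1
  cZ : Nat.card Z = p
  cen : Z ≤ center G
  nL : L.Normal
  ZL : Z ≤ L
  LX : L ≤ X
  cL : Nat.card L = p ^ 2
  h1 : ∀ u ∈ X, ∀ g, ⁅u, g⁆ ∈ L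
  h2 : ∀ u ∈ L, ∀ g, ⁅u, g⁆ ∈ Z

theorem exists_RL (h2 : p ≠ 2) (hG : IsPGroup p G) (hr : PRankLE p 2 G) [hn : X.Normal] (hc : Nat.card X = p ^ 3)
    (h : ∀ x ∈ X, x ^ p = 1) : ∃ Z L, RL p X Z L := by
  have h1 := hp.out.one_lt
  obtain ⟨Z, nZ, -, a2, a3⟩ := H3.exists_normal_card_eq hG (N := ⊥) (M := X) bot_le 1
    (by rw [card_bot, hc, mul_one]; exact Nat.pow_le_pow_right h1.le (by omega))
  rw [card_bot, mul_one, pow_one] at a3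
  obtain ⟨L, nL, b1, b2, b3⟩ := H3.exists_normal_card_eq hG a2 1
    (by rw [a3, hc, ← pow_succ]; exact Nat.pow_le_pow_right h1.le (by omega))
  rw [a3, ← pow_succ] at b3
  have pT : IsPGroup p (⊤ : Subgroup G) := hG.to_subgroup _
  have c1 := cm_le_of_card (hG.to_subgroup Z) pT (top_le_normalizer Z) (top_le_normalizer ⊥) bot_le (by simp [a3])
  have c2 := cm_le_of_card (hG.to_subgroup L) pT (top_le_normalizer L) (top_le_normalizer Z) b1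
    (by rw [a3, b3, sq])
  have c3 := cm_le_of_card (hG.to_subgroup X) pT (top_le_normalizer X) (top_le_normalizer L) b2
    (by rw [hc, b3, ← pow_succ'])
  refine ⟨Z, L, h2, hG, hr, hn, hc, h, a3, fun u hu => mem_center_iff.2 fun g => ?_, nL, b1, b2, b3,
    fun u hu g => c3 (commutator_mem_commutator hu (mem_top g)),
    fun u hu g => c2 (commutator_mem_commutator hu (mem_top g))⟩
  exact (cm_eq_one.1 (mem_bot.1 (c1 (commutator_mem_commutator hu (mem_top g))))).eq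

namespace RL

omit hp [Finite G] in
theorem cmZ (h : RL p X Z L) (hu : u ∈ Z) (g : G) : Commute g u := mem_center_iff.1 (h.cen hu) g

omit hp [Finite G] in
theorem nZ (h : RL p X Z L) : Z.Normal :=
  ⟨fun u hu g => by rw [(h.cmZ hu g).eq, mul_inv_cancel_right]; exact hu⟩

theorem L_eq (h : RL p X Z L) (hy : y ∈ L) (hy' : y ∉ Z) : L = Z ⊔ zpowers y :=
  eq_sup_zpowers_of_card (h.pg.to_subgroup L) h.ZL (by rw [h.cL, h.cZ, sq]) hy hy'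

theorem X_eq (h : RL p X Z L) (hx : x ∈ X) (hx' : x ∉ L) : X = L ⊔ zpowers x :=
  eq_sup_zpowers_of_card (h.pg.to_subgroup X) h.LX (by rw [h.cL, h.cX, ← pow_succ']) hx hx'

theorem exists_y (h : RL p X Z L) : ∃ y ∈ L, y ∉ Z :=
  exists_not_mem_of_card (by rw [h.cL, h.cZ]; nth_rw 1 [← pow_one p]; exact Nat.pow_lt_pow_right hp.out.one_lt (by omega))

theorem exists_x (h : RL p X Z L) : ∃ x ∈ X, x ∉ L :=
  exists_not_mem_of_card (by rw [h.cL, h.cX]; exact Nat.pow_lt_pow_right hp.out.one_lt (by omega))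

theorem memL (h : RL p X Z L) (hy : y ∈ L) (hy' : y ∉ Z) (hu : u ∈ L) : ∃ c ∈ Z, ∃ k : ℤ, u = c * y ^ k :=
  haveI := h.nZ
  (mem_sup_zpowers' (top_le_normalizer Z (mem_top y))).1 (h.L_eq hy hy' ▸ hu)

theorem memX (h : RL p X Z L) (hx : x ∈ X) (hx' : x ∉ L) (hu : u ∈ X) : ∃ c ∈ L, ∃ k : ℤ, u = c * x ^ k :=
  haveI := h.nL
  (mem_sup_zpowers' (top_le_normalizer L (mem_top x))).1 (h.X_eq hx hx' ▸ hu)

theorem mem_CL (h : RL p X Z L) (hy : y ∈ L) (hy' : y ∉ Z) (hg : Commute g y) : g ∈ 𝐂[L] := fun u hu => by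
  obtain ⟨c, hc, k, rfl⟩ := h.memL hy hy' hu
  exact (((h.cmZ hc g).mul_right (hg.zpow_right k)).symm).eq

theorem abL (h : RL p X Z L) : L ≤ 𝐂[L] := by
  obtain ⟨y, hy, hy'⟩ := h.exists_y
  have h1 := h.mem_CL hy hy' (Commute.refl y)
  exact fun u hu => h.mem_CL hy hy' (h1 u hu)

theorem mem_CX (h : RL p X Z L) (hx : x ∈ X) (hx' : x ∉ L) (h1 : g ∈ 𝐂[L]) (hg : Commute g x) : g ∈ 𝐂[X] :=
  fun u hu => by
    obtain ⟨c, hc, k, rfl⟩ := h.memX hx hx' hu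
    exact ((Commute.mul_right (h1 c hc).symm (hg.zpow_right k)).symm).eq

theorem om (h : RL p X Z L) (he : e ∈ 𝐂[L]) (h1 : e ^ p = 1) : e ∈ L := by
  by_contra h0
  haveI := h.nL
  have hn := top_le_normalizer L (mem_top e)
  have h2 := h.rk (L ⊔ zpowers e) (H3.isMulCommutative_sup_zpowers (isMulCommutative_iff_le_centralizer.2 h.abL) he)
    fun a ha => by
      obtain ⟨c, hc, k, rfl⟩ := (mem_sup_zpowers' hn).1 ha
      have : Commute c (e ^ k) := Commute.zpow_right (he c hc) k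
      rw [this.mul_pow, h.pow c (h.LX hc), ← zpow_natCast, ← zpow_mul, mul_comm k, zpow_mul, zpow_natCast, h1]; simp
  rw [H3.card_sup_zpowers hn h0 (h1 ▸ L.one_mem), h.cL] at h2
  have := hp.out.one_lt
  nlinarith [pow_pos hp.out.pos 2]

theorem ne (h : RL p X Z L) (hx : x ∈ X) (hx' : x ∉ L) (hy : y ∈ L) (hy' : y ∉ Z) : ⁅y, x⁆ ≠ 1 := fun e =>
  hx' (h.om (h.mem_CL hy hy' (cm_eq_one.1 e)) (h.pow x hx))

theorem mem_Z (h : RL p X Z L) (hu : u ∈ 𝐂[X]) (h1 : u ^ p = 1) : u ∈ Z := by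
  obtain ⟨x, hx, hx'⟩ := h.exists_x
  by_contra h0
  exact h.ne hx hx' (h.om (centralizer_anti h.LX hu) h1) h0 (cm_eq_one.2 (hu x hx))

omit hp [Finite G] in
theorem Z_le (h : RL p X Z L) (A : Subgroup G) : Z ≤ 𝐂[A] := fun _ hu a _ => (h.cmZ hu a).eq

theorem ZX (h : RL p X Z L) : X ⊓ 𝐂[X] = Z :=
  le_antisymm (fun u hu => h.mem_Z hu.2 (h.pow u hu.1)) (le_inf (h.ZL.trans h.LX) (h.Z_le X))

theorem XX (h : RL p X Z L) (hu : u ∈ X) (hv : v ∈ X) : ⁅u, v⁆ ∈ Z := by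
  obtain ⟨x, hx, hx'⟩ := h.exists_x
  haveI := h.nZ
  have h1 : ∀ u ∈ X, ⁅u, x⁆ ∈ Z := fun u hu => by
    obtain ⟨c, hc, k, rfl⟩ := h.memX hx hx' hu
    rw [cm_mul_left, cm_eq_one'.2 ((Commute.refl x).zpow_left k)]
    simpa using h.h2 c hc x
  obtain ⟨c, hc, k, rfl⟩ := h.memX hx hx' hv
  rw [cm_mul_right, cm_zpow_right (h.cmZ (h1 u hu) x)]
  exact mul_mem (cm_inv_mem (h.h2 c hc u)) (Normal.conj_mem ‹_› _ (zpow_mem (h1 u hu) k) c)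

/-- `G = C_G(L) ⟨x⟩`. -/
theorem exists_CL (h : RL p X Z L) (hx : x ∈ X) (hx' : x ∉ L) (g : G) : ∃ k : ℤ, g * x ^ k ∈ 𝐂[L] := by
  obtain ⟨y, hy, hy'⟩ := h.exists_y
  obtain ⟨k, hk⟩ := exists_zpow_of_card h.cZ (h.h2 y hy x) (h.ne hx hx' hy hy') (inv_mem (h.h2 y hy g))
  refine ⟨k, h.mem_CL hy hy' (cm_eq_one.1 ?_)⟩
  rw [cm_mul_right, cm_zpow_right (h.cmZ (h.h2 y hy x) x), ← hk, (h.cmZ (inv_mem (h.h2 y hy g)) g).eq]
  group

theorem cm_mul (h : RL p X Z L) (hx : x ∈ X) (ha : a ∈ 𝐂[L]) (b : G) : ⁅x, a * b⁆ = ⁅x, a⁆ * ⁅x, b⁆ := by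
  rw [cm_mul_right, ← ha _ (h.h1 x hx b), mul_inv_cancel_right]

theorem cm_zpow (h : RL p X Z L) (hx : x ∈ X) (ha : a ∈ 𝐂[L]) (k : ℤ) : ⁅x, a ^ k⁆ = ⁅x, a⁆ ^ k :=
  cm_zpow_right (Commute.symm (ha _ (h.h1 x hx a))) k

theorem exists_CX (h : RL p X Z L) (hx : x ∈ X) (hx' : x ∉ L) (ha : a ∈ 𝐂[L]) (h1 : ⁅x, a⁆ ∈ Z) :
    ∃ l ∈ L, a * l ∈ 𝐂[X] := by
  obtain ⟨y, hy, hy'⟩ := h.exists_y
  obtain ⟨k, hk⟩ := exists_zpow_of_card h.cZ (cm_inv_mem (h.h2 y hy x))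
    (fun e => h.ne hx hx' hy hy' (cm_eq_one'.2 (cm_eq_one.1 e))) (inv_mem h1)
  refine ⟨y ^ k, zpow_mem hy k, h.mem_CX hx hx' (mul_mem ha (zpow_mem (h.abL hy) k)) (cm_eq_one.1 ?_)⟩
  rw [h.cm_mul hx ha, h.cm_zpow hx (h.abL hy), ← hk, mul_inv_cancel]

theorem mem_XC (h : RL p X Z L) (hx : x ∈ X) (hx' : x ∉ L) (h1 : ⁅x, g⁆ ∈ Z) : g ∈ X ⊔ 𝐂[X] := by
  obtain ⟨k, hk⟩ := h.exists_CL hx hx' g
  obtain ⟨l, hl, h2⟩ := h.exists_CX hx hx' hk (by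
    rw [cm_mul_right, cm_eq_one'.2 ((Commute.refl x).zpow_right k)]; simpa using h1)
  have := mul_mem (mul_mem (mem_sup_right h2 : _ ∈ X ⊔ 𝐂[X]) (mem_sup_left (inv_mem (h.LX hl))))
    (mem_sup_left (inv_mem (zpow_mem hx k)))
  simpa using this

theorem cm_XC (h : RL p X Z L) (hu : u ∈ X) (hg : g ∈ X ⊔ 𝐂[X]) : ⁅u, g⁆ ∈ Z := by
  haveI := h.nX
  obtain ⟨a, ha, c, hc, rfl⟩ := (mem_sup_of_le_normalizer_left (centralizer_le_normalizer' X)).1 hg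
  rw [cm_mul_right, cm_eq_one'.2 (hc u hu)]
  simpa using h.XX hu ha

theorem cyc (h : RL p X Z L) (hA : ∀ e ∈ A, e ^ p = 1 → e ∈ Z) : IsCyclic A := by
  refine (H1.isCyclic_or_quaternion_gens (h.pg.to_subgroup A) fun x y hx hy => ?_).resolve_right fun e => h.odd e.1
  have x1 : (x : G) ∈ Z := hA _ x.2 (by rw [← hx, ← Subgroup.coe_pow, pow_orderOf_eq_one]; rfl)
  obtain ⟨k, hk⟩ := exists_zpow_of_card h.cZ x1
    (fun e => hp.out.ne_one (by rw [← hx, orderOf_eq_one_iff]; exact Subtype.ext e))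
    (hA _ y.2 (by rw [← Subgroup.coe_pow, hy]; rfl))
  exact ⟨k, Subtype.ext hk.symm⟩

theorem cycC (h : RL p X Z L) : IsCyclic 𝐂[X] := h.cyc fun _ => h.mem_Z

end RL

/-- The second family: `C_G(L) = L ⟨z⟩` and `C_G(X) = ⟨z ^ p⟩`. -/
structure R2 (p : ℕ) (X Z L : Subgroup G) (z : G) : Prop extends RL p X Z L where
  CL : 𝐂[L] = L ⊔ zpowers z
  CX : 𝐂[X] = zpowers (z ^ p)
  out : ∀ x ∈ X, x ∉ L → ⁅x, z⁆ ∉ Z
  card : Nat.card G = p ^ 2 * orderOf z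

theorem RL.exists_R2 (h : RL p X Z L) (h0 : X ⊔ 𝐂[X] ≠ ⊤) : ∃ z, R2 p X Z L z := by
  obtain ⟨x, hx, hx'⟩ := h.exists_x
  haveI := h.nX
  haveI := h.nZ
  haveI := h.nL
  obtain ⟨a, ha, ha'⟩ : ∃ a ∈ 𝐂[L], ⁅x, a⁆ ∉ Z := by
    by_contra! hh
    refine h0 (eq_top_iff.2 fun g _ => ?_)
    obtain ⟨k, hk⟩ := h.exists_CL hx hx' g
    simpa using mul_mem (h.mem_XC hx hx' (hh _ hk)) (mem_sup_left (inv_mem (zpow_mem hx k)) : _ ∈ X ⊔ 𝐂[X])
  have nC : ∀ g, g ∈ 𝐍[𝐂[X]] := fun g => top_le_normalizer _ (mem_top g)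
  have CXL : 𝐂[X] ≤ 𝐂[L] := centralizer_anti h.LX
  have pw : ∀ a ∈ 𝐂[L], a ^ p ∈ 𝐂[X] := fun a ha => h.mem_CX hx hx' (pow_mem ha p) (cm_eq_one.1 (by
    rw [← zpow_natCast, h.cm_zpow hx ha, zpow_natCast, h.pow _ (h.LX (h.h1 x hx a))]))
  -- elements of `D` with commutator in `Z`
  have k1 : ∀ e ∈ 𝐂[X] ⊔ zpowers a, ⁅x, e⁆ ∈ Z → e ∈ 𝐂[X] := fun e he h1 => by
    obtain ⟨c, hc, k, rfl⟩ := (mem_sup_zpowers' (nC a)).1 he
    rw [h.cm_mul hx (CXL hc), cm_eq_one'.2 (hc x hx), one_mul, h.cm_zpow hx ha] at h1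
    by_cases hk : (p : ℤ) ∣ k
    · obtain ⟨j, rfl⟩ := hk
      exact mul_mem hc (by rw [zpow_mul, zpow_natCast]; exact zpow_mem (pw a ha) j)
    · exact absurd (mem_of_zpow_mem (by rw [h.pow _ (h.LX (h.h1 x hx a))]; exact Z.one_mem) hk h1) ha'
  have DL : 𝐂[X] ⊔ zpowers a ≤ 𝐂[L] := sup_le CXL (zpowers_le.2 ha)
  have k2 : ∀ e ∈ 𝐂[X] ⊔ zpowers a, e ∈ L → e ∈ Z := fun e he h1 =>
    h.mem_Z (k1 e he (cm_inv_mem (h.h2 e h1 x))) (h.pow e (h.LX h1))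
  obtain ⟨z, hD⟩ := (Subgroup.isCyclic_iff_exists_zpowers_eq_top _).1 (h.cyc fun e he h1 => k2 e he (h.om (DL he) h1))
  have z0 := hD.le (mem_zpowers z)
  have z1 : ⁅x, (z : G)⁆ ∉ Z := fun e => ha' (by
    have : a ∈ 𝐂[X] := (zpowers_le.2 (k1 _ z0 e)) (hD.ge (mem_sup_right (mem_zpowers a)))
    rw [cm_eq_one'.2 (this x hx)]; exact Z.one_mem)
  have z2 : (z : G) ∈ 𝐂[L] := DL z0
  have hCL : 𝐂[L] = L ⊔ zpowers (z : G) := by
    refine le_antisymm (fun b hb => ?_) (sup_le h.abL (zpowers_le.2 z2))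
    obtain ⟨c, hc, k, e⟩ := h.memL (h.h1 x hx z) z1 (inv_mem (h.h1 x hx b))
    obtain ⟨l, hl, h2⟩ := h.exists_CX hx hx' (mul_mem hb (zpow_mem z2 k)) (by
      rw [h.cm_mul hx hb, h.cm_zpow hx z2, ← inv_inv ⁅x, b⁆, e, mul_inv_rev, (h.cmZ (inv_mem hc) _).eq]
      simpa using hc)
    have h3 : b * z ^ k * l ∈ L ⊔ zpowers (z : G) := mem_sup_right (hD.ge (mem_sup_left h2))
    simpa using mul_mem (mul_mem h3 (mem_sup_left (inv_mem hl))) (mem_sup_right (inv_mem (zpow_mem_zpowers _ k)))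
  obtain ⟨y, hy, hy'⟩ := h.exists_y
  refine ⟨z, h, hCL, le_antisymm (fun c hc => ?_) (zpowers_le.2 (pw _ z2)), fun u hu hu' e => ?_, ?_⟩
  · obtain ⟨k, rfl⟩ := hD.ge (mem_sup_left hc)
    by_cases hk : (p : ℤ) ∣ k
    · obtain ⟨j, rfl⟩ := hk
      exact ⟨j, by simp only [zpow_mul, zpow_natCast]⟩
    · exact absurd (by rw [cm_eq_one'.2 (mem_of_zpow_mem (pw _ z2) hk hc x hx)]; exact Z.one_mem) z1
  · exact z1 (h.cm_XC hx (h.mem_XC hu hu' e))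
  · have c1 : 𝐂[L] ⊔ zpowers x = ⊤ := eq_top_iff.2 fun g _ => by
      obtain ⟨k, hk⟩ := h.exists_CL hx hx' g
      simpa using mul_mem (mem_sup_left hk : _ ∈ 𝐂[L] ⊔ zpowers x) (mem_sup_right (inv_mem (zpow_mem_zpowers x k)))
    have c2 : 𝐂[L] = zpowers (z : G) ⊔ zpowers y := by
      rw [hCL, h.L_eq hy hy', hD]
      exact le_antisymm (sup_le (sup_le ((h.Z_le X).trans (le_sup_left.trans le_sup_left)) le_sup_right) le_sup_left)
        (sup_le le_sup_right (le_sup_right.trans le_sup_left))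
    rw [← card_top, ← c1, H3.card_sup_zpowers (p := p) (top_le_normalizer 𝐂[L] (mem_top x))
      (fun e => h.ne hx hx' hy hy' (cm_eq_one'.2 (e y hy))) (by rw [h.pow x hx]; exact one_mem _), c2,
      H3.card_sup_zpowers (p := p) (le_normalizer_of_le_centralizer (L := zpowers y) (A := zpowers (z : G))
        (zpowers_le.2 fun b hb => ((zpowers_le.2 z2 : zpowers (z : G) ≤ 𝐂[L]) hb y hy).symm) (mem_zpowers y))
      (fun e => hy' (k2 y (hD.le e) hy)) (by rw [h.pow y (h.LX hy)]; exact one_mem _), Nat.card_zpowers]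
    ring

end Cfsg.Agent.L0
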