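import Cfsg.Agent.S3820

/-! Sylow 2-subgroups of symmetric and alternating groups are self-normalizing; pronormality helpers. -/

set_option autoImplicit false

namespace Cfsg.Agent.L0.SymSyl

open Equiv Equiv.Perm Subgroup
open scoped Pointwise

section Pron
variable {G : Type*} [Group G] [Finite G]

theorem pron_sylow {p : ℕ} [Fact p.Prime] (P : Sylow p G) : Cfsg.IsPronormal (P : Subgroup G) := by
  intro g
  set L := (P : Subgroup G) ⊔ (P : Subgroup G).map (MulAut.conj g).toMonoidHom with hL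
  have h1 : (P : Subgroup G) ≤ L := le_sup_left
  have h2 : ((g • P : Sylow p G) : Subgroup G) ≤ L := le_sup_right
  obtain ⟨x, hx⟩ := MulAction.exists_smul_eq L (P.subtype h1) ((g • P).subtype h2)
  refine ⟨x, x.2, ?_⟩
  rw [Sylow.smul_subtype] at hx
  have := Sylow.subtype_injective hx
  have h3 := congrArg (fun Q : Sylow p G => (Q : Subgroup G)) this
  exact h3.symm

theorem pron_coatom {H : Subgroup G} (hH : IsCoatom H) : Cfsg.IsPronormal H := by
  intro g
  by_cases h : H.map (MulAut.conj g).toMonoidHom ≤ H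
  · refine ⟨1, one_mem _, ?_⟩
    have e : H.map (MulAut.conj g).toMonoidHom = H :=
      Subgroup.eq_of_le_of_card_ge h (le_of_eq (Subgroup.card_map_of_injective (MulAut.conj g).injective).symm)
    rw [e]; ext x; simp
  · refine ⟨g, ?_, rfl⟩
    have : H ⊔ H.map (MulAut.conj g).toMonoidHom = ⊤ :=
      hH.2 _ (lt_of_le_of_ne le_sup_left (fun e => h (le_sup_right.trans e.ge)))
    rw [this]; trivial

theorem pron_of_norm_le {p : ℕ} [Fact p.Prime] (P : Sylow p G) {H : Subgroup G} (hP : (P : Subgroup G) ≤ H)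
    (hN : normalizer ((P : Subgroup G) : Set G) ≤ normalizer (H : Set G)) : Cfsg.IsPronormal H := by
  rw [Cfsg.Agent.S3820.result _ _ hP (pron_sylow P)]
  intro g hg
  refine ⟨1, one_mem _, ?_⟩
  rw [(H10.mem_normalizer_iff_conj_eq).1 (hN hg)]
  ext x; simp

theorem exists_sylow_le_of_odd (H : Subgroup G) (hH : Odd H.index) : ∃ P : Sylow 2 G, (P : Subgroup G) ≤ H := by
  obtain ⟨Q⟩ : Nonempty (Sylow 2 H) := inferInstance
  have hp : IsPGroup 2 ((Q : Subgroup H).map H.subtype) := Q.isPGroup'.map _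
  have hi : ¬ 2 ∣ ((Q : Subgroup H).map H.subtype).index := by
    rw [Subgroup.index_map_subtype]
    intro h
    rcases (Nat.prime_two.dvd_mul).1 h with h | h
    · exact Q.not_dvd_index h
    · exact (Nat.not_even_iff_odd.2 hH) (even_iff_two_dvd.2 h)
  exact ⟨hp.toSylow hi, by rw [IsPGroup.toSylow_coe]; exact map_subtype_le _⟩

/-- If no nontrivial element of odd order normalizes the Sylow 2-subgroup `P`, then `N(P) ≤ P`. -/
theorem norm_le_of_odd (P : Sylow 2 G)
    (h : ∀ x ∈ normalizer ((P : Subgroup G) : Set G), Odd (orderOf x) → x = 1) :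
    normalizer ((P : Subgroup G) : Set G) ≤ P := by
  have hp : IsPGroup 2 (normalizer ((P : Subgroup G) : Set G)) := by
    rw [IsPGroup.iff_card]
    by_contra hc
    have h0 : Nat.card (normalizer ((P : Subgroup G) : Set G)) ≠ 0 := Nat.card_pos.ne'
    obtain ⟨k, m, hm, e⟩ := Nat.exists_eq_two_pow_mul_odd h0
    have hm1 : m ≠ 1 := fun e1 => hc ⟨k, by rw [e, e1, mul_one]⟩
    obtain ⟨q, hq, hqm⟩ := Nat.exists_prime_and_dvd hm1
    haveI := Fact.mk hq
    obtain ⟨x, hx⟩ := exists_prime_orderOf_dvd_card' (G := normalizer ((P : Subgroup G) : Set G)) q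
      (e ▸ Dvd.dvd.mul_left hqm _)
    have hx' : orderOf (x : G) = q := by rw [Subgroup.orderOf_coe, hx]
    have := h x x.2 (hx' ▸ hm.of_dvd_nat hqm)
    rw [this, orderOf_one] at hx'
    exact hq.one_lt.ne hx'
  exact le_of_eq (P.is_maximal' hp le_normalizer)

end Pron

section Sym
variable {α β γ : Type} [Fintype α] [DecidableEq α] [Fintype β] [DecidableEq β]

/-- The fibre transpositions. -/
def tr (e : (β × Bool) ⊕ γ ≃ α) (b : β) : Perm α := swap (e (.inl (b, false))) (e (.inl (b, true)))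

omit [Fintype α] [Fintype β] [DecidableEq β] in
theorem tr_apply (e : (β × Bool) ⊕ γ ≃ α) (b : β) (i : Bool) :
    tr e b (e (.inl (b, i))) = e (.inl (b, !i)) := by
  cases i <;> simp [tr]

omit [Fintype α] [Fintype β] [DecidableEq β] in
theorem tr_eq (e : (β × Bool) ⊕ γ ≃ α) (b : β) (i : Bool) :
    tr e b = swap (e (.inl (b, i))) (e (.inl (b, !i))) := by
  cases i <;> simp [tr, swap_comm]

omit [Fintype α] [Fintype β] [DecidableEq β] in
theorem tr_ne {e : (β × Bool) ⊕ γ ≃ α} {b : β} {a : α} (h : tr e b a ≠ a) :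
    ∃ i, a = e (.inl (b, i)) := by
  by_contra hc
  push Not at hc
  exact h (swap_apply_of_ne_of_ne (hc _) (hc _))

omit [Fintype α] [Fintype β] [DecidableEq β] in
theorem tr_moves (e : (β × Bool) ⊕ γ ≃ α) (b : β) (i : Bool) :
    tr e b (e (.inl (b, i))) ≠ e (.inl (b, i)) := by
  rw [tr_apply]; cases i <;> simp

omit [Fintype α] [Fintype β] [DecidableEq β] in
theorem tr_inj (e : (β × Bool) ⊕ γ ≃ α) : Function.Injective (tr e) := by
  intro b c h
  have := tr_moves e b false
  rw [h] at this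
  obtain ⟨i, hi⟩ := tr_ne this
  simp at hi
  exact hi.1

/-- The normalizer of the set of fibre transpositions. -/
def NM (e : (β × Bool) ⊕ γ ≃ α) : Subgroup (Perm α) := normalizer (Set.range (tr e))

omit [Fintype β] [DecidableEq β] in
theorem mem_NM {e : (β × Bool) ⊕ γ ≃ α} {x : Perm α} :
    x ∈ NM e ↔ ∀ b, ∃ c, x * tr e b * x⁻¹ = tr e c := by
  constructor
  · intro h b
    obtain ⟨c, hc⟩ := (mem_set_normalizer_iff.1 h (tr e b)).1 ⟨b, rfl⟩
    exact ⟨c, hc.symm⟩
  · intro h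
    refine mem_normalizer_fintype ?_
    rintro _ ⟨b, rfl⟩
    obtain ⟨c, hc⟩ := h b
    exact ⟨c, hc.symm⟩

omit [Fintype β] [DecidableEq β] in
theorem exists_phi (e : (β × Bool) ⊕ γ ≃ α) :
    ∃ φ : NM e →* Perm β, (∀ x : NM e, ∀ b, (x : Perm α) * tr e b * (x : Perm α)⁻¹ = tr e (φ x b)) := by
  choose f hf using fun x : NM e => mem_NM.1 x.2
  have h1 : ∀ b, f 1 b = b := fun b => tr_inj e (by rw [← hf]; simp)
  have h2 : ∀ x y b, f (x * y) b = f x (f y b) := fun x y b => tr_inj e (by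
    rw [← hf, ← hf, ← hf]; simp [mul_assoc])
  refine ⟨{ toFun := fun x => ⟨f x, f x⁻¹, fun b => by rw [← h2]; simp [h1], fun b => by rw [← h2]; simp [h1]⟩
            map_one' := by ext b; exact h1 b
            map_mul' := fun x y => by ext b; exact h2 x y b }, fun x b => hf x b⟩

omit [Fintype α] [Fintype β] [DecidableEq β] in
theorem sq_of_cent [Subsingleton γ] {e : (β × Bool) ⊕ γ ≃ α} {y : Perm α}
    (h : ∀ b, y * tr e b * y⁻¹ = tr e b) : y ^ 2 = 1 := by
  have key : ∀ b i, ∃ j, y (e (.inl (b, i))) = e (.inl (b, j)) := by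
    intro b i
    apply tr_ne
    intro h1
    have := congrArg (fun s : Perm α => s (y (e (.inl (b, i))))) (h b)
    simp only [Perm.mul_apply, Perm.coe_inv, symm_apply_apply] at this
    rw [h1] at this
    exact tr_moves e b i (y.injective this)
  ext a
  obtain ⟨s, rfl⟩ := e.surjective a
  rw [pow_two, Perm.mul_apply, Perm.one_apply]
  rcases s with ⟨b, i⟩ | c
  · obtain ⟨j, hj⟩ := key b i
    obtain ⟨k, hk⟩ := key b j
    by_cases hji : j = i
    · rw [hj, hji, hj, hji]
    · rw [hj, hk]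
      by_cases hkj : k = j
      · exfalso
        rw [hkj, ← hj] at hk
        have := y.injective (hj.symm ▸ hk : y (e (.inl (b, j))) = y (e (.inl (b, i))))
        simp at this
        exact hji this
      · have : k = i := by cases i <;> cases j <;> cases k <;> simp_all
        rw [this]
  · have hfix : y (e (.inr c)) = e (.inr c) := by
      obtain ⟨s, hs⟩ := e.surjective (y (e (.inr c)))
      rcases s with ⟨b, i⟩ | d
      · exfalso
        obtain ⟨j, hj⟩ := key b false
        obtain ⟨k, hk⟩ := key b true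
        have hjk : j ≠ k := by
          rintro rfl
          have := y.injective (hj.trans hk.symm)
          simp at this
        by_cases h1 : i = j
        · have := y.injective (hj.trans (h1 ▸ hs))
          simp at this
        · have h2 : i = k := by cases i <;> cases j <;> cases k <;> simp_all
          have := y.injective (hk.trans (h2 ▸ hs))
          simp at this
      · rw [← hs, Subsingleton.elim d c]
    rw [hfix, hfix]

omit [Fintype β] [DecidableEq β] in
theorem phi_surj {e : (β × Bool) ⊕ γ ≃ α} {φ : NM e →* Perm β}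
    (hφ : ∀ x : NM e, ∀ b, (x : Perm α) * tr e b * (x : Perm α)⁻¹ = tr e (φ x b)) : Function.Surjective φ := by
  intro σ
  let x : Perm α := e.permCongr (Equiv.sumCongr (Equiv.prodCongr σ (Equiv.refl Bool)) (Equiv.refl γ))
  have hx : ∀ b, x * tr e b * x⁻¹ = tr e (σ b) := by
    intro b
    rw [tr, ← swap_apply_apply]
    simp [x, tr]
  refine ⟨⟨x, mem_NM.2 fun b => ⟨_, hx b⟩⟩, ?_⟩
  ext b
  exact tr_inj e (by rw [← hφ]; exact hx b)

omit [Fintype α] [Fintype β] [DecidableEq β] in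
theorem tr_comm (e : (β × Bool) ⊕ γ ≃ α) (b c : β) : tr e b * tr e c * (tr e b)⁻¹ = tr e c := by
  by_cases h : b = c
  · subst h; simp
  · conv_lhs => rw [tr_eq e c false, ← swap_apply_apply]
    have h1 : ∀ i, tr e b (e (.inl (c, i))) = e (.inl (c, i)) := by
      intro i
      by_contra hc
      obtain ⟨j, hj⟩ := tr_ne hc
      simp at hj
      exact h hj.1.symm
    rw [h1, h1, ← tr_eq]

omit [Fintype β] [DecidableEq β] in
theorem exists_sylow [Subsingleton γ] (e : (β × Bool) ⊕ γ ≃ α) :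
    ∃ S : Sylow 2 (Perm α), ∀ b, tr e b ∈ S := by
  have : IsPGroup 2 (centralizer (Set.range (tr e))) := by
    intro y
    refine ⟨1, Subtype.ext ?_⟩
    have : (y : Perm α) ^ 2 = 1 := sq_of_cent (e := e) fun b => by
      rw [← mem_centralizer_iff.1 y.2 _ ⟨b, rfl⟩]; simp
    simpa using this
  obtain ⟨S, hS⟩ := this.exists_le_sylow
  refine ⟨S, fun b => hS ?_⟩
  rw [mem_centralizer_iff]
  rintro _ ⟨c, rfl⟩
  exact mul_inv_eq_iff_eq_mul.1 (tr_comm e c b)

omit [Fintype α] [Fintype β] [DecidableEq β] in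
/-- One of two distinct points lies in a fibre. -/
theorem one_in_fibre [Subsingleton γ] (e : (β × Bool) ⊕ γ ≃ α) {a a' : α} (h : a ≠ a') :
    (∃ b i, a = e (.inl (b, i))) ∨ (∃ b i, a' = e (.inl (b, i))) := by
  obtain ⟨s, rfl⟩ := e.surjective a
  obtain ⟨s', rfl⟩ := e.surjective a'
  rcases s with ⟨b, i⟩ | c
  · exact Or.inl ⟨b, i, rfl⟩
  rcases s' with ⟨b, i⟩ | c'
  · exact Or.inr ⟨b, i, rfl⟩
  exact absurd (by rw [Subsingleton.elim c c']) h

omit [Fintype β] [DecidableEq β] in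
theorem swap_mem [Subsingleton γ] {e : (β × Bool) ⊕ γ ≃ α} {S : Sylow 2 (Perm α)} (hS : ∀ b, tr e b ∈ S)
    {a a' : α} (h : a ≠ a') (hm : swap a a' ∈ S) : ∃ c, swap a a' = tr e c := by
  have key : ∀ b i a', e (.inl (b, i)) ≠ a' → swap (e (.inl (b, i))) a' ∈ S →
      ∃ c, swap (e (.inl (b, i))) a' = tr e c := by
    intro b i a' h hm
    by_cases h1 : a' = e (.inl (b, !i))
    · exact ⟨b, by rw [h1, ← tr_eq]⟩
    exfalso
    have h3 := isThreeCycle_swap_mul_swap_same h (a := e (.inl (b, i))) (c := e (.inl (b, !i)))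
      (by cases i <;> simp) h1
    rw [← tr_eq] at h3
    have hmem : swap (e (.inl (b, i))) a' * tr e b ∈ S := mul_mem hm (hS b)
    obtain ⟨k, hk⟩ := S.isPGroup' ⟨_, hmem⟩
    have hk' : (swap (e (.inl (b, i))) a' * tr e b) ^ 2 ^ k = 1 := congrArg Subtype.val hk
    have := orderOf_dvd_of_pow_eq_one hk'
    rw [h3.orderOf] at this
    have := Nat.prime_three.dvd_of_dvd_pow this
    omega
  rcases one_in_fibre e h with ⟨b, i, rfl⟩ | ⟨b, i, rfl⟩
  · exact key b i a' h hm
  · rw [swap_comm] at hm ⊢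
    exact key b i a h.symm hm

omit [Fintype β] [DecidableEq β] in
theorem mem_NM_of [Subsingleton γ] {e : (β × Bool) ⊕ γ ≃ α} {S : Sylow 2 (Perm α)} (hS : ∀ b, tr e b ∈ S)
    {x : Perm α} (hx : ∀ s ∈ S, x * s * x⁻¹ ∈ S) : x ∈ NM e := by
  rw [mem_NM]
  intro b
  have := hx _ (hS b)
  rw [tr, ← swap_apply_apply] at this ⊢
  exact swap_mem hS (by simp) this

/-- Inductive step. -/
theorem step [Subsingleton γ] {e : (β × Bool) ⊕ γ ≃ α} {S : Sylow 2 (Perm α)} (hS : ∀ b, tr e b ∈ S)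
    (ih : ∀ T : Sylow 2 (Perm β), ∀ y : Perm β, Odd (orderOf y) → (∀ s ∈ T, y * s * y⁻¹ ∈ T) → y = 1)
    {x : Perm α} (hxN : x ∈ NM e) (hodd : Odd (orderOf x))
    (hx : ∀ s ∈ S, ∃ k, (∀ b, k * tr e b * k⁻¹ = tr e b) ∧ x * (s * k) * x⁻¹ ∈ S) : x = 1 := by
  obtain ⟨φ, hφ⟩ := exists_phi e
  have hle : (S : Subgroup (Perm α)) ≤ NM e := fun s hs =>
    mem_NM_of hS fun t ht => mul_mem (mul_mem hs ht) (inv_mem hs)
  let T : Sylow 2 (Perm β) := (S.subtype hle).mapSurjective (phi_surj hφ)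
  have hT : ∀ t, t ∈ T ↔ ∃ s : NM e, (s : Perm α) ∈ S ∧ φ s = t := by
    intro t
    change t ∈ ((S.subtype hle : Sylow 2 (NM e)) : Subgroup (NM e)).map φ ↔ _
    simp only [mem_map, Sylow.coe_subtype, mem_subgroupOf]
    rfl
  have h1 : φ ⟨x, hxN⟩ = 1 := by
    apply ih T
    · have : orderOf (φ ⟨x, hxN⟩) ∣ orderOf x := by
        rw [← Subgroup.orderOf_mk x hxN]; exact orderOf_map_dvd _ _
      exact hodd.of_dvd_nat this
    · intro t ht
      obtain ⟨s, hs, rfl⟩ := (hT t).1 ht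
      obtain ⟨k, hk, hk2⟩ := hx s hs
      have hkN : k ∈ NM e := mem_NM.2 fun b => ⟨b, hk b⟩
      have hk1 : φ ⟨k, hkN⟩ = 1 := by
        ext b; exact tr_inj e (by rw [← hφ]; exact hk b)
      refine (hT _).2 ⟨⟨x, hxN⟩ * (s * ⟨k, hkN⟩) * ⟨x, hxN⟩⁻¹, hk2, ?_⟩
      simp [hk1]
  have h2 : x ^ 2 = 1 := sq_of_cent (e := e) fun b => by
    have := hφ ⟨x, hxN⟩ b
    rw [h1] at this; exact this
  have h3 := orderOf_dvd_of_pow_eq_one h2
  rcases (Nat.dvd_prime Nat.prime_two).1 h3 with h | h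
  · exact orderOf_eq_one_iff.1 h
  · rw [h] at hodd; exact absurd hodd (by decide)

theorem exists_e (α : Type) [Fintype α] :
    Nonempty ((Fin (Fintype.card α / 2) × Bool) ⊕ Fin (Fintype.card α % 2) ≃ α) := by
  refine ⟨Fintype.equivOfCardEq ?_⟩
  simp; omega

theorem subs (n : ℕ) : Subsingleton (Fin (n % 2)) := ⟨fun a b => Fin.ext (by omega)⟩

omit [Fintype α] [DecidableEq α] in
theorem conj_transfer {G : Type*} [Group G] (S : Sylow 2 G) (g x : G) (Q : G → Prop)
    (hQ : ∀ s, Q s → Q (g * s * g⁻¹))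
    (hx : ∀ s ∈ g • S, Q s → x * s * x⁻¹ ∈ g • S) :
    ∀ s ∈ S, Q s → (g⁻¹ * x * g) * s * (g⁻¹ * x * g)⁻¹ ∈ S := by
  have hm : ∀ t, t ∈ g • S ↔ g⁻¹ * t * g ∈ S := by
    intro t
    change t ∈ MulAut.conj g • (S : Subgroup G) ↔ _
    rw [Subgroup.mem_pointwise_smul_iff_inv_smul_mem]
    simp
    rfl
  intro s hs hq
  have := (hm _).1 (hx (g * s * g⁻¹) ((hm _).2 (by simpa [mul_assoc] using hs)) (hQ s hq))
  simpa [mul_assoc] using this

theorem ord_conj {G : Type*} [Group G] (g y : G) : orderOf (g⁻¹ * y * g) = orderOf y := by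
  have := orderOf_injective (MulAut.conj g⁻¹).toMonoidHom (MulAut.conj g⁻¹).injective y
  simpa using this

theorem sym_odd (n : ℕ) : ∀ (α : Type) [Fintype α] [DecidableEq α], Fintype.card α = n →
    ∀ T : Sylow 2 (Perm α), ∀ y : Perm α, Odd (orderOf y) → (∀ s ∈ T, y * s * y⁻¹ ∈ T) → y = 1 := by
  induction n using Nat.strong_induction_on with
  | _ n ih =>
  intro α _ _ hn T y hy hT
  by_cases h1 : n ≤ 1
  · haveI : Subsingleton α := Fintype.card_le_one_iff_subsingleton.1 (hn ▸ h1)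
    exact Subsingleton.elim _ _
  obtain ⟨e⟩ := exists_e α
  haveI := subs (Fintype.card α)
  obtain ⟨S, hS⟩ := exists_sylow e
  obtain ⟨g, rfl⟩ := MulAction.exists_smul_eq (Perm α) S T
  have h2 := conj_transfer S g y (fun _ => True) (fun _ _ => trivial) (fun s hs _ => hT s hs)
  have h3 : g⁻¹ * y * g = 1 := by
    refine step hS (ih _ (by omega) _ (Fintype.card_fin _)) (mem_NM_of hS fun s hs => h2 s hs trivial) ?_ ?_
    · rwa [ord_conj]
    · intro s hs
      exact ⟨1, fun b => by simp, by rw [mul_one]; exact h2 s hs trivial⟩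
  have : y = g * (g⁻¹ * y * g) * g⁻¹ := by group
  rw [this, h3]; simp

theorem alt_odd (hn : 6 ≤ Fintype.card α) (T : Sylow 2 (Perm α)) (y : Perm α) (hy : Odd (orderOf y))
    (hT : ∀ s ∈ T, sign s = 1 → y * s * y⁻¹ ∈ T) : y = 1 := by
  obtain ⟨e⟩ := exists_e α
  haveI := subs (Fintype.card α)
  obtain ⟨S, hS⟩ := exists_sylow e
  obtain ⟨g, rfl⟩ := MulAction.exists_smul_eq (Perm α) S T
  have h2 := conj_transfer S g y (fun s => sign s = 1) (fun s hs => by simp [hs]) hT
  set x := g⁻¹ * y * g with hx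
  have hle : ∀ s ∈ S, s ∈ NM e := fun s hs =>
    mem_NM_of hS fun t ht => mul_mem (mul_mem hs ht) (inv_mem hs)
  have hsg : ∀ b, sign (tr e b) = -1 := fun b => sign_swap (by simp)
  have hxN : x ∈ NM e := by
    rw [mem_NM]
    intro b
    obtain ⟨b1, b2, h01, h02, h12⟩ : ∃ b1 b2, b ≠ b1 ∧ b ≠ b2 ∧ b1 ≠ b2 := by
      obtain ⟨u, v, w, huv, huw, hvw⟩ : ∃ u v w : Fin (Fintype.card α / 2), u ≠ v ∧ u ≠ w ∧ v ≠ w :=
        ⟨⟨0, by omega⟩, ⟨1, by omega⟩, ⟨2, by omega⟩, by simp, by simp, by simp⟩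
      by_cases h1 : b = u
      · exact ⟨v, w, h1 ▸ huv, h1 ▸ huw, hvw⟩
      by_cases h2 : b = v
      · exact ⟨u, w, h1, h2 ▸ hvw, huw⟩
      exact ⟨u, v, h1, h2, huv⟩
    have key : ∀ c i a', x * tr e b * x⁻¹ = swap (e (.inl (c, i))) a' → e (.inl (c, i)) ≠ a' →
        ∃ c, x * tr e b * x⁻¹ = tr e c := by
      intro c i a' hu hne
      by_cases h1 : a' = e (.inl (c, !i))
      · exact ⟨c, by rw [hu, h1, ← tr_eq]⟩
      exfalso
      -- for d ≠ b the product u * v normalizes the matching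
      have fixv : ∀ d, b ≠ d → ∀ z, (x * tr e b * x⁻¹) z ≠ z → (x * tr e d * x⁻¹) z = z := by
        intro d hd z hz
        obtain ⟨z, rfl⟩ := x.surjective z
        simp only [Perm.mul_apply, Perm.coe_inv, symm_apply_apply, ne_eq, EmbeddingLike.apply_eq_iff_eq] at hz ⊢
        obtain ⟨j, rfl⟩ := tr_ne hz
        by_contra hc
        obtain ⟨k, hk⟩ := tr_ne hc
        simp at hk
        exact hd hk.1
      have hpart : ∀ d, b ≠ d → ∃ c' j, a' = e (.inl (c', j)) ∧
          (x * tr e b * x⁻¹) ((x * tr e d * x⁻¹) (e (.inl (c, !i)))) = e (.inl (c', !j)) := by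
        intro d hd
        have hm := hle _ (h2 _ (mul_mem (hS b) (hS d)) (by simp [hsg]))
        obtain ⟨c', hc'⟩ := mem_NM.1 hm c
        have e1 : x * (tr e b * tr e d) * x⁻¹ = (x * tr e b * x⁻¹) * (x * tr e d * x⁻¹) := by group
        rw [e1, tr_eq e c i, ← swap_apply_apply, Perm.mul_apply, Perm.mul_apply (x * tr e b * x⁻¹),
          fixv d hd _ (by rw [hu, swap_apply_left]; exact hne.symm)] at hc'
        have e2 : (x * tr e b * x⁻¹) (e (.inl (c, i))) = a' := by rw [hu, swap_apply_left]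
        rw [e2] at hc'
        have hne2 : (x * tr e b * x⁻¹) ((x * tr e d * x⁻¹) (e (.inl (c, !i)))) ≠ a' := by
          intro h3
          rw [h3, swap_self] at hc'
          have := tr_moves e c' false
          rw [← hc'] at this
          exact this rfl
        have h4 : tr e c' a' = (x * tr e b * x⁻¹) ((x * tr e d * x⁻¹) (e (.inl (c, !i)))) := by
          rw [← hc', swap_apply_left]
        obtain ⟨j, hj⟩ := tr_ne (h4 ▸ hne2 : tr e c' a' ≠ a')
        exact ⟨c', j, hj, by rw [← h4, hj, tr_apply]⟩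
      obtain ⟨c1, j1, ha1, hb1⟩ := hpart b1 h01
      obtain ⟨c2, j2, ha2, hb2⟩ := hpart b2 h02
      have h5 := ha1.symm.trans ha2
      simp at h5
      obtain ⟨rfl, rfl⟩ := h5
      have h6 := (x * tr e b * x⁻¹).injective (hb1.trans hb2.symm)
      have h7 : (x * tr e b1 * x⁻¹) (e (.inl (c, !i))) = e (.inl (c, !i)) := by
        by_contra hc
        have h8 : (x * tr e b2 * x⁻¹) (e (.inl (c, !i))) = e (.inl (c, !i)) := by
          obtain ⟨z, hz⟩ := x.surjective (e (.inl (c, !i)))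
          rw [← hz] at hc ⊢
          simp only [Perm.mul_apply, Perm.coe_inv, symm_apply_apply, EmbeddingLike.apply_eq_iff_eq] at hc ⊢
          obtain ⟨j, rfl⟩ := tr_ne hc
          by_contra hc2
          obtain ⟨k, hk⟩ := tr_ne hc2
          simp at hk
          exact h12 hk.1
        exact hc (h6.trans h8)
      rw [h7, hu, swap_apply_of_ne_of_ne (by cases i <;> simp) (Ne.symm h1)] at hb1
      simp at hb1
      obtain ⟨rfl, rfl⟩ := hb1
      exact hne ha1.symm
    have hu : x * tr e b * x⁻¹ = swap (x (e (.inl (b, false)))) (x (e (.inl (b, true)))) := by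
      rw [tr, swap_apply_apply]
    have hne : x (e (.inl (b, false))) ≠ x (e (.inl (b, true))) := by simp
    rcases one_in_fibre e hne with ⟨c, i, h⟩ | ⟨c, i, h⟩
    · exact key c i _ (by rw [hu, h]) (h ▸ hne)
    · exact key c i _ (by rw [hu, h, swap_comm]) (h ▸ hne.symm)
  have h3 : x = 1 := by
    refine step hS (sym_odd _ _ rfl) hxN (by rwa [hx, ord_conj]) ?_
    intro s hs
    rcases Int.units_eq_one_or (sign s) with h | h
    · exact ⟨1, fun b => by simp, by rw [mul_one]; exact h2 s hs h⟩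
    · let b0 : Fin (Fintype.card α / 2) := ⟨0, by omega⟩
      exact ⟨tr e b0, tr_comm e b0, h2 _ (mul_mem hs (hS b0)) (by simp [h, hsg])⟩
  have : y = g * x * g⁻¹ := by rw [hx]; group
  rw [this, h3]; simp

theorem alt_norm_le (hn : 6 ≤ Fintype.card α) (P : Sylow 2 (alternatingGroup α)) :
    normalizer ((P : Subgroup (alternatingGroup α)) : Set (alternatingGroup α)) ≤ P := by
  refine norm_le_of_odd P fun x hx ho => ?_
  obtain ⟨T, hT⟩ := (P.isPGroup'.map (alternatingGroup α).subtype).exists_le_sylow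
  have hc : (T : Subgroup (Perm α)).comap (alternatingGroup α).subtype = P :=
    P.is_maximal' (T.isPGroup'.comap_subtype) (map_le_iff_le_comap.1 hT)
  refine Subtype.ext (alt_odd hn T x (by rwa [Subgroup.orderOf_coe]) fun s hs h1 => ?_)
  have h2 : (⟨s, h1⟩ : alternatingGroup α) ∈ (P : Subgroup (alternatingGroup α)) := by
    rw [← hc]; exact hs
  have h3 := (mem_normalizer_iff.1 hx _).1 h2
  rw [← hc] at h3
  exact h3

theorem sym_norm_le (P : Sylow 2 (Perm α)) :
    normalizer ((P : Subgroup (Perm α)) : Set (Perm α)) ≤ P :=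
  norm_le_of_odd P fun x hx ho => sym_odd _ α rfl P x ho fun s hs => (mem_normalizer_iff.1 hx _).1 hs

end Sym

end Cfsg.Agent.L0.SymSyl
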