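import Cfsg.Agent.L0.SymSyl
import Cfsg.Agent.H2.Jord
import Cfsg.Agent.H19.Basic

/-! Maximal overgroups of Sylow 2-subgroups in symmetric and alternating groups. -/

set_option autoImplicit false

namespace Cfsg.Agent.L0.SymSyl

open Equiv Equiv.Perm Subgroup MulAction
open scoped Pointwise

section
variable {α β γ : Type} [Fintype α] [DecidableEq α] [Fintype β] [DecidableEq β]

omit [Fintype β] [DecidableEq β] in
theorem exists_e_for [Subsingleton γ] (e : (β × Bool) ⊕ γ ≃ α) {S0 : Sylow 2 (Perm α)} (S : Sylow 2 (Perm α))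
    (P : ((β × Bool) ⊕ γ ≃ α) → Sylow 2 (Perm α) → Prop)
    (hP : ∀ e S g, P e S → P (e.trans g) (g • S)) (h0 : P e S0) : ∃ e', P e' S := by
  obtain ⟨g, rfl⟩ := MulAction.exists_smul_eq (Perm α) S0 S
  exact ⟨_, hP _ _ g h0⟩

omit [Fintype α] [Fintype β] [DecidableEq β] in
theorem tr_trans (e : (β × Bool) ⊕ γ ≃ α) (g : Perm α) (b : β) : tr (e.trans g) b = g * tr e b * g⁻¹ := by
  simp [tr, swap_apply_apply]

theorem mem_smul_syl {G : Type*} [Group G] (S : Sylow 2 G) (g : G) {s : G} (hs : s ∈ S) : g * s * g⁻¹ ∈ g • S := by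
  change _ ∈ MulAut.conj g • (S : Subgroup G)
  exact Subgroup.smul_mem_pointwise_smul _ (MulAut.conj g) _ hs

theorem exists_adapted (S : Sylow 2 (Perm α)) :
    ∃ e : (Fin (Fintype.card α / 2) × Bool) ⊕ Fin (Fintype.card α % 2) ≃ α, ∀ b, tr e b ∈ S := by
  obtain ⟨e⟩ := exists_e α
  haveI := subs (Fintype.card α)
  obtain ⟨S0, hS⟩ := exists_sylow e
  exact exists_e_for e S (fun e S => ∀ b, tr e b ∈ S)
    (fun e S g h b => by rw [tr_trans]; exact mem_smul_syl S g (h b)) hS

/-- The fibre of a point. -/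
def fib (e : (β × Bool) ⊕ γ ≃ α) (a : α) : Option β :=
  match e.symm a with
  | .inl x => some x.1
  | .inr _ => none

omit [Fintype α] [DecidableEq α] [Fintype β] [DecidableEq β] in
@[simp] theorem fib_inl (e : (β × Bool) ⊕ γ ≃ α) (b : β) (i : Bool) : fib e (e (.inl (b, i))) = some b := by
  simp [fib]

omit [Fintype α] [DecidableEq α] [Fintype β] [DecidableEq β] in
@[simp] theorem fib_inr (e : (β × Bool) ⊕ γ ≃ α) (c : γ) : fib e (e (.inr c)) = none := by
  simp [fib]

omit [Fintype α] [Fintype β] [DecidableEq β] in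
theorem fib_map {e : (β × Bool) ⊕ γ ≃ α} {x : Perm α} {σ : Perm β}
    (h : ∀ b, x * tr e b * x⁻¹ = tr e (σ b)) (a : α) : fib e (x a) = (fib e a).map σ := by
  have key : ∀ b a, tr e (σ b) (x a) ≠ x a ↔ tr e b a ≠ a := by
    intro b a
    rw [← h]; simp
  obtain ⟨s, rfl⟩ := e.surjective a
  rcases s with ⟨b, i⟩ | c
  · obtain ⟨j, hj⟩ := tr_ne ((key b _).2 (tr_moves e b i))
    rw [hj]; simp
  · obtain ⟨s, hs⟩ := e.surjective (x (e (.inr c)))
    rcases s with ⟨b, i⟩ | d
    · exfalso
      obtain ⟨b, rfl⟩ := σ.surjective b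
      have := (key b (e (.inr c))).1 (by rw [← hs]; exact tr_moves e _ i)
      obtain ⟨j, hj⟩ := tr_ne this
      simp at hj
    · rw [← hs]; simp

/-- Permutations preserving the fibres of `π`. -/
def KP {δ : Type} (π : α → δ) : Subgroup (Perm α) where
  carrier := {x | ∀ a a', π a = π a' ↔ π (x a) = π (x a')}
  one_mem' := fun _ _ => Iff.rfl
  mul_mem' := fun {x y} hx hy a a' => (hy a a').trans (hx _ _)
  inv_mem' := fun {x} hx a a' => by
    have := hx (x⁻¹ a) (x⁻¹ a')
    simpa using this.symm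

/-- The standard lift of a permutation of the fibres. -/
def lift (e : (β × Bool) ⊕ γ ≃ α) (σ : Perm β) : Perm α :=
  e.permCongr (Equiv.sumCongr (Equiv.prodCongr σ (Equiv.refl Bool)) (Equiv.refl γ))

omit [Fintype α] [DecidableEq α] [Fintype β] [DecidableEq β] in
theorem lift_inl (e : (β × Bool) ⊕ γ ≃ α) (σ : Perm β) (b : β) (i : Bool) :
    lift e σ (e (.inl (b, i))) = e (.inl (σ b, i)) := by simp [lift]

omit [Fintype α] [DecidableEq α] [Fintype β] [DecidableEq β] in
theorem lift_inr (e : (β × Bool) ⊕ γ ≃ α) (σ : Perm β) (c : γ) :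
    lift e σ (e (.inr c)) = e (.inr c) := by simp [lift]

omit [Fintype α] [Fintype β] [DecidableEq β] in
theorem lift_tr (e : (β × Bool) ⊕ γ ≃ α) (σ : Perm β) (b : β) :
    lift e σ * tr e b * (lift e σ)⁻¹ = tr e (σ b) := by
  rw [tr, ← swap_apply_apply, lift_inl, lift_inl, tr]

omit [Fintype α] [Fintype β] in
theorem lift_swap (e : (β × Bool) ⊕ γ ≃ α) {b c : β} (h : b ≠ c) :
    lift e (swap b c) = swap (e (.inl (b, false))) (e (.inl (c, false))) *
      swap (e (.inl (b, true))) (e (.inl (c, true))) := by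
  ext a
  obtain ⟨s, rfl⟩ := e.surjective a
  rcases s with ⟨d, i⟩ | d
  · rw [lift_inl]
    by_cases h1 : d = b
    · subst h1; cases i <;> simp [swap_apply_def]
    by_cases h2 : d = c
    · subst h2; cases i <;> simp [swap_apply_def, h1]
    cases i <;> simp [swap_apply_def, h1, h2]
  · rw [lift_inr]; simp [swap_apply_def]

theorem sign_lift (e : (β × Bool) ⊕ γ ≃ α) (σ : Perm β) : sign (lift e σ) = 1 := by
  induction σ using Perm.swap_induction_on with
  | one =>
    have : lift e 1 = 1 := by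
      ext a; obtain ⟨s, rfl⟩ := e.surjective a
      rcases s with ⟨d, i⟩ | d
      · simp [lift_inl]
      · simp [lift_inr]
    rw [this]; simp
  | swap_mul σ b c h ih =>
    have : lift e (swap b c * σ) = lift e (swap b c) * lift e σ := by
      ext a; obtain ⟨s, rfl⟩ := e.surjective a
      rcases s with ⟨d, i⟩ | d
      · simp [lift_inl]
      · simp [lift_inr]
    rw [this, map_mul, ih, lift_swap e h, map_mul, sign_swap (by simp [h]), sign_swap (by simp [h])]
    simp

omit [Fintype β] [DecidableEq β] in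
theorem alt_le_of_T [IsEmpty γ] (e : (β × Bool) ⊕ γ ≃ α) {J : Subgroup (Perm α)}
    (h : ∀ b i c j, b ≠ c → swap (e (.inl (b, i))) (e (.inl (c, j))) * tr e b ∈ J) :
    alternatingGroup α ≤ J := by
  rw [← closure_three_cycles_eq_alternating, closure_le]
  intro g hg
  have hg : IsThreeCycle g := hg
  obtain ⟨a, ha⟩ : g.support.Nonempty := by rw [← Finset.card_pos, hg.card_support]; norm_num
  have hn := (hg.nodup_iff_mem_support (a := a)).2 ha
  have he := (hg.eq_swap_mul_swap_iff_mem_support (a := a)).2 ha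
  have key : ∀ a u, u ≠ a → ∀ b i, a = e (.inl (b, i)) → swap a u * tr e b ∈ J := by
    intro a u hu b i ha
    subst ha
    obtain ⟨s, rfl⟩ := e.surjective u
    rcases s with ⟨c, j⟩ | c
    · by_cases hbc : b = c
      · subst hbc
        have : j = !i := by
          have : j ≠ i := fun h => hu (by rw [h])
          revert this; cases i <;> cases j <;> simp
        rw [this, ← tr_eq, tr, swap_mul_self]
        exact one_mem _
      · exact h b i c j hbc
    · exact isEmptyElim c
  obtain ⟨s, hs⟩ := e.surjective (g a)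
  rcases s with ⟨b, i⟩ | c
  · have h1 : a ≠ g a := by intro h; rw [← h] at hn; simp at hn
    have h2 : g (g a) ≠ g a := by intro h; simp [h] at hn
    have := mul_mem (key _ _ h1 b i hs.symm) (inv_mem (key _ _ h2 b i hs.symm))
    rw [SetLike.mem_coe, he]
    convert this using 1
    simp [mul_assoc, swap_comm]
  · exact isEmptyElim c

variable {G : Type*} [Group G] [Finite G] {f : G →* Perm α}

omit [Finite G] in
theorem syl_comap (hf : Function.Injective f) (R : Sylow 2 G) :
    ∃ S : Sylow 2 (Perm α), (S : Subgroup (Perm α)).comap f = R := by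
  obtain ⟨S, hS⟩ := (R.isPGroup'.map f).exists_le_sylow
  exact ⟨S, R.is_maximal' (S.isPGroup'.comap_of_injective f hf) (map_le_iff_le_comap.1 hS)⟩

omit [Finite G] in
theorem top_of (hf : Function.Injective f) {S : Sylow 2 (Perm α)} (hn : 2 ≤ Fintype.card α) {M : Subgroup G}
    (hS : (S : Subgroup (Perm α)).comap f ≤ M) (hM : alternatingGroup α ≤ M.map f) : M = ⊤ := by
  have hev : ∀ g, sign (f g) = 1 → g ∈ M := by
    intro g hg
    obtain ⟨m, hm, e⟩ := hM (mem_alternatingGroup.2 hg)
    exact hf e ▸ hm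
  rw [eq_top_iff]
  intro g _
  rcases Int.units_eq_one_or (sign (f g)) with h | h
  · exact hev g h
  · obtain ⟨e, he⟩ := exists_adapted S
    let b0 : Fin (Fintype.card α / 2) := ⟨0, by omega⟩
    have hsg : sign (tr e b0) = -1 := sign_swap (by simp)
    obtain ⟨m, -, hm⟩ := hM (mem_alternatingGroup.2 (by simp [h, hsg] : sign ((f g)⁻¹ * tr e b0) = 1))
    have h1 : f (g * m) = tr e b0 := by rw [map_mul, hm]; simp
    have h2 : g * m ∈ M := hS (by rw [mem_comap, h1]; exact he b0)
    have h3 : m ∈ M := hev m (by rw [hm]; simp [h, hsg])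
    simpa using mul_mem h2 (inv_mem h3)

theorem not_unique (hf : Function.Injective f) (hA : alternatingGroup α ≤ f.range) {S : Sylow 2 (Perm α)}
    (hn : 2 ≤ Fintype.card α) {H1 H2 : Subgroup (Perm α)} (h1 : (S : Subgroup (Perm α)) ≤ H1)
    (h2 : (S : Subgroup (Perm α)) ≤ H2) (n1 : ¬ alternatingGroup α ≤ H1) (n2 : ¬ alternatingGroup α ≤ H2)
    (hJ : ∀ J : Subgroup (Perm α), H1 ⊓ alternatingGroup α ≤ J → H2 ⊓ alternatingGroup α ≤ J →
      alternatingGroup α ≤ J) :
    ¬ ∃! M : Subgroup G, IsCoatom M ∧ (S : Subgroup (Perm α)).comap f ≤ M := by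
  rintro ⟨M, ⟨hM, hSM⟩, hu⟩
  have key : ∀ H : Subgroup (Perm α), (S : Subgroup (Perm α)) ≤ H → ¬ alternatingGroup α ≤ H →
      H ⊓ alternatingGroup α ≤ M.map f := by
    intro H hH nH
    have hne : H.comap f ≠ ⊤ := by
      intro ht
      apply nH
      intro x hx
      obtain ⟨g, rfl⟩ := hA hx
      have : g ∈ H.comap f := by rw [ht]; trivial
      exact this
    obtain ⟨M1, hM1, hle⟩ := (eq_top_or_exists_le_coatom _).resolve_left hne
    have := hu M1 ⟨hM1, (comap_mono hH).trans hle⟩
    subst this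
    intro x hx
    obtain ⟨g, rfl⟩ := hA hx.2
    exact mem_map_of_mem f (hle hx.1)
  exact hM.1 (top_of hf hn hSM (hJ _ (key H1 h1 n1) (key H2 h2 n2)))

theorem nu_even (hf : Function.Injective f) (hA : alternatingGroup α ≤ f.range) (S : Sylow 2 (Perm α))
    (hn : 6 ≤ Fintype.card α) (hev : Fintype.card α % 2 = 0) :
    ¬ ∃! M : Subgroup G, IsCoatom M ∧ (S : Subgroup (Perm α)).comap f ≤ M := by
  obtain ⟨e, hS⟩ := exists_adapted S
  haveI := subs (Fintype.card α)
  haveI : IsEmpty (Fin (Fintype.card α % 2)) := by rw [hev]; infer_instance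
  obtain ⟨φ, hφ⟩ := exists_phi e
  have hle : (S : Subgroup (Perm α)) ≤ NM e := fun s hs =>
    mem_NM_of hS fun t ht => mul_mem (mul_mem hs ht) (inv_mem hs)
  let T := (S.subtype hle).mapSurjective (phi_surj hφ)
  obtain ⟨e', hT⟩ := exists_adapted T
  haveI := subs (Fintype.card (Fin (Fintype.card α / 2)))
  obtain ⟨φ', hφ'⟩ := exists_phi e'
  have hle' : (T : Subgroup _) ≤ NM e' := fun s hs =>
    mem_NM_of hT fun t ht => mul_mem (mul_mem hs ht) (inv_mem hs)
  let π : α → Option (Option _) := fun a => (fib e a).map (fib e')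
  have hc : 1 ≤ Fintype.card (Fin (Fintype.card α / 2)) / 2 := by simp; omega
  let u0 : Fin (Fintype.card (Fin (Fintype.card α / 2)) / 2) := ⟨0, hc⟩
  set b0 := e' (.inl (u0, false)) with hb0
  set c0 := e' (.inl (u0, true)) with hc0
  have hbc : b0 ≠ c0 := by simp [hb0, hc0]
  obtain ⟨d0, hd1, hd2⟩ : ∃ d0, d0 ≠ b0 ∧ d0 ≠ c0 := by
    by_contra hcon
    push Not at hcon
    have : (Finset.univ : Finset (Fin (Fintype.card α / 2))) ⊆ {b0, c0} := fun d _ => by
      by_cases h : d = b0
      · simp [h]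
      · simp [hcon d h]
    have h1 := Finset.card_le_card this
    have h2 := Finset.card_le_two (a := b0) (b := c0)
    simp at h1
    omega
  have hfd : fib e' d0 ≠ some u0 := by
    obtain ⟨s, rfl⟩ := e'.surjective d0
    rcases s with ⟨u, i⟩ | c
    · simp only [fib_inl, ne_eq, Option.some.injEq]
      rintro rfl
      cases i
      · exact hd1 rfl
      · exact hd2 rfl
    · simp
  have hsT : ∀ b i c j, b ≠ c → sign (swap (e (.inl (b, i))) (e (.inl (c, j))) * tr e b) = 1 := by
    intro b i c j h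
    rw [map_mul, sign_swap (by simp [h]), tr, sign_swap (by simp)]; simp
  refine not_unique hf hA (by omega) hle (H2 := KP π) ?_ ?_ ?_ ?_
  · intro s hs a a'
    have hs' : φ ⟨s, hle hs⟩ ∈ T := ⟨⟨s, hle hs⟩, hs, rfl⟩
    have h1 := fib_map (hφ ⟨s, hle hs⟩)
    have h2 := fib_map (hφ' ⟨_, hle' hs'⟩)
    have h3 : ∀ a, π (s a) = (π a).map (Option.map (φ' ⟨_, hle' hs'⟩)) := by
      intro a
      simp only [π]
      rw [h1 a]
      cases fib e a with
      | none => rfl
      | some b => simpa using h2 b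
    rw [h3, h3]
    exact ((Option.map_injective (Option.map_injective (Equiv.injective _))).eq_iff).symm
  · intro h
    have h1 := h (mem_alternatingGroup.2 (hsT b0 false c0 false hbc))
    obtain ⟨σ, hσ⟩ : ∃ σ : Perm _, ∀ b, _ * tr e b * _ = tr e (σ b) := ⟨φ ⟨_, h1⟩, hφ ⟨_, h1⟩⟩
    have h2 := fib_map hσ (e (.inl (b0, false)))
    have h3 := fib_map hσ (e (.inl (b0, true)))
    rw [fib_inl] at h2 h3
    rw [← h3] at h2
    simp [tr_apply, swap_apply_def, hbc] at h2
  · intro h
    have h1 := (h (mem_alternatingGroup.2 (hsT b0 false d0 false hd1.symm)) (e (.inl (b0, true)))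
      (e (.inl (c0, false)))).1 (by simp [π, hb0, hc0])
    have e1 : tr e b0 (e (.inl (c0, false))) = e (.inl (c0, false)) :=
      swap_apply_of_ne_of_ne (by simp [hbc.symm]) (by simp)
    simp only [Perm.mul_apply, tr_apply, e1] at h1
    rw [show (!true) = false from rfl, swap_apply_left, swap_apply_of_ne_of_ne (by simp [hbc.symm]) (by simp [hd2.symm])] at h1
    simp only [π, fib_inl, Option.map_some, Option.some.injEq] at h1
    exact hfd (by rw [h1, hc0]; simp)
  · intro J h1 h2
    refine alt_le_of_T e fun b i c j hbc' => ?_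
    have h3 : swap (e (.inl (b0, i))) (e (.inl (c0, j))) * tr e b0 ∈ J := by
      refine h2 ⟨?_, mem_alternatingGroup.2 (hsT _ _ _ _ hbc)⟩
      have : ∀ a, π ((swap (e (.inl (b0, i))) (e (.inl (c0, j))) * tr e b0) a) = π a := by
        intro a
        have q1 : ∀ a, π (tr e b0 a) = π a := by
          intro a
          by_cases h : tr e b0 a = a
          · rw [h]
          · obtain ⟨k, rfl⟩ := tr_ne h
            rw [tr_apply]; simp [π]
        rw [Perm.mul_apply, ← q1 a, swap_apply_def]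
        split_ifs with q2 q3
        · rw [q2]; simp [π, hb0, hc0]
        · rw [q3]; simp [π, hb0, hc0]
        · rfl
      intro a a'
      rw [this, this]
    obtain ⟨σ, hσ1, hσ2⟩ : ∃ σ : Perm (Fin (Fintype.card α / 2)), σ b0 = b ∧ σ c0 = c := by
      refine ⟨swap (swap b0 b c0) c * swap b0 b, ?_, by simp⟩
      simp only [Perm.mul_apply, swap_apply_left]
      refine swap_apply_of_ne_of_ne ?_ hbc'
      intro h
      have := (swap b0 b).injective ((swap_apply_left b0 b).trans h)
      exact hbc this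
    have h4 : lift e σ ∈ J := h1 ⟨mem_NM.2 fun b => ⟨_, lift_tr e σ b⟩, mem_alternatingGroup.2 (sign_lift e σ)⟩
    have := mul_mem (mul_mem h4 h3) (inv_mem h4)
    convert this using 1
    rw [← hσ1, ← hσ2, ← lift_tr, ← lift_inl, ← lift_inl, swap_apply_apply]
    group

omit [Fintype β] [DecidableEq β] in
theorem fixes_inr [Subsingleton γ] {e : (β × Bool) ⊕ γ ≃ α} {S : Sylow 2 (Perm α)} (hS : ∀ b, tr e b ∈ S) (c : γ)
    {s : Perm α} (hs : s ∈ S) : s (e (.inr c)) = e (.inr c) := by
  obtain ⟨φ, hφ⟩ := exists_phi e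
  have hN : s ∈ NM e := mem_NM_of hS fun t ht => mul_mem (mul_mem hs ht) (inv_mem hs)
  have := fib_map (hφ ⟨s, hN⟩) (e (.inr c))
  obtain ⟨u, hu⟩ := e.surjective (s (e (.inr c)))
  rcases u with ⟨b, i⟩ | d
  · change fib e (s _) = _ at this
    rw [← hu] at this; simp at this
  · rw [← hu, Subsingleton.elim d c]

theorem alt_le_of_stab {J : Subgroup (Perm α)} (hn : 4 ≤ Fintype.card α) {w : α}
    (h1 : stabilizer (Perm α) w ⊓ alternatingGroup α ≤ J) {x : Perm α} (hx : x ∈ J) (hs : sign x = 1)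
    (hxw : x w ≠ w) : alternatingGroup α ≤ J := by
  have h3 : ∀ u, u ≠ w → ∀ v, v ≠ w → ∃ g, sign g = 1 ∧ g w = w ∧ g u = v := by
    intro u hu v hv
    by_cases huv : u = v
    · exact ⟨1, by simp, rfl, huv⟩
    obtain ⟨z, hz⟩ : ∃ z, z ∉ ({w, u, v} : Finset α) := by
      by_contra hc
      push Not at hc
      have h1 := Finset.card_le_card (fun d _ => hc d : Finset.univ ⊆ ({w, u, v} : Finset α))
      have h2 := Finset.card_le_three (a := w) (b := u) (c := v)
      rw [Finset.card_univ] at h1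
      omega
    simp only [Finset.mem_insert, Finset.mem_singleton, not_or] at hz
    have hw : (swap u z * swap u v) w = w := by
      rw [Perm.mul_apply, swap_apply_of_ne_of_ne hu.symm hv.symm, swap_apply_of_ne_of_ne hu.symm (Ne.symm hz.1)]
    refine ⟨swap u z * swap u v, ?_, hw, ?_⟩
    · rw [map_mul, sign_swap huv, sign_swap (Ne.symm hz.2.1)]; simp
    · rw [Perm.mul_apply, swap_apply_left, swap_apply_of_ne_of_ne (Ne.symm huv) (Ne.symm hz.2.2)]
  intro y hy
  by_cases hyw : y w = w
  · exact h1 ⟨hyw, hy⟩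
  obtain ⟨g, hg1, hg2, hg3⟩ := h3 _ hxw _ hyw
  have hg : g ∈ J := h1 ⟨hg2, mem_alternatingGroup.2 hg1⟩
  have h4 : (g * x)⁻¹ * y ∈ J := by
    refine h1 ⟨?_, mem_alternatingGroup.2 (by simp [hg1, hs, mem_alternatingGroup.1 hy])⟩
    change ((g * x)⁻¹ * y) w = w
    rw [Perm.mul_apply, ← hg3, ← Perm.mul_apply g x]; simp
  simpa [mul_assoc] using mul_mem (mul_mem hg hx) h4

theorem nu_odd (hf : Function.Injective f) (hA : alternatingGroup α ≤ f.range) (S : Sylow 2 (Perm α))
    (hn : 5 ≤ Fintype.card α) (hodd : Fintype.card α % 2 = 1) (hk : ∀ k, Fintype.card α ≠ 2 ^ k + 1) :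
    ¬ ∃! M : Subgroup G, IsCoatom M ∧ (S : Subgroup (Perm α)).comap f ≤ M := by
  obtain ⟨e, hS⟩ := exists_adapted S
  haveI := subs (Fintype.card α)
  let c : Fin (Fintype.card α % 2) := ⟨0, by omega⟩
  let b0 : Fin (Fintype.card α / 2) := ⟨0, by omega⟩
  set w := e (.inr c) with hw
  set a := e (.inl (b0, false)) with ha
  set a' := e (.inl (b0, true)) with ha'
  have hfix : ∀ s ∈ S, s w = w := fun s hs => fixes_inr hS c hs
  let D : Set α := orbit (S : Subgroup (Perm α)) a
  have haD : a ∈ D := mem_orbit_self a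
  have haD' : a' ∈ D := ⟨⟨tr e b0, hS b0⟩, tr_apply e b0 false⟩
  have haw : a ≠ w := by simp [ha, hw]
  have haw' : a' ≠ w := by simp [ha', hw]
  have haa : a ≠ a' := by simp [ha, ha']
  have hwD : w ∉ D := by
    rintro ⟨s, hs⟩
    exact haw ((s : Perm α).injective (hs.trans (hfix s s.2).symm))
  obtain ⟨x, hxD, hxw⟩ : ∃ x, x ∉ D ∧ x ≠ w := by
    by_contra hc
    push Not at hc
    obtain ⟨k, hk'⟩ := S.isPGroup'.card_orbit a
    have : D = {w}ᶜ := by
      ext y
      constructor
      · rintro hy rfl; exact hwD hy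
      · intro hy; by_contra h; exact hy (hc y h)
    have h2 := Set.ncard_add_ncard_compl ({w} : Set α)
    rw [← this, Set.ncard_singleton, Nat.card_eq_fintype_card] at h2
    have h3 : D.ncard = 2 ^ k := hk'
    exact hk k (by omega)
  have hax : a ≠ x := fun h => hxD (h ▸ haD)
  have hax' : a' ≠ x := fun h => hxD (h ▸ haD')
  have hy : sign (swap a x * swap a w) = 1 := by rw [map_mul, sign_swap hax, sign_swap haw]; simp
  refine not_unique hf hA (by omega) (H1 := stabilizer (Perm α) w) (H2 := stabilizer (Perm α) D)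
    (fun s hs => hfix s hs) ?_ ?_ ?_ ?_
  · intro s hs
    rw [mem_stabilizer_iff]
    exact smul_orbit (⟨s, hs⟩ : (S : Subgroup (Perm α))) a
  · intro h
    have := h (mem_alternatingGroup.2 hy)
    rw [mem_stabilizer_iff, Perm.smul_def, Perm.mul_apply, swap_apply_right, swap_apply_left] at this
    exact hxw this
  · intro h
    have := (mem_stabilizer_set.1 (h (mem_alternatingGroup.2 hy)) a).2 haD
    rw [Perm.smul_def, Perm.mul_apply, swap_apply_left, swap_apply_of_ne_of_ne haw.symm hxw.symm] at this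
    exact hwD this
  · intro J h1 h2
    have hz : sign (swap w x * swap a a') = 1 := by rw [map_mul, sign_swap hxw.symm, sign_swap haa]; simp
    refine alt_le_of_stab (by omega) h1 (h2 ⟨?_, mem_alternatingGroup.2 hz⟩) hz ?_
    · refine mem_stabilizer_set.2 fun y => ?_
      have q1 : ∀ y, swap w x y ∈ D ↔ y ∈ D := by
        intro y; rw [swap_apply_def]; split_ifs with h h'
        · rw [h]; exact iff_of_false hxD hwD
        · rw [h']; exact iff_of_false hwD hxD
        · rfl
      have q2 : swap a a' y ∈ D ↔ y ∈ D := by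
        rw [swap_apply_def]; split_ifs with h h'
        · rw [h]; exact iff_of_true haD' haD
        · rw [h']; exact iff_of_true haD haD'
        · rfl
      rw [Perm.smul_def, Perm.mul_apply, q1, q2]
    · rw [Perm.mul_apply, swap_apply_of_ne_of_ne haw.symm haw'.symm, swap_apply_left]
      exact hxw

theorem ker_le [Subsingleton γ] {e : (β × Bool) ⊕ γ ≃ α} {S : Sylow 2 (Perm α)} (hS : ∀ b, tr e b ∈ S)
    {y : Perm α} (h : ∀ b, y * tr e b * y⁻¹ = tr e b) : y ∈ S := by
  obtain ⟨φ, hφ⟩ := exists_phi e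
  have hle : (S : Subgroup (Perm α)) ≤ NM e := fun s hs =>
    mem_NM_of hS fun t ht => mul_mem (mul_mem hs ht) (inv_mem hs)
  have hk : IsPGroup 2 φ.ker := by
    intro z
    refine ⟨1, Subtype.ext (Subtype.ext ?_)⟩
    have : ((z : NM e) : Perm α) ^ 2 = 1 := sq_of_cent (e := e) fun b => by
      have := hφ z b
      rw [z.2] at this; exact this
    simpa using this
  have h1 := (S.subtype hle).is_maximal' ((S.subtype hle).isPGroup'.to_sup_of_normal_right hk) le_sup_left
  have hN : y ∈ NM e := mem_NM.2 fun b => ⟨b, h b⟩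
  have h2 : (⟨y, hN⟩ : NM e) ∈ φ.ker := by
    rw [MonoidHom.mem_ker]; ext b; exact tr_inj e (by rw [← hφ]; exact h b)
  have h3 : (⟨y, hN⟩ : NM e) ∈ ((S.subtype hle : Sylow 2 (NM e)) : Subgroup (NM e)) := by
    rw [← h1]; exact mem_sup_right h2
  exact h3

/-- A Sylow 2-subgroup contains a four-group acting regularly on four points (in adapted coordinates). -/
theorem exists_four [Subsingleton γ] {e : (β × Bool) ⊕ γ ≃ α} {S : Sylow 2 (Perm α)} (hS : ∀ b, tr e b ∈ S)
    (hβ : 2 ≤ Fintype.card β) : ∃ b c, b ≠ c ∧ lift e (swap b c) ∈ S := by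
  obtain ⟨φ, hφ⟩ := exists_phi e
  have hle : (S : Subgroup (Perm α)) ≤ NM e := fun s hs =>
    mem_NM_of hS fun t ht => mul_mem (mul_mem hs ht) (inv_mem hs)
  let T := (S.subtype hle).mapSurjective (phi_surj hφ)
  obtain ⟨e', hT⟩ := exists_adapted T
  let u0 : Fin (Fintype.card β / 2) := ⟨0, by omega⟩
  refine ⟨e' (.inl (u0, false)), e' (.inl (u0, true)), by simp, ?_⟩
  obtain ⟨s, hs, hs'⟩ := hT u0
  have := ker_le hS (y := (s : Perm α)⁻¹ * lift e (tr e' u0)) fun b => by
    have h1 := hφ s b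
    rw [hs', ← lift_tr] at h1
    calc _ = (s : Perm α)⁻¹ * (lift e (tr e' u0) * tr e b * (lift e (tr e' u0))⁻¹) * s := by group
      _ = _ := by rw [← h1]; group
  simpa [tr] using mul_mem (show (s : Perm α) ∈ S from hs) this

theorem alt_le_of_two {J : Subgroup (Perm α)} (S : Sylow 2 (Perm α)) (hS : (S : Subgroup (Perm α)) ⊓ alternatingGroup α ≤ J)
    (h2 : IsMultiplyPretransitive J α 2) (hn : Fintype.card α = 5 ∨ 9 ≤ Fintype.card α) : alternatingGroup α ≤ J := by
  rcases hn with hn | hn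
  · haveI := alternatingGroup.isSimpleGroup (α := α) (by simp [hn])
    haveI : Nontrivial α := Fintype.one_lt_card_iff_nontrivial.1 (by omega)
    have hc : Nat.card (alternatingGroup α) = 60 := by
      rw [nat_card_alternatingGroup]; simp [hn, Nat.factorial]
    let H := J.subgroupOf (alternatingGroup α)
    rw [← subgroupOf_eq_top]
    by_contra hH
    have h1 := H19.two_mul_card_dvd_factorial_index (H19.not_comm_of_card_not_prime (by rw [hc]; norm_num)) H hH
    have h4 : ¬ 2 ∣ H.index := by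
      obtain ⟨P⟩ : Nonempty (Sylow 2 (alternatingGroup α)) := inferInstance
      obtain ⟨T, hT⟩ := syl_comap (alternatingGroup α).subtype_injective P
      obtain ⟨g, rfl⟩ := exists_smul_eq (Perm α) S T
      have hi : ((S : Subgroup (Perm α)).subgroupOf (alternatingGroup α)).index = (P : Subgroup (alternatingGroup α)).index := by
        rw [← hT]
        change (S : Subgroup (Perm α)).relIndex _ = (MulAut.conj g • (S : Subgroup (Perm α))).relIndex _
        conv_rhs => rw [← Subgroup.Normal.conj_smul_eq_self g (alternatingGroup α)]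
        exact (relIndex_pointwise_smul _ _ _).symm
      intro h
      apply P.not_dvd_index
      rw [← hi]
      exact h.trans (index_dvd_of_le fun x hx => hS ⟨hx, x.2⟩)
    have h5 : 5 ∣ Nat.card H := by
      haveI := isPretransitive_of_is_two_pretransitive (G := J) (α := α)
      obtain ⟨a⟩ : Nonempty α := inferInstance
      have h5J : 5 ∣ Nat.card J := by
        have := (stabilizer J a).index_dvd_card
        rwa [index_stabilizer_of_transitive, Nat.card_eq_fintype_card, hn] at this
      haveI := Fact.mk Nat.prime_five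
      obtain ⟨g, hg⟩ := exists_prime_orderOf_dvd_card' 5 h5J
      have hs : sign (g : Perm α) = 1 := by
        have h1 : (sign (g : Perm α)) ^ 5 = 1 := by
          rw [← map_pow, ← Subgroup.coe_pow, ← hg, pow_orderOf_eq_one]; simp
        rcases Int.units_eq_one_or (sign (g : Perm α)) with h | h
        · exact h
        · rw [h] at h1; exact absurd h1 (by decide)
      have := orderOf_dvd_natCard (⟨⟨g, hs⟩, g.2⟩ : H)
      rwa [← Subgroup.orderOf_coe, ← Subgroup.orderOf_coe, Subgroup.orderOf_coe g, hg] at this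
    have h6 := H.card_mul_index
    rw [hc] at h1 h6
    obtain ⟨m, hm⟩ := h5
    rw [hm] at h6
    have h7 : H.index ∣ 12 := ⟨m, by linarith⟩
    have h8 := Nat.le_of_dvd (by norm_num) h7
    generalize H.index = i at *
    interval_cases i <;> simp_all [Nat.factorial]
  · obtain ⟨e, he⟩ := exists_adapted S
    haveI := subs (Fintype.card α)
    obtain ⟨b, c, hbc, hl⟩ := exists_four he (by simp; omega)
    let Γ : Finset α := {e (.inl (b, false)), e (.inl (b, true)), e (.inl (c, false)), e (.inl (c, true))}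
    have hΓ : Γ.card = 4 := by
      simp [Γ, Finset.card_insert_of_notMem, hbc]
    have hsg : ∀ b, sign (tr e b) = -1 := fun b => sign_swap (by simp)
    have hu : tr e b * tr e c ∈ J := hS ⟨mul_mem (he b) (he c), mem_alternatingGroup.2 (by simp [hsg])⟩
    have hv : lift e (swap b c) ∈ J := hS ⟨hl, mem_alternatingGroup.2 (sign_lift e _)⟩
    have fu : ∀ z ∈ Γᶜ, (tr e b * tr e c) z = z := by
      intro z hz
      simp only [Γ, Finset.mem_compl, Finset.mem_insert, Finset.mem_singleton, not_or] at hz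
      rw [Perm.mul_apply, tr, tr, swap_apply_of_ne_of_ne hz.2.2.1 hz.2.2.2, swap_apply_of_ne_of_ne hz.1 hz.2.1]
    have fv : ∀ z ∈ Γᶜ, lift e (swap b c) z = z := by
      intro z hz
      simp only [Γ, Finset.mem_compl, Finset.mem_insert, Finset.mem_singleton, not_or] at hz
      rw [lift_swap e hbc, Perm.mul_apply, swap_apply_of_ne_of_ne hz.2.1 hz.2.2.2,
        swap_apply_of_ne_of_ne hz.1 hz.2.2.1]
    have e1 : (tr e b * tr e c) (e (.inl (b, false))) = e (.inl (b, true)) := by
      rw [Perm.mul_apply, show tr e c (e (.inl (b, false))) = e (.inl (b, false)) from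
        swap_apply_of_ne_of_ne (by simp [hbc]) (by simp), tr_apply]; rfl
    have key : ∀ a ∉ Γᶜ, ∃ g : J, (∀ z ∈ Γᶜ, g • z = z) ∧ g • e (.inl (b, false)) = a := by
      intro a ha
      simp only [Γ, Finset.mem_compl, not_not, Finset.mem_insert, Finset.mem_singleton] at ha
      rcases ha with rfl | rfl | rfl | rfl
      · exact ⟨1, by simp, by simp⟩
      · exact ⟨⟨_, hu⟩, fu, e1⟩
      · exact ⟨⟨_, hv⟩, fv, by change lift e _ _ = _; rw [lift_inl]; simp⟩
      · refine ⟨⟨_, mul_mem hv hu⟩, fun z hz => ?_, ?_⟩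
        · change lift e _ ((tr e b * tr e c) z) = z
          rw [fu z hz, fv z hz]
        · change lift e _ ((tr e b * tr e c) _) = _
          rw [e1, lift_inl]; simp
    have hJC : H2.Pm.JC J Γᶜ := by
      intro a ha a' ha'
      obtain ⟨g, hg1, hg2⟩ := key a ha
      obtain ⟨h, hh1, hh2⟩ := key a' ha'
      refine ⟨h * g⁻¹, fun z hz => ?_, ?_⟩
      · rw [mul_smul, inv_smul_eq_iff.2 (hg1 z hz).symm, hh1 z hz]
      · rw [mul_smul, ← hg2, inv_smul_smul, hh2]
    have := H2.Pm.marggraf h2 hJC (by rw [Finset.card_compl, hΓ]; omega) (by rw [Finset.card_compl, hΓ]; omega)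
    intro x hx
    obtain ⟨g, rfl⟩ := this hx
    exact g.2

theorem uniq (hf : Function.Injective f) (hA : alternatingGroup α ≤ f.range) (S : Sylow 2 (Perm α))
    {k : ℕ} (hk : 2 ≤ k) (hn : Fintype.card α = 2 ^ k + 1) :
    ∃! M : Subgroup G, IsCoatom M ∧ (S : Subgroup (Perm α)).comap f ≤ M := by
  have h4 : 4 ≤ 2 ^ k := by simpa using Nat.pow_le_pow_right (n := 2) (by norm_num) hk
  have hev : 2 ∣ 2 ^ k := dvd_pow_self 2 (by omega)
  obtain ⟨e, hS⟩ := exists_adapted S
  haveI := subs (Fintype.card α)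
  let c : Fin (Fintype.card α % 2) := ⟨0, by omega⟩
  set w := e (.inr c) with hw
  have hfix : ∀ s ∈ S, s w = w := fun s hs => fixes_inr hS c hs
  have hsg : ∀ b, sign (tr e b) = -1 := fun b => sign_swap (by simp)
  have htr : ∀ u ≠ w, ∀ v ≠ w, ∃ s ∈ S, sign s = 1 ∧ s u = v := by
    obtain ⟨g, hg⟩ := (exists_with_cycleType_iff α (m := {2 ^ k})).2 ⟨by simp [hn], by simp; omega⟩
    have hord : orderOf g = 2 ^ k := by rw [← lcm_cycleType, hg]; simp
    obtain ⟨T, hT⟩ := (IsPGroup.of_card (p := 2) (G := zpowers g) (by rw [Nat.card_zpowers, hord])).exists_le_sylow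
    obtain ⟨x, rfl⟩ := exists_smul_eq (Perm α) T S
    have hgS := mem_smul_syl T x (hT (mem_zpowers g))
    set g' := x * g * x⁻¹
    have hg' : g'.cycleType = {2 ^ k} := by rw [cycleType_conj, hg]
    have hcyc : g'.IsCycle := card_cycleType_eq_one.1 (by rw [hg']; simp)
    have hsup : g'.support = {w}ᶜ := by
      apply Finset.eq_of_subset_of_card_le
      · intro y hy
        rw [Finset.mem_compl, Finset.mem_singleton]
        rintro rfl
        exact mem_support.1 hy (hfix _ hgS)
      · rw [← sum_cycleType, hg', Finset.card_compl]; simp [hn]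
    intro u hu v hv
    obtain ⟨i, hi⟩ := hcyc.exists_zpow_eq (x := u) (y := v) (mem_support.1 (by rw [hsup]; simpa using hu))
      (mem_support.1 (by rw [hsup]; simpa using hv))
    rcases Int.units_eq_one_or (sign (g' ^ i)) with h | h
    · exact ⟨_, zpow_mem hgS i, h, hi⟩
    · obtain ⟨b, hb⟩ : ∃ b, tr e b u = u := by
        by_contra hc
        push Not at hc
        obtain ⟨j0, h0⟩ := tr_ne (hc ⟨0, by omega⟩)
        obtain ⟨j1, h1⟩ := tr_ne (hc ⟨1, by omega⟩)
        rw [h0] at h1
        simp at h1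
      exact ⟨g' ^ i * tr e b, mul_mem (zpow_mem hgS i) (hS b), by rw [map_mul, h, hsg]; simp,
        by rw [Perm.mul_apply, hb, hi]⟩
  let H0 := (stabilizer (Perm α) w).comap f
  have hne : H0 ≠ ⊤ := by
    intro ht
    let b0 : Fin (Fintype.card α / 2) := ⟨0, by omega⟩
    have hy : sign (swap (e (.inl (b0, false))) w * tr e b0) = 1 := by
      rw [map_mul, sign_swap (by simp [hw]), hsg]; simp
    obtain ⟨g, hg⟩ := hA (mem_alternatingGroup.2 hy)
    have : g ∈ H0 := by rw [ht]; trivial
    have h1 : f g w = w := this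
    rw [hg, Perm.mul_apply, hfix _ (hS b0), swap_apply_right] at h1
    simp [hw] at h1
  have key : ∀ M : Subgroup G, IsCoatom M ∧ (S : Subgroup (Perm α)).comap f ≤ M → M = H0 := by
    rintro M ⟨hM, hSM⟩
    have hSA : (S : Subgroup (Perm α)) ⊓ alternatingGroup α ≤ M.map f := by
      intro s hs
      obtain ⟨g, rfl⟩ := hA hs.2
      exact mem_map_of_mem f (hSM hs.1)
    by_cases h : M ≤ H0
    · exact (hM.le_iff.1 h).resolve_left hne |>.symm
    exfalso
    obtain ⟨x, hx, hxw⟩ := SetLike.not_le_iff_exists.1 h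
    have hxw : f x w ≠ w := hxw
    have h1 : ∀ u, ∃ g : M.map f, g • w = u := by
      intro u
      by_cases hu : u = w
      · exact ⟨1, by simp [hu]⟩
      obtain ⟨s, hs, hs1, hs2⟩ := htr _ hxw u hu
      exact ⟨⟨s * f x, mul_mem (hSA ⟨hs, mem_alternatingGroup.2 hs1⟩) (mem_map_of_mem f hx)⟩, hs2⟩
    have h2 : IsMultiplyPretransitive (M.map f) α 2 := by
      rw [is_two_pretransitive_iff]
      intro a b c d hab hcd
      obtain ⟨g, rfl⟩ := h1 a
      obtain ⟨h, rfl⟩ := h1 c
      obtain ⟨s, hs, hs1, hs2⟩ := htr (g⁻¹ • b) (fun e => hab (by rw [← e]; simp)) (h⁻¹ • d)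
        (fun e => hcd (by rw [← e]; simp))
      refine ⟨h * ⟨s, hSA ⟨hs, mem_alternatingGroup.2 hs1⟩⟩ * g⁻¹, ?_, ?_⟩
      · rw [mul_smul, mul_smul, inv_smul_smul]
        congr 1
        exact hfix s hs
      · rw [mul_smul, mul_smul]
        exact (congrArg (h • ·) hs2).trans (smul_inv_smul h d)
    have h59 : Fintype.card α = 5 ∨ 9 ≤ Fintype.card α := by
      rcases hk.lt_or_eq with h | h
      · have := Nat.pow_le_pow_right (n := 2) (by norm_num) h
        right; simp at this; omega
      · left; rw [hn, ← h]; rfl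
    exact hM.1 (top_of hf (by omega) hSM (alt_le_of_two S hSA h2 h59))
  obtain ⟨M1, hM1, hle⟩ := (eq_top_or_exists_le_coatom _).resolve_left hne
  have h1 : (S : Subgroup (Perm α)).comap f ≤ M1 := (comap_mono fun s hs => hfix s hs).trans hle
  exact ⟨M1, ⟨hM1, h1⟩, fun M hM => (key M hM).trans (key M1 ⟨hM1, h1⟩).symm⟩

theorem uniq_iff (hf : Function.Injective f) (hA : alternatingGroup α ≤ f.range) (R : Sylow 2 G)
    (hn : 5 ≤ Fintype.card α) :
    (∃! M : Subgroup G, IsCoatom M ∧ (R : Subgroup G) ≤ M) ↔ ∃ k : ℕ, 2 ≤ k ∧ Fintype.card α = 2 ^ k + 1 := by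
  obtain ⟨S, hS⟩ := syl_comap hf R
  rw [← hS]
  constructor
  · intro h
    by_contra hc
    rcases Nat.mod_two_eq_zero_or_one (Fintype.card α) with h0 | h0
    · exact nu_even hf hA S (by omega) h0 h
    · refine nu_odd hf hA S hn h0 (fun k hk => hc ⟨k, ?_, hk⟩) h
      by_contra h2
      have : k = 0 ∨ k = 1 := by omega
      rcases this with rfl | rfl <;> omega
  · rintro ⟨k, hk, h⟩
    exact uniq hf hA S hk h

end

end Cfsg.Agent.L0.SymSyl
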