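import Cfsg.Agent.L0.Rk2
import Cfsg.Agent.L0.FOl

/-!
# A torus element of `SL₂(p)` acting on a normal section of order `p ^ 2`
-/

set_option autoImplicit false

namespace Cfsg.Agent.L0

open Subgroup Cfsg.Agent.H24
open scoped commutatorElement IsMulCommutative

variable {G : Type*} [Group G] {p : ℕ} {N V W U Z : Subgroup G} {a v : G} [hp : Fact p.Prime] [Finite G]

theorem torus [nV : V.Normal] (h2 : p ≠ 2) (hN : SylIn p N ⊤) (hV : V ≤ 𝐂[V]) (hc : Nat.card V = p ^ 2)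
    (he : ∀ x ∈ V, x ^ p = 1) (hU : U ≤ V) (hU' : Nat.card U = p) (h1 : N ≤ 𝐍[U]) (ha : ¬ N ≤ 𝐂[V])
    (hn : ¬ U.Normal) : ∃ t ∈ 𝐍[N], ∃ w ∈ V, w ∉ U ∧ t * w * t⁻¹ * (w ^ 2)⁻¹ ∈ U := by
  obtain ⟨a, ha, ha'⟩ := SetLike.not_le_iff_exists.1 ha
  obtain ⟨v, hv, hv'⟩ := exists_not_mem_of_card (U := U) (V := ⊥) (by rw [hU', card_bot]; exact hp.out.one_lt)
  rw [mem_bot] at hv'
  obtain rfl := eq_zpowers_of_card hU' hv hv'
  have pV : IsPGroup p V := IsPGroup.of_card hc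
  have c1 := cm_le_of_card pV hN.pgrp (le_top.trans (top_le_normalizer V)) h1 hU (by rw [hc, hU', sq])
  have c2 := cm_le_of_card (IsPGroup.of_card (n := 1) (by simpa using hU')) hN.pgrp h1
    (le_top.trans (top_le_normalizer ⊥)) bot_le (by simp [hU'])
  have ta : Tv p V V a v := ⟨fun x hx => hU (c1 (commutator_mem_commutator hx ha)),
    fun x hx => c1 (commutator_mem_commutator hx ha), hU hv, he v (hU hv),
    cm_eq_one.1 (mem_bot.1 (c2 (commutator_mem_commutator hv ha)))⟩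
  obtain ⟨g, hg⟩ : ∃ g, g * v * g⁻¹ ∉ zpowers v := by
    by_contra! hh
    exact hn ⟨by rintro _ ⟨k, rfl⟩ g; exact conj_zpow (a := g) ▸ zpow_mem (hh g) k⟩
  have tb := ta.conj g
  set w := g * v * g⁻¹
  set b := g * a * g⁻¹
  have e1 : V = zpowers v ⊔ zpowers w := eq_sup_zpowers_of_card pV hU (by rw [hc, hU', sq]) tb.mem hg
  have cV : ∀ x, Commute x v → Commute x w → x ∈ 𝐂[V] := fun x h3 h4 => by
    rw [e1, centralizer_sup, centralizer_zpowers, centralizer_zpowers]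
    exact ⟨mem_centralizer_singleton_iff.2 h3, mem_centralizer_singleton_iff.2 h4⟩
  have n1 : ¬ Commute a w := fun e => ha' (cV a ta.comm e)
  have n2 : ¬ Commute b v := fun e => ha' (by
    simpa [b, mul_assoc] using (inferInstance : Normal 𝐂[V]).conj_mem _ (cV b e tb.comm) g⁻¹)
  obtain ⟨l, hl⟩ := hp.out.odd_of_ne_two h2
  obtain ⟨k, hk⟩ := ta.exists_conj tb.mem n1 1
  obtain ⟨i, hi⟩ := tb.exists_conj ta.mem n2 1
  obtain ⟨j, hj⟩ := tb.exists_conj ta.mem n2 l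
  have c : Commute v w := hV tb.mem v ta.mem
  have A1 : MulAut.conj (a ^ k) v = v := by
    rw [MulAut.conj_apply, (ta.comm.zpow_left k).eq, mul_inv_cancel_right]
  have B1 : ∀ i : ℤ, MulAut.conj (b ^ i) w = w := fun i => by
    rw [MulAut.conj_apply, (tb.comm.zpow_left i).eq, mul_inv_cancel_right]
  have A2 : MulAut.conj (a ^ k) w = v * w := by rw [zpow_one] at hk; exact hk
  have B2 : MulAut.conj (b ^ i) v = w * v := by rw [zpow_one] at hi; exact hi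
  have B3 : MulAut.conj (b ^ j) v = w ^ l * v := by rw [zpow_natCast] at hj; exact hj
  have e : ∀ x, (b ^ i * a ^ k * b ^ j) * x * (b ^ i * a ^ k * b ^ j)⁻¹ =
      MulAut.conj (b ^ i) (MulAut.conj (a ^ k) (MulAut.conj (b ^ j) x)) := fun x => by
    simp only [MulAut.conj_apply]; group
  have e2 : w * v * w = v * w ^ 2 := by rw [← c.eq, mul_assoc, sq]
  have t1 : (b ^ i * a ^ k * b ^ j) * v * (b ^ i * a ^ k * b ^ j)⁻¹ = v ^ (l + 1) := by
    rw [e, B3, map_mul, map_pow, A1, A2, map_mul, map_pow, map_mul, B1, B2, e2, (c.pow_right 2).mul_pow, ← pow_mul,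
      mul_assoc, ← mul_assoc (w ^ (2 * l)), ← pow_succ, ← hl, tb.pow, one_mul, pow_succ]
  have t2 : (b ^ i * a ^ k * b ^ j) * w * (b ^ i * a ^ k * b ^ j)⁻¹ = v * w ^ 2 := by
    rw [e, B1, A2, map_mul, B1, B2, e2]
  generalize b ^ i * a ^ k * b ^ j = t at t1 t2
  have t3 : t ∈ 𝐍[zpowers v] := mem_normalizer_of_conj_mem (by
    rintro _ ⟨n, rfl⟩; exact conj_zpow (a := t) ▸ zpow_mem (t1 ▸ pow_mem hv _) n)
  obtain ⟨n, hn1, y, hy, rfl⟩ := (hN.of_le (le_centMod_iff.2 ⟨h1, c1⟩) le_top).frattini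
    (le_normalizer_centMod (L := zpowers t) (le_top.trans (top_le_normalizer V)) (zpowers_le.2 t3) (mem_zpowers t))
  refine ⟨y, hy, w, tb.mem, hg, ?_⟩
  have m : v * w ^ 2 ∈ V := mul_mem ta.mem (pow_mem tb.mem 2)
  have : y * w * y⁻¹ * (w ^ 2)⁻¹ = ⁅v * w ^ 2, n⁻¹⁆⁻¹ * v := by
    have : y * w * y⁻¹ = n⁻¹ * (v * w ^ 2) * n := by rw [← t2]; group
    rw [this, commutatorElement_def]; group
  rw [this]
  exact mul_mem (inv_mem ((inv_mem hn1).2 _ m)) hv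

omit hp in
theorem card_map_mk' [Z.Normal] (h : Z ≤ W) : Nat.card Z * Nat.card (W.map (QuotientGroup.mk' Z)) = Nat.card W := by
  rw [← relIndex_ker, QuotientGroup.ker_mk', card_mul_relIndex h]

theorem torus' [nW : W.Normal] [nZ : Z.Normal] (h2 : p ≠ 2) (hN : SylIn p N ⊤) (hZ : Z ≤ N) (h3 : Z ≤ U) (hU : U ≤ W)
    (hW : ⁅W, W⁆ ≤ Z) (hc : Nat.card W = p ^ 2 * Nat.card Z) (he : ∀ x ∈ W, x ^ p ∈ Z)
    (hU' : Nat.card U = p * Nat.card Z) (h1 : N ≤ 𝐍[U]) (ha : ¬ ⁅W, N⁆ ≤ Z) (hn : ¬ U.Normal) :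
    ∃ t ∈ 𝐍[N], ∃ w ∈ W, w ∉ U ∧ t * w * t⁻¹ * (w ^ 2)⁻¹ ∈ U := by
  have hs := QuotientGroup.mk'_surjective Z
  set π := QuotientGroup.mk' Z
  have hk : π.ker = Z := QuotientGroup.ker_mk' Z
  have cm : ∀ A : Subgroup G, Z ≤ A → (A.map π).comap π = A := fun A h => comap_map_eq_self (hk.le.trans h)
  have cc : ∀ A B : Subgroup G, B.map π ≤ 𝐂[A.map π] ↔ ⁅A, B⁆ ≤ Z := fun A B => by
    rw [le_centralizer_iff_commutator', ← map_commutator, Subgroup.map_eq_bot_iff, hk]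
  haveI := nW.map π hs
  have z0 : 0 < Nat.card Z := Nat.card_pos
  obtain ⟨t, ht, w, ⟨w, hw, rfl⟩, h4, h5⟩ := torus (V := W.map π) (U := U.map π) (N := N.map π) h2
    (by simpa [map_top_of_surjective π hs] using hN.map π) ((cc W W).2 hW)
    (Nat.eq_of_mul_eq_mul_left z0 (by rw [card_map_mk' (h3.trans hU), hc, mul_comm]))
    (by rintro _ ⟨x, hx, rfl⟩; rw [← map_pow, ← MonoidHom.mem_ker, hk]; exact he x hx) (map_mono hU)
    (Nat.eq_of_mul_eq_mul_left z0 (by rw [card_map_mk' h3, hU', mul_comm])) (map_le_normalizer_map π h1)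
    (fun e => ha ((cc W N).1 e)) fun e => hn (cm U h3 ▸ e.comap π)
  obtain ⟨t, rfl⟩ := hs t
  refine ⟨t, ?_, w, hw, fun e => h4 (mem_map_of_mem π e), ?_⟩
  · rw [← cm N hZ]
    exact comap_le_normalizer_comap π (H := zpowers (π t)) (zpowers_le.2 ht) (mem_zpowers _)
  · rw [← cm U h3, mem_comap]; simpa using h5

end Cfsg.Agent.L0

namespace Cfsg.Agent.H23.LF

open Cfsg Cfsg.FusionSystem Subgroup
open Equiv (Perm)
open scoped commutatorElement

variable {Ω : Type*} [Group Ω] {S E W U Z : Subgroup Ω} {p : ℕ} {F : FusionSystem S} [Finite S] [hp : Fact p.Prime]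

theorem Sat.ess_torus (hF : Sat p F) (h2 : p ≠ 2) (hE : F.IsEssential p E) (hWE : W ≤ E) (h3 : Z ≤ U) (hU : U ≤ W)
    (sW : AutF F E ≤ Stab W) (sZ : AutF F E ≤ Stab Z) (hW : ⁅W, W⁆ ≤ Z) (hc : Nat.card W = p ^ 2 * Nat.card Z)
    (he : ∀ x ∈ W, x ^ p ∈ Z) (hU' : Nat.card U = p * Nat.card Z) (h1 : normalizerIn S E ≤ normalizer (U : Set Ω))
    (ha : ¬ ⁅W, normalizerIn S E⁆ ≤ Z) (hn : ¬ AutF F E ≤ Stab U) :
    ∃ σ ∈ AutF F (normalizerIn S E), ∃ w ∈ W, w ∉ U ∧ σ w * (w ^ 2)⁻¹ ∈ U := by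
  obtain ⟨G, _, θ, H, h⟩ := Sat.exists_em hF hE
  haveI := h.fin
  have wN := hWE.trans h.leN
  have uN := hU.trans wN
  have zN := h3.trans uN
  haveI := (h.normal_iff hWE).2 sW
  haveI := (h.normal_iff (h3.trans (hU.trans hWE))).2 sZ
  haveI : Finite U := finite_of_le (uN.trans nIn_le)
  haveI : Finite (im θ U) := inferInstance
  obtain ⟨t, ht, w, hw, h4, h5⟩ := L0.torus' (W := im θ W) (Z := im θ Z) (U := im θ U) h2 h.ess.syl (im_mono θ zN)
    (im_mono θ h3) (im_mono θ hU) (h.im_comm wN wN ▸ im_mono θ hW) (by rw [h.card_im wN, h.card_im zN, hc])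
    (fun x hx => by
      obtain ⟨x, hx', rfl⟩ := (h.mem_im wN).1 hx
      rw [← h.hom.map_pow (wN hx')]; exact mem_im_of_mem θ (he x hx'))
    (by rw [h.card_im uN, h.card_im zN, hU'])
    (fun g hg => by
      obtain ⟨g, hg', rfl⟩ := (h.mem_im le_rfl).1 hg
      refine H24.mem_normalizer_of_conj_mem fun x hx => ?_
      obtain ⟨x, hx', rfl⟩ := (h.mem_im uN).1 hx
      rw [← h.hom.map_conj hg' (uN hx')]
      exact mem_im_of_mem θ (H24.conj_mem_of_mem_normalizer (h1 hg') hx'))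
    (fun e => ha ((h.im_le (H24.commutator_le_of_le wN le_rfl) zN).1 (h.im_comm wN le_rfl ▸ e)))
    fun e => hn ((h.normal_iff (hU.trans hWE)).1 e)
  obtain ⟨w, hw', rfl⟩ := (h.mem_im wN).1 hw
  obtain ⟨σ, s1, -, s3⟩ := h.exists_aut' h.leN le_rfl ht
  have m : σ w ∈ normalizerIn S E := stab_mem (autF_le_stab F _ s1) (wN hw')
  refine ⟨σ, s1, w, hw', fun e => h4 (mem_im_of_mem θ e), ?_⟩
  have m2 := inv_mem (pow_mem (wN hw') 2)
  rw [← h.apply_mem uN (mul_mem m m2), h.hom.map_mul m m2, h.hom.map_inv (pow_mem (wN hw') 2), h.hom.map_pow (wN hw'),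
    s3 w (wN hw')]
  exact h5

end Cfsg.Agent.H23.LF
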