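/-
Towers of primes in a finite group and the Fitting height.
-/
import Cfsg.Agent.H25.Comp7
import Cfsg.Agent.H10.Cores

set_option autoImplicit false

namespace Cfsg.Agent.L0.Tu

open Subgroup
open scoped commutatorElement

universe u

variable {G G' : Type*} [Group G] [Group G']

/-- `x` is a `q`-element -/
def PE (q : ℕ) (x : G) : Prop := ∃ k, x ^ q ^ k = 1

/-- the subgroup generated by the `q`-elements of `H` -/
def gen (q : ℕ) (H : Subgroup G) : Subgroup G := closure {x | x ∈ H ∧ PE q x}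

/-- the bottom of the tower of type `t` (read from the end) -/
def D : List ℕ → Subgroup G → Subgroup G
  | [], Y => Y
  | q :: t, Y => gen q (D t Y)

/-- lists of primes with distinct neighbours -/
def Good (t : List ℕ) : Prop := (∀ q ∈ t, q.Prime) ∧ t.IsChain (· ≠ ·)

theorem Good.nil : Good [] := ⟨by simp, by simp⟩

theorem Good.tail {q : ℕ} {t : List ℕ} (h : Good (q :: t)) : Good t :=
  ⟨fun x hx => h.1 x (List.mem_cons_of_mem _ hx), h.2.tail⟩

theorem Good.prime {q : ℕ} {t : List ℕ} (h : Good (q :: t)) : q.Prime := h.1 q List.mem_cons_self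

theorem Good.ne {q q' : ℕ} {t : List ℕ} (h : Good (q :: q' :: t)) : q ≠ q' := (List.isChain_cons_cons.1 h.2).1

theorem Good.cons {q : ℕ} {t : List ℕ} (h : Good t) (hq : q.Prime) (hne : t.head? ≠ some q) : Good (q :: t) := by
  refine ⟨by simpa [hq] using h.1, ?_⟩
  cases t with
  | nil => simp
  | cons q' t => exact List.isChain_cons_cons.2 ⟨fun e => hne (by simp [e]), h.2⟩

theorem PE.map {q : ℕ} {x : G} (h : PE q x) (f : G →* G') : PE q (f x) :=
  h.imp fun k hk => by rw [← map_pow, hk, map_one]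

theorem PE.pow {q : ℕ} {x : G} (h : PE q x) (n : ℕ) : PE q (x ^ n) :=
  h.imp fun k hk => by rw [← pow_mul, mul_comm, pow_mul, hk, one_pow]

theorem PE.conj {q : ℕ} {x : G} (h : PE q x) (g : G) : PE q (g * x * g⁻¹) := h.map (MulAut.conj g).toMonoidHom

theorem PE.mem_of_pow {q m : ℕ} {x : G} (h : PE q x) (hm : m.Coprime q) {S : Subgroup G} (hS : x ^ m ∈ S) :
    x ∈ S := by
  obtain ⟨k, hk⟩ := h
  have h1 := Nat.gcd_eq_gcd_ab m (q ^ k)
  rw [(hm.pow_right k).gcd_eq_one] at h1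
  have : x = (x ^ m) ^ Nat.gcdA m (q ^ k) * (x ^ q ^ k) ^ Nat.gcdB m (q ^ k) := by
    rw [← zpow_natCast, ← zpow_natCast, ← zpow_mul, ← zpow_mul, ← zpow_add, ← h1]; simp
  rw [this, hk, one_zpow, mul_one]
  exact zpow_mem hS _

theorem PE.eq_one {q q' : ℕ} {x : G} (h : PE q x) (h' : PE q' x) (hc : q'.Coprime q) : x = 1 := by
  obtain ⟨k, hk⟩ := h'
  exact mem_bot.1 (h.mem_of_pow (hc.pow_left k) (mem_bot.2 hk))

theorem exists_pe_pow [Finite G] {q : ℕ} (hq : q.Prime) (x : G) : ∃ m, m.Coprime q ∧ PE q (x ^ m) := by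
  obtain ⟨e, m, hm, h⟩ := Nat.exists_eq_pow_mul_and_not_dvd (orderOf_pos x).ne' q hq.ne_one
  exact ⟨m, ((Nat.Prime.coprime_iff_not_dvd hq).2 hm).symm, e, by
    rw [← pow_mul, mul_comm, ← h, pow_orderOf_eq_one]⟩

theorem mem_gen {q : ℕ} {H : Subgroup G} {x : G} (hx : x ∈ H) (h : PE q x) : x ∈ gen q H := subset_closure ⟨hx, h⟩

theorem gen_le_iff {q : ℕ} {H K : Subgroup G} : gen q H ≤ K ↔ ∀ x ∈ H, PE q x → x ∈ K :=
  (closure_le _).trans ⟨fun h _ hx h1 => h ⟨hx, h1⟩, fun h x hx => h x hx.1 hx.2⟩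

theorem gen_le (q : ℕ) (H : Subgroup G) : gen q H ≤ H := gen_le_iff.2 fun _ h _ => h

theorem gen_mono {q : ℕ} {H K : Subgroup G} (h : H ≤ K) : gen q H ≤ gen q K :=
  gen_le_iff.2 fun _ hx h1 => mem_gen (h hx) h1

theorem D_le : ∀ (t : List ℕ) (Y : Subgroup G), D t Y ≤ Y
  | [], _ => le_rfl
  | q :: t, Y => (gen_le q _).trans (D_le t Y)

theorem D_mono {Y Y' : Subgroup G} (h : Y ≤ Y') : ∀ t : List ℕ, D t Y ≤ D t Y'
  | [] => h
  | _ :: t => gen_mono (D_mono h t)

theorem map_gen [Finite G] {q : ℕ} (hq : q.Prime) (f : G →* G') (H : Subgroup G) :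
    (gen q H).map f = gen q (H.map f) := by
  refine le_antisymm (map_le_iff_le_comap.2 (gen_le_iff.2 fun x hx h => mem_gen (mem_map_of_mem f hx) (h.map f)))
    (gen_le_iff.2 ?_)
  rintro _ ⟨x, hx, rfl⟩ h
  obtain ⟨m, hm, h1⟩ := exists_pe_pow hq x
  exact h.mem_of_pow hm (map_pow f x m ▸ mem_map_of_mem f (mem_gen (pow_mem hx m) h1))

theorem map_D [Finite G] (f : G →* G') (Y : Subgroup G) : ∀ {t : List ℕ}, Good t → (D t Y).map f = D t (Y.map f)
  | [], _ => rfl
  | _ :: _, h => by rw [D, D, map_gen h.prime, map_D f Y h.tail]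

theorem conj_mem_gen {q : ℕ} {H : Subgroup G} {g : G} (hg : ∀ x ∈ H, g * x * g⁻¹ ∈ H) :
    ∀ x ∈ gen q H, g * x * g⁻¹ ∈ gen q H := fun _ hx =>
  (gen_le_iff (K := (gen q H).comap (MulAut.conj g).toMonoidHom)).2
    (fun y hy h => mem_gen (hg y hy) (h.conj g)) hx

theorem conj_mem_D {Y : Subgroup G} {g : G} (hg : ∀ x ∈ Y, g * x * g⁻¹ ∈ Y) :
    ∀ t : List ℕ, ∀ x ∈ D t Y, g * x * g⁻¹ ∈ D t Y
  | [] => hg
  | _ :: t => conj_mem_gen (conj_mem_D hg t)

instance gen_normal (q : ℕ) (H : Subgroup G) [h : H.Normal] : (gen q H).Normal :=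
  ⟨fun x hx g => conj_mem_gen (fun y hy => h.conj_mem y hy g) x hx⟩

instance D_normal (t : List ℕ) (H : Subgroup G) [h : H.Normal] : (D t H).Normal :=
  ⟨fun x hx g => conj_mem_D (fun y hy => h.conj_mem y hy g) t x hx⟩

theorem isPGroup_of_gen [Finite G] {q : ℕ} {H : Subgroup G} (h : ∀ q', q'.Prime → q' ≠ q → gen q' H = ⊥) :
    IsPGroup q H := by
  refine IsPGroup.of_card (Nat.eq_prime_pow_of_unique_prime_dvd Nat.card_pos.ne' fun {d} hd h1 => ?_)
  by_contra hne
  have := Fact.mk hd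
  obtain ⟨x, hx⟩ := exists_prime_orderOf_dvd_card' d h1
  have h2 : (x : G) ∈ gen d H := mem_gen x.2 ⟨1, by
    rw [pow_one, ← hx, ← coe_pow, pow_orderOf_eq_one, coe_one]⟩
  rw [h d hd hne, mem_bot, OneMemClass.coe_eq_one] at h2
  rw [h2, orderOf_one] at hx
  exact hd.ne_one hx.symm

theorem pe_of_isPGroup {q : ℕ} {H : Subgroup G} (h : IsPGroup q H) {x : G} (hx : x ∈ H) : PE q x :=
  (h ⟨x, hx⟩).imp fun _ hk => congrArg Subtype.val hk

theorem isPGroup_gen_of_nil [Finite G] {q : ℕ} (hq : q.Prime) {H : Subgroup G} (h : Group.IsNilpotent H) :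
    IsPGroup q (gen q H) := by
  have := Fact.mk hq
  let P : Sylow q H := default
  have hP : (P : Subgroup H).Normal := inferInstance
  refine (P.2.map H.subtype).to_le (gen_le_iff.2 fun x hx h1 => ⟨⟨x, hx⟩, ?_, rfl⟩)
  have h2 : IsPGroup q (zpowers (⟨x, hx⟩ : H)) := by
    obtain ⟨k, hk⟩ := h1
    rintro ⟨_, j, rfl⟩
    exact ⟨k, Subtype.ext (by
      rw [coe_pow, ← zpow_natCast, ← zpow_mul, mul_comm, zpow_mul, zpow_natCast,
        show (⟨x, hx⟩ : H) ^ q ^ k = 1 from Subtype.ext hk, one_zpow, coe_one])⟩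
  exact (P.3 (h2.to_sup_of_normal_right P.2) le_sup_right).le (mem_sup_left (mem_zpowers _))

/-- no tower of length `N + 1` means Fitting height at most `N` -/
theorem chain_of_D (N : ℕ) : ∀ {G : Type u} [Group G] [Finite G],
    (∀ s, Good s → s.length = N + 1 → D s (⊤ : Subgroup G) = ⊥) → H25.ChainFrom (⊥ : Subgroup G) N := by
  induction N with
  | zero =>
    intro G _ _ h
    have h1 : ∀ q, IsPGroup q (⊤ : Subgroup G) := fun q =>
      isPGroup_of_gen fun q' hq' _ => h [q'] (Good.nil.cons hq' (by simp)) rfl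
    have : (⊥ : Subgroup G) = ⊤ := top_le_iff.1 fun x hx =>
      (pe_of_isPGroup (h1 2) hx).eq_one (pe_of_isPGroup (h1 3) hx) (by norm_num)
    exact this ▸ H25.ChainFrom.top
  | succ N ih =>
    intro G _ _ h
    refine (ih (G := G ⧸ ⨆ p : Nat.Primes, pCore (p : ℕ) G) fun s hs h1 => ?_).comap.of_nil
      H10.isNilpotent_iSup_pCore
    obtain ⟨q, s, rfl⟩ := List.exists_cons_of_length_eq_add_one h1
    have := Fact.mk hs.prime
    rw [← map_top_of_surjective _ (QuotientGroup.mk'_surjective _), ← map_D _ _ hs, Subgroup.map_eq_bot_iff,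
      QuotientGroup.ker_mk']
    exact H10.le_iSup_pCore_of_nilpotent (isPGroup_of_gen (q := q) fun q' hq' h2 =>
      h (q' :: q :: s) (hs.cons hq' (by simpa using h2.symm)) (by simpa using h1)).isNilpotent

/-- a Fitting chain of length `n` kills the towers of length greater than `n` -/
theorem D_eq_bot [Finite G] {n : ℕ} {F : Fin (n + 1) → Subgroup G} (h0 : F 0 = ⊥) (h1 : F (Fin.last n) = ⊤)
    (hn : ∀ i, (F i).Normal) (h : ∀ i : Fin n, ∃ k : ℕ, (F i.succ).lowerCentralSeries k ≤ F i.castSucc)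
    {t : List ℕ} (ht : Good t) (hl : n < t.length) : D t (⊤ : Subgroup G) = ⊥ := by
  have key : ∀ (t : List ℕ) (q : ℕ), Good (q :: t) → D (q :: t) ⊤ ≤ F ⟨n - t.length, by omega⟩ := by
    intro t
    induction t with
    | nil => exact fun q _ => le_top.trans h1.ge
    | cons q' t ih =>
      intro q hq
      have h2 := ih q' hq.tail
      by_cases h3 : n ≤ t.length
      · have e : n - (q' :: t).length = n - t.length := by simp only [List.length_cons]; omega
        simp only [e]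
        exact (gen_le _ _).trans h2
      obtain ⟨k, hk⟩ := h ⟨n - t.length - 1, by omega⟩
      have e1 : (⟨n - t.length - 1, by omega⟩ : Fin n).succ = ⟨n - t.length, by omega⟩ :=
        Fin.ext (by simp only [Fin.val_succ]; omega)
      have e2 : (⟨n - t.length - 1, by omega⟩ : Fin n).castSucc = ⟨n - (q' :: t).length, by omega⟩ := rfl
      rw [e1, e2] at hk
      set M := F ⟨n - (q' :: t).length, by omega⟩
      have h4 : Group.IsNilpotent ((D t ⊤ ⊓ F ⟨n - t.length, by omega⟩).map (QuotientGroup.mk' M)) :=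
        (isNilpotent_iff_lowerCentralSeries _).2 ⟨k, by
          rw [← map_lowerCentralSeries, Subgroup.map_eq_bot_iff, QuotientGroup.ker_mk']
          exact (lowerCentralSeries_mono k inf_le_right).trans hk⟩
      have h5 := isPGroup_gen_of_nil hq.tail.prime h4
      refine gen_le_iff.2 fun x hx h6 => (QuotientGroup.eq_one_iff x).1 ?_
      refine (h6.map (QuotientGroup.mk' M)).eq_one (pe_of_isPGroup h5 ?_)
        ((Nat.coprime_primes hq.tail.prime hq.prime).2 hq.ne.symm)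
      rw [← map_gen hq.tail.prime]
      exact mem_map_of_mem _ ((gen_le_iff.2 fun y hy h7 => mem_gen (mem_inf.2 ⟨hy, h2 (mem_gen hy h7)⟩) h7 :
        gen q' (D t ⊤) ≤ _) hx)
  obtain ⟨q, t, rfl⟩ := List.exists_cons_of_length_pos (show 0 < t.length by omega)
  have := key t q ht
  simp only [show n - t.length = 0 by simp only [List.length_cons] at hl; omega] at this
  exact eq_bot_iff.2 (this.trans h0.le)

/-- the transfer lemma -/
theorem eq_one_of_central [Finite G] {q q' : ℕ} (hq : q.Prime) (hc : q'.Coprime q)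
    (h1 : gen q' (⊤ : Subgroup G) = ⊤) (h2 : ∀ x : G, PE q x → x ∈ center G) {x : G} (hx : PE q x) : x = 1 := by
  have := Fact.mk hq
  let P : Sylow q G := default
  have h3 : (center G).index.Coprime q := ((Nat.Prime.coprime_iff_not_dvd hq).2 fun h => P.not_dvd_index
    (h.trans (index_dvd_of_le fun y hy => h2 y (pe_of_isPGroup P.2 hy)))).symm
  let S : Subgroup (center G) :=
    { carrier := {y | PE q' y}
      one_mem' := ⟨0, one_pow _⟩
      mul_mem' := by
        rintro a b ⟨i, hi⟩ ⟨j, hj⟩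
        exact ⟨i + j, by rw [Commute.mul_pow (Subtype.ext (mem_center_iff.1 b.2 a)), pow_add, pow_mul, hi, mul_comm (q' ^ i), pow_mul, hj]; simp⟩
      inv_mem' := by
        rintro a ⟨i, hi⟩
        exact ⟨i, by rw [inv_pow, hi, inv_one]⟩ }
  have h4 : gen q' ⊤ ≤ S.comap (MonoidHom.transferCenterPow G) := gen_le_iff.2 fun y _ hy => hy.map _
  exact mem_bot.1 (hx.mem_of_pow h3 (mem_bot.2 ((hx.pow _).eq_one
    (PE.map (h4 (h1.ge (mem_top x))) (center G).subtype) hc)))

/-- the transfer lemma, relative form -/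
theorem gen_le_of_comm [Finite G] {q q' : ℕ} (hq : q.Prime) (hq' : q'.Prime) (hne : q ≠ q') {H M : Subgroup G}
    (hM : ∀ d ∈ gen q' H, ∀ x ∈ M, d * x * d⁻¹ ∈ M)
    (h : ∀ e ∈ gen q' H, PE q e → ∀ d ∈ gen q' H, e⁻¹ * d * e * d⁻¹ ∈ M) : gen q (gen q' H) ≤ M := by
  set E := gen q' H with hE
  have hn : (M.subgroupOf E).Normal := ⟨fun x hx g => hM g g.2 x hx⟩
  let f := QuotientGroup.mk' (M.subgroupOf E)
  have h1 : gen q' (⊤ : Subgroup E) = ⊤ := by
    refine map_injective E.subtype_injective ?_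
    rw [map_gen hq', ← MonoidHom.range_eq_map, subtype_range]
    exact le_antisymm (gen_le _ _) (gen_le_iff.2 fun x hx h2 => mem_gen (mem_gen hx h2) h2)
  refine gen_le_iff.2 fun x hx h2 => (QuotientGroup.eq_one_iff (N := M.subgroupOf E) ⟨x, hx⟩).1 ?_
  refine eq_one_of_central hq ((Nat.coprime_primes hq' hq).2 hne.symm) ?_ (fun y hy => ?_)
    (h2.imp fun k hk => by rw [← QuotientGroup.mk_pow, show (⟨x, hx⟩ : E) ^ q ^ k = 1 from Subtype.ext hk]; rfl)
  · rw [← map_top_of_surjective f (QuotientGroup.mk'_surjective _), ← map_gen hq', h1]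
  · have : gen q ⊤ ≤ (center _).comap f := gen_le_iff.2 fun e _ he => mem_center_iff.2 fun d => by
      obtain ⟨d, rfl⟩ := QuotientGroup.mk'_surjective _ d
      rw [← map_mul, ← map_mul, eq_comm, QuotientGroup.mk'_apply, QuotientGroup.mk'_apply, QuotientGroup.eq]
      have := hM d⁻¹ (inv_mem d.2) _ (h e e.2 (he.map E.subtype) d d.2)
      simpa [mem_subgroupOf, mul_assoc] using this
    refine map_le_iff_le_comap.2 this ?_
    rw [map_gen hq, map_top_of_surjective f (QuotientGroup.mk'_surjective _)]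
    exact mem_gen (mem_top _) hy

/-- coprime lifting of fixed cosets -/
theorem exists_fixed [Finite G] {r : ℕ} (hr : r.Prime) {a : G} (ha : a ^ r = 1) {Y : Subgroup G}
    (hY : ¬ r ∣ Nat.card Y) (haY : ∀ y ∈ Y, a * y * a⁻¹ ∈ Y) {x : G} (hx : x⁻¹ * (a * x * a⁻¹) ∈ Y) :
    ∃ y ∈ Y, a * (x * y) * a⁻¹ = x * y := by
  have := Fact.mk hr
  have := Fintype.ofFinite Y
  let f : Y → Y := fun y => ⟨x⁻¹ * (a * x * a⁻¹) * (a * y * a⁻¹), mul_mem hx (haY y y.2)⟩
  have hf : ∀ (n : ℕ) (y : Y), ((f^[n] y : Y) : G) = x⁻¹ * (a ^ n * (x * y) * (a ^ n)⁻¹) := fun n y => by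
    induction n with
    | zero => simp
    | succ n ih => rw [Function.iterate_succ_apply']; simp only [f, ih, pow_succ']; group
  have hinj : Function.Injective f := fun y y' h => by simpa [f] using h
  obtain ⟨y, hy⟩ := Equiv.Perm.exists_fixed_point_of_prime (p := r) (n := 1)
    (by rwa [← Nat.card_eq_fintype_card]) (σ := Equiv.ofBijective f (Finite.injective_iff_bijective.1 hinj))
    (Equiv.ext fun y => Subtype.ext (by
      rw [pow_one, Equiv.Perm.coe_pow, Equiv.coe_ofBijective, hf, ha]; simp))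
  refine ⟨y, y.2, ?_⟩
  have := hf 1 y
  rw [Function.iterate_one, show f y = y from hy, pow_one, eq_inv_mul_iff_mul_eq] at this
  exact this.symm

end Cfsg.Agent.L0.Tu
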