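/-
Towers in the centralizer of a coprime automorphism and permuted families of subgroups.
-/
import Cfsg.Agent.L0.Tu1

set_option autoImplicit false
set_option linter.unusedSectionVars false

namespace Cfsg.Agent.L0.Tu

open Subgroup

variable {G : Type*} [Group G] [Finite G] {Ω : Type*} [MulAction G Ω]

/-- the fixed points of `a` in `X` -/
abbrev Cx (X : Subgroup G) (a : G) : Subgroup G := X ⊓ centralizer {a}

theorem mem_Cx {X : Subgroup G} {a x : G} : x ∈ Cx X a ↔ x ∈ X ∧ Commute a x := by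
  rw [mem_inf, mem_centralizer_singleton_iff]; exact and_congr_right fun _ => eq_comm

/-- a family of subgroups permuted like the points -/
def Eqv (N : Ω → Subgroup G) : Prop := ∀ (g : G) ω, ∀ x ∈ N ω, g * x * g⁻¹ ∈ N (g • ω)

theorem Eqv.iff {N : Ω → Subgroup G} (h : Eqv N) (g : G) (ω : Ω) (x : G) : g * x * g⁻¹ ∈ N (g • ω) ↔ x ∈ N ω :=
  ⟨fun h1 => by simpa [mul_assoc] using h g⁻¹ _ _ h1, h g ω x⟩

theorem Eqv.of_inv {N : Ω → Subgroup G} (h : Eqv N) {g : G} {ω : Ω} {x : G} (hx : x ∈ N (g⁻¹ • ω)) :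
    g * x * g⁻¹ ∈ N ω := by simpa using h g _ _ hx

theorem smul_eq_of_zpow {r : ℕ} (hr : r.Prime) {a : G} (ha : a ^ r = 1) {ω : Ω} {m : ℤ} (hm : ¬ (r : ℤ) ∣ m)
    (h : a ^ m • ω = ω) : a • ω = ω := by
  refine PE.mem_of_pow (S := MulAction.stabilizer G ω) ⟨1, by rwa [pow_one]⟩ (m := m.natAbs)
    ((Nat.Prime.coprime_iff_not_dvd hr).2 (by rwa [← Int.natCast_dvd])).symm ?_
  have h1 : a ^ m ∈ MulAction.stabilizer G ω := h
  rcases Int.natAbs_eq m with e | e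
  · rwa [e, zpow_natCast] at h1
  · rwa [e, zpow_neg, inv_mem_iff, zpow_natCast] at h1

theorem pow_smul_fix {a : G} {ω : Ω} (h : a • ω = ω) (i : ℕ) : a ^ i • ω = ω :=
  pow_mem (show a ∈ MulAction.stabilizer G ω from h) i

theorem fix_smul {a c : G} (hc : Commute a c) (ω : Ω) : a • c • ω = c • ω ↔ a • ω = ω := by
  rw [← mul_smul, hc.eq, mul_smul, smul_left_cancel_iff]

theorem pow_mem_of_congr {N : Subgroup G} {x y : G} (hx : x ∈ normalizer (N : Set G)) (h : x⁻¹ * y ∈ N) {m : ℕ}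
    (hm : x ^ m ∈ N) : y ^ m ∈ N := by
  have : ∀ m : ℕ, (x ^ m)⁻¹ * y ^ m ∈ N := fun m => by
    induction m with
    | zero => simp
    | succ m ih =>
      have := mul_mem ((mem_normalizer_iff.1 (inv_mem hx) _).1 ih) h
      rwa [show x⁻¹ * ((x ^ m)⁻¹ * y ^ m) * x⁻¹⁻¹ * (x⁻¹ * y) = (x ^ (m + 1))⁻¹ * y ^ (m + 1) by
        rw [pow_succ, pow_succ]; group] at this
  simpa using mul_mem hm (this m)

variable (Ω) in
/-- every orbit of `U` has more than one point and exactly one fixed point of `a` -/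
structure WS (X U : Subgroup G) (a : G) (r : ℕ) : Prop where
  pr : r.Prime
  ha : a ^ r = 1
  cop : ¬ r ∣ Nat.card X
  nX : X.Normal
  nU : U.Normal
  UX : U ≤ X
  dec : ∀ g : G, ∃ u ∈ U, ∃ c, Commute a c ∧ g = u * c
  h1 : ∀ ω : Ω, ∃ u ∈ U, ∃ ω₀ : Ω, a • ω₀ = ω₀ ∧ u • ω₀ = ω
  h2 : ∀ ω₀ : Ω, ∀ u ∈ U, a • ω₀ = ω₀ → a • u • ω₀ = u • ω₀ → u • ω₀ = ω₀
  h3 : ∀ ω₀ : Ω, a • ω₀ = ω₀ → ∃ u ∈ U, u • ω₀ ≠ ω₀

/-- `E` lies in the members of the family at the moved points -/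
structure WE (X : Subgroup G) (a : G) (N : Ω → Subgroup G) (E : Subgroup G) : Prop where
  eqv : Eqv N
  le : E ≤ Cx X a
  inv : ∀ c, Commute a c → ∀ x ∈ E, c * x * c⁻¹ ∈ E
  mov : ∀ ω, a • ω ≠ ω → E ≤ N ω
  nrm : ∀ ω, E ≤ normalizer (N ω : Set G)

variable {X U E : Subgroup G} {a : G} {r : ℕ} {N : Ω → Subgroup G}

theorem WE.R_norm (h : WE X a N E) (ω : Ω) : normalClosure (E : Set G) ≤ normalizer (N ω : Set G) := by
  have : (⨅ ω, normalizer (N ω : Set G)).Normal := ⟨fun x hx g => mem_iInf.2 fun ω => mem_normalizer_iff.2 fun y => by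
    have h1 := mem_normalizer_iff.1 (mem_iInf.1 hx (g⁻¹ • ω)) (g⁻¹ * y * g⁻¹⁻¹)
    rw [h.eqv.iff, ← h.eqv.iff g (g⁻¹ • ω), smul_inv_smul] at h1
    rw [h1]
    exact iff_of_eq (congrArg (· ∈ N ω) (by group))⟩
  exact (normalClosure_le_normal (N := ⨅ ω, normalizer (N ω : Set G)) (le_iInf h.nrm :)).trans (iInf_le _ ω)

namespace WS

variable (w : WS Ω X U a r)
include w

theorem R_le (h : WE X a N E) : normalClosure (E : Set G) ≤ X :=
  have := w.nX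
  normalClosure_le_normal fun _ hx => (h.le hx).1

theorem uniq {ω : Ω} (hω : a • ω ≠ ω) {u : G} (hu : u ∈ U) {i j : ℕ}
    (hi : a • (a ^ i * u)⁻¹ • ω = (a ^ i * u)⁻¹ • ω) (hj : a • (a ^ j * u)⁻¹ • ω = (a ^ j * u)⁻¹ • ω) :
    i ≡ j [MOD r] := by
  have e : ((a ^ j * u * (a ^ j)⁻¹)⁻¹ * (a ^ i * u * (a ^ i)⁻¹)) • (a ^ i * u)⁻¹ • ω = (a ^ j * u)⁻¹ • ω := by
    conv_lhs => rw [← pow_smul_fix hi i]
    conv_rhs => rw [← pow_smul_fix hj j]
    simp only [← mul_smul]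
    congr 1; group
  have h1 := w.h2 _ _ (mul_mem (inv_mem (w.nU.conj_mem u hu _)) (w.nU.conj_mem u hu _)) hi (by rw [e, hj])
  rw [e] at h1
  by_contra hne
  rw [Nat.modEq_iff_dvd] at hne
  refine hω (smul_eq_of_zpow w.pr w.ha hne ?_)
  have := congrArg ((a ^ j * u) • ·) h1
  simp only [smul_inv_smul] at this
  conv_rhs => rw [this]
  simp only [← mul_smul]
  congr 1; group

theorem exists_diag (h : WE X a N E) {e u : G} (he : e ∈ E) (hu : u ∈ U) :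
    ∃ y ∈ normalClosure (E : Set G), Commute a y ∧ ∀ ω, a • ω ≠ ω →
      (∀ i : ℕ, a • (a ^ i * u)⁻¹ • ω = (a ^ i * u)⁻¹ • ω → y⁻¹ * (a ^ i * u * e * (a ^ i * u)⁻¹) ∈ N ω) ∧
      ((∀ i : ℕ, a • (a ^ i * u)⁻¹ • ω ≠ (a ^ i * u)⁻¹ • ω) → y ∈ N ω) := by
  set R := normalClosure (E : Set G) with hR
  let ε : ℕ → R := fun i => ⟨a ^ i * u * e * (a ^ i * u)⁻¹,
    Normal.conj_mem inferInstance _ (subset_normalClosure he) _⟩
  let P : ℕ → R := fun s => ((List.range r).map fun j => ε (j + s)).prod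
  have key : ∀ ω, a • ω ≠ ω → ∀ s,
      (∀ i : ℕ, a • (a ^ i * u)⁻¹ • ω = (a ^ i * u)⁻¹ • ω → (P s : G)⁻¹ * ε i ∈ N ω) ∧
      ((∀ i : ℕ, a • (a ^ i * u)⁻¹ • ω ≠ (a ^ i * u)⁻¹ • ω) → (P s : G) ∈ N ω) := fun ω hω s => by
    have hn : ((N ω).subgroupOf R).Normal := normal_subgroupOf_of_le_normalizer (h.R_norm ω)
    let π := QuotientGroup.mk' ((N ω).subgroupOf R)
    have h1 : ∀ i, a • (a ^ i * u)⁻¹ • ω ≠ (a ^ i * u)⁻¹ • ω → π (ε i) = 1 := fun i hi =>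
      (QuotientGroup.eq_one_iff _).2 (h.eqv.of_inv (h.mov _ hi he))
    have h2 : π (P s) = ((List.range r).map fun j => π (ε (j + s))).prod := by
      rw [map_list_prod, List.map_map]; rfl
    refine ⟨fun i hi => (QuotientGroup.eq (s := (N ω).subgroupOf R)).1 (h2.trans ?_), fun hi =>
      (QuotientGroup.eq_one_iff (N := (N ω).subgroupOf R) _).1 (h2.trans (List.prod_eq_one ?_))⟩
    · have h3 : (i + s * (r - 1)) % r + s ≡ i [MOD r] := by
        refine (Nat.ModEq.add_right s (Nat.mod_modEq _ _)).trans ?_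
        obtain ⟨k, rfl⟩ : ∃ k, r = k + 1 := ⟨r - 1, by have := w.pr.pos; omega⟩
        rw [Nat.add_sub_cancel, add_assoc, ← Nat.mul_succ]
        simp [Nat.ModEq]
      have hl := Nat.mod_lt (i + s * (r - 1)) w.pr.pos
      rw [List.prod_map_eq_pow_single ((i + s * (r - 1)) % r) _ fun j hj hj' => h1 _ fun h4 => hj ?_,
        List.count_eq_one_of_mem List.nodup_range (List.mem_range.2 hl), pow_one]
      · have : a ^ ((i + s * (r - 1)) % r + s) = a ^ i := by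
          rw [pow_eq_pow_mod _ w.ha, h3, ← pow_eq_pow_mod _ w.ha]
        simp only [ε, this]; rfl
      · exact Nat.ModEq.eq_of_lt_of_lt (Nat.ModEq.add_right_cancel' s ((w.uniq hω hu h4 hi).trans h3.symm))
          (List.mem_range.1 hj') hl
    · simp only [List.mem_map]
      rintro _ ⟨j, -, rfl⟩
      exact h1 _ (hi _)
  have hP : a * (P 0 : G) * a⁻¹ = P 1 := by
    have : ∀ l : List ℕ, a * ((l.map fun j => ε (j + 0)).prod : G) * a⁻¹ = (l.map fun j => ε (j + 1)).prod := by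
      intro l
      induction l with
      | nil => simp
      | cons j l ih =>
        rw [List.map_cons, List.prod_cons, List.map_cons, List.prod_cons, coe_mul, coe_mul, ← ih]
        simp only [ε, add_zero, pow_succ']; group
    exact this _
  obtain ⟨y, hy, h1⟩ := exists_fixed w.pr w.ha (Y := R ⊓ ⨅ ω, ⨅ _ : a • ω ≠ ω, N ω) (x := P 0)
    (fun h1 => w.cop (h1.trans (card_dvd_of_le (inf_le_left.trans (w.R_le h)))))
    (fun y hy => ⟨Normal.conj_mem inferInstance _ hy.1 _, mem_iInf.2 fun ω => mem_iInf.2 fun hω =>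
      h.eqv.of_inv (mem_iInf.1 (mem_iInf.1 hy.2 _) (by rwa [Ne, fix_smul (Commute.refl a).inv_right]))⟩)
    (mem_inf.2 ⟨hP ▸ mul_mem (inv_mem (P 0).2) (P 1).2, mem_iInf.2 fun ω => mem_iInf.2 fun hω => by
      rw [hP]
      by_cases h2 : ∀ i : ℕ, a • (a ^ i * u)⁻¹ • ω ≠ (a ^ i * u)⁻¹ • ω
      · exact mul_mem (inv_mem ((key ω hω 0).2 h2)) ((key ω hω 1).2 h2)
      · push Not at h2
        obtain ⟨i, hi⟩ := h2
        simpa [mul_assoc] using mul_mem ((key ω hω 0).1 i hi) (inv_mem ((key ω hω 1).1 i hi))⟩)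
  refine ⟨P 0 * y, mul_mem (P 0).2 hy.1, mul_inv_eq_iff_eq_mul.1 h1, fun ω hω => ?_⟩
  have h2 : y ∈ N ω := mem_iInf.1 (mem_iInf.1 hy.2 ω) hω
  exact ⟨fun i hi => by simpa [mul_assoc, ε] using mul_mem (inv_mem h2) ((key ω hω 0).1 i hi),
    fun hi => mul_mem ((key ω hω 0).2 hi) h2⟩

theorem mov {ω₀ : Ω} (h0 : a • ω₀ = ω₀) {u : G} (hu : u ∈ U) (h : u • ω₀ ≠ ω₀) : a • u • ω₀ ≠ u • ω₀ :=
  fun e => h (w.h2 _ _ hu h0 e)

theorem exists_diag' (h : WE X a N E) {e u : G} (he : e ∈ E) (hu : u ∈ U) :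
    ∃ y ∈ normalClosure (E : Set G), Commute a y ∧ (∀ ω, a • ω ≠ ω → a • u⁻¹ • ω = u⁻¹ • ω →
      y⁻¹ * (u * e * u⁻¹) ∈ N ω) ∧ ∀ ω, a • ω ≠ ω → y ∉ N ω → ∃ i : ℕ, a • (a ^ i * u)⁻¹ • ω = (a ^ i * u)⁻¹ • ω := by
  obtain ⟨y, h1, h2, h3⟩ := w.exists_diag h he hu
  exact ⟨y, h1, h2, fun ω hω h4 => by simpa using (h3 ω hω).1 0 (by simpa using h4), fun ω hω h4 => by
    by_contra h5
    exact h4 ((h3 ω hω).2 (not_exists.1 h5))⟩

theorem base {q : ℕ} (hq : q.Prime) (h : WE X a N (gen q (Cx X a))) (ω : Ω) : gen q (Cx X a) ≤ N ω := by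
  by_cases hω : a • ω = ω
  swap
  · exact h.mov ω hω
  obtain ⟨u, hu, h1⟩ := w.h3 ω hω
  have h2 := w.mov hω hu h1
  refine gen_le_iff.2 fun e he h3 => ?_
  obtain ⟨y, h4, h5, h6, -⟩ := w.exists_diag' h (mem_gen he h3) hu
  have h7 := h6 _ h2 (by simpa using hω)
  obtain ⟨m, hm, h8⟩ := exists_pe_pow hq y
  have h9 := h.mov _ h2 (mem_gen (pow_mem (mem_Cx.2 ⟨w.R_le h h4, h5⟩) m) h8)
  rw [← h.eqv.iff u]
  refine (h3.conj u).mem_of_pow hm ?_
  exact pow_mem_of_congr (h.R_norm _ h4) h7 h9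

end WS

end Cfsg.Agent.L0.Tu
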