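/-
The permutation lemma for towers: the inductive step.
-/
import Cfsg.Agent.L0.Tu2

set_option autoImplicit false
set_option linter.unusedSectionVars false

namespace Cfsg.Agent.L0.Tu

open Subgroup

variable {G : Type*} [Group G] [Finite G] {Ω : Type*} [MulAction G Ω]

/-- normal subgroups of `R` that are `q'`-groups modulo `N` -/
def QM (q : ℕ) (R N M : Subgroup G) : Prop :=
  M ≤ R ∧ (∀ g ∈ R, ∀ x ∈ M, g * x * g⁻¹ ∈ M) ∧ ∀ x ∈ M, ∃ m : ℕ, m.Coprime q ∧ x ^ m ∈ N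

/-- the `q'`-core of `R` modulo `N` -/
def Oq (q : ℕ) (R N : Subgroup G) : Subgroup G := sSup {M | QM q R N M}

theorem QM.le_Oq {q : ℕ} {R N M : Subgroup G} (h : QM q R N M) : M ≤ Oq q R N := le_sSup h

theorem qm_Oq {q : ℕ} (hq : q.Prime) {R N : Subgroup G} (h : R ≤ normalizer (N : Set G)) : QM q R N (Oq q R N) := by
  have hn : (N.subgroupOf R).Normal := normal_subgroupOf_of_le_normalizer h
  have := Fact.mk hq
  let π := QuotientGroup.mk' (N.subgroupOf R)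
  have h1 : QM q R N (((pPrimeCore q _).comap π).map R.subtype) := by
    refine ⟨map_subtype_le _, ?_, ?_⟩
    · rintro g hg _ ⟨x, hx, rfl⟩
      exact ⟨_, Normal.conj_mem inferInstance x hx ⟨g, hg⟩, rfl⟩
    · rintro _ ⟨x, hx, rfl⟩
      refine ⟨_, H10.pPrimeCore_coprime q (R ⧸ N.subgroupOf R),
        (QuotientGroup.eq_one_iff (N := N.subgroupOf R) (x ^ _)).1 ?_⟩
      exact congrArg Subtype.val (pow_card_eq_one' (x := (⟨π x, hx⟩ : pPrimeCore q (R ⧸ N.subgroupOf R))))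
  refine (le_antisymm h1.le_Oq (sSup_le fun M hM x hx => ?_)) ▸ h1
  have h2 : (M.subgroupOf R).Normal := ⟨fun y hy g => hM.2.1 g g.2 y hy⟩
  have h3 : ((M.subgroupOf R).map π).Normal := h2.map _ (QuotientGroup.mk'_surjective _)
  refine ⟨⟨x, hM.1 hx⟩, H10.le_pPrimeCore (N := (M.subgroupOf R).map π) ?_ (mem_map_of_mem _ hx), rfl⟩
  refine ((Nat.Prime.coprime_iff_not_dvd hq).2 fun h4 => ?_).symm
  obtain ⟨z, h5⟩ := exists_prime_orderOf_dvd_card' q h4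
  obtain ⟨y, hy, h8⟩ := z.2
  obtain ⟨m, hm, h6⟩ := hM.2.2 y hy
  rw [← orderOf_coe, ← h8] at h5
  have h7 : π y ^ m = 1 := (QuotientGroup.eq_one_iff (N := N.subgroupOf R) (y ^ m)).2 h6
  exact hq.ne_one (Nat.dvd_one.1 (hm.gcd_eq_one ▸ Nat.dvd_gcd (h5 ▸ orderOf_dvd_of_pow_eq_one h7) dvd_rfl))

theorem Eqv.oq {N : Ω → Subgroup G} (h : Eqv N) (q : ℕ) (R : Subgroup G) [hR : R.Normal] :
    Eqv fun ω => Oq q R (N ω) := fun g ω x hx => by
  refine (sSup_le (a := (Oq q R (N (g • ω))).comap (MulAut.conj g).toMonoidHom) fun M hM y hy => ?_ :) hx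
  refine QM.le_Oq (M := M.map (MulAut.conj g).toMonoidHom) ⟨?_, ?_, ?_⟩ (mem_map_of_mem _ hy)
  · rintro _ ⟨z, hz, rfl⟩
    exact hR.conj_mem z (hM.1 hz) g
  · rintro s hs _ ⟨z, hz, rfl⟩
    exact ⟨_, hM.2.1 _ (hR.conj_mem' s hs g) z hz, by simp [mul_assoc]⟩
  · rintro _ ⟨z, hz, rfl⟩
    obtain ⟨m, h1, h2⟩ := hM.2.2 z hz
    exact ⟨m, h1, map_pow (MulAut.conj g).toMonoidHom z m ▸ h g ω _ h2⟩

/-- the elements that centralize `R` modulo `M` -/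
def Cm (R M : Subgroup G) [hR : R.Normal] (hM : M ≤ R) : Subgroup G where
  carrier := {x | ∀ y ∈ R, y⁻¹ * (x * y * x⁻¹) ∈ M}
  one_mem' := fun y _ => by simp
  mul_mem' := fun {x x'} hx hx' y hy => by
    have h1 := hx' y hy
    have := mul_mem (hx y hy) (mul_mem h1 (hx _ (hM h1)))
    convert this using 1; group
  inv_mem' := fun {x} hx y hy => by
    have := inv_mem (hx _ (hR.conj_mem' y hy x))
    convert this using 1; group

theorem Cm.conj {R M : Subgroup G} [R.Normal] {hM : M ≤ R} {x y : G} (hx : x ∈ Cm R M hM) (hy : y ∈ M) :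
    x * y * x⁻¹ ∈ M := by simpa using mul_mem hy (hx y (hM hy))

variable {X U Dg : Subgroup G} {a : G} {r q : ℕ} {N : Ω → Subgroup G}

/-- the situation of the inductive step -/
structure WD (X U : Subgroup G) (a : G) (r q : ℕ) (N : Ω → Subgroup G) (Dg : Subgroup G) : Prop
    extends WS Ω X U a r, WE X a N (gen q Dg) where
  qp : q.Prime
  dle : Dg ≤ Cx X a
  dinv : ∀ c, Commute a c → ∀ x ∈ Dg, c * x * c⁻¹ ∈ Dg

namespace WD

variable (w : WD X U a r q N Dg)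
include w

local notation "R" => normalClosure (gen q Dg : Set G)
local notation "N'" => fun ω => Oq q R (N ω)

theorem qm (ω : Ω) : QM q R (N ω) (N' ω) := qm_Oq w.qp (w.toWE.R_norm ω)

theorem ev : Eqv N' := w.eqv.oq q R

theorem com {d : G} (hd : d ∈ Dg) : Commute a d := (mem_Cx.1 (w.dle hd)).2

theorem inf_le {ω : Ω} {x : G} (h1 : x ∈ R) (h2 : x ∈ N ω) : x ∈ N' ω :=
  QM.le_Oq (M := R ⊓ N ω) ⟨inf_le_left, fun g hg x hx => ⟨Normal.conj_mem inferInstance x hx.1 g,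
    (mem_normalizer_iff.1 (w.toWE.R_norm ω hg) x).1 hx.2⟩, fun x hx => ⟨1, by simp, by simpa using hx.2⟩⟩ ⟨h1, h2⟩

theorem R_le_of {S : Subgroup G} (h : ∀ u ∈ U, ∀ e ∈ gen q Dg, u * e * u⁻¹ ∈ S) : R ≤ S := by
  refine (closure_le _).2 fun x hx => ?_
  obtain ⟨e, he, h1⟩ := Group.mem_conjugatesOfSet_iff.1 hx
  obtain ⟨g, rfl⟩ := isConj_iff.1 h1
  obtain ⟨u, hu, c, hc, rfl⟩ := w.dec g
  simpa [mul_assoc] using h u hu _ (w.inv c hc e he)

theorem mem_N {ω : Ω} {u e : G} (he : e ∈ gen q Dg) (h : a • u⁻¹ • ω ≠ u⁻¹ • ω) : u * e * u⁻¹ ∈ N ω :=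
  w.eqv.of_inv (w.mov _ h he)

theorem conj_R {u e : G} (he : e ∈ gen q Dg) : u * e * u⁻¹ ∈ R :=
  Normal.conj_mem inferInstance _ (subset_normalClosure he) _

theorem s1 {ω : Ω} (hω : a • ω ≠ ω) : Dg ⊓ R ≤ N' ω := by
  have hn : ((N ω).subgroupOf R).Normal := normal_subgroupOf_of_le_normalizer (w.toWE.R_norm ω)
  let π := QuotientGroup.mk' ((N ω).subgroupOf R)
  have h1 : ∀ g : R, π g ∈ ((centralizer {a}).subgroupOf R).map π := fun g => by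
    have := w.R_le_of (S := ((((centralizer {a}).subgroupOf R).map π).comap π).map (R).subtype) fun u hu e he => by
      refine ⟨⟨_, w.conj_R he⟩, ?_, rfl⟩
      by_cases h2 : a • u⁻¹ • ω = u⁻¹ • ω
      · obtain ⟨y, h3, h4, h5, -⟩ := w.exists_diag' w.toWE he hu
        exact ⟨⟨y, h3⟩, mem_centralizer_singleton_iff.2 h4.symm,
          (QuotientGroup.eq (s := (N ω).subgroupOf R)).2 (h5 ω hω h2)⟩
      · exact ⟨1, one_mem _, ((QuotientGroup.eq_one_iff (N := (N ω).subgroupOf R) _).2 (w.mem_N he h2)).symm⟩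
    obtain ⟨g', h2, h3⟩ := this g.2
    exact (Subtype.ext h3 : g' = g) ▸ h2
  have h2 : ((Dg.subgroupOf R).map π).Normal := ⟨by
    rintro _ ⟨x, hx, rfl⟩ g
    obtain ⟨g, rfl⟩ := QuotientGroup.mk'_surjective _ g
    obtain ⟨c, hc, h3⟩ := h1 g
    exact ⟨c * x * c⁻¹, w.dinv c (mem_centralizer_singleton_iff.1 hc).symm x hx, by
      rw [map_mul, map_mul, map_inv, h3]⟩⟩
  refine fun x hx => QM.le_Oq (M := (((Dg.subgroupOf R).map π).comap π).map (R).subtype)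
    ⟨map_subtype_le _, ?_, ?_⟩ ⟨⟨x, hx.2⟩, mem_map_of_mem π (mem_subgroupOf.2 hx.1), rfl⟩
  · rintro g hg _ ⟨x, hx, rfl⟩
    exact ⟨_, (h2.comap π).conj_mem x hx ⟨g, hg⟩, rfl⟩
  · rintro _ ⟨x, ⟨d, hd, h3⟩, rfl⟩
    obtain ⟨m, hm, h4⟩ := exists_pe_pow w.qp (d : G)
    exact ⟨m, hm, pow_mem_of_congr (w.toWE.R_norm ω d.2) ((QuotientGroup.eq (s := (N ω).subgroupOf R)).1 h3)
      (w.mov ω hω (mem_gen (pow_mem hd m) h4))⟩

theorem s2 {ω : Ω} (hω : a • ω ≠ ω) {y d : G} (hy : y ∈ R) (hc : Commute a y) (hd : d ∈ Dg) :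
    y⁻¹ * (d * y * d⁻¹) ∈ N' ω :=
  w.s1 hω (mem_inf.2 ⟨by simpa [mul_assoc] using mul_mem (w.dinv _ hc.inv_right d hd) (inv_mem hd),
    mul_mem (inv_mem hy) (Normal.conj_mem inferInstance y hy d)⟩)

theorem s3 {ω₀ : Ω} (h0 : a • ω₀ = ω₀) (hE : ¬ gen q Dg ≤ N' ω₀) {d u : G} (hd : d ∈ Dg) (hu : u ∈ U)
    (h : u • ω₀ ≠ ω₀) : ∃ i : ℕ, a ^ i • (d * u * d⁻¹) • ω₀ = u • ω₀ := by
  obtain ⟨e, he, h1⟩ := SetLike.not_le_iff_exists.1 hE
  have hω := w.toWS.mov h0 hu h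
  obtain ⟨y, h2, h3, h4, h5⟩ := w.exists_diag' w.toWE he hu
  have h6 : y ∉ N' (u • ω₀) := fun h6 => h1 ((w.ev.iff u ω₀ e).1 (by
    simpa using mul_mem h6 (w.inf_le (mul_mem (inv_mem h2) (w.conj_R he)) (h4 _ hω (by simpa using h0)))))
  obtain ⟨i, hi⟩ := h5 (d⁻¹ • u • ω₀) (by rwa [Ne, fix_smul (w.com hd).inv_right]) fun h7 => h6 (by
    simpa [mul_assoc] using mul_mem (w.ev.of_inv (w.inf_le h2 h7)) (inv_mem (w.s2 hω h2 h3 hd)))
  rw [← fix_smul (w.com hd)] at hi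
  have hc : d * a ^ i = a ^ i * d := ((w.com hd).pow_left i).eq.symm
  have e1 : ((d * u * d⁻¹)⁻¹ * ((a ^ i)⁻¹ * u * a ^ i)) • ω₀ = d • (a ^ i * u)⁻¹ • d⁻¹ • u • ω₀ := by
    rw [mul_smul, mul_smul, pow_smul_fix h0]
    simp only [← mul_smul]
    congr 1
    rw [mul_inv_rev (a ^ i), mul_assoc u⁻¹, ← mul_assoc (a ^ i)⁻¹, ← mul_inv_rev, hc]; group
  have h7 := w.h2 _ _ (mul_mem (inv_mem (w.nU.conj_mem u hu d)) (w.nU.conj_mem' u hu (a ^ i))) h0 (by rw [e1, hi])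
  rw [mul_smul, inv_smul_eq_iff, mul_smul, pow_smul_fix h0, mul_smul, inv_smul_eq_iff] at h7
  exact ⟨i, h7.symm⟩

theorem s4 {ω₀ : Ω} (h0 : a • ω₀ = ω₀) (hE : ¬ gen q Dg ≤ N' ω₀) {d u : G} (hd : d ∈ Dg) (hu : u ∈ U) :
    (d * u * d⁻¹) • ω₀ = u • ω₀ := by
  have h1 : ∀ d ∈ Dg, ∀ v ∈ U, v • ω₀ = ω₀ → (d * v * d⁻¹) • ω₀ = ω₀ := fun d hd v hv h => by
    by_contra h2
    obtain ⟨i, hi⟩ := w.s3 h0 hE (inv_mem hd) (w.nU.conj_mem v hv d) h2
    rw [show d⁻¹ * (d * v * d⁻¹) * d⁻¹⁻¹ = v by group, h, pow_smul_fix h0] at hi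
    exact h2 hi.symm
  by_cases h : u • ω₀ = ω₀
  · rw [h1 d hd u hu h, h]
  obtain ⟨i, hi⟩ := w.s3 h0 hE hd hu h
  have h2 : ∀ n : ℕ, a ^ (i * n) • (d ^ n * u * (d ^ n)⁻¹) • ω₀ = u • ω₀ := fun n => by
    induction n with
    | zero => simp
    | succ n ih =>
      have h3 := h1 d hd (u⁻¹ * (a ^ (i * n) * (d ^ n * u * (d ^ n)⁻¹) * (a ^ (i * n))⁻¹))
        (mul_mem (inv_mem hu) (w.nU.conj_mem _ (w.nU.conj_mem u hu _) _)) (by
          rw [mul_smul, mul_smul, inv_smul_eq_iff.2 (pow_smul_fix h0 _).symm, mul_smul, ih, inv_smul_smul])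
      have hc : d * a ^ (i * n) = a ^ (i * n) * d := ((w.com hd).pow_left _).eq.symm
      rw [show d * (u⁻¹ * (a ^ (i * n) * (d ^ n * u * (d ^ n)⁻¹) * (a ^ (i * n))⁻¹)) * d⁻¹ =
        (d * u * d⁻¹)⁻¹ * ((d * a ^ (i * n)) * (d ^ n * u * (d ^ n)⁻¹) * (d * a ^ (i * n))⁻¹) by group, hc,
        mul_smul, inv_smul_eq_iff] at h3
      rw [← hi, ← h3]
      conv_rhs => rw [← pow_smul_fix h0 (i * n)]
      simp only [← mul_smul]
      congr 1
      rw [mul_add, mul_one, add_comm, pow_add, pow_succ' d]; group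
  have h3 := h2 (Nat.card X)
  rw [show d ^ Nat.card X = 1 from congrArg Subtype.val (pow_card_eq_one' (x := (⟨d, (w.dle hd).1⟩ : X))),
    one_mul, inv_one, mul_one] at h3
  have h4 : r ∣ i := by
    by_contra h4
    refine w.toWS.mov h0 hu h (smul_eq_of_zpow w.pr w.ha (m := (i * Nat.card X : ℕ)) ?_ (by rwa [zpow_natCast]))
    rw [Int.natCast_dvd_natCast, w.pr.dvd_mul]
    exact fun h5 => h5.elim h4 w.cop
  obtain ⟨j, rfl⟩ := h4
  rwa [pow_mul, w.ha, one_pow, one_smul] at hi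

theorem R_le_N' {ω₀ : Ω} (h0 : a • ω₀ = ω₀) (hE : gen q Dg ≤ N' ω₀) {u : G} (hu : u ∈ U) : R ≤ N' (u • ω₀) :=
  w.R_le_of fun v hv e he => w.ev.of_inv (by
    by_cases h : a • v⁻¹ • u • ω₀ = v⁻¹ • u • ω₀
    · rw [← mul_smul v⁻¹] at h ⊢
      rw [w.h2 _ _ (mul_mem (inv_mem hv) hu) h0 h]
      exact hE he
    · exact w.inf_le (subset_normalClosure he) (w.mov _ h he))

theorem s5 {ω : Ω} (hω : a • ω ≠ ω) : Dg ≤ Cm R (N' ω) (w.qm ω).1 := fun d hd => by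
  obtain ⟨u, hu, ω₀, h0, rfl⟩ := w.h1 ω
  by_cases hE : gen q Dg ≤ N' ω₀
  · exact fun y hy => w.R_le_N' h0 hE hu (mul_mem (inv_mem hy) (Normal.conj_mem inferInstance y hy d))
  have hM := w.qm (u • ω₀)
  let S : Subgroup G :=
    { carrier := {y | y ∈ R ∧ y⁻¹ * (d * y * d⁻¹) ∈ N' (u • ω₀)}
      one_mem' := ⟨one_mem _, by simp⟩
      mul_mem' := fun {y z} hy hz => ⟨mul_mem hy.1 hz.1, by
        have := mul_mem (hM.2.1 _ (inv_mem hz.1) _ hy.2) hz.2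
        convert this using 1; group⟩
      inv_mem' := fun {y} hy => ⟨inv_mem hy.1, by
        have := hM.2.1 _ hy.1 _ (inv_mem hy.2)
        convert this using 1; group⟩ }
  refine fun y hy => (w.R_le_of (S := S) (fun v hv e he => ⟨w.conj_R he, ?_⟩) hy).2
  have hs := w.s4 h0 hE hd hv
  have e1 : d * (v * e * v⁻¹) * d⁻¹ = (d * v * d⁻¹) * (d * e * d⁻¹) * (d * v * d⁻¹)⁻¹ := by group
  have he' := w.inv d (w.com hd) e he
  by_cases h : v • ω₀ = u • ω₀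
  · obtain ⟨z, h2, h3, h4, -⟩ := w.exists_diag' w.toWE he hv
    have h5 := w.inf_le (mul_mem (inv_mem h2) (w.conj_R he)) (h4 _ hω (by rwa [← h, inv_smul_smul]))
    have h6 := w.ev.of_inv (w.inf_le (mul_mem (inv_mem h2) (w.conj_R he)) (h4 (d⁻¹ • u • ω₀)
      (by rwa [Ne, fix_smul (w.com hd).inv_right]) (by
        rw [← h, ← hs, show v⁻¹ • d⁻¹ • (d * v * d⁻¹) • ω₀ = d⁻¹ • ω₀ by simp [mul_smul],
          fix_smul (w.com hd).inv_right, h0])))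
    have := mul_mem (mul_mem (inv_mem h5) (w.s2 hω h2 h3 hd)) h6
    convert this using 1; group
  · have h1 : ∀ v' ∈ U, v' • ω₀ = v • ω₀ → a • v'⁻¹ • u • ω₀ ≠ v'⁻¹ • u • ω₀ := fun v' hv' h1 h2 => by
      rw [← mul_smul v'⁻¹] at h2
      have := w.h2 _ _ (mul_mem (inv_mem hv') hu) h0 h2
      rw [mul_smul, inv_smul_eq_iff, h1] at this
      exact h this.symm
    rw [e1]
    exact mul_mem (inv_mem (w.inf_le (w.conj_R he) (w.mem_N he (h1 v hv rfl))))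
      (w.inf_le (w.conj_R he') (w.mem_N he' (h1 _ (w.nU.conj_mem v hv d) hs)))

theorem s6 (ω : Ω) {d : G} (hd : d ∈ Dg) {x : G} (hx : x ∈ N' ω) : d * x * d⁻¹ ∈ N' ω := by
  by_cases h0 : a • ω = ω
  swap
  · exact Cm.conj (w.s5 h0 hd) hx
  by_cases hE : gen q Dg ≤ N' ω
  · simpa using w.R_le_N' h0 hE (one_mem U) (Normal.conj_mem inferInstance x ((w.qm ω).1 hx) d)
  obtain ⟨u, hu, h1⟩ := w.h3 ω h0
  have h2 := Cm.conj (w.s5 (w.toWS.mov h0 hu h1) hd) (w.ev u ω x hx)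
  rw [← w.s4 h0 hE hd hu, show d * (u * x * u⁻¹) * d⁻¹ = (d * u * d⁻¹) * (d * x * d⁻¹) * (d * u * d⁻¹)⁻¹ by group]
    at h2
  exact (w.ev.iff _ _ _).1 h2

theorem next : WE X a (fun ω => Cm R (N' ω) (w.qm ω).1) Dg where
  eqv g ω x hx y hy := by
    have := w.ev g ω _ (hx _ (Normal.conj_mem' inferInstance y hy g))
    convert this using 1; group
  le := w.dle
  inv := w.dinv
  mov ω hω := w.s5 hω
  nrm ω := le_normalizer_iff.2 fun d hd x hx y hy => by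
    have := w.s6 ω hd (hx _ (Normal.conj_mem' inferInstance y hy d))
    convert this using 1; group

end WD

theorem WS.main (w : WS Ω X U a r) : ∀ (t : List ℕ) (q : ℕ) (N : Ω → Subgroup G), Good (q :: t) →
    WE X a N (D (q :: t) (Cx X a)) → ∀ ω, D (q :: t) (Cx X a) ≤ N ω := by
  intro t
  induction t with
  | nil => exact fun q N hq h => w.base hq.prime h
  | cons q' t ih =>
    intro q N hq h ω
    have w' : WD X U a r q N (D (q' :: t) (Cx X a)) := ⟨w, h, hq.prime, D_le _ _, fun c hc =>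
      conj_mem_D (fun x hx => mem_Cx.2 ⟨w.nX.conj_mem x hx.1 c,
        (hc.mul_right (mem_Cx.1 hx).2).mul_right hc.inv_right⟩) _⟩
    have h1 := ih q' _ hq.tail w'.next ω
    have h2 := gen_le_of_comm hq.prime hq.tail.prime hq.ne (H := D t (Cx X a)) (fun d hd x hx => w'.s6 ω hd hx)
      fun e he h2 d hd => by simpa [mul_assoc] using h1 hd e (subset_normalClosure (mem_gen he h2))
    refine gen_le_iff.2 fun x hx h3 => ?_
    obtain ⟨m, hm, h4⟩ := (w'.qm ω).2.2 x (h2 (mem_gen hx h3))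
    exact h3.mem_of_pow hm h4

end Cfsg.Agent.L0.Tu
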