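/-
The permutation lemma for towers: transitive actions of solvable groups.
-/
import Cfsg.Agent.L0.Tu3

set_option autoImplicit false
set_option linter.unusedSectionVars false
set_option linter.style.haveILetI false

namespace Cfsg.Agent.L0.Tu

open Subgroup
open scoped commutatorElement

variable {G : Type*} [Group G] [Finite G] {Ω : Type*} [MulAction G Ω] {X U M : Subgroup G} {a : G} {r : ℕ}

theorem conj_mem_Cx [hX : X.Normal] {c : G} (hc : Commute a c) : ∀ x ∈ Cx X a, c * x * c⁻¹ ∈ Cx X a := fun x hx =>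
  mem_Cx.2 ⟨hX.conj_mem x hx.1 c, (hc.mul_right (mem_Cx.1 hx).2).mul_right hc.inv_right⟩

theorem WS.fin (w : WS Ω X U a r) {N : Ω → Subgroup G} (hN : Eqv N) {t : List ℕ} (ht : Good t) (hne : t ≠ [])
    (h : ∀ ω, a • ω ≠ ω → D t (Cx X a) ≤ N ω ⊓ MulAction.stabilizer G ω) (ω : Ω) : D t (Cx X a) ≤ N ω := by
  obtain ⟨q, t, rfl⟩ := List.exists_cons_of_ne_nil hne
  have := w.nX
  refine w.main t q N ht ⟨hN, D_le _ _, fun c hc => conj_mem_D (conj_mem_Cx hc) _,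
    fun ω hω => (h ω hω).trans inf_le_left, fun ω => le_normalizer_iff.2 fun e he x hx => ?_⟩ ω
  suffices h1 : e • ω = ω from h1 ▸ hN e ω x hx
  by_cases h0 : a • ω = ω
  swap
  · exact (h ω h0 he).2
  obtain ⟨u, hu, h1⟩ := w.h3 ω h0
  have h2 : e • u • ω = u • ω := (h _ (w.mov h0 hu h1) he).2
  have e1 : ((e * u * e⁻¹)⁻¹ * u) • ω = e • ω := by
    rw [mul_smul, ← h2]; simp [mul_smul]
  rw [← e1]
  exact w.h2 _ _ (mul_mem (inv_mem (w.nU.conj_mem u hu e)) hu) h0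
    (by rw [e1, fix_smul (mem_Cx.1 (D_le _ _ he)).2, h0])

/-- the norm map to the abelianization -/
noncomputable def nu (M : Subgroup G) [M.Normal] (a : G) (r : ℕ) : M →* Abelianization M :=
  ∏ i ∈ Finset.range r, Abelianization.of.comp (MulAut.conjNormal (a ^ i) : MulAut M).toMonoidHom

theorem nu_apply [M.Normal] (m : M) :
    nu M a r m = ∏ i ∈ Finset.range r, Abelianization.of ((MulAut.conjNormal (a ^ i) : MulAut M) m) := by
  rw [nu, MonoidHom.finsetProd_apply]; rfl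

theorem nu_conj [M.Normal] {c : G} (hc : Commute a c) (m : M) : nu M a r ((MulAut.conjNormal c : MulAut M) m) =
    Abelianization.map (MulAut.conjNormal c : MulAut M).toMonoidHom (nu M a r m) := by
  rw [nu_apply, nu_apply, map_prod]
  refine Finset.prod_congr rfl fun i _ => ?_
  rw [Abelianization.map_of, ← MulAut.mul_apply, ← map_mul, (hc.pow_left i).eq, map_mul]; rfl

theorem nu_shift [M.Normal] (ha : a ^ r = 1) (m : M) : nu M a r ((MulAut.conjNormal a : MulAut M) m) = nu M a r m := by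
  have h1 := Finset.prod_range_succ (fun i => Abelianization.of ((MulAut.conjNormal (a ^ i) : MulAut M) m)) r
  rw [Finset.prod_range_succ', ha, pow_zero, mul_left_inj] at h1
  rw [nu_apply, nu_apply, ← h1]
  refine Finset.prod_congr rfl fun i _ => ?_
  rw [← MulAut.mul_apply, ← map_mul, pow_succ]

theorem lemW_ab [X.Normal] [hM : M.Normal] (hMX : M ≤ X) (hr : r.Prime) (ha : a ^ r = 1) (hc : ¬ r ∣ Nat.card X)
    (hG : ∀ g : G, ∃ x ∈ X, ∃ i : ℕ, g = x * a ^ i) (htr : ∀ ω ω' : Ω, ∃ g : G, g • ω = ω')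
    (hab : ∀ m ∈ ⁅M, M⁆, ∀ ω : Ω, m • ω = ω) (haM : ∀ ω : Ω, ∃ m ∈ M, a • ω = m • ω) (hf : ∃ ω : Ω, a • ω = ω)
    (hm : ∃ ω : Ω, a • ω ≠ ω) {N : Ω → Subgroup G} (hN : Eqv N) {t : List ℕ} (ht : Good t) (hne : t ≠ [])
    (h : ∀ ω, a • ω ≠ ω → D t (Cx X a) ≤ N ω ⊓ MulAction.stabilizer G ω) (ω : Ω) : D t (Cx X a) ≤ N ω := by
  let U := (nu M a r).ker.map M.subtype
  have hUM : U ≤ M := map_subtype_le _
  have hUc : ∀ c, Commute a c → ∀ u ∈ U, c * u * c⁻¹ ∈ U := by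
    rintro c hc _ ⟨u, hu, rfl⟩
    exact ⟨(MulAut.conjNormal c : MulAut M) u, by
      rw [SetLike.mem_coe, MonoidHom.mem_ker, nu_conj hc, show nu M a r u = 1 from hu, map_one], rfl⟩
  have hdec : ∀ m ∈ M, ∃ u ∈ U, ∃ c, Commute a c ∧ m = u * c := fun m hm => by
    obtain ⟨y, hy, h1⟩ := exists_fixed hr ha (Y := U) (x := m) (fun h1 => hc (h1.trans (card_dvd_of_le (hUM.trans hMX))))
      (hUc a (Commute.refl a)) ⟨(⟨m, hm⟩ : M)⁻¹ * (MulAut.conjNormal a : MulAut M) ⟨m, hm⟩, by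
        rw [SetLike.mem_coe, MonoidHom.mem_ker, map_mul, nu_shift ha, map_inv, inv_mul_cancel], rfl⟩
    have h2 : Commute a (m * y) := mul_inv_eq_iff_eq_mul.1 h1
    exact ⟨_, hUc _ h2 _ (inv_mem hy), _, h2, by group⟩
  let B : Subgroup G :=
    { carrier := {g | ∀ ω : Ω, ∃ m ∈ M, g • ω = m • ω}
      one_mem' := fun ω => ⟨1, one_mem _, rfl⟩
      mul_mem' := fun {g g'} hg hg' ω => by
        obtain ⟨m, h1, h2⟩ := hg (g' • ω)
        obtain ⟨m', h3, h4⟩ := hg' ω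
        exact ⟨m * m', mul_mem h1 h3, by rw [mul_smul, h2, h4, mul_smul]⟩
      inv_mem' := fun {g} hg ω => by
        obtain ⟨m, h1, h2⟩ := hg (g⁻¹ • ω)
        exact ⟨m⁻¹, inv_mem h1, by rw [eq_inv_smul_iff, ← h2, smul_inv_smul]⟩ }
  have hB : B.Normal := ⟨fun b hb g ω => by
    obtain ⟨m, h1, h2⟩ := hb (g⁻¹ • ω)
    exact ⟨_, hM.conj_mem m h1 g, by simp only [mul_smul, h2]⟩⟩
  have key : ∀ ω₀ : Ω, a • ω₀ = ω₀ → ∀ ω : Ω, ∃ u ∈ U, ∃ c, Commute a c ∧ u • c • ω₀ = ω := fun ω₀ h0 ω => by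
    obtain ⟨g, rfl⟩ := htr ω₀ ω
    obtain ⟨x, hx, i, rfl⟩ := hG g
    obtain ⟨y, hy, h1⟩ := exists_fixed hr ha (Y := X ⊓ B) (x := x)
      (fun h1 => hc (h1.trans (card_dvd_of_le inf_le_left))) (fun y hy => Normal.conj_mem inferInstance y hy a)
      (mem_inf.2 ⟨mul_mem (inv_mem hx) (Normal.conj_mem inferInstance x hx a), by
        simpa [mul_assoc] using mul_mem (hB.conj_mem' a haM x) (inv_mem (show a ∈ B from haM))⟩)
    have h2 : Commute a (x * y) := mul_inv_eq_iff_eq_mul.1 h1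
    obtain ⟨m, h3, h4⟩ := (inv_mem hy.2 : y⁻¹ ∈ B) ω₀
    obtain ⟨u, hu, c, h5, rfl⟩ := hdec m h3
    refine ⟨_, hUc _ h2 u hu, _, h2.mul_right h5, ?_⟩
    rw [mul_smul x, pow_smul_fix h0, show x • ω₀ = (x * y) • y⁻¹ • ω₀ by simp [mul_smul], h4]
    simp [mul_smul]
  have h2 : ∀ ω₀ : Ω, ∀ u ∈ U, a • ω₀ = ω₀ → a • u • ω₀ = u • ω₀ → u • ω₀ = ω₀ := by
    rintro ω₀ _ ⟨u, hu, rfl⟩ h0 h1
    let S := (MulAction.stabilizer G ω₀).subgroupOf M
    have h3 : (Abelianization.of (G := M)).ker ≤ S := fun m hm => hab m (by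
      rw [Abelianization.ker_of] at hm
      rw [← map_subtype_commutator]
      exact mem_map_of_mem _ hm) ω₀
    have h4 := prod_mem (S := S.map Abelianization.of) (t := Finset.range r)
      (f := fun i => (Abelianization.of u)⁻¹ * Abelianization.of ((MulAut.conjNormal (a ^ i) : MulAut M) u))
      fun i _ => ⟨u⁻¹ * (MulAut.conjNormal (a ^ i) : MulAut M) u, by
        change ((u : G)⁻¹ * (a ^ i * u * (a ^ i)⁻¹)) • ω₀ = ω₀
        rw [mul_smul, mul_smul, inv_smul_eq_iff (g := a ^ i) |>.2 (pow_smul_fix h0 i).symm, mul_smul, inv_smul_eq_iff]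
        exact pow_smul_fix h1 i, by rw [map_mul, map_inv]⟩
    rw [Finset.prod_mul_distrib, ← nu_apply, show nu M a r u = 1 from hu, mul_one, Finset.prod_const,
      Finset.card_range, inv_pow, inv_mem_iff, ← map_pow, ← mem_comap, comap_map_eq_self h3] at h4
    exact PE.mem_of_pow (q := Nat.card M) ⟨1, by rw [pow_one, pow_card_eq_one']⟩
      ((Nat.Prime.coprime_iff_not_dvd hr).2 fun h5 => hc (h5.trans (card_dvd_of_le hMX))) h4
  let J := U ⊔ centralizer {a}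
  have hJ : J ≤ normalizer (U : Set G) := sup_le le_normalizer
    (le_normalizer_iff.2 fun c hc => hUc c (mem_centralizer_singleton_iff.1 hc).symm)
  have hcJ : ∀ c, Commute a c → c ∈ J := fun c hc => mem_sup_right (mem_centralizer_singleton_iff.2 hc.symm)
  have w : WS Ω (X.subgroupOf J) (U.subgroupOf J) ⟨a, hcJ a (Commute.refl a)⟩ r :=
    { pr := hr
      ha := Subtype.ext ha
      cop := fun h1 => hc (h1.trans (card_comap_dvd_of_injective _ _ J.subtype_injective))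
      nX := inferInstance
      nU := normal_subgroupOf_of_le_normalizer hJ
      UX := comap_mono (hUM.trans hMX)
      dec := fun g => by
        obtain ⟨u, hu, c, h3, h4⟩ := (H10.mem_sup_iff_of_right_le_normalizer (le_sup_right.trans hJ)).1 g.2
        exact ⟨⟨u, mem_sup_left hu⟩, hu, ⟨c, mem_sup_right h3⟩,
          Subtype.ext (mem_centralizer_singleton_iff.1 h3).symm, Subtype.ext h4.symm⟩
      h1 := fun ω => by
        obtain ⟨ω₀, h0⟩ := hf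
        obtain ⟨u, hu, c, h3, h4⟩ := key ω₀ h0 ω
        exact ⟨⟨u, mem_sup_left hu⟩, hu, _, (fix_smul h3 _).2 h0, h4⟩
      h2 := fun ω₀ u hu => h2 ω₀ u hu
      h3 := fun ω₀ h0 => by
        by_contra h3
        push Not at h3
        obtain ⟨ω, hω⟩ := hm
        obtain ⟨u, hu, c, h4, rfl⟩ := key ω₀ h0 ω
        have h5 : (c⁻¹ * u * c⁻¹⁻¹) • ω₀ = ω₀ :=
          h3 ⟨_, mem_sup_left (hUc _ h4.inv_right u hu)⟩ (hUc _ h4.inv_right u hu)
        rw [inv_inv, mul_smul, mul_smul, inv_smul_eq_iff] at h5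
        exact hω (by rw [h5]; exact (fix_smul h4 _).2 h0) }
  have e : (D t (Cx (X.subgroupOf J) ⟨a, hcJ a (Commute.refl a)⟩)).map J.subtype = D t (Cx X a) := by
    rw [map_D _ _ ht]
    congr 1
    ext x
    exact ⟨fun ⟨y, hy, e⟩ => e ▸ mem_Cx.2 ⟨hy.1, congrArg Subtype.val (mem_Cx.1 hy).2.eq⟩,
      fun hx => ⟨⟨x, hcJ x (mem_Cx.1 hx).2⟩, mem_Cx.2 ⟨hx.1, Subtype.ext (mem_Cx.1 hx).2.eq⟩, rfl⟩⟩
  rw [← e, map_le_iff_le_comap]
  exact w.fin (N := fun ω => (N ω).comap J.subtype) (fun g ω x hx => hN g ω x hx) ht hne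
    (fun ω hω x hx => h ω hω (e ▸ mem_map_of_mem _ hx)) ω

/-- the orbits of a subgroup -/
def OQ (M : Subgroup G) (Ω : Type*) [MulAction G Ω] := MulAction.orbitRel.Quotient M Ω

/-- the orbit of a point -/
def OQ.mk (M : Subgroup G) (ω : Ω) : OQ M Ω := Quotient.mk'' ω

instance (M : Subgroup G) [hM : M.Normal] : MulAction G (OQ M Ω) where
  smul g := Quotient.map' (g • ·) (by
    rintro _ ω ⟨m, rfl⟩
    exact ⟨⟨_, hM.conj_mem m m.2 g⟩, by simp [mul_smul, Subgroup.smul_def]⟩)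
  one_smul := Quotient.ind' fun ω => congrArg Quotient.mk'' (one_smul G ω)
  mul_smul g h := Quotient.ind' fun ω => congrArg Quotient.mk'' (mul_smul g h ω)

theorem OQ.smul_mk [M.Normal] (g : G) (ω : Ω) : g • OQ.mk M ω = OQ.mk M (g • ω) := rfl

theorem OQ.surj (z : OQ M Ω) : ∃ ω, OQ.mk M ω = z := Quotient.exists_rep z

theorem OQ.eq {ω ω' : Ω} : OQ.mk M ω = OQ.mk M ω' ↔ ∃ m ∈ M, ω = m • ω' :=
  Quotient.eq''.trans ⟨fun ⟨m, h⟩ => ⟨m, m.2, h.symm⟩, fun ⟨m, h1, h⟩ => ⟨⟨m, h1⟩, h.symm⟩⟩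

theorem lemW0 [X.Normal] (hs : Group.IsSolvable X) (hr : r.Prime) (ha : a ^ r = 1) (hc : ¬ r ∣ Nat.card X)
    (hG : ∀ g : G, ∃ x ∈ X, ∃ i : ℕ, g = x * a ^ i) (htr : ∀ ω ω' : Ω, ∃ g : G, g • ω = ω')
    (hm : ∃ ω : Ω, a • ω ≠ ω) {N : Ω → Subgroup G} (hN : Eqv N) {t : List ℕ} (ht : Good t) (hne : t ≠ [])
    (h : ∀ ω, a • ω ≠ ω → D t (Cx X a) ≤ N ω ⊓ MulAction.stabilizer G ω) (ω : Ω) : D t (Cx X a) ≤ N ω := by
  by_cases h0 : a • ω = ω
  swap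
  · exact (h ω h0).trans inf_le_left
  have hX : ∀ ω : Ω, ∃ m ∈ X, a • ω = m • ω := fun ω' => by
    obtain ⟨g, rfl⟩ := htr ω ω'
    obtain ⟨x, hx, i, rfl⟩ := hG g
    refine ⟨a * x * a⁻¹ * x⁻¹, mul_mem (Normal.conj_mem inferInstance x hx a) (inv_mem hx), ?_⟩
    rw [mul_smul x, pow_smul_fix h0, mul_smul, inv_smul_smul, mul_smul, inv_smul_eq_iff (g := a) |>.2 h0.symm, mul_smul]
  obtain ⟨M, ⟨hM, hMX, haM⟩, hmin⟩ := exists_minimal_of_wellFoundedLT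
    (fun M : Subgroup G => M.Normal ∧ M ≤ X ∧ ∀ ω : Ω, ∃ m ∈ M, a • ω = m • ω) ⟨X, inferInstance, le_rfl, hX⟩
  have h1 : ¬ M ≤ ⁅M, M⁆ := fun h1 => by
    obtain ⟨ω', h2⟩ := hm
    obtain ⟨m, h3, h4⟩ := haM ω'
    rw [H21.eq_bot_of_sol_of_le_der (H21.sol_of_le hs hMX) h1, mem_bot] at h3
    exact h2 (by rw [h4, h3, one_smul])
  refine (lemW_ab (Ω := OQ ⁅M, M⁆ Ω) hMX hr ha hc hG (fun z z' => ?_) (fun m hm z => ?_) (fun z => ?_)
    ⟨OQ.mk _ ω, by rw [OQ.smul_mk, h0]⟩ ?_ (N := fun z => ⨅ ω, ⨅ _ : OQ.mk _ ω = z, N ω) ?_ ht hne (fun z hz => ?_)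
    (OQ.mk _ ω)).trans ((iInf_le _ ω).trans (iInf_le _ rfl))
  · obtain ⟨ω, rfl⟩ := z.surj
    obtain ⟨ω', rfl⟩ := z'.surj
    exact (htr ω ω').imp fun g hg => by rw [OQ.smul_mk, hg]
  · obtain ⟨ω, rfl⟩ := z.surj
    exact OQ.eq.2 ⟨m, hm, rfl⟩
  · obtain ⟨ω, rfl⟩ := z.surj
    exact (haM ω).imp fun m hm => ⟨hm.1, by rw [OQ.smul_mk, OQ.smul_mk, hm.2]⟩
  · by_contra h2
    push Not at h2
    exact h1 (hmin ⟨inferInstance, (commutator_le_left _ _).trans hMX, fun ω => OQ.eq.1 (h2 (OQ.mk _ ω))⟩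
      (commutator_le_left _ _))
  · exact fun g z x hx => mem_iInf.2 fun ω => mem_iInf.2 fun e => hN.of_inv
      (mem_iInf.1 (mem_iInf.1 hx _) (by rw [← OQ.smul_mk, e, inv_smul_smul]))
  · obtain ⟨ω, rfl⟩ := z.surj
    refine le_inf (le_iInf₂ fun ω' e => (h ω' fun h2 => hz ?_).trans inf_le_left) fun x hx => ?_
    · rw [← e, OQ.smul_mk, h2]
    · exact congrArg (OQ.mk _) (h ω (fun h2 => hz (by rw [OQ.smul_mk, h2])) hx).2

theorem exists_mul_pow (hr : r.Prime) (ha : a ^ r = 1) (haX : a ∈ normalizer (X : Set G)) {g : G}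
    (hg : g ∈ X ⊔ zpowers a) : ∃ x ∈ X, ∃ i : ℕ, g = x * a ^ i := by
  obtain ⟨x, hx, c, h3, h4⟩ := (H10.mem_sup_iff_of_right_le_normalizer (zpowers_le.2 haX)).1 hg
  obtain ⟨i, rfl⟩ := mem_powers_iff_mem_zpowers.2 h3
  exact ⟨x, hx, i, h4.symm⟩

/-- the permutation lemma -/
theorem lemW (hs : Group.IsSolvable X) (haX : a ∈ normalizer (X : Set G)) (hr : r.Prime) (ha : a ^ r = 1)
    (hc : ¬ r ∣ Nat.card X) {N : Ω → Subgroup G} (hN : Eqv N) {t : List ℕ} (ht : Good t) (hne : t ≠ []) (ω : Ω)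
    (hm : ∃ g ∈ X ⊔ zpowers a, a • g • ω ≠ g • ω)
    (h : ∀ g ∈ X ⊔ zpowers a, a • g • ω ≠ g • ω → D t (Cx X a) ≤ N (g • ω) ⊓ MulAction.stabilizer G (g • ω))
    {g : G} (hg : g ∈ X ⊔ zpowers a) : D t (Cx X a) ≤ N (g • ω) := by
  let J := X ⊔ zpowers a
  have haJ : a ∈ J := mem_sup_right (mem_zpowers a)
  have : (X.subgroupOf J).Normal := normal_subgroupOf_of_le_normalizer (sup_le le_normalizer (zpowers_le.2 haX))
  have e : (D t (Cx (X.subgroupOf J) ⟨a, haJ⟩)).map J.subtype = D t (Cx X a) := by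
    rw [map_D _ _ ht]
    congr 1
    ext x
    exact ⟨fun ⟨y, hy, e⟩ => e ▸ mem_Cx.2 ⟨hy.1, congrArg Subtype.val (mem_Cx.1 hy).2.eq⟩,
      fun hx => ⟨⟨x, mem_sup_left hx.1⟩, mem_Cx.2 ⟨hx.1, Subtype.ext (mem_Cx.1 hx).2.eq⟩, rfl⟩⟩
  rw [← e, map_le_iff_le_comap]
  refine lemW0 (Ω := MulAction.orbit J ω) (Group.isSolvable_of_isSolvable_injective
    (f := (subgroupOfEquivOfLe (le_sup_left : X ≤ J)).toMonoidHom) (MulEquiv.injective _)) hr (Subtype.ext ha)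
    (fun h1 => hc (h1.trans (card_comap_dvd_of_injective _ _ J.subtype_injective))) (fun g => ?_)
    (fun ω ω' => MulAction.exists_smul_eq J ω ω') ?_ (N := fun ω => (N ω).comap J.subtype)
    (fun g ω x hx => hN g ω x hx) ht hne ?_ ⟨g • ω, ⟨g, hg⟩, rfl⟩
  · obtain ⟨x, hx, i, h1⟩ := exists_mul_pow hr ha haX g.2
    exact ⟨⟨x, mem_sup_left hx⟩, hx, i, Subtype.ext h1⟩
  · obtain ⟨g, hg, h1⟩ := hm
    exact ⟨⟨g • ω, ⟨g, hg⟩, rfl⟩, fun h2 => h1 (congrArg Subtype.val h2)⟩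
  · rintro ⟨_, g, rfl⟩ h1 x hx
    have := h g g.2 (fun h2 => h1 (Subtype.ext h2)) (e ▸ mem_map_of_mem _ hx)
    exact ⟨this.1, Subtype.ext this.2⟩

end Cfsg.Agent.L0.Tu
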