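/-
Systems of weight spaces and the kernel on the fixed points.
-/
import Cfsg.Agent.L0.Tu4

set_option autoImplicit false
set_option linter.unusedSectionVars false

namespace Cfsg.Agent.L0.Tu

open Subgroup
open scoped commutatorElement

variable {G : Type*} [Group G] [Finite G] {k : Type*} [Field k] {V : Type*} [AddCommGroup V] [Module k V]
  (ρ : G →* Module.End k V)

theorem rho_mul (g h : G) (v : V) : ρ (g * h) v = ρ g (ρ h v) := by rw [map_mul]; rfl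

theorem rho_inv (g : G) (v : V) : ρ g⁻¹ (ρ g v) = v := by rw [← rho_mul, inv_mul_cancel, map_one]; rfl

theorem rho_inv' (g : G) (v : V) : ρ g (ρ g⁻¹ v) = v := by rw [← rho_mul, mul_inv_cancel, map_one]; rfl

/-- subspaces with the action of the group -/
@[ext] structure Sb (_ρ : G →* Module.End k V) where
  /-- the subspace -/
  s : Submodule k V

instance : MulAction G (Sb ρ) where
  smul g W := ⟨W.s.comap (ρ g⁻¹)⟩
  one_smul W := Sb.ext (by change W.s.comap (ρ 1⁻¹) = _; rw [inv_one, map_one]; rfl)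
  mul_smul g h W := Sb.ext (by change W.s.comap (ρ (g * h)⁻¹) = _; rw [mul_inv_rev, map_mul]; rfl)

variable {ρ}

theorem mem_smul {g : G} {W : Sb ρ} {v : V} : v ∈ (g • W).s ↔ ρ g⁻¹ v ∈ W.s := Iff.rfl

theorem rho_mem {g : G} {W : Sb ρ} {v : V} (h : v ∈ W.s) : ρ g v ∈ (g • W).s := by rwa [mem_smul, rho_inv]

/-- `x` acts on `W` as the scalar `c` -/
def Sca (W : Sb ρ) (x : G) (c : k) : Prop := ∀ v ∈ W.s, ρ x v = c • v

theorem Sca.conj {W : Sb ρ} {x : G} {c : k} (h : Sca W x c) (g : G) : Sca (g • W) (g * x * g⁻¹) c := fun v hv => by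
  rw [rho_mul, rho_mul, h _ hv, map_smul, rho_inv']

theorem Sca.mul {W : Sb ρ} {x y : G} {c d : k} (h : Sca W x c) (h' : Sca W y d) : Sca W (x * y) (c * d) :=
  fun v hv => by rw [rho_mul, h' v hv, map_smul, h v hv, smul_smul, mul_comm]

theorem Sca.inv {W : Sb ρ} {x : G} {c : k} (h : Sca W x c) : Sca W x⁻¹ c⁻¹ := fun v hv => by
  have h1 := rho_inv ρ x v
  rw [h v hv, map_smul] at h1
  by_cases hc : c = 0
  · rw [← h1, hc]; simp
  · rw [eq_inv_smul_iff₀ hc, h1]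

theorem Sca.unique {W : Sb ρ} (hW : W.s ≠ ⊥) {x : G} {c d : k} (h : Sca W x c) (h' : Sca W x d) : c = d := by
  obtain ⟨v, hv, h0⟩ := Submodule.exists_mem_ne_zero_of_ne_bot hW
  exact smul_left_injective k h0 ((h v hv).symm.trans (h' v hv))

theorem Sca.ne_zero {W : Sb ρ} (hW : W.s ≠ ⊥) {x : G} {c : k} (h : Sca W x c) : c ≠ 0 := by
  obtain ⟨v, hv, h0⟩ := Submodule.exists_mem_ne_zero_of_ne_bot hW
  rintro rfl
  exact h0 (by rw [← rho_inv ρ x v, h v hv]; simp)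

theorem Sca.comm {W : Sb ρ} {x g : G} {c : k} (h : Sca W x c) (hg : g • W = W) : Sca W ⁅g, x⁆ 1 := fun v hv => by
  have h1 := (hg ▸ h.conj g : Sca W _ c).mul h.inv v hv
  by_cases hW : W.s = ⊥
  · rw [hW, Submodule.mem_bot] at hv; simp [hv]
  · rwa [mul_inv_cancel₀ (h.ne_zero hW)] at h1

/-- the pointwise stabilizer -/
def Fx (W : Sb ρ) : Subgroup G where
  carrier := {g | Sca W g 1}
  one_mem' := fun v _ => by simp
  mul_mem' := fun h h' => by simpa using Sca.mul h h'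
  inv_mem' := fun h => by simpa using Sca.inv h

/-- the elements of `L` that act as scalars -/
def Sc (L : Subgroup G) (W : Sb ρ) : Subgroup G where
  carrier := {g | g ∈ L ∧ ∃ c, Sca W g c}
  one_mem' := ⟨one_mem _, 1, (Fx W).one_mem⟩
  mul_mem' := fun ⟨h1, _, h2⟩ ⟨h3, _, h4⟩ => ⟨mul_mem h1 h3, _, h2.mul h4⟩
  inv_mem' := fun ⟨h1, _, h2⟩ => ⟨inv_mem h1, _, h2.inv⟩

theorem smul_eq_of_inv {W : Sb ρ} {L : Subgroup G} (h : ∀ t ∈ L, ∀ v ∈ W.s, ρ t v ∈ W.s) {t : G} (ht : t ∈ L) :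
    t • W = W :=
  Sb.ext (Submodule.ext fun v => ⟨fun hv => rho_inv' ρ t v ▸ h t ht _ hv, h _ (inv_mem ht) v⟩)

theorem Fx_le (W : Sb ρ) : Fx W ≤ MulAction.stabilizer G W := fun _ hx =>
  smul_eq_of_inv (L := Fx W) (fun t ht v hv => by rw [ht v hv, one_smul]; exact hv) hx

theorem ne_bot_smul {W : Sb ρ} (hW : W.s ≠ ⊥) (g : G) : (g • W).s ≠ ⊥ := by
  obtain ⟨v, hv, h0⟩ := Submodule.exists_mem_ne_zero_of_ne_bot hW
  exact (Submodule.ne_bot_iff _).2 ⟨_, rho_mem hv, fun e => h0 (by rw [← rho_inv ρ g v, e, map_zero])⟩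

/-- `W` is separated from its conjugates under `J` by a projection -/
def Sep (J : Subgroup G) (W : Sb ρ) : Prop :=
  ∃ P : Module.End k V, (∀ v ∈ W.s, P v = v) ∧ ∀ g ∈ J, g • W ≠ W → ∀ v ∈ (g • W).s, P v = 0

theorem Sep.smul {J : Subgroup G} {W : Sb ρ} (h : Sep J W) {g : G} (hg : g ∈ J) : Sep J (g • W) := by
  obtain ⟨P, h1, h2⟩ := h
  refine ⟨ρ g * P * ρ g⁻¹, fun v hv => ?_, fun x hx h3 v hv => ?_⟩
  · rw [Module.End.mul_apply, Module.End.mul_apply, h1 _ hv, rho_inv']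
  · rw [Module.End.mul_apply, Module.End.mul_apply, h2 (g⁻¹ * x * g) (mul_mem (mul_mem (inv_mem hg) hx) hg)
      (fun e => h3 (by rwa [mul_smul, mul_smul, inv_smul_eq_iff] at e)) _ (by
        rw [mul_smul, mul_smul]; exact rho_mem hv), map_zero]

theorem sep_of {J L : Subgroup G} (hL : (Nat.card L : k) ≠ 0) {W : Sb ρ} (hW : W.s ≠ ⊥)
    (h : ∀ g ∈ J, g • W ≠ W → ∃ y ∈ L, ∃ c c', c ≠ c' ∧ Sca W y c ∧ Sca (g • W) y c') : Sep J W := by
  have := Fintype.ofFinite (Sc L W)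
  choose μ hμ using fun t : Sc L W => t.2.2
  have h0 : (Fintype.card (Sc L W) : k) ≠ 0 := fun e => hL (by
    obtain ⟨m, hm⟩ := card_dvd_of_le (show Sc L W ≤ L from fun _ h => h.1)
    rw [hm, Nat.cast_mul, Nat.card_eq_fintype_card, e, zero_mul])
  refine ⟨(Fintype.card (Sc L W) : k)⁻¹ • ∑ t : Sc L W, (μ t)⁻¹ • ρ t, fun v hv => ?_, fun g hg h1 v hv => ?_⟩
  · rw [LinearMap.smul_apply, LinearMap.sum_apply, Finset.sum_congr rfl fun t _ => show _ = v by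
      rw [LinearMap.smul_apply, hμ t v hv, inv_smul_smul₀ ((hμ t).ne_zero hW)]]
    rw [Finset.sum_const, Finset.card_univ, ← Nat.cast_smul_eq_nsmul k, inv_smul_smul₀ h0]
  · obtain ⟨y, hy, c, c', h2, h3, h4⟩ := h g hg h1
    rw [LinearMap.smul_apply, LinearMap.sum_apply]
    have h5 : c' • ∑ t : Sc L W, ((μ t)⁻¹ • ρ t) v = c • ∑ t : Sc L W, ((μ t)⁻¹ • ρ t) v := by
      conv_rhs => rw [← Equiv.sum_comp (Equiv.mulRight (⟨y, hy, c, h3⟩ : Sc L W))]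
      rw [Finset.smul_sum, Finset.smul_sum]
      refine Finset.sum_congr rfl fun t _ => ?_
      rw [Equiv.coe_mulRight, (hμ (t * ⟨y, hy, c, h3⟩)).unique hW ((hμ t).mul h3), LinearMap.smul_apply,
        LinearMap.smul_apply, coe_mul, rho_mul, h4 v hv, map_smul, smul_smul, smul_smul, smul_smul]
      congr 1
      field_simp [h3.ne_zero hW]
    rw [← sub_eq_zero, ← sub_smul, smul_eq_zero, sub_eq_zero] at h5
    rw [h5.resolve_left h2.symm, smul_zero]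

variable {X J : Subgroup G} {a : G} {r : ℕ}

theorem sum_fixed (ha : a ^ r = 1) (v : V) : ρ a (∑ i ∈ Finset.range r, ρ (a ^ i) v) =
    ∑ i ∈ Finset.range r, ρ (a ^ i) v := by
  have h1 := Finset.sum_range_succ (fun i => ρ (a ^ i) v) r
  rw [Finset.sum_range_succ', ha, pow_zero, add_left_inj] at h1
  rw [map_sum, ← h1]
  exact Finset.sum_congr rfl fun i _ => by rw [← rho_mul, pow_succ']

theorem proj_sum (hr : r.Prime) (ha : a ^ r = 1) (hc : ¬ r ∣ Nat.card X) {W : Sb ρ} {P : Module.End k V}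
    (hP : ∀ g ∈ J, g • W ≠ W → ∀ v ∈ (g • W).s, P v = 0) (hW : a • W ≠ W) (haJ : a ∈ J) {x : G} (hx : x ∈ Cx X a)
    (hxJ : x ∈ J) {v : V} (hv : v ∈ W.s) : P (ρ x (∑ i ∈ Finset.range r, ρ (a ^ i) v)) = P (ρ x v) := by
  rw [map_sum, map_sum, Finset.sum_eq_single 0 (fun i hi h0 => ?_) (by simp [hr.ne_zero])]
  · simp
  rw [← rho_mul]
  refine hP _ (mul_mem hxJ (pow_mem haJ i)) (fun e => hW ?_) _ (rho_mem hv)
  have h1 := pow_smul_fix e (Nat.card X)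
  rw [((mem_Cx.1 hx).2.pow_left i).symm.mul_pow, show x ^ Nat.card X = 1 from
    congrArg Subtype.val (pow_card_eq_one' (x := (⟨x, hx.1⟩ : X))), one_mul, ← pow_mul, ← zpow_natCast] at h1
  refine smul_eq_of_zpow hr ha ?_ h1
  rw [Int.natCast_dvd_natCast, hr.dvd_mul]
  exact fun h5 => h5.elim (fun h => h0 (Nat.eq_zero_of_dvd_of_lt h (Finset.mem_range.1 hi))) hc

theorem Sep.exists_fixed (hr : r.Prime) (ha : a ^ r = 1) {W : Sb ρ} (h : Sep J W) (h0 : W.s ≠ ⊥) (hW : a • W ≠ W)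
    (haJ : a ∈ J) : ∃ v, v ≠ 0 ∧ ρ a v = v := by
  obtain ⟨P, h1, h2⟩ := h
  obtain ⟨v, hv, h3⟩ := Submodule.exists_mem_ne_zero_of_ne_bot h0
  refine ⟨_, fun e => h3 ?_, sum_fixed ha v⟩
  have := proj_sum (X := ⊥) hr ha (by simpa using hr.ne_one) h2 hW haJ (one_mem _) (one_mem _) hv
  rw [e] at this
  simpa [h1 v hv] using this.symm

variable (ρ a) in
/-- the kernel on the fixed points of `a` -/
def Kr : Subgroup G := Fx (⟨LinearMap.ker (ρ a - 1)⟩ : Sb ρ)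

theorem mem_Kr {x : G} : x ∈ Kr ρ a ↔ ∀ v, ρ a v = v → ρ x v = v :=
  forall_congr' fun v => by simp [sub_eq_zero]

theorem Sep.mem_Fx (hr : r.Prime) (ha : a ^ r = 1) (hc : ¬ r ∣ Nat.card X) {W : Sb ρ} (h : Sep J W) (hW : a • W ≠ W)
    (haJ : a ∈ J) {x : G} (hx : x ∈ Cx X a) (hxJ : x ∈ J) (hK : x ∈ Kr ρ a) : x ∈ Fx W := fun v hv => by
  obtain ⟨P, h1, h2⟩ := h
  have h3 := proj_sum hr ha hc h2 hW haJ hx hxJ hv
  have h4 := proj_sum hr ha hc h2 hW haJ (one_mem _) (one_mem _) hv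
  rw [mem_Kr.1 hK _ (sum_fixed ha v)] at h3
  rw [map_one, Module.End.one_apply, Module.End.one_apply, h3, h1 v hv] at h4
  by_cases h5 : x • W = W
  · rw [one_smul, ← h1 _ (h5 ▸ rho_mem hv : ρ x v ∈ W.s), h4]
  · rw [← h4, h2 x hxJ h5 _ (rho_mem hv)]; simp

/-- a tower inside the kernel on the fixed points centralizes every system that is moved by `a` -/
theorem qp (hs : Group.IsSolvable X) (haX : a ∈ normalizer (X : Set G)) (hr : r.Prime) (ha : a ^ r = 1)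
    (hc : ¬ r ∣ Nat.card X) {t : List ℕ} (ht : Good t) (hne : t ≠ []) (hK : D t (Cx X a) ≤ Kr ρ a) {W : Sb ρ}
    (hS : Sep (X ⊔ zpowers a) W) (hm : ∃ g ∈ X ⊔ zpowers a, a • g • W ≠ g • W) {g : G} (hg : g ∈ X ⊔ zpowers a) :
    D t (Cx X a) ≤ Fx (g • W) :=
  lemW hs haX hr ha hc (N := Fx) (fun g _ _ hx => Sca.conj hx g) ht hne W hm (fun g hg h1 =>
    le_trans (fun _ hx => (hS.smul hg).mem_Fx hr ha hc h1 (mem_sup_right (mem_zpowers a)) (D_le _ _ hx)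
      (mem_sup_left (D_le _ _ hx).1) (hK hx)) (le_inf le_rfl (Fx_le _))) hg

theorem exists_schur [IsAlgClosed k] [FiniteDimensional k V] (L : Subgroup G) {S₀ : Submodule k V} (h0 : S₀ ≠ ⊥)
    (hL : ∀ t ∈ L, ∀ v ∈ S₀, ρ t v ∈ S₀) : ∃ S : Sb ρ, S.s ≤ S₀ ∧ S.s ≠ ⊥ ∧ (∀ t ∈ L, ∀ v ∈ S.s, ρ t v ∈ S.s) ∧
      ∀ x ∈ L, (∀ t ∈ L, Sca S ⁅x, t⁆ 1) → ∃ c, Sca S x c := by
  obtain ⟨S, ⟨h1, h2, h3⟩, hmin⟩ := exists_minimal_of_wellFoundedLT
    (fun S : Submodule k V => S ≤ S₀ ∧ S ≠ ⊥ ∧ ∀ t ∈ L, ∀ v ∈ S, ρ t v ∈ S) ⟨S₀, le_rfl, h0, hL⟩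
  refine ⟨⟨S⟩, h1, h2, h3, fun x hx h => ?_⟩
  have := Submodule.nontrivial_iff_ne_bot.2 h2
  obtain ⟨c, hc⟩ := Module.End.exists_eigenvalue ((ρ x).restrict (h3 x hx))
  obtain ⟨v, hv, hv0⟩ := hc.exists_hasEigenvector
  have h4 : ∀ w, w ∈ LinearMap.ker (ρ x - c • 1) ↔ ρ x w = c • w := fun w => by simp [sub_eq_zero]
  refine ⟨c, fun w hw => (h4 w).1 (hmin (y := S ⊓ LinearMap.ker (ρ x - c • 1)) ⟨inf_le_left.trans h1,
    (Submodule.ne_bot_iff _).2 ⟨v, ⟨v.2, (h4 v).2 (congrArg Subtype.val (Module.End.mem_eigenspace_iff.1 hv))⟩,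
      fun e => hv0 (Subtype.ext e)⟩, fun t ht w hw => ⟨h3 t ht w hw.1, (h4 _).2 ?_⟩⟩ inf_le_left hw).2⟩
  rw [← rho_mul, show x * t = ⁅x, t⁆ * (t * x) by rw [commutatorElement_def]; group, rho_mul,
    h t ht _ (h3 _ (mul_mem ht hx) w hw.1), one_smul, rho_mul, (h4 w).1 hw.2, map_smul]

/-- a homogeneous component for `L` -/
structure Hc (L : Subgroup G) (W : Sb ρ) : Prop where
  ne : W.s ≠ ⊥
  inv : ∀ t ∈ L, t • W = W
  nd : ∀ x ∈ L, (∀ t ∈ L, ⁅x, t⁆ ∈ Fx W) → x ∈ Sc L W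
  max : ∀ v, (∀ t ∈ L, ∀ c, Sca W t c → ρ t v = c • v) → v ∈ W.s

variable {L : Subgroup G}

theorem exists_hc [IsAlgClosed k] [FiniteDimensional k V] [Nontrivial V] (L : Subgroup G) : ∃ W : Sb ρ, Hc L W := by
  obtain ⟨S, -, h1, h2, h3⟩ := exists_schur (ρ := ρ) L top_ne_bot fun _ _ _ _ => trivial
  let W : Sb ρ := ⟨⨅ t ∈ L, ⨅ c, ⨅ _ : Sca S t c, LinearMap.ker (ρ t - c • 1)⟩
  have hW : ∀ v, v ∈ W.s ↔ ∀ t ∈ L, ∀ c, Sca S t c → ρ t v = c • v := fun v => by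
    simp [W, Submodule.mem_iInf, sub_eq_zero]
  have hS : S.s ≤ W.s := fun v hv => (hW v).2 fun t _ c h => h v hv
  refine ⟨W, fun e => h1 (eq_bot_iff.2 (e ▸ hS)), fun _ => smul_eq_of_inv fun g hg v hv => (hW _).2 fun t ht c h => ?_,
    fun x hx h => ?_, fun v h => (hW v).2 fun t ht c h4 => h t ht c fun w hw => (hW w).1 hw t ht c h4⟩
  · have := (hW v).1 hv _ (mul_mem (mul_mem (inv_mem hg) ht) (inv_mem (inv_mem hg))) c
      (smul_eq_of_inv h2 (inv_mem hg) ▸ h.conj g⁻¹)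
    rw [← map_smul, ← this, ← rho_mul, ← rho_mul]
    congr 2; group
  · obtain ⟨c, hc⟩ := h3 x hx fun t ht v hv => h t ht v (hS hv)
    exact ⟨hx, c, fun v hv => (hW v).1 hv x hx c hc⟩

theorem Hc.smul [hL : L.Normal] {W : Sb ρ} (h : Hc L W) (g : G) : Hc L (g • W) where
  ne := ne_bot_smul h.ne g
  inv t ht := by
    rw [← mul_smul, show t * g = g * (g⁻¹ * t * g) by group, mul_smul, h.inv _ (hL.conj_mem' t ht g)]
  nd x hx h1 := by
    obtain ⟨-, c, hc⟩ := h.nd _ (hL.conj_mem' x hx g) fun t ht => by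
      have := Sca.conj (h1 _ (hL.conj_mem t ht g)) g⁻¹
      rwa [inv_smul_smul, show g⁻¹ * ⁅x, g * t * g⁻¹⁆ * g⁻¹⁻¹ = ⁅g⁻¹ * x * g, t⁆ by
        simp only [commutatorElement_def]; group] at this
    exact ⟨hx, c, by simpa [mul_assoc] using hc.conj g⟩
  max v h1 := h.max _ fun t ht c hc => by
    rw [← map_smul, ← h1 _ (hL.conj_mem t ht g) c (hc.conj g), ← rho_mul, ← rho_mul]
    congr 2; group

theorem Hc.cent {W : Sb ρ} (h : Hc L W) {z : G} (hz : z ∈ L) (h1 : z ∈ centralizer (L : Set G)) : z ∈ Sc L W :=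
  h.nd z hz fun t ht => by
    rw [commutatorElement_eq_one_iff_mul_comm.2 (h1 t ht).symm]; exact one_mem _

theorem Hc.le (hL : ⁅L, L⁆ ≤ centralizer (L : Set G)) {W W' : Sb ρ} (h : Hc L W) (h' : Hc L W')
    (e : ∀ y ∈ L, ∀ c c', Sca W y c → Sca W' y c' → c = c') : W'.s ≤ W.s := fun v hv => h.max v fun t ht c hc => by
  obtain ⟨-, c', h1⟩ := h'.nd t ht fun s hs => by
    have h2 := commutator_mem_commutator ht hs
    obtain ⟨h3, d, hd⟩ := h'.cent (H21.commg_le_left le_normalizer h2) (hL h2)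
    have h4 := (hc.comm (h.inv s hs)).inv
    rw [commutatorElement_inv, inv_one] at h4
    exact (e _ h3 _ _ h4 hd ▸ hd : Sca W' _ 1)
  rw [e t ht c c' hc h1, h1 v hv]

theorem Hc.exists_ne (hL : ⁅L, L⁆ ≤ centralizer (L : Set G)) {W W' : Sb ρ} (h : Hc L W) (h' : Hc L W')
    (hne : W' ≠ W) : ∃ y ∈ L, ∃ c c', c ≠ c' ∧ Sca W y c ∧ Sca W' y c' := by
  by_contra h1
  push Not at h1
  have e : ∀ y ∈ L, ∀ c c', Sca W y c → Sca W' y c' → c = c' := fun y hy c c' h2 h3 => by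
    by_contra h4
    exact h1 y hy c c' h4 h2 h3
  exact hne (Sb.ext (le_antisymm (h.le hL h' e) (h'.le hL h fun y hy c c' h2 h3 => (e y hy c' c h3 h2).symm)))

theorem Hc.sep [L.Normal] (hL : ⁅L, L⁆ ≤ centralizer (L : Set G)) (hk : (Nat.card L : k) ≠ 0) {W : Sb ρ}
    (h : Hc L W) (J : Subgroup G) : Sep J W := sep_of hk h.ne fun g _ => h.exists_ne hL (h.smul g)

end Cfsg.Agent.L0.Tu
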