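/-
The module statement for towers: transfer lemmas and the representation on a chief factor.
-/
import Cfsg.Agent.L0.Tu5
import Cfsg.Agent.H9.EAMod

set_option autoImplicit false
set_option linter.unusedSectionVars false

namespace Cfsg.Agent.L0.Tu

open Subgroup
open scoped commutatorElement

universe u

variable {G G' : Type*} [Group G] [Finite G] [Group G'] [Finite G'] {k : Type*} [Field k] {V V' : Type*}
  [AddCommGroup V] [Module k V] [AddCommGroup V'] [Module k V'] {ρ : G →* Module.End k V} {X Y : Subgroup G} {a : G}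
  {r p m : ℕ}

variable (ρ) in
/-- the conclusion of the module statement, for `C` the group of fixed points of `a` -/
def Con (C : Subgroup G) (a : G) (p m : ℕ) : Prop :=
  (∃ t, Good t ∧ m ≤ t.length + 2 ∧ t.head? ≠ some p ∧ ((t = [] ∧ ∃ v, v ≠ 0 ∧ ρ a v = v) ∨ ¬ D t C ≤ Kr ρ a)) ∨
  ∃ t, Good t ∧ t ≠ [] ∧ ¬ D t C ≤ ρ.ker ∧ (m ≤ t.length ∨ (m ≤ t.length + 1 ∧ t.head? = some p))

theorem Con.imp {ρ' : G' →* Module.End k V'} {C : Subgroup G} {C' : Subgroup G'} {a' : G'} (h : Con ρ' C' a' p m)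
    (h1 : (∃ v, v ≠ 0 ∧ ρ' a' v = v) → ∃ v, v ≠ 0 ∧ ρ a v = v)
    (h2 : ∀ t, Good t → D t C ≤ Kr ρ a → D t C' ≤ Kr ρ' a') (h3 : ∀ t, Good t → D t C ≤ ρ.ker → D t C' ≤ ρ'.ker) :
    Con ρ C a p m :=
  Or.imp (fun ⟨t, e1, e2, e3, e4⟩ => ⟨t, e1, e2, e3, e4.imp (And.imp_right h1) (mt (h2 t e1))⟩)
    (fun ⟨t, e1, e2, e3, e4⟩ => ⟨t, e1, e2, mt (h3 t e1) e3, e4⟩) h

theorem Con.mono {C C' : Subgroup G} (h : Con ρ C' a p m) (hC : C' ≤ C) : Con ρ C a p m :=
  h.imp id (fun t _ => (D_mono hC t).trans) fun t _ => (D_mono hC t).trans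

theorem Con.of_comp {f : G' →* G} {C' : Subgroup G'} {a' : G'} (h : Con (ρ.comp f) C' a' p m) :
    Con ρ (C'.map f) (f a') p m :=
  h.imp id (fun t ht h1 x hx => h1 (map_D f C' ht ▸ mem_map_of_mem f hx))
    fun t ht h1 x hx => h1 (map_D f C' ht ▸ mem_map_of_mem f hx)

theorem Con.comp {f : G' →* G} {C' : Subgroup G'} {a' : G'} (h : Con ρ (C'.map f) (f a') p m) :
    Con (ρ.comp f) C' a' p m :=
  h.imp id (fun t ht h1 => map_D f C' ht ▸ map_le_iff_le_comap.2 h1)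
    fun t ht h1 => map_D f C' ht ▸ map_le_iff_le_comap.2 h1

theorem Con.of_inj {ρ' : G →* Module.End k V'} {C : Subgroup G} (h : Con ρ' C a p m) (j : V' →ₗ[k] V)
    (hj : Function.Injective j) (e : ∀ g v, j (ρ' g v) = ρ g (j v)) : Con ρ C a p m :=
  h.imp (fun ⟨v, h1, h2⟩ => ⟨j v, fun h3 => h1 (hj (h3.trans j.map_zero.symm)), by rw [← e, h2]⟩)
    (fun _ _ h1 x hx => mem_Kr.2 fun v hv => hj (by rw [e, mem_Kr.1 (h1 hx) _ (by rw [← e, hv])]))
    fun _ _ h1 x hx => LinearMap.ext fun v => hj (by rw [e, show ρ x = 1 from h1 hx]; rfl)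

theorem sum_of_fixed {v : V} (h : ρ a v = v) (r : ℕ) : ∑ i ∈ Finset.range r, ρ (a ^ i) v = (r : k) • v := by
  rw [Finset.sum_congr rfl fun i _ => show ρ (a ^ i) v = v by
    rw [map_pow, Module.End.pow_apply, Function.iterate_fixed h], Finset.sum_const, Finset.card_range,
    Nat.cast_smul_eq_nsmul]

theorem Con.of_surj {ρ' : G →* Module.End k V'} {C : Subgroup G} (h : Con ρ' C a p m) (ha : a ^ r = 1)
    (hr : (r : k) ≠ 0) (j : V →ₗ[k] V') (hj : Function.Surjective j) (e : ∀ g v, j (ρ g v) = ρ' g (j v)) :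
    Con ρ C a p m := by
  have key : ∀ v, ρ' a v = v → ∃ w, ρ a w = w ∧ j w = v := fun v hv => by
    obtain ⟨w, rfl⟩ := hj v
    refine ⟨(r : k)⁻¹ • ∑ i ∈ Finset.range r, ρ (a ^ i) w, by rw [map_smul, sum_fixed ha], ?_⟩
    simp only [map_smul, map_sum, e]
    rw [sum_of_fixed hv, inv_smul_smul₀ hr]
  refine h.imp (fun ⟨v, h1, h2⟩ => ?_) (fun _ _ h1 x hx => mem_Kr.2 fun v hv => ?_)
    fun _ _ h1 x hx => LinearMap.ext fun v => ?_
  · obtain ⟨w, h3, rfl⟩ := key v h2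
    exact ⟨w, fun h4 => h1 (by rw [h4, map_zero]), h3⟩
  · obtain ⟨w, h3, rfl⟩ := key v hv
    rw [← e, mem_Kr.1 (h1 hx) w h3]
  · obtain ⟨w, rfl⟩ := hj v
    rw [← e, show ρ x = 1 from h1 hx]; rfl

theorem exists_dec (hr : r.Prime) (ha : a ^ r = 1) (hc : ¬ r ∣ Nat.card X) (haX : ∀ x ∈ X, a * x * a⁻¹ ∈ X)
    {B : Subgroup G} (hB : ∀ x ∈ B, a * x * a⁻¹ ∈ B) {x : G} (hx : x ∈ X) (h : x⁻¹ * (a * x * a⁻¹) ∈ B) :
    ∃ c ∈ Cx X a, ∃ b ∈ X ⊓ B, x = c * b := by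
  obtain ⟨y, hy, h1⟩ := exists_fixed hr ha (Y := X ⊓ B) (x := x) (fun h1 => hc (h1.trans (card_dvd_of_le inf_le_left)))
    (fun y hy => ⟨haX y hy.1, hB y hy.2⟩) (mem_inf.2 ⟨mul_mem (inv_mem hx) (haX x hx), h⟩)
  exact ⟨x * y, mem_Cx.2 ⟨mul_mem hx hy.1, mul_inv_eq_iff_eq_mul.1 h1⟩, y⁻¹, inv_mem hy, by group⟩

theorem map_Cx (hr : r.Prime) (ha : a ^ r = 1) (hc : ¬ r ∣ Nat.card X) (haX : ∀ x ∈ X, a * x * a⁻¹ ∈ X)
    (f : G →* G') : (Cx X a).map f = Cx (X.map f) (f a) := by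
  refine le_antisymm (map_le_iff_le_comap.2 fun x hx => mem_Cx.2 ⟨mem_map_of_mem f hx.1, (mem_Cx.1 hx).2.map f⟩) ?_
  rintro _ ⟨⟨x, hx, rfl⟩, h⟩
  obtain ⟨c, h1, b, h2, rfl⟩ := exists_dec hr ha hc haX (B := f.ker) (fun y hy => Normal.conj_mem inferInstance y hy a)
    hx (by rw [MonoidHom.mem_ker, map_mul, map_mul, map_mul, ← mem_centralizer_singleton_iff.1 h]; simp)
  exact ⟨c, h1, by rw [map_mul, show f b = 1 from h2.2, mul_one]⟩

theorem D_le_sup (hr : r.Prime) (ha : a ^ r = 1) (hc : ¬ r ∣ Nat.card X) (haX : ∀ x ∈ X, a * x * a⁻¹ ∈ X)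
    {B : Subgroup G} [hB : B.Normal] (h : ∀ x ∈ X, x⁻¹ * (a * x * a⁻¹) ∈ B) {s : List ℕ} (hs : Good s) :
    D s X ≤ D s (Cx X a) ⊔ B := by
  have e : X.map (QuotientGroup.mk' B) = (Cx X a).map (QuotientGroup.mk' B) :=
    le_antisymm (map_le_iff_le_comap.2 fun x hx => by
      obtain ⟨c, h1, b, h2, rfl⟩ := exists_dec hr ha hc haX (fun y hy => hB.conj_mem y hy a) hx (h x hx)
      exact ⟨c, h1, by rw [map_mul, show QuotientGroup.mk' B b = 1 from (QuotientGroup.eq_one_iff b).2 h2.2, mul_one]⟩)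
      (map_mono inf_le_left)
  have := map_D (QuotientGroup.mk' B) X hs
  rw [e, ← map_D _ _ hs] at this
  have h1 := map_le_iff_le_comap.1 this.le
  rwa [comap_map_eq, QuotientGroup.ker_mk'] at h1

theorem exists_rep {l : ℕ} [Fact l.Prime] (K : Type) [Field K] [Algebra (ZMod l) K] {L Z : Subgroup G} [hL : L.Normal]
    [Z.Normal] (h1 : ⁅L, L⁆ ≤ Z) (h2 : ∀ x ∈ L, x ^ l ∈ Z) :
    ∃ (n : ℕ) (ρ : G →* Module.End K (Fin n → K)), (∀ x, x ∈ ρ.ker ↔ ∀ y ∈ L, ⁅x, y⁆ ∈ Z) ∧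
      ∀ (a : G) (r : ℕ), a ^ r = 1 → (r : K) ≠ 0 → (∀ x, (∀ y ∈ L, ⁅a, y⁆ ∈ Z → ⁅x, y⁆ ∈ Z) → x ∈ Kr ρ a) ∧
        ((∀ y ∈ L, ⁅a, y⁆ ∈ Z → y ∈ Z) → ∀ v, ρ a v = v → v = 0) := by
  let f := QuotientGroup.mk' Z
  have hf : ∀ x, f x = 1 ↔ x ∈ Z := fun x => QuotientGroup.eq_one_iff x
  have hV : IsElementaryAbelian l (L.map f) := by
    refine ⟨⟨⟨?_⟩⟩, ?_⟩
    · rintro ⟨_, x, hx, rfl⟩ ⟨_, y, hy, rfl⟩
      refine Subtype.ext (commutatorElement_eq_one_iff_mul_comm.1 ?_)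
      rw [← map_commutatorElement, hf]
      exact h1 (commutator_mem_commutator hx hy)
    · rintro _ ⟨x, hx, rfl⟩
      rw [← map_pow, hf]
      exact h2 x hx
  have := hL.map f (QuotientGroup.mk'_surjective Z)
  let σ : G →* Module.End (ZMod l) (H9.EAMod hV) :=
    (H9.eaRep hV (le_normalizer_of_normal (K := ⊤))).comp (topEquiv.symm.toMonoidHom.comp f)
  have hσ : ∀ (x : G) {y : G} (hy : y ∈ L), σ x (H9.EAMod.mk hV _ (mem_map_of_mem f hy)) =
      H9.EAMod.mk hV _ (mem_map_of_mem f hy) ↔ ⁅x, y⁆ ∈ Z := fun x y hy => by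
    rw [← hf, map_commutatorElement, commutatorElement_eq_one_iff_mul_comm]
    exact H9.eaRep_apply_eq_iff (hH := le_normalizer_of_normal (K := ⊤)) _ _
  have hs : ∀ v : H9.EAMod hV, ∃ y, ∃ hy : y ∈ L, v = H9.EAMod.mk hV _ (mem_map_of_mem f hy) := fun v => by
    obtain ⟨y, hy, e⟩ := v.val_mem
    exact ⟨y, hy, H9.EAMod.ext' e.symm⟩
  let b := Module.finBasis (ZMod l) (H9.EAMod hV)
  let Φ : Module.End (ZMod l) (H9.EAMod hV) →+* Module.End K (Fin _ → K) :=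
    (Matrix.toLinAlgEquiv' (R := K)).toRingEquiv.toRingHom.comp
      ((algebraMap (ZMod l) K).mapMatrix.comp (LinearMap.toMatrixAlgEquiv b).toRingEquiv.toRingHom)
  have hΦ : Function.Injective Φ := (Matrix.toLinAlgEquiv' (R := K)).injective.comp
    ((Matrix.map_injective (algebraMap (ZMod l) K).injective).comp (LinearMap.toMatrixAlgEquiv b).injective)
  refine ⟨_, Φ.toMonoidHom.comp σ, fun x => ?_, fun a r ha hr => ?_⟩
  · change Φ (σ x) = 1 ↔ _
    rw [map_eq_one_iff Φ hΦ, LinearMap.ext_iff]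
    refine ⟨fun h y hy => (hσ x hy).1 (h _), fun h v => ?_⟩
    obtain ⟨y, hy, rfl⟩ := hs v
    exact (hσ x hy).2 (h y hy)
  have e1 : ∀ v, (Φ.toMonoidHom.comp σ) a v = v → Φ (∑ i ∈ Finset.range r, σ (a ^ i)) v = (r : K) • v :=
    fun v hv => by rw [map_sum, LinearMap.sum_apply, ← sum_of_fixed hv]; rfl
  have e2 : ∀ v, ∃ y, ∃ hy : y ∈ L, ⁅a, y⁆ ∈ Z ∧
      (∑ i ∈ Finset.range r, σ (a ^ i)) v = H9.EAMod.mk hV _ (mem_map_of_mem f hy) := fun v => by
    obtain ⟨y, hy, e⟩ := hs ((∑ i ∈ Finset.range r, σ (a ^ i)) v)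
    refine ⟨y, hy, (hσ a hy).1 ?_, e⟩
    rw [← e, LinearMap.sum_apply, sum_fixed ha]
  refine ⟨fun x h => mem_Kr.2 fun v hv => smul_right_injective _ hr ?_, fun h v hv => ?_⟩
  · have : σ x * ∑ i ∈ Finset.range r, σ (a ^ i) = ∑ i ∈ Finset.range r, σ (a ^ i) := LinearMap.ext fun w => by
      obtain ⟨y, hy, h3, e⟩ := e2 w
      rw [Module.End.mul_apply, e, (hσ x hy).2 (h y hy h3)]
    simp only [← map_smul, ← e1 v hv]
    conv_rhs => rw [← this, map_mul]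
    rfl
  · have : ∑ i ∈ Finset.range r, σ (a ^ i) = 0 := LinearMap.ext fun w => by
      obtain ⟨y, hy, h3, e⟩ := e2 w
      exact e.trans (H9.EAMod.ext' ((hf y).2 (h y hy h3)))
    have h3 := e1 v hv
    rw [this, map_zero, LinearMap.zero_apply, eq_comm, smul_eq_zero] at h3
    exact h3.resolve_left hr

/-- the module statement -/
def MM (r : ℕ) (s : List ℕ) : Prop :=
  ∀ (G : Type u) [Group G] [Finite G] (X : Subgroup G) (a : G) (k : Type) [Field k] [IsAlgClosed k] (p : ℕ) [CharP k p]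
    (V : Type) [AddCommGroup V] [Module k V] [FiniteDimensional k V] (ρ : G →* Module.End k V),
    Group.IsSolvable X → a ∈ normalizer (X : Set G) → a ^ r = 1 → ¬ r ∣ Nat.card X → p.Prime → p ≠ r →
      s.head? ≠ some p → ¬ D s X ≤ ρ.ker → Con ρ (Cx X a) a p s.length

variable (ρ) in
/-- the reduced situation -/
structure Co (X : Subgroup G) (a : G) (r p : ℕ) (s : List ℕ) : Prop where
  hr : r.Prime
  hp : p.Prime
  pr : p ≠ r
  ha : a ^ r = 1
  cop : ¬ r ∣ Nat.card X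
  nX : X.Normal
  sol : Group.IsSolvable X
  dec : ∀ g : G, ∃ x ∈ X, ∃ i : ℕ, g = x * a ^ i
  inj : Function.Injective ρ
  irr : ∀ W : Submodule k V, (∀ g, ∀ v ∈ W, ρ g v ∈ W) → W = ⊥ ∨ W = ⊤
  good : Good s
  hd : s.head? ≠ some p
  ne : D s X ≠ ⊥
  min : ∀ Y < X, a ∈ normalizer (Y : Set G) → D s Y = ⊥

theorem pe_ker [CharP k p] (hp : p.Prime) {l : ℕ} (hl : l.Prime) (hne : l ≠ p) {x : G} (hx : PE l x)
    (h : (ρ x - 1) * (ρ x - 1) = 0) : x ∈ ρ.ker := by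
  have := Fact.mk hp
  refine hx.mem_of_pow ((Nat.coprime_primes hp hl).2 hne.symm) ?_
  have h1 : ∀ n : ℕ, ρ x ^ n = 1 + (n : k) • (ρ x - 1) := fun n => by
    induction n with
    | zero => simp
    | succ n ih =>
      rw [pow_succ, ih, show ρ x = 1 + (ρ x - 1) by simp, add_sub_cancel_left, add_mul, mul_add, mul_add,
        smul_mul_assoc, smul_mul_assoc, h]
      simp [add_smul]; abel
  rw [MonoidHom.mem_ker, map_pow, h1, CharP.cast_eq_zero, zero_smul, add_zero]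

theorem mm_of_co (hr : r.Prime) {s : List ℕ} (hs : Good s) (hne : s ≠ [])
    (h : ∀ (G : Type u) [Group G] [Finite G] (X : Subgroup G) (a : G) (k : Type) [Field k] [IsAlgClosed k] (p : ℕ)
      [CharP k p] (V : Type) [AddCommGroup V] [Module k V] [FiniteDimensional k V] (ρ : G →* Module.End k V),
      Co ρ X a r p s → Con ρ (Cx X a) a p s.length) : MM.{u} r s := by
  intro G _ _ X a k _ _ p _ V _ _ _ ρ
  induction hn : Nat.card X + Module.finrank k V using Nat.strong_induction_on generalizing G V with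
  | _ n ih =>
  intro hX haX ha hc hp hpr hd hD
  by_cases h1 : ∃ Y < X, a ∈ normalizer (Y : Set G) ∧ ¬ D s Y ≤ ρ.ker
  · obtain ⟨Y, h1, h2, h3⟩ := h1
    exact (ih _ (hn ▸ Nat.add_lt_add_right (H21.card_lt h1) _) G Y a V ρ rfl (H21.sol_of_le hX h1.le) h2 ha
      (fun h4 => hc (h4.trans (card_dvd_of_le h1.le))) hp hpr hd h3).mono (inf_le_inf_right _ h1.le)
  push Not at h1
  let J := X ⊔ zpowers a
  let a' : J := ⟨a, mem_sup_right (mem_zpowers a)⟩
  have nX : (X.subgroupOf J).Normal := normal_subgroupOf_of_le_normalizer (sup_le le_normalizer (zpowers_le.2 haX))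
  have eX : (X.subgroupOf J).map J.subtype = X := map_subgroupOf_eq_of_le le_sup_left
  have cX : Nat.card (X.subgroupOf J) = Nat.card X := Nat.card_congr (subgroupOfEquivOfLe le_sup_left).toEquiv
  have sX : Group.IsSolvable (X.subgroupOf J) := Group.isSolvable_of_isSolvable_injective
    (f := (subgroupOfEquivOfLe (le_sup_left : X ≤ J)).toMonoidHom) (MulEquiv.injective _)
  have ha' : a' ^ r = 1 := Subtype.ext ha
  have hc' : ¬ r ∣ Nat.card (X.subgroupOf J) := cX ▸ hc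
  have hn' : ∀ x ∈ X.subgroupOf J, a' * x * a'⁻¹ ∈ X.subgroupOf J := fun x hx => nX.conj_mem x hx a'
  have hD' : ¬ D s (X.subgroupOf J) ≤ (ρ.comp J.subtype).ker := fun h2 =>
    hD (by rw [← eX, ← map_D _ _ hs]; exact map_le_iff_le_comap.2 h2)
  suffices h2 : Con (ρ.comp J.subtype) (Cx (X.subgroupOf J) a') a' p s.length by
    have := h2.of_comp
    rwa [map_Cx hr ha' hc' hn', eX] at this
  set σ := ρ.comp J.subtype with hσ
  by_cases h2 : ∀ W : Submodule k V, (∀ g, ∀ v ∈ W, σ g v ∈ W) → W = ⊥ ∨ W = ⊤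
  swap
  · push Not at h2
    obtain ⟨W, h2, h3, h4⟩ := h2
    let σ₁ := Representation.subrepresentation σ W h2
    let σ₂ := Representation.quotient σ W h2
    have h5 := W.finrank_quotient_add_finrank
    have h6 := Submodule.finrank_lt h4
    have h7 := Submodule.one_le_finrank_iff.2 h3
    by_cases h8 : D s (X.subgroupOf J) ≤ MonoidHom.ker σ₁
    swap
    · exact (ih _ (by omega) J _ a' W σ₁ rfl sX (le_normalizer_of_normal (mem_top a')) ha' hc' hp hpr hd h8).of_inj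
        W.subtype W.injective_subtype fun _ _ => rfl
    refine (ih _ (by omega) J _ a' _ σ₂ rfl sX (le_normalizer_of_normal (mem_top a')) ha' hc' hp hpr hd
      fun h9 => hD' ?_).of_surj ha' (by
        rw [Ne, CharP.cast_eq_zero_iff k p, Nat.prime_dvd_prime_iff_eq hp hr]; exact hpr) W.mkQ W.mkQ_surjective
        fun _ _ => rfl
    obtain ⟨l, s, rfl⟩ := List.exists_cons_of_ne_nil hne
    refine gen_le_iff.2 fun x hx h10 => pe_ker hp hs.prime (by simpa using hd) h10 (LinearMap.ext fun v => ?_)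
    have e1 : σ x v - v ∈ W := (Submodule.Quotient.eq W).1
      (LinearMap.congr_fun (show σ₂ x = 1 from h9 (mem_gen hx h10)) (W.mkQ v))
    exact sub_eq_zero.2 (congrArg Subtype.val (LinearMap.congr_fun (show σ₁ x = 1 from h8 (mem_gen hx h10)) ⟨_, e1⟩))
  let f := QuotientGroup.mk' σ.ker
  let τ : J ⧸ σ.ker →* Module.End k V := QuotientGroup.lift σ.ker σ le_rfl
  have hτ : ∀ g, τ (f g) = σ g := fun _ => rfl
  have hf := QuotientGroup.mk'_surjective σ.ker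
  refine Con.comp (ρ := τ) (f := f) ?_
  rw [map_Cx hr ha' hc' hn']
  refine h _ _ _ k p V τ ⟨hr, hp, hpr, by rw [← map_pow, ha', map_one],
    fun h3 => hc' (h3.trans (card_map_dvd _ _)), nX.map f hf, H21.sol_map f sX, fun g => ?_, fun g g' e => ?_,
    fun W hW => h2 W fun g => hW (f g), hs, hd, fun h3 => hD' ?_, fun Y h3 h4 => ?_⟩
  · obtain ⟨g, rfl⟩ := hf g
    obtain ⟨x, hx, i, e⟩ := exists_mul_pow hr ha haX g.2
    exact ⟨f ⟨x, mem_sup_left hx⟩, mem_map_of_mem f hx, i, by rw [← map_pow, ← map_mul]; exact congrArg f (Subtype.ext e)⟩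
  · obtain ⟨g, rfl⟩ := hf g
    obtain ⟨g', rfl⟩ := hf g'
    refine QuotientGroup.eq.2 ?_
    rw [MonoidHom.mem_ker, map_mul, ← hτ g', ← e, hτ, ← map_mul, inv_mul_cancel, map_one]
  · rwa [← map_D _ _ hs, Subgroup.map_eq_bot_iff, QuotientGroup.ker_mk'] at h3
  · have e : (Y.comap f ⊓ X.subgroupOf J).map f = Y := by
      refine le_antisymm ((map_mono inf_le_left).trans (map_comap_le _ _)) fun y hy => ?_
      obtain ⟨x, hx, rfl⟩ := h3.le hy
      exact ⟨x, ⟨hy, hx⟩, rfl⟩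
    rw [← e, ← map_D _ _ hs, Subgroup.map_eq_bot_iff, QuotientGroup.ker_mk']
    have := h1 ((Y.comap f ⊓ X.subgroupOf J).map J.subtype) (lt_of_le_of_ne ((map_mono inf_le_right).trans eX.le)
      fun h5 => h3.ne (by rw [← e, map_injective J.subtype_injective (h5.trans eX.symm)]))
      (zpowers_le.1 (le_normalizer_iff.2 (by
        rintro g hg _ ⟨y, hy, rfl⟩
        refine ⟨⟨g, mem_sup_right hg⟩ * y * (⟨g, mem_sup_right hg⟩ : J)⁻¹, ⟨?_, nX.conj_mem y hy.2 _⟩, rfl⟩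
        obtain ⟨i, rfl⟩ := hg
        have := (mem_normalizer_iff.1 (zpow_mem h4 i) (f y)).1 hy.1
        rwa [← map_zpow, ← map_inv, ← map_mul, ← map_mul] at this)))
    rwa [← map_D _ _ hs, map_le_iff_le_comap] at this

end Cfsg.Agent.L0.Tu
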