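/-
The homogeneous components of a normal subgroup of class two that are fixed by the automorphism.
-/
import Cfsg.Agent.L0.Tu6

set_option autoImplicit false
set_option linter.unusedSectionVars false

namespace Cfsg.Agent.L0.Tu

open Subgroup
open scoped commutatorElement

universe u

/-- the statement on extraspecial sections -/
def Engine : Prop :=
  ∀ {H : Type u} [Group H] [Finite H] {k : Type} [Field k] [IsAlgClosed k] {W : Type} [AddCommGroup W] [Module k W]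
    [FiniteDimensional k W] [Nontrivial W] (ρ : H →* Module.End k W) {l r y : ℕ} (_ : l.Prime) (_ : r.Prime)
    (_ : y.Prime) (_ : (l : k) ≠ 0) (_ : (r : k) ≠ 0) (_ : l ≠ r) (_ : y ≠ l) (_ : y ≠ r) {T Z : Subgroup H} [T.Normal]
    [Z.Normal] (_ : IsPGroup l T) (_ : Z ≤ T) (_ : ∀ z ∈ Z, ∃ c : k, ρ z = c • 1) (_ : ⁅T, T⁆ ≤ Z)
    (_ : ∀ t ∈ T, (∀ s ∈ T, ρ ⁅t, s⁆ = 1) → t ∈ Z) {a x : H} (_ : a ^ r = 1) (_ : ∀ t ∈ T, ⁅a, t⁆ ∈ Z → t ∈ Z)
    (_ : Commute a x) (_ : ∃ n, x ^ y ^ n = 1) (_ : ∃ t ∈ T, ⁅x, t⁆ ∉ Z) (_ : ∀ v, ρ a v = v → ρ x v = v),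
    y = 2 ∧ ∀ (c : H) (s : ℕ), s.Prime → s ≠ 2 → s ≠ r → (∃ n, c ^ s ^ n = 1) → Commute a c → ∀ t ∈ T, ⁅c, t⁆ ∈ Z

variable {G : Type u} [Group G] [Finite G] {k : Type} [Field k] {V : Type} [AddCommGroup V] [Module k V]
  {ρ : G →* Module.End k V} {X L : Subgroup G} {a : G} {r p l : ℕ} {W : Sb ρ}

/-- the kernel of the norm map -/
noncomputable def U0 (L : Subgroup G) [L.Normal] (a : G) (r : ℕ) : Subgroup G := (nu L a r).ker.map L.subtype

theorem U0_le [L.Normal] : U0 L a r ≤ L := map_subtype_le _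

theorem U0_conj [L.Normal] {c : G} (hc : Commute a c) : ∀ u ∈ U0 L a r, c * u * c⁻¹ ∈ U0 L a r := by
  rintro _ ⟨u, hu, rfl⟩
  exact ⟨(MulAut.conjNormal c : MulAut L) u, by
    rw [SetLike.mem_coe, MonoidHom.mem_ker, nu_conj hc, show nu L a r u = 1 from hu, map_one], rfl⟩

theorem U0_dec [L.Normal] (hr : r.Prime) (ha : a ^ r = 1) (hc : ¬ r ∣ Nat.card L) {m : G} (hm : m ∈ L) :
    ∃ u ∈ U0 L a r, ∃ c ∈ L, Commute a c ∧ m = u * c := by
  obtain ⟨y, hy, h1⟩ := exists_fixed hr ha (Y := U0 L a r) (x := m) (fun h1 => hc (h1.trans (card_dvd_of_le U0_le)))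
    (U0_conj (Commute.refl a)) ⟨(⟨m, hm⟩ : L)⁻¹ * (MulAut.conjNormal a : MulAut L) ⟨m, hm⟩, by
      rw [SetLike.mem_coe, MonoidHom.mem_ker, map_mul, nu_shift ha, map_inv, inv_mul_cancel], rfl⟩
  have h2 : Commute a (m * y) := mul_inv_eq_iff_eq_mul.1 h1
  exact ⟨_, U0_conj h2 _ (inv_mem hy), _, mul_mem hm (U0_le hy), h2, by group⟩

theorem U0_fix [L.Normal] (hr : r.Prime) (hc : ¬ r ∣ Nat.card L) {S : Subgroup G} (h1 : ⁅L, L⁆ ≤ S)
    (h2 : ∀ x ∈ S, a * x * a⁻¹ ∈ S) {u : G} (hu : u ∈ U0 L a r) (h : u⁻¹ * (a * u * a⁻¹) ∈ S) : u ∈ S := by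
  obtain ⟨u, hu, rfl⟩ := hu
  have h3 : (Abelianization.of (G := L)).ker ≤ S.subgroupOf L := fun m hm => h1 (by
    rw [Abelianization.ker_of] at hm
    rw [← map_subtype_commutator]
    exact mem_map_of_mem _ hm)
  have h5 : ∀ i : ℕ, (u : G)⁻¹ * (a ^ i * u * (a ^ i)⁻¹) ∈ S := fun i => by
    induction i with
    | zero => simp
    | succ i ih =>
      have := mul_mem h (h2 _ ih)
      rw [coe_subtype] at this
      convert this using 1
      rw [pow_succ']; group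
  have h4 := prod_mem (S := (S.subgroupOf L).map Abelianization.of) (t := Finset.range r)
    (f := fun i => (Abelianization.of u)⁻¹ * Abelianization.of ((MulAut.conjNormal (a ^ i) : MulAut L) u))
    fun i _ => ⟨u⁻¹ * (MulAut.conjNormal (a ^ i) : MulAut L) u, h5 i, by rw [map_mul, map_inv]⟩
  rw [Finset.prod_mul_distrib, ← nu_apply, show nu L a r u = 1 from hu, mul_one, Finset.prod_const,
    Finset.card_range, inv_pow, inv_mem_iff, ← map_pow, ← mem_comap, comap_map_eq_self h3] at h4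
  exact PE.mem_of_pow (q := Nat.card L) (S := S.subgroupOf L) ⟨1, by rw [pow_one, pow_card_eq_one']⟩
    ((Nat.Prime.coprime_iff_not_dvd hr).2 hc) h4

theorem Fx_conj {g x : G} (hg : g • W = W) (hx : x ∈ Fx W) : g * x * g⁻¹ ∈ Fx W := (hg ▸ Sca.conj hx g : Sca W _ 1)

theorem Sc_conj [hL : L.Normal] {g x : G} (hg : g • W = W) (hx : x ∈ Sc L W) : g * x * g⁻¹ ∈ Sc L W :=
  ⟨hL.conj_mem x hx.1 g, hx.2.imp fun c hc => (hg ▸ hc.conj g : Sca W _ c)⟩

theorem Sc_comm {g x : G} (hg : g • W = W) (hx : x ∈ Sc L W) : ⁅g, x⁆ ∈ Fx W := hx.2.elim fun _ hc => hc.comm hg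

theorem Sc_comm' {g x : G} (hg : g • W = W) (hx : x ∈ Sc L W) : ⁅x, g⁆ ∈ Fx W :=
  commutatorElement_inv g x ▸ inv_mem (Sc_comm hg hx)

theorem eq_zero_of_orbit (irr : ∀ W : Submodule k V, (∀ g, ∀ v ∈ W, ρ g v ∈ W) → W = ⊥ ∨ W = ⊤) (hW : W.s ≠ ⊥)
    {φ : Module.End k V} (h : ∀ g : G, ∀ v ∈ (g • W).s, φ v = 0) : φ = 0 := by
  rw [← LinearMap.ker_eq_top, eq_top_iff]
  refine ((irr (⨆ g : G, (g • W).s) fun g v hv => ?_).resolve_left fun e => hW ?_).ge.trans (iSup_le h)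
  · refine (iSup_le (a := (⨆ g : G, (g • W).s).comap (ρ g)) fun g' w hw => ?_ :) hv
    exact Submodule.mem_iSup_of_mem (g * g') (mul_smul g g' W ▸ rho_mem hw)
  · simpa using (iSup_eq_bot.1 e) 1

/-- the situation of a normal subgroup of class two whose components are fixed by `a` -/
structure St (X L : Subgroup G) (a : G) (r p l : ℕ) (W : Sb ρ) : Prop extends Hc L W where
  hr : r.Prime
  hp : p.Prime
  pr : p ≠ r
  ha : a ^ r = 1
  cop : ¬ r ∣ Nat.card X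
  nX : X.Normal
  sol : Group.IsSolvable X
  dec : ∀ g : G, ∃ x ∈ X, ∃ i : ℕ, g = x * a ^ i
  inj : Function.Injective ρ
  irr : ∀ W : Submodule k V, (∀ g, ∀ v ∈ W, ρ g v ∈ W) → W = ⊥ ∨ W = ⊤
  hl : l.Prime
  lp : l ≠ p
  LX : L ≤ X
  pg : IsPGroup l L
  cl : ⁅L, L⁆ ≤ centralizer (L : Set G)
  fx : ∀ g : G, a • g • W = g • W

theorem card_ne_zero [CharP k p] (hp : p.Prime) (hl : l.Prime) (lp : l ≠ p) (pg : IsPGroup l L) :
    (Nat.card L : k) ≠ 0 := by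
  have := Fact.mk hl
  obtain ⟨n, hn⟩ := IsPGroup.iff_card.1 pg
  rw [hn, Ne, CharP.cast_eq_zero_iff k p]
  exact fun h => lp ((Nat.prime_dvd_prime_iff_eq hp hl).1 (hp.dvd_of_dvd_pow h)).symm

theorem prime_ne_zero [CharP k p] (hp : p.Prime) (hl : l.Prime) (lp : l ≠ p) : (l : k) ≠ 0 := by
  rw [Ne, CharP.cast_eq_zero_iff k p, Nat.prime_dvd_prime_iff_eq hp hl]; exact lp.symm

namespace St

variable [hL : L.Normal] (h : St X L a r p l W)
include h

theorem smul (g : G) : St X L a r p l (g • W) :=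
  { h with toHc := h.toHc.smul g, fx := fun g' => by rw [← mul_smul g']; exact h.fx _ }

theorem fx1 : a • W = W := by simpa using h.fx 1

theorem copL : ¬ r ∣ Nat.card L := fun h1 => h.cop (h1.trans (card_dvd_of_le h.LX))

theorem eq_one {x : G} (hx : ∀ g : G, x ∈ Fx (g • W)) : x = 1 :=
  h.inj (by rw [map_one, ← sub_eq_zero]; exact eq_zero_of_orbit h.irr h.ne fun g v hv => by simp [hx g v hv])

theorem orb (g : G) : ∃ c ∈ Cx X a, g • W = c • W := by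
  have := h.nX
  obtain ⟨x, hx, i, rfl⟩ := h.dec g
  have h1 : ∀ g : G, a ∈ MulAction.stabilizer G (g • W) := h.fx
  obtain ⟨c, h2, b, h3, rfl⟩ := exists_dec h.hr h.ha h.cop (fun y hy => this.conj_mem y hy a)
    (B := MulAction.stabilizer G W) (fun y hy => mul_mem (mul_mem h.fx1 hy) (inv_mem h.fx1)) hx (by
      rw [MulAction.mem_stabilizer_iff, mul_smul, mul_smul, inv_smul_eq_iff (g := a) |>.2 h.fx1.symm, mul_smul, h.fx,
        inv_smul_smul])
  exact ⟨c, h2, by rw [mul_smul, pow_smul_fix h.fx1, mul_smul, show b • W = W from h3.2]⟩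

theorem cent_a {z : G} (hz : z ∈ L) (h1 : z ∈ centralizer (L : Set G)) : Commute a z :=
  commutatorElement_eq_one_iff_mul_comm.1 (h.eq_one fun g => Sc_comm (h.fx g) ((h.toHc.smul g).cent hz h1))

theorem der_a {x y : G} (hx : x ∈ L) (hy : y ∈ L) : Commute a ⁅x, y⁆ :=
  h.cent_a (commutator_le_left _ _ (commutator_mem_commutator hx hy)) (h.cl (commutator_mem_commutator hx hy))

theorem der_le : ⁅L, L⁆ ≤ Sc L W := fun _ hx => h.cent (commutator_le_left _ _ hx) (h.cl hx)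

theorem U0_comm {u c : G} (hu : u ∈ U0 L a r) (hc : c ∈ L) (h1 : Commute a c) : Commute u c := by
  refine mem_centralizer_singleton_iff.1 (U0_fix h.hr h.copL (S := centralizer {c})
    (fun x hx => mem_centralizer_singleton_iff.2 (h.cl hx c hc).symm) (fun x hx => mem_centralizer_singleton_iff.2
      ((h1.mul_left (mem_centralizer_singleton_iff.1 hx)).mul_left h1.inv_left)) hu
      (mem_centralizer_singleton_iff.2 ?_))
  have h2 := (h.der_a (U0_le hu) hc).eq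
  have h3 := h1.eq
  rw [commutatorElement_def] at h2
  calc u⁻¹ * (a * u * a⁻¹) * c = u⁻¹ * (a * (u * c * u⁻¹ * c⁻¹)) * c * u * (c⁻¹ * a⁻¹ * c) := by group
    _ = u⁻¹ * (u * c * u⁻¹ * c⁻¹ * a) * c * u * (c⁻¹ * a⁻¹ * c) := by rw [h2]
    _ = c * u⁻¹ * (c⁻¹ * (a * c)) * u * ((a * c)⁻¹ * c) := by group
    _ = _ := by rw [h3]; group

theorem fixd {d : G} (h1 : ∀ c ∈ L, Commute a c → Commute d c) : d • W = W := by
  have e : ∀ y ∈ L, ∀ c c', Sca W y c → Sca (d • W) y c' → c = c' := fun y hy c c' h2 h3 => by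
    have h4 : ∀ W' : Sb ρ, a • W' = W' → y ∈ Sc L W' → y⁻¹ * (a * y * a⁻¹) ∈ Fx W' := fun W' e1 e2 => by
      have := Sc_comm' e1 (inv_mem e2)
      rwa [commutatorElement_def, inv_inv, mul_assoc, mul_assoc, ← mul_assoc a] at this
    obtain ⟨z, hz, b, hb, rfl⟩ := exists_dec h.hr h.ha h.copL (fun y hy => hL.conj_mem y hy a)
      (B := Fx W ⊓ Fx (d • W)) (fun x hx => ⟨Fx_conj h.fx1 hx.1, Fx_conj (h.fx d) hx.2⟩) hy
      (mem_inf.2 ⟨h4 _ h.fx1 ⟨hy, c, h2⟩, h4 _ (h.fx d) ⟨hy, c', h3⟩⟩)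
    have h5 := (h2.mul (inv_mem hb.2.1 : b⁻¹ ∈ Fx W)).conj d
    have h6 := h3.mul (inv_mem hb.2.2 : b⁻¹ ∈ Fx (d • W))
    rw [mul_inv_cancel_right, mul_one] at h5 h6
    rw [(h1 z hz.1 (mem_Cx.1 hz).2).eq, mul_inv_cancel_right] at h5
    exact h5.unique (ne_bot_smul h.ne d) h6
  exact Sb.ext (le_antisymm (h.toHc.le h.cl (h.toHc.smul d) e)
    ((h.toHc.smul d).le h.cl h.toHc fun y hy c c' h2 h3 => (e y hy c' c h3 h2).symm))

theorem exists_fix [CharP k p] (hv : ∃ v, v ≠ 0 ∧ ρ a v = v) : ∃ v ∈ W.s, v ≠ 0 ∧ ρ a v = v := by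
  by_contra h1
  push Not at h1
  obtain ⟨v, h2, h3⟩ := hv
  have h4 : ∑ i ∈ Finset.range r, ρ (a ^ i) = 0 := eq_zero_of_orbit h.irr h.ne fun g w hw => by
    obtain ⟨c, hc, e⟩ := h.orb g
    rw [e, mem_smul] at hw
    by_contra h5
    refine h1 (∑ i ∈ Finset.range r, ρ (a ^ i) (ρ c⁻¹ w))
      (Submodule.sum_mem _ fun i _ => pow_smul_fix h.fx1 i ▸ rho_mem hw) (fun e => h5 ?_) (sum_fixed h.ha _)
    have := congrArg (ρ c) e
    rw [map_zero, map_sum] at this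
    rw [LinearMap.sum_apply, ← this]
    refine Finset.sum_congr rfl fun i _ => ?_
    rw [← rho_mul, ← ((mem_Cx.1 hc).2.pow_left i).eq, rho_mul, rho_inv']
  have := sum_of_fixed h3 r
  rw [← LinearMap.sum_apply, h4, LinearMap.zero_apply, eq_comm, smul_eq_zero] at this
  exact h2 (this.resolve_left (prime_ne_zero h.hp h.hr h.pr.symm))

theorem Kr_cent [CharP k p] (hv : ∃ v, v ≠ 0 ∧ ρ a v = v) {z : G} (hz : z ∈ L) (h1 : z ∈ centralizer (L : Set G))
    (hK : z ∈ Kr ρ a) : z = 1 := h.eq_one fun g => by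
  obtain ⟨v, h2, h3, h4⟩ := (h.smul g).exists_fix hv
  obtain ⟨-, c, hc⟩ := (h.toHc.smul g).cent hz h1
  have : c = 1 := smul_left_injective k h3 ((hc v h2).symm.trans ((mem_Kr.1 hK v h4).trans (one_smul k v).symm))
  rw [this] at hc
  exact hc

omit h in
theorem _root_.Cfsg.Agent.L0.Tu.Kr_conj {x c : G} (hx : x ∈ Kr ρ a) (hc : Commute a c) : c * x * c⁻¹ ∈ Kr ρ a :=
  mem_Kr.2 fun v hv => by
    rw [rho_mul, rho_mul, mem_Kr.1 hx _ (by rw [← rho_mul, hc.inv_right.eq, rho_mul, hv]), rho_inv']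

theorem Kr_inf [CharP k p] (hv : ∃ v, v ≠ 0 ∧ ρ a v = v) {y : G} (hy : y ∈ L) (h1 : Commute a y) (hK : y ∈ Kr ρ a) :
    y = 1 := by
  refine h.Kr_cent hv hy (fun m hm => ?_) hK
  obtain ⟨u, hu, c, hc, h2, rfl⟩ := U0_dec h.hr h.ha h.copL hm
  have h3 := commutator_mem_commutator hc hy
  refine (h.U0_comm hu hy h1).mul_left (commutatorElement_eq_one_iff_mul_comm.1
    (h.Kr_cent hv (commutator_le_left _ _ h3) (h.cl h3) (mul_mem (Kr_conj hK h2) (inv_mem hK))))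

theorem eng [CharP k p] [IsAlgClosed k] [FiniteDimensional k V] (hE : Engine.{u}) {y : ℕ} (hy : y.Prime) (hyl : y ≠ l)
    {x : G} (hx : x ∈ Cx X a) (h1 : x • W = W) (h2 : PE y x) (hK : x ∈ Kr ρ a) {t : G} (ht : t ∈ U0 L a r)
    (h3 : ⁅x, t⁆ ∉ Sc L W) : y = 2 ∧ ∀ s, s.Prime → s ≠ 2 → ∀ c ∈ Cx X a, PE s c → c • W = W →
      ∀ t ∈ U0 L a r, ⁅c, t⁆ ∈ Sc L W := by
  have hne : ∀ {s : ℕ} {c : G}, c ∈ X → PE s c → c ≠ 1 → s ≠ r := fun {s c} hc h4 h5 e =>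
    h5 (h4.eq_one (q' := Nat.card X) ⟨1, by
      rw [pow_one]; exact congrArg Subtype.val (pow_card_eq_one' (x := (⟨c, hc⟩ : X)))⟩
      (e ▸ ((Nat.Prime.coprime_iff_not_dvd h.hr).2 h.cop).symm))
  let T := U0 L a r ⊔ Sc L W
  have hTL : T ≤ L := sup_le U0_le fun _ h => h.1
  have hn : U0 L a r ≤ normalizer (Sc L W : Set G) :=
    le_normalizer_iff.2 fun u hu x hx => Sc_conj (h.inv u (U0_le hu)) hx
  let H := MulAction.stabilizer G W ⊓ normalizer (T : Set G)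
  have hH : ∀ c, Commute a c → c • W = W → c ∈ H := fun c h4 h5 => ⟨h5, zpowers_le.1 (le_normalizer_iff.2 (by
    rintro _ ⟨i, rfl⟩ x hx
    exact (sup_le (fun y hy => mem_sup_left (U0_conj (h4.zpow_right i) y hy))
      (fun y hy => mem_sup_right (Sc_conj (zpow_mem (show c ∈ MulAction.stabilizer G W from h5) i) hy)) :
        T ≤ T.comap (MulAut.conj (c ^ i)).toMonoidHom) hx))⟩
  have hTH : T ≤ H := le_inf (fun x hx => h.inv x (hTL hx)) le_normalizer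
  have : (T.subgroupOf H).Normal := normal_subgroupOf_of_le_normalizer inf_le_right
  have : ((Sc L W).subgroupOf H).Normal := ⟨fun x hx g => Sc_conj g.2.1 hx⟩
  have := Submodule.nontrivial_iff_ne_bot.2 h.ne
  let σ : H →* Module.End k W.s := Representation.subrepresentation (ρ.comp H.subtype) W.s
    fun g v hv => (show (g : G) • W = W from g.2.1) ▸ rho_mem hv
  obtain ⟨e1, e2⟩ := hE σ h.hl h.hr hy (prime_ne_zero h.hp h.hl h.lp) (prime_ne_zero h.hp h.hr h.pr.symm)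
    (hne (h.LX (U0_le ht)) (pe_of_isPGroup h.pg (U0_le ht)) fun e => h3 (by simp [e])) hyl
    (hne hx.1 h2 fun e => h3 (by simp [e])) (T := T.subgroupOf H) (Z := (Sc L W).subgroupOf H)
    (h.pg.to_le hTL).comap_subtype (comap_mono le_sup_right)
    (fun z hz => hz.2.imp fun c hc => LinearMap.ext fun v => Subtype.ext (hc v v.2))
    (commutator_le.2 fun x hx y hy => h.der_le (commutator_mem_commutator (hTL hx) (hTL hy)))
    (fun t ht h4 => h.nd t (hTL ht) fun m hm => by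
      obtain ⟨u, hu, c, hc, h5, rfl⟩ := U0_dec h.hr h.ha h.copL hm
      obtain ⟨u', hu', z, hz, e⟩ := (H21.mem_sup_of_norm hn).1 (mem_subgroupOf.1 ht)
      have h6 : ⁅(t : G), u⁆ ∈ Fx W := fun v hv => (congrArg Subtype.val (LinearMap.congr_fun
        (h4 ⟨u, hTH (mem_sup_left hu)⟩ (mem_subgroupOf.2 (mem_sup_left hu))) ⟨v, hv⟩)).trans (one_smul k v).symm
      have h7 := mul_mem h6 (Fx_conj (h.inv u (U0_le hu)) (Fx_conj (h.inv u' (U0_le hu')) (Sc_comm' (h.inv c hc) hz)))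
      have h8 := (h.U0_comm hu' hc h5).eq
      rw [← e] at h7 ⊢
      rwa [show ⁅u' * z, u * c⁆ = ⁅u' * z, u⁆ * (u * (u' * (z * c * z⁻¹) * (c * u')⁻¹) * u⁻¹) by
        rw [commutatorElement_def, commutatorElement_def]; group,
        show u' * (z * c * z⁻¹) * (c * u')⁻¹ = u' * ⁅z, c⁆ * u'⁻¹ by rw [← h8, commutatorElement_def]; group])
    (a := ⟨a, hH a (Commute.refl a) h.fx1⟩) (x := ⟨x, hH x (mem_Cx.1 hx).2 h1⟩) (Subtype.ext h.ha)
    (fun t ht h4 => by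
      obtain ⟨u, hu, z, hz, e⟩ := (H21.mem_sup_of_norm hn).1 (mem_subgroupOf.1 ht)
      rw [mem_subgroupOf, ← e]
      refine mul_mem (U0_fix h.hr h.copL h.der_le (fun x hx => Sc_conj h.fx1 hx) hu ?_) hz
      have h5 : ⁅a, u * z⁆ ∈ Sc L W := e ▸ h4
      have := mul_mem (mul_mem (Sc_conj (h.inv _ (inv_mem (U0_le hu))) h5) hz) (inv_mem (Sc_conj h.fx1 hz))
      convert this using 1
      rw [commutatorElement_def]; group)
    (Subtype.ext (mem_Cx.1 hx).2.eq) (h2.imp fun n hn => Subtype.ext hn)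
    ⟨⟨t, hTH (mem_sup_left ht)⟩, mem_subgroupOf.2 (mem_sup_left ht), h3⟩
    fun v hv => Subtype.ext (mem_Kr.1 hK v (congrArg Subtype.val hv))
  refine ⟨e1, fun s hs h4 c hc h5 h6 t ht => ?_⟩
  by_cases h7 : c = 1
  · simp [h7]
  exact e2 ⟨c, hH c (mem_Cx.1 hc).2 h6⟩ s hs h4 (hne hc.1 h5 h7) (h5.imp fun n hn => Subtype.ext hn)
    (Subtype.ext (mem_Cx.1 hc).2.eq) ⟨t, hTH (mem_sup_left ht)⟩ (mem_subgroupOf.2 (mem_sup_left ht))

end St

end Cfsg.Agent.L0.Tu
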