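/-
A tower inside the kernel on the fixed points: the isotropic case.
-/
import Cfsg.Agent.L0.Tu7

set_option autoImplicit false
set_option linter.unusedSectionVars false

namespace Cfsg.Agent.L0.Tu

open Subgroup
open scoped commutatorElement

universe u

theorem exists_cent_ne_one {G : Type*} [Group G] [Finite G] {l : ℕ} (hl : l.Prime) {P A : Subgroup G}
    (hA : A ≤ normalizer (P : Set G)) (hP : IsPGroup l P) (hne : P ≠ ⊥)
    (h : ∀ y, y.Prime → y ≠ l → gen y A ≤ centralizer (P : Set G)) : ∃ u ∈ P, u ≠ 1 ∧ u ∈ centralizer (A : Set G) := by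
  have := Fact.mk hl
  let φ := P.normalizerMonoidHom.comp (inclusion hA)
  have h1 : IsPGroup l ((⊤ : Subgroup A).map φ) := isPGroup_of_gen fun y hy hne => by
    rw [← map_gen hy, Subgroup.map_eq_bot_iff]
    exact gen_le_iff.2 fun x _ hx => MulEquiv.ext fun z => Subtype.ext
      (mul_inv_eq_iff_eq_mul.2 (h y hy hne (mem_gen x.2 (hx.map A.subtype)) z z.2).symm)
  obtain ⟨n, h2, h3⟩ := hP.nontrivial_iff_card.1 ((nontrivial_iff_ne_bot P).2 hne)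
  obtain ⟨u, h4, h5⟩ := h1.exists_fixed_point_of_prime_dvd_card_of_fixed_point P (a := 1)
    (h3 ▸ dvd_pow_self l h2.ne') fun g => map_one g.1
  exact ⟨u, u.2, fun e => h5 (Subtype.ext e.symm), fun x hx => mul_inv_eq_iff_eq_mul.1
    (congrArg Subtype.val (h4 ⟨φ ⟨x, hx⟩, mem_map_of_mem φ (mem_top _)⟩))⟩

variable {G : Type u} [Group G] [Finite G] {k : Type} [Field k] {V : Type} [AddCommGroup V] [Module k V]
  {ρ : G →* Module.End k V} {X L : Subgroup G} {a : G} {r p l : ℕ} {W : Sb ρ}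

theorem Sca.mono {W W' : Sb ρ} {x : G} {c : k} (h : Sca W x c) (h1 : W'.s ≤ W.s) : Sca W' x c :=
  fun v hv => h v (h1 hv)

namespace St

variable [hL : L.Normal] (h : St X L a r p l W)
include h

theorem cmul {x y z : G} (hx : x ∈ L) (hy : y ∈ L) (hz : z ∈ L) : ⁅x, y * z⁆ = ⁅x, y⁆ * ⁅x, z⁆ := by
  rw [show ⁅x, y * z⁆ = ⁅x, y⁆ * (y * ⁅x, z⁆ * y⁻¹) by simp only [commutatorElement_def]; group,
    h.cl (commutator_mem_commutator hx hz) y hy, mul_inv_cancel_right]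

theorem cmul' {x y z : G} (hx : x ∈ L) (hy : y ∈ L) (hz : z ∈ L) : ⁅x * y, z⁆ = ⁅y, z⁆ * ⁅x, z⁆ := by
  rw [show ⁅x * y, z⁆ = (x * ⁅y, z⁆ * x⁻¹) * ⁅x, z⁆ by simp only [commutatorElement_def]; group,
    h.cl (commutator_mem_commutator hy hz) x hx, mul_inv_cancel_right]

theorem mem_Sc {W₁ : Sb ρ} (h1 : W₁.s ≤ W.s) (hne : W₁.s ≠ ⊥) {w : G} (hw : w ∈ L) (hF : ∀ g ∈ L, w ∈ Fx (g • W₁)) :
    w ∈ Sc L W := h.nd w hw fun g hg => by
  obtain ⟨-, c, hc⟩ := h.der_le (commutator_mem_commutator hw hg)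
  have h2 : ⁅w, g⁆ ∈ Fx W₁ := by
    have := mul_mem (hF 1 (one_mem _)) (show _ ∈ Fx (1 • W₁) from
      (mul_inv_cancel g ▸ mul_smul g g⁻¹ W₁ ▸ Sca.conj (inv_mem (hF _ (inv_mem hg))) g :))
    rwa [one_smul, ← mul_assoc, ← mul_assoc] at this
  rwa [(hc.mono h1).unique hne h2] at hc

theorem comm_dec {x : G} (hx : ∀ c ∈ L, Commute a c → Commute x c) {y : G} (hy : y ∈ L) :
    ∃ u ∈ U0 L a r, ⁅x, y⁆ = ⁅x, u⁆ := by
  obtain ⟨u, hu, c, hc, h1, rfl⟩ := U0_dec h.hr h.ha h.copL hy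
  refine ⟨u, hu, ?_⟩
  rw [show ⁅x, u * c⁆ = ⁅x, u⁆ * (u * ⁅x, c⁆ * u⁻¹) by simp only [commutatorElement_def]; group,
    commutatorElement_eq_one_iff_mul_comm.2 (hx c hc h1).eq]
  simp

theorem exists_W {x : G} (hx : ∀ c ∈ L, Commute a c → Commute x c) {y : G} (hy : y ∈ L)
    (h1 : ⁅x, y⁆ ∉ centralizer (L : Set G)) : ∃ g : G, ∃ u ∈ U0 L a r, ⁅x, u⁆ ∉ Sc L (g • W) := by
  obtain ⟨u, hu, e⟩ := h.comm_dec hx hy
  by_contra h2
  push Not at h2
  exact h1 (e ▸ fun m hm => commutatorElement_eq_one_iff_mul_comm.1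
    (h.eq_one fun g => Sc_comm ((h.toHc.smul g).inv m hm) (h2 g u hu)))

theorem iso [CharP k p] [IsAlgClosed k] [FiniteDimensional k V] {t : List ℕ} (ht : Good t) (hne : t ≠ [])
    (hK : D t (Cx X a) ≤ Kr ρ a) (hc : ∀ x ∈ D t (Cx X a), ∀ c ∈ L, Commute a c → Commute x c)
    (hB : ∀ y, y.Prime → y ≠ l → ∀ x ∈ D t (Cx X a), PE y x → ∀ u ∈ U0 L a r, ⁅x, u⁆ ∈ Sc L W) :
    ∀ x ∈ D t (Cx X a), ∀ u ∈ U0 L a r, ⁅x, u⁆ ∈ Sc L W := by
  have := h.nX
  by_contra hx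
  push Not at hx
  obtain ⟨x, hx, u₀, hu₀, h0⟩ := hx
  set E := D t (Cx X a) with hE
  have hEW : ∀ e ∈ E, e • W = W := fun e he => h.fixd (hc e he)
  have hEa : ∀ e ∈ E, Commute a e := fun e he => (mem_Cx.1 (D_le _ _ he)).2
  have hEc : ∀ c, Commute a c → ∀ e ∈ E, c * e * c⁻¹ ∈ E := fun c hc => conj_mem_D (conj_mem_Cx hc) t
  have hRL : Sc L W ≤ L := fun _ h => h.1
  let P := ⁅U0 L a r, E⁆ ⊔ Sc L W
  have hPL : P ≤ L := sup_le ((commutator_mono U0_le le_rfl).trans (commutator_le_left _ _)) hRL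
  have hPc : ∀ c, Commute a c → c • W = W → ∀ y ∈ P, c * y * c⁻¹ ∈ P := fun c h1 h2 _ hy =>
    (sup_le (commutator_le.2 fun u hu e he => mem_comap.2 (mem_sup_left (by
      rw [map_commutatorElement]; exact commutator_mem_commutator (U0_conj h1 u hu) (hEc c h1 e he))))
      (fun y hy => mem_sup_right (Sc_conj h2 hy)) : P ≤ P.comap (MulAut.conj c).toMonoidHom) hy
  let S : Subgroup G :=
    { carrier := {u | u ∈ L ∧ ∀ e ∈ E, ⁅e, u⁆ ∈ Sc L W}
      one_mem' := ⟨one_mem _, fun e _ => by simp⟩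
      mul_mem' := fun {u v} hu hv => ⟨mul_mem hu.1 hv.1, fun e he => by
        have := mul_mem (hu.2 e he) (Sc_conj (h.inv u hu.1) (hv.2 e he))
        convert this using 1; simp only [commutatorElement_def]; group⟩
      inv_mem' := fun {u} hu => ⟨inv_mem hu.1, fun e he => by
        have := Sc_conj (h.inv _ (inv_mem hu.1)) (inv_mem (hu.2 e he))
        convert this using 1; simp only [commutatorElement_def]; group⟩ }
  obtain ⟨w, hwP, hwS, hw⟩ : ∃ w ∈ P, w ∈ S ∧ w ∉ Sc L W := by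
    let H := MulAction.stabilizer G W
    have : ((Sc L W).subgroupOf H).Normal := ⟨fun x hx g => Sc_conj g.2 hx⟩
    let f := QuotientGroup.mk' ((Sc L W).subgroupOf H)
    have hf : ∀ x y : H, f x * f y = f y * f x ↔ ⁅(x : G), (y : G)⁆ ∈ Sc L W := fun x y => by
      rw [← commutatorElement_eq_one_iff_mul_comm, ← map_commutatorElement]
      exact QuotientGroup.eq_one_iff _
    obtain ⟨_, ⟨w, hw, rfl⟩, h1, h2⟩ := exists_cent_ne_one h.hl (P := (P.subgroupOf H).map f)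
      (A := (E.subgroupOf H).map f) (le_normalizer_iff.2 (by
        rintro _ ⟨e, he, rfl⟩ _ ⟨y, hy, rfl⟩
        exact ⟨e * y * e⁻¹, hPc e (hEa e he) e.2 y hy, by simp⟩))
      ((h.pg.to_le hPL).comap_subtype.map f) (fun e => h0 (by
        rw [Subgroup.map_eq_bot_iff, QuotientGroup.ker_mk'] at e
        have h1 : ⁅u₀, x⁆ ∈ P := mem_sup_left (commutator_mem_commutator hu₀ hx)
        exact commutatorElement_inv u₀ x ▸ inv_mem (e (x := ⟨_, h.inv _ (hPL h1)⟩) h1)))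
      fun y hy h1 => by
        rw [← map_gen hy, map_le_iff_le_comap]
        refine gen_le_iff.2 fun e he h2 => ?_
        rintro _ ⟨m, hm, rfl⟩
        obtain ⟨u, hu, e1⟩ := h.comm_dec (hc e he) (hPL hm)
        exact ((hf e m).2 (e1 ▸ hB y hy h1 e he (h2.map H.subtype) u hu)).symm
    exact ⟨w, hw, ⟨hPL hw, fun e he => (hf ⟨e, hEW e he⟩ w).1 (h2 _ (mem_map_of_mem f (mem_subgroupOf.2 he)))⟩,
      fun e => h1 ((QuotientGroup.eq_one_iff _).2 e)⟩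
  have hRS : Sc L W ≤ P ⊓ S := le_inf le_sup_right fun z hz =>
    ⟨hz.1, fun e he => mul_mem (Sc_conj (hEW e he) hz) (inv_mem hz)⟩
  have hcom : ∀ u ∈ S, ∀ v ∈ P, ⁅u, v⁆ ∈ Fx W := fun u hu v hv => by
    let φ : L →* G := MonoidHom.mk' (fun m => ⁅u, (m : G)⁆) fun m m' => h.cmul hu.1 m.2 m'.2
    suffices h1 : P ≤ ((Fx W).comap φ).map L.subtype by
      obtain ⟨m, hm, rfl⟩ := h1 hv
      exact hm
    refine sup_le (commutator_le.2 fun s hs e he => ⟨⟨_, mul_mem (U0_le hs)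
      (hL.conj_mem _ (inv_mem (U0_le hs)) e)⟩, ?_, by simp [commutatorElement_def, mul_assoc]⟩)
      fun z hz => ⟨⟨z, hz.1⟩, Sc_comm (h.inv u hu.1) hz, rfl⟩
    have hs' := U0_le hs
    have h1 := hL.conj_mem u hu.1 e⁻¹
    change ⁅u, s * (e * s⁻¹ * e⁻¹)⁆ ∈ Fx W
    rw [h.cmul hu.1 hs' (hL.conj_mem _ (inv_mem hs') e), show ⁅u, e * s⁻¹ * e⁻¹⁆ = e * ⁅e⁻¹ * u * e⁻¹⁻¹, s⁻¹⁆ * e⁻¹ by
      simp only [commutatorElement_def]; group, (hc e he _ (commutator_le_left _ _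
        (commutator_mem_commutator h1 (inv_mem hs'))) (h.der_a h1 (inv_mem hs'))).eq, mul_inv_cancel_right,
      show e⁻¹ * u * e⁻¹⁻¹ = ⁅e⁻¹, u⁆ * u by simp only [commutatorElement_def]; group,
      h.cmul' (hu.2 _ (inv_mem he)).1 hu.1 (inv_mem hs'), ← mul_assoc, ← h.cmul hu.1 hs' (inv_mem hs')]
    simpa using Sc_comm' (h.inv _ (inv_mem hs')) (hu.2 _ (inv_mem he))
  have hinv : ∀ g ∈ L ⊔ centralizer {a}, g • W = W → ∀ u ∈ P ⊓ S, g * u * g⁻¹ ∈ P ⊓ S := fun g hg h1 u hu => by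
    obtain ⟨m, hm, c, h2, rfl⟩ := mem_sup_of_normal_left.1 hg
    have h3 : Commute a c := (mem_centralizer_singleton_iff.1 h2).symm
    rw [mul_smul, ← eq_inv_smul_iff, h.inv _ (inv_mem hm)] at h1
    have h4 : c * u * c⁻¹ ∈ P ⊓ S := ⟨hPc c h3 h1 u hu.1, hL.conj_mem u hu.2.1 c, fun e he => by
      have := Sc_conj h1 (hu.2.2 _ (hEc _ h3.inv_right e he))
      convert this using 1; simp only [commutatorElement_def]; group⟩
    have := mul_mem (hRS (h.der_le (commutator_mem_commutator hm (hPL h4.1)))) h4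
    convert this using 1; simp only [commutatorElement_def]; group
  obtain ⟨T, h1, h2, -, h3⟩ := exists_schur (ρ := ρ) (P ⊓ S) h.ne fun t ht v hv => h.inv t ht.2.1 ▸ rho_mem hv
  let W₁ : Sb ρ := ⟨W.s ⊓ ⨅ t ∈ P ⊓ S, ⨅ c, ⨅ _ : Sca T t c, LinearMap.ker (ρ t - c • 1)⟩
  have hW : ∀ v, v ∈ W₁.s ↔ v ∈ W.s ∧ ∀ t ∈ P ⊓ S, ∀ c, Sca T t c → ρ t v = c • v := fun v => by
    simp only [W₁, Submodule.mem_inf, Submodule.mem_iInf, LinearMap.mem_ker, LinearMap.sub_apply, sub_eq_zero,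
      LinearMap.smul_apply, Module.End.one_apply]
  have hT : T.s ≤ W₁.s := fun v hv => (hW v).2 ⟨h1 hv, fun t _ c h => h v hv⟩
  have w0 : W₁.s ≠ ⊥ := fun e => h2 (eq_bot_iff.2 (e ▸ hT))
  have w1 : W₁.s ≤ W.s := inf_le_left
  have w2 : ∀ x ∈ P ⊓ S, ∃ c, Sca W₁ x c := fun x hx =>
    (h3 x hx fun t ht => Sca.mono (hcom x hx.2 t ht.1) h1).imp fun c hc v hv => ((hW v).1 hv).2 x hx c hc
  have w3 : ∀ v ∈ W.s, (∀ t ∈ P ⊓ S, ∀ c, Sca W₁ t c → ρ t v = c • v) → v ∈ W₁.s := fun v hv h4 =>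
    (hW v).2 ⟨hv, fun t ht c hc => h4 t ht c fun v hv => ((hW v).1 hv).2 t ht c hc⟩
  have hJ : (L ⊔ Cx X a) ⊔ zpowers a ≤ L ⊔ centralizer {a} := sup_le (sup_le_sup_left inf_le_right _)
    (zpowers_le.2 (mem_sup_right (mem_centralizer_singleton_iff.2 rfl)))
  have hS : Sep ((L ⊔ Cx X a) ⊔ zpowers a) W₁ := sep_of (card_ne_zero h.hp h.hl h.lp h.pg) w0 fun g hg h4 => by
    by_cases h5 : g • W = W
    swap
    · obtain ⟨y, hy, c, c', h6, h7, h8⟩ := h.toHc.exists_ne h.cl (h.toHc.smul g) h5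
      exact ⟨y, hy, c, c', h6, h7.mono w1, h8.mono fun v hv => w1 hv⟩
    by_contra h6
    push Not at h6
    have e : ∀ y ∈ P ⊓ S, ∀ c c', Sca W₁ y c → Sca (g • W₁) y c' → c = c' := fun y hy c c' h7 h8 => by
      by_contra h9
      exact h6 y hy.2.1 c c' h9 h7 h8
    refine h4 (Sb.ext (Submodule.ext fun v => ⟨fun hv => w3 v (h5 ▸ (w1 hv : v ∈ (g • W).s)) fun t ht c hc => ?_,
      fun hv => w3 _ (h5.symm ▸ w1 hv : v ∈ (g • W).s) fun t ht c hc => ?_⟩))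
    · obtain ⟨c', h7⟩ := w2 _ (hinv _ (inv_mem (hJ hg)) (inv_smul_eq_iff.2 h5.symm) t ht)
      have h8 := h7.conj g
      rw [show g * (g⁻¹ * t * g⁻¹⁻¹) * g⁻¹ = t by group] at h8
      rw [e t ht c c' hc h8, h8 v hv]
    · have h7 := hinv _ (hJ hg) h5 t ht
      obtain ⟨c', h8⟩ := w2 _ h7
      rw [← e _ h7 c' c h8 (hc.conj g), ← map_smul, ← h8 v hv, ← rho_mul, ← rho_mul]
      congr 2; group
  have hX : L ⊔ Cx X a ≤ X := sup_le h.LX inf_le_left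
  have e : Cx (L ⊔ Cx X a) a = Cx X a := le_antisymm (inf_le_inf_right _ hX) (le_inf le_sup_right inf_le_right)
  have hq : ∀ g ∈ L, E ≤ Fx (g • W₁) := fun g hg => by
    rw [hE, ← e]
    refine qp (H21.sol_of_le h.sol hX) (zpowers_le.1 (le_normalizer_iff.2 ?_)) h.hr h.ha
      (fun h4 => h.cop (h4.trans (card_dvd_of_le hX))) ht hne (by rwa [e]) hS ?_ (mem_sup_left (mem_sup_left hg))
    · rintro _ ⟨i, rfl⟩ y hy
      exact (sup_le (fun y hy => mem_sup_left (hL.conj_mem y hy _)) (fun y hy => mem_sup_right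
        (conj_mem_Cx ((Commute.refl a).zpow_right i) y hy)) :
          L ⊔ Cx X a ≤ (L ⊔ Cx X a).comap (MulAut.conj (a ^ i)).toMonoidHom) hy
    by_contra h4
    push Not at h4
    have h5 : ⁅a, w⁆ ∈ Sc L W := h.mem_Sc w1 w0 (mul_mem (hL.conj_mem w hwS.1 a) (inv_mem hwS.1)) fun g hg => by
      obtain ⟨c, hc⟩ := w2 _ (hinv _ (inv_mem (mem_sup_left hg)) (h.inv _ (inv_mem hg)) w ⟨hwP, hwS⟩)
      have h6 := hc.conj g
      rw [show g * (g⁻¹ * w * g⁻¹⁻¹) * g⁻¹ = w by group] at h6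
      exact h6.comm (h4 g (mem_sup_left (mem_sup_left hg)))
    have h6 : P ≤ U0 L a r ⊔ Sc L W := sup_le_sup_right (commutator_le.2 fun u hu e he => by
      simpa [commutatorElement_def, mul_assoc] using mul_mem hu (U0_conj (hEa e he) _ (inv_mem hu))) _
    obtain ⟨u, hu, z, hz, rfl⟩ := (H21.mem_sup_of_norm
      (le_normalizer_iff.2 fun u hu x hx => Sc_conj (h.inv u (U0_le hu)) hx)).1 (h6 hwP)
    refine hw (mul_mem (U0_fix h.hr h.copL h.der_le (fun x hx => Sc_conj h.fx1 hx) hu ?_) hz)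
    have := mul_mem (mul_mem (Sc_conj (h.inv _ (inv_mem (U0_le hu))) h5) hz) (inv_mem (Sc_conj h.fx1 hz))
    convert this using 1
    rw [commutatorElement_def]; group
  refine h0 (h.mem_Sc w1 w0 (mul_mem (hL.conj_mem _ (U0_le hu₀) x) (inv_mem (U0_le hu₀))) fun g hg => ?_)
  have h4 : _ ∈ Fx (u₀ • (u₀⁻¹ * g) • W₁) := Sca.conj (inv_mem (hq _ (mul_mem (inv_mem (U0_le hu₀)) hg) hx)) u₀
  rw [← mul_smul, mul_inv_cancel_left] at h4
  simpa [commutatorElement_def, mul_assoc] using mul_mem (hq g hg hx) h4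

end St

end Cfsg.Agent.L0.Tu
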