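/-
The inductive step of the module statement for towers.
-/
import Cfsg.Agent.L0.Tu8
import Cfsg.Agent.FV.A9

set_option autoImplicit false
set_option linter.unusedSectionVars false

namespace Cfsg.Agent.L0.Tu

open Subgroup
open scoped commutatorElement

universe u

variable {G : Type u} [Group G] [Finite G] {k : Type} [Field k] [IsAlgClosed k] {V : Type} [AddCommGroup V]
  [Module k V] [FiniteDimensional k V] {ρ : G →* Module.End k V} {X L : Subgroup G} {a : G} {r p l : ℕ} [CharP k p]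
  {W : Sb ρ}

theorem comm_mem [X.Normal] [hL : L.Normal] (hX : L ≤ X) {t : List ℕ} {d c : G} (hd : d ∈ D t (Cx X a)) (hc : c ∈ L)
    (h : Commute a c) : ⁅d, c⁆ ∈ D t (Cx X a) ∧ ⁅d, c⁆ ∈ L ∧ Commute a ⁅d, c⁆ := by
  have h1 : ⁅d, c⁆ ∈ D t (Cx X a) := by
    simpa [commutatorElement_def, mul_assoc] using mul_mem hd (conj_mem_D (conj_mem_Cx h) t _ (inv_mem hd))
  exact ⟨h1, mul_mem (hL.conj_mem c hc d) (inv_mem hc), (mem_Cx.1 (D_le _ _ h1)).2⟩

namespace St

variable [hL : L.Normal] (h : St X L a r p l W)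
include h

theorem caseB (hE : Engine.{u}) (hv : ∃ v, v ≠ 0 ∧ ρ a v = v) {m q : ℕ} {t : List ℕ} (ht : Good (q :: t))
    (hm : m ≤ t.length + 2 ∨ q = l) (hK : D (q :: t) (Cx X a) ≤ Kr ρ a) {x y : G} (hx : x ∈ D (q :: t) (Cx X a))
    (hy : y ∈ L) (h0 : ⁅x, y⁆ ∉ centralizer (L : Set G)) : Con ρ (Cx X a) a p m := by
  have := h.nX
  have hc : ∀ x ∈ D (q :: t) (Cx X a), ∀ c ∈ L, Commute a c → Commute x c := fun x hx c hc h1 =>
    commutatorElement_eq_one_iff_mul_comm.1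
      (h.Kr_inf hv (comm_mem h.LX hx hc h1).2.1 (comm_mem h.LX hx hc h1).2.2 (hK (comm_mem h.LX hx hc h1).1))
  obtain ⟨g, u, hu, h1⟩ := h.exists_W (hc x hx) hy h0
  have h' := h.smul g
  have h2 := mt (h'.iso ht (List.cons_ne_nil _ _) hK hc) fun h2 => h1 (h2 x hx u hu)
  push Not at h2
  obtain ⟨s, hs, h2, x', hx', h3, u', hu', h4⟩ := h2
  obtain ⟨rfl, h5⟩ := h'.eng hE hs h2 (D_le _ _ hx') (h'.fixd (hc x' hx')) h3 (hK hx') hu' h4
  let B : Subgroup G :=
    { carrier := {c | c • g • W = g • W ∧ ∀ u ∈ U0 L a r, ⁅c, u⁆ ∈ Sc L (g • W)}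
      one_mem' := ⟨one_smul _ _, fun u _ => by simp⟩
      mul_mem' := fun {c d} hc hd => ⟨by rw [mul_smul, hd.1, hc.1], fun u hu => by
        have := mul_mem (Sc_conj hc.1 (hd.2 u hu)) (hc.2 u hu)
        convert this using 1; simp only [commutatorElement_def]; group⟩
      inv_mem' := fun {c} hc => ⟨inv_smul_eq_iff.2 hc.1.symm, fun u hu => by
        have := Sc_conj (inv_smul_eq_iff.2 hc.1.symm) (inv_mem (hc.2 u hu))
        convert this using 1; simp only [commutatorElement_def]; group⟩ }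
  have hB : ∀ s t, s.Prime → s ≠ 2 → (∀ x ∈ D (s :: t) (Cx X a), ∀ c ∈ L, Commute a c → Commute x c) →
      D (s :: t) (Cx X a) ≤ B := fun s t hs h6 h7 => gen_le_iff.2 fun c hc h8 =>
    ⟨h'.fixd (h7 c (mem_gen hc h8)), h5 s hs h6 c (D_le _ _ hc) h8 (h'.fixd (h7 c (mem_gen hc h8)))⟩
  obtain rfl : q = 2 := by
    by_contra h6
    exact h1 ((hB q t ht.prime h6 hc hx).2 u hu)
  have hm := hm.resolve_right h2
  rcases t with _ | ⟨q, t⟩
  · exact Or.inl ⟨[], Good.nil, hm, by simp, Or.inl ⟨rfl, hv⟩⟩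
  have h6 := mt (hB q t ht.tail.prime ht.ne.symm) fun h6 => h1 ((h6 (gen_le _ _ hx)).2 u hu)
  push Not at h6
  obtain ⟨d, hd, c, h6, h7, h8⟩ := h6
  obtain ⟨e1, e2, e3⟩ := comm_mem h.LX hd h6 h7
  have h9 : ⁅d, c⁆ ∉ Kr ρ a := fun h9 => h8 (commutatorElement_eq_one_iff_mul_comm.1 (h.Kr_inf hv e2 e3 h9))
  by_cases e : q = l
  · exact Or.inl ⟨q :: t, ht.tail, hm, by simpa [e] using h.lp, Or.inr fun h10 => h9 (h10 e1)⟩
  · exact Or.inl ⟨l :: q :: t, ht.tail.cons h.hl (by simpa using e), by simp at hm ⊢; omega, by simpa using h.lp,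
      Or.inr fun h10 => h9 (h10 (mem_gen e1 (pe_of_isPGroup h.pg e2)))⟩

theorem case0 (hE : Engine.{u}) (hv : ∀ v, ρ a v = v → v = 0) {q : ℕ} {s : List ℕ} (hs : Good (l :: q :: s))
    (hmin : ∀ M : Subgroup G, M.Normal → M < L → M ≤ centralizer (L : Set G)) (hD : L ≤ ⁅D (q :: s) X, L⁆)
    (ha : ¬ L ≤ centralizer {a}) : D (l :: q :: s) (Cx X a) ≠ ⊥ := by
  have := h.nX
  have := Fact.mk h.hp
  have := Fact.mk h.hr
  have : Nontrivial V := by
    obtain ⟨v, -, h1⟩ := Submodule.exists_mem_ne_zero_of_ne_bot h.ne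
    exact ⟨v, 0, h1⟩
  have ho : Nat.card (zpowers a) = r := by
    rw [Nat.card_zpowers, orderOf_eq_prime h.ha fun e => ha fun x _ => by simp [e, mem_centralizer_singleton_iff]]
  have hX : X ⊔ zpowers a = ⊤ := eq_top_iff.2 fun g _ => by
    obtain ⟨x, hx, i, rfl⟩ := h.dec g
    exact mul_mem (mem_sup_left hx) (mem_sup_right (pow_mem (mem_zpowers a) i))
  have hN : IsPGroup 2 ↥⁅X, zpowers a⁆ := by
    rcases FV.shult (p := p) X (zpowers a) hX (ho ▸ h.hr) (ho ▸ h.cop) ρ h.inj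
      (fun W hW => h.irr W fun g v hv => hW g ⟨v, hv, rfl⟩) fun v h1 => hv v (h1 a (mem_zpowers a)) with h1 | h1
    · rw [h1]; exact IsPGroup.of_bot
    · exact h1.2.2.1
  have nN : (⁅X, zpowers a⁆).Normal := normalizer_eq_top_iff.1 (eq_top_iff.2 (hX.ge.trans
    (sup_le (normalizer_commutator_ge_left _ _) (normalizer_commutator_ge_right _ _))))
  obtain rfl : l = 2 := by
    by_contra h1
    refine ha fun x hx => mem_centralizer_singleton_iff.2 (commutatorElement_eq_one_iff_mul_comm.1 ?_)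
    exact (pe_of_isPGroup hN (commutator_mem_commutator (h.LX hx) (mem_zpowers a))).eq_one
      (pe_of_isPGroup h.pg (commutator_le_left L _ (commutator_mem_commutator hx (mem_top a))))
      ((Nat.coprime_primes h.hl Nat.prime_two).2 h1)
  let B : Subgroup G :=
    { carrier := {c | ∀ y ∈ L, ⁅c, y⁆ ∈ centralizer (L : Set G)}
      one_mem' := fun u _ => by simp
      mul_mem' := fun {c d} hc hd u hu => by
        have := mul_mem (Normal.conj_mem inferInstance _ (hd u hu) c) (hc u hu)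
        convert this using 1; simp only [commutatorElement_def]; group
      inv_mem' := fun {c} hc u hu => by
        have := Normal.conj_mem inferInstance _ (inv_mem (hc u hu)) c⁻¹
        convert this using 1; simp only [commutatorElement_def]; group }
  have nB : B.Normal := ⟨fun c hc g u hu => by
    have := Normal.conj_mem inferInstance _ (hc _ (hL.conj_mem' u hu g)) g
    convert this using 1; simp only [commutatorElement_def]; group⟩
  have h1 : ⁅L, ⁅X, zpowers a⁆⁆ ≤ centralizer (L : Set G) := hmin _ inferInstance (lt_of_le_of_lt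
    (commutator_mono le_rfl le_sup_right) (H21.commg_lt_of_nil (h.pg.to_sup_of_normal_left hN).isNilpotent le_sup_left
      le_normalizer_of_normal fun e => ha (e ▸ bot_le)))
  have h2 := D_le_sup h.hr h.ha h.cop (fun x hx => Normal.conj_mem inferInstance x hx a) (B := B) (fun x hx y hy => by
    rw [← commutatorElement_inv]
    refine inv_mem (h1 (commutator_mem_commutator hy ?_))
    simpa [commutatorElement_def, mul_assoc] using commutator_mem_commutator (inv_mem hx) (mem_zpowers a)) hs.tail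
  have h3 : ¬ D (q :: s) (Cx X a) ≤ B := fun h3 => ha fun x hx => mem_centralizer_singleton_iff.2
    (h.cent_a hx ((hD.trans (commutator_le.2 fun d hd y hy => (h2.trans (sup_le h3 le_rfl)) hd y hy)) hx)).symm
  by_cases h4 : ∀ x ∈ D (q :: s) (Cx X a), ∀ c ∈ L, Commute a c → Commute x c
  · refine absurd (gen_le_iff.2 fun d hd h5 y hy => ?_) h3
    by_contra h6
    obtain ⟨g, u, hu, h7⟩ := h.exists_W (h4 d (mem_gen hd h5)) hy h6
    exact hs.ne ((h.smul g).eng hE hs.tail.prime hs.ne.symm (D_le _ _ hd) ((h.smul g).fixd (h4 d (mem_gen hd h5))) h5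
      (mem_Kr.2 fun v h8 => by rw [hv v h8, map_zero]) hu h7).1.symm
  push Not at h4
  obtain ⟨d, hd, c, h6, h7, h8⟩ := h4
  obtain ⟨e1, e2, -⟩ := comm_mem h.LX hd h6 h7
  exact fun e => h8 (commutatorElement_eq_one_iff_mul_comm.1
    (mem_bot.1 (e ▸ mem_gen e1 (pe_of_isPGroup h.pg e2) : _ ∈ (⊥ : Subgroup G))))

end St

theorem not_le_ker (hρ : Function.Injective ρ) {E : Subgroup G} (h : E ≠ ⊥) : ¬ E ≤ ρ.ker := fun h1 =>
  h (eq_bot_iff.2 fun _ hx => hρ ((h1 hx).trans (map_one ρ).symm))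

namespace Co

variable {s : List ℕ} (h : Co ρ X a r p (l :: s))
include h

theorem lp : l ≠ p := by simpa using h.hd

theorem pg : IsPGroup l (D (l :: s) X) := by
  have := h.nX
  have := Fact.mk h.good.prime
  set L := D (l :: s) X with hL
  have hX : L ≤ X := D_le _ _
  obtain ⟨P, h1, h2⟩ := H21.exists_inv_sylow l (A := zpowers a) (K := L) le_normalizer_of_normal
    (Nat.Coprime.coprime_dvd_right (Nat.card_zpowers a ▸ orderOf_dvd_of_pow_eq_one h.ha)
      ((Nat.Prime.coprime_iff_not_dvd h.hr).2 fun h1 => h.cop (h1.trans (card_dvd_of_le hX))).symm)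
    (Or.inr (H21.sol_of_le h.sol hX))
  have h3 : ∀ x ∈ L, PE l x → ∃ g ∈ L, ∃ y ∈ P, g * y * g⁻¹ = x := fun x hx h3 => by
    obtain ⟨g, hg, h4⟩ := H21.Hall.exists_le_cj h1 (Q := zpowers x) (by
      obtain ⟨n, hn⟩ := h3
      rintro ⟨_, j, rfl⟩
      exact ⟨n, Subtype.ext (by
        rw [coe_pow, ← zpow_natCast, ← zpow_mul, mul_comm, zpow_mul, zpow_natCast, hn, one_zpow, coe_one])⟩)
      (zpowers_le.2 hx)
    exact ⟨g, hg, H21.mem_cj'.1 (h4 (mem_zpowers x))⟩
  by_cases h4 : X ≤ normalizer (P : Set G)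
  · refine h1.isPGroup.to_le (gen_le_iff.2 fun x hx h5 => ?_)
    obtain ⟨g, hg, y, hy, rfl⟩ := h3 x (mem_gen hx h5) h5
    exact (mem_normalizer_iff.1 (h4 (hX hg)) y).1 hy
  refine absurd (H21.eq_bot_of_sol_of_le_der (H21.sol_of_le h.sol hX) ?_) h.ne
  have h5 := h.min (X ⊓ normalizer (P : Set G)) (inf_lt_left.2 h4) (zpowers_le.1 (le_normalizer_iff.2
    fun g hg x hx => mem_inf.2 ⟨Normal.conj_mem inferInstance x hx.1 g,
      mul_mem (mul_mem (h2 hg) (mem_inf.1 hx).2) (inv_mem (h2 hg))⟩))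
  have h6 : L ≤ ⁅L, L⁆ ⊔ P := gen_le_iff.2 fun x hx h5 => by
    obtain ⟨g, hg, y, hy, rfl⟩ := h3 x (mem_gen hx h5) h5
    simpa [commutatorElement_def] using mul_mem (mem_sup_left (commutator_mem_commutator hg (h1.le hy)))
      (mem_sup_right hy : y ∈ ⁅L, L⁆ ⊔ P)
  have e : X.map (QuotientGroup.mk' ⁅L, L⁆) = (X ⊓ normalizer (P : Set G)).map (QuotientGroup.mk' ⁅L, L⁆) := by
    refine le_antisymm ?_ (map_mono inf_le_left)
    rintro _ ⟨x, hx, rfl⟩
    obtain ⟨n, hn, y, hy, rfl⟩ := H21.Hall.frattini_mem h1 (le_normalizer_of_normal (mem_top x))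
    obtain ⟨c, hc, z, hz, rfl⟩ := mem_sup_of_normal_left.1 (h6 hn)
    refine ⟨z * y, ⟨mul_mem (hX (h1.le hz)) ((mul_mem_cancel_left (hX hn)).1 hx), mul_mem (le_normalizer hz) hy⟩, ?_⟩
    rw [mul_assoc, map_mul _ c, show QuotientGroup.mk' ⁅L, L⁆ c = 1 from (QuotientGroup.eq_one_iff c).2 hc, one_mul]
  have := map_D (QuotientGroup.mk' ⁅L, L⁆) X h.good
  rwa [e, ← map_D _ _ h.good, h5, Subgroup.map_bot, Subgroup.map_eq_bot_iff, QuotientGroup.ker_mk'] at this

theorem nt : Nontrivial V := by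
  by_contra h1
  rw [not_nontrivial_iff_subsingleton] at h1
  exact not_le_ker h.inj h.ne fun x _ => LinearMap.ext fun _ => Subsingleton.elim _ _

theorem st (hX : L ≤ D (l :: s) X) (h1 : ⁅L, L⁆ ≤ centralizer (L : Set G)) (h2 : Hc L W)
    (h3 : ∀ g : G, a • g • W = g • W) : St X L a r p l W :=
  ⟨h2, h.hr, h.hp, h.pr, h.ha, h.cop, h.nX, h.sol, h.dec, h.inj, h.irr, h.good.prime, h.lp, hX.trans (D_le _ _),
    h.pg.to_le hX, h1, h3⟩

theorem sep [L.Normal] (hX : L ≤ D (l :: s) X) (h1 : ⁅L, L⁆ ≤ centralizer (L : Set G)) (h2 : Hc L W)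
    (J : Subgroup G) : Sep J W := h2.sep h1 (card_ne_zero h.hp h.good.prime h.lp (h.pg.to_le hX)) J

theorem mem_sup (g : G) : g ∈ X ⊔ zpowers a := by
  obtain ⟨x, hx, i, rfl⟩ := h.dec g
  exact mul_mem (mem_sup_left hx) (mem_sup_right (pow_mem (mem_zpowers a) i))

end Co

theorem Co.one (h : Co ρ X a r p [l]) : Con ρ (Cx X a) a p 1 := by
  have := h.nX
  have := h.nt
  obtain ⟨z, h1, h2, h3⟩ := exists_cent_ne_one h.good.prime le_normalizer h.pg h.ne fun y hy h1 =>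
    gen_le_iff.2 fun x hx h2 => by
      rw [h2.eq_one (pe_of_isPGroup h.pg hx) ((Nat.coprime_primes h.good.prime hy).2 h1.symm)]; exact one_mem _
  obtain ⟨W, hW⟩ := exists_hc (ρ := ρ) (D [l] X ⊓ centralizer (D [l] X : Set G))
  have h4 : D [l] X ⊓ centralizer (D [l] X : Set G) ≤ centralizer (D [l] X ⊓ centralizer (D [l] X : Set G) :) :=
    inf_le_right.trans (centralizer_le fun _ h => h.1)
  have h5 := (commutator_le_left _ (D [l] X ⊓ centralizer (D [l] X : Set G))).trans h4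
  by_cases h6 : ∀ g : G, a • g • W = g • W
  · refine Or.inr ⟨[l], h.good, by simp, not_le_ker h.inj fun e => h2 (mem_bot.1 (e ▸ ?_)), Or.inl le_rfl⟩
    exact mem_gen (mem_Cx.2 ⟨D_le _ _ h1, (h.st inf_le_left h5 hW h6).cent_a ⟨h1, h3⟩ (h4 ⟨h1, h3⟩)⟩)
      (pe_of_isPGroup h.pg h1)
  · push Not at h6
    obtain ⟨g, hg⟩ := h6
    exact Or.inl ⟨[], Good.nil, by simp, by simp, Or.inl ⟨rfl, (h.sep inf_le_left h5 (hW.smul g) ⊤).exists_fixed
      h.hr h.ha (hW.smul g).ne hg (mem_top a)⟩⟩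

end Cfsg.Agent.L0.Tu
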