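/-
The Fitting height of a solvable group with a coprime automorphism of prime order.
-/
import Cfsg.Agent.L0.Tu9

set_option autoImplicit false
set_option linter.unusedSectionVars false

namespace Cfsg.Agent.L0.Tu

open Subgroup
open scoped commutatorElement

universe u

section

variable {G : Type u} [Group G] [Finite G] {k : Type} [Field k] [IsAlgClosed k] {V : Type} [AddCommGroup V]
  [Module k V] [FiniteDimensional k V] {ρ : G →* Module.End k V} {X : Subgroup G} {a : G} {r p l q : ℕ} [CharP k p]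
  {s : List ℕ}

theorem cent_of_comm_cent {L H : Subgroup G} [hL : L.Normal] (hP : IsPGroup l L) (hc : l.Coprime q)
    (h : ⁅gen q H, L⁆ ≤ centralizer (gen q H : Set G)) : L ≤ centralizer (gen q H : Set G) := by
  rw [le_centralizer_iff]
  refine gen_le_iff.2 fun d hd h1 y hy => (commutatorElement_eq_one_iff_mul_comm.1 ?_).symm
  have h2 : Commute d ⁅d, y⁆ := h (commutator_mem_commutator (mem_gen hd h1) hy) d (mem_gen hd h1)
  have h3 : ∀ n : ℕ, d ^ n * y * (d ^ n)⁻¹ = ⁅d, y⁆ ^ n * y := fun n => by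
    induction n with
    | zero => simp
    | succ n ih =>
      calc _ = d * (d ^ n * y * (d ^ n)⁻¹) * d⁻¹ := by rw [pow_succ']; group
        _ = (d * ⁅d, y⁆ ^ n) * y * d⁻¹ := by rw [ih]; group
        _ = _ := by rw [(h2.pow_right n).eq, pow_succ, commutatorElement_def]; group
  obtain ⟨n, hn⟩ := h1
  refine PE.eq_one ⟨n, ?_⟩ (pe_of_isPGroup hP (mul_mem (hL.conj_mem y hy d) (inv_mem hy))) hc
  simpa [hn] using (h3 (q ^ n)).symm

theorem Co.step (hE : Engine.{u}) (ih : MM.{u} r (q :: s)) (h : Co ρ X a r p (l :: q :: s)) :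
    Con ρ (Cx X a) a p (s.length + 2) := by
  have := h.nX
  have := h.nt
  have := Fact.mk h.good.prime
  have haX : ∀ x ∈ X, a * x * a⁻¹ ∈ X := fun x hx => Normal.conj_mem inferInstance x hx a
  have hlq := (Nat.coprime_primes h.good.prime h.good.tail.prime).2 h.good.ne
  obtain ⟨L, ⟨nL, h1, h2⟩, hmin⟩ := exists_minimal_of_wellFoundedLT (fun L : Subgroup G => L.Normal ∧
      L ≤ D (l :: q :: s) X ∧ ¬ L ≤ centralizer (D (q :: s) X : Set G)) ⟨_, inferInstance, le_rfl, fun h1 =>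
    h.ne (eq_bot_iff.2 (gen_le_of_comm h.good.prime h.good.tail.prime h.good.ne (by simp) fun e he h2 d hd => by
      rw [mem_bot, mul_assoc e⁻¹, h1 (mem_gen he h2) d hd]; simp))⟩
  have hP := h.pg.to_le h1
  have hLX : L ≤ X := h1.trans (D_le _ _)
  have z1 : ∀ M : Subgroup G, M.Normal → M < L → M ≤ centralizer (D (q :: s) X : Set G) := fun M nM h3 => by
    by_contra h4
    exact h3.not_ge (hmin ⟨nM, h3.le.trans h1, h4⟩ h3.le)
  have z3 : L ≤ ⁅D (q :: s) X, L⁆ := by
    by_contra h3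
    exact h2 (cent_of_comm_cent hP hlq (z1 _ inferInstance (lt_of_le_not_ge (commutator_le_right _ _) h3)))
  set Z := L ⊓ centralizer (D (q :: s) X : Set G) with hZ
  have z4 : Z ≤ centralizer (L : Set G) := by
    rw [le_centralizer_iff, ← commutator_eq_bot_iff_le_centralizer, eq_bot_iff]
    refine (commutator_mono z3 le_rfl).trans (commutator_commutator_eq_bot_of_rotate ?_ ?_).le
    · exact commutator_eq_bot_iff_le_centralizer.2 ((commutator_le_right _ _).trans inf_le_right)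
    · rw [commutator_eq_bot_iff_le_centralizer.2 (inf_le_right : Z ≤ _), commutator_bot_left]
  have hne : L ≠ ⊥ := fun e => h2 (e ▸ bot_le)
  have z5 : ⁅L, L⁆ ≤ Z := le_inf (commutator_le_left _ _)
    (z1 _ inferInstance (H21.der_lt_of_sol (H21.sol_of_le h.sol hLX) hne))
  have z6 : ∀ x ∈ L, x ^ l ∈ Z := fun x hx => ⟨pow_mem hx l, z1 ((frattini L).map L.subtype) inferInstance
    (lt_of_le_of_ne (map_subtype_le _) fun e => by
      have := (nontrivial_iff_ne_bot L).2 hne
      refine H1.frattini_ne_top (G := L) (map_injective L.subtype_injective ?_)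
      rw [e, ← MonoidHom.range_eq_map, subtype_range]) ⟨_, H1.pow_mem_frattini hP ⟨x, hx⟩, rfl⟩⟩
  have fin : D (l :: q :: s) (Cx X a) ≠ ⊥ → Con ρ (Cx X a) a p (s.length + 2) := fun h3 =>
    Or.inr ⟨_, h.good, by simp, not_le_ker h.inj h3, Or.inl le_rfl⟩
  by_cases ha : L ≤ centralizer {a}
  · have haL : a ∈ centralizer (L : Set G) := fun y hy => mem_centralizer_singleton_iff.1 (ha hy)
    have h3 := D_le_sup h.hr h.ha h.cop haX (B := centralizer (L : Set G)) (fun x hx => by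
      simpa [mul_assoc] using mul_mem (Normal.conj_mem' inferInstance a haL x) (inv_mem haL)) h.good.tail
    refine fin fun e => h2 (le_centralizer_iff.1 (h3.trans (sup_le (fun d hd y hy => ?_) le_rfl)))
    obtain ⟨e1, e2, -⟩ := comm_mem hLX hd hy (mem_centralizer_singleton_iff.1 (ha hy)).symm
    exact (commutatorElement_eq_one_iff_mul_comm.1
      (mem_bot.1 (e ▸ mem_gen e1 (pe_of_isPGroup hP e2) : _ ∈ (⊥ : Subgroup G)))).symm
  obtain ⟨W, hW⟩ := exists_hc (ρ := ρ) L
  have hS := fun J => h.sep h1 (z5.trans z4) hW J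
  by_cases hv : ∃ v, v ≠ 0 ∧ ρ a v = v
  swap
  · refine fin ((h.st h1 (z5.trans z4) hW fun g => ?_).case0 hE (fun v h3 => by_contra fun h4 => hv ⟨v, h4, h3⟩)
      h.good (fun M nM h3 => (le_inf h3.le (z1 M nM h3)).trans z4) z3 ha)
    by_contra h3
    exact hv (((hS ⊤).smul (mem_top g)).exists_fixed h.hr h.ha (ne_bot_smul hW.ne g) h3 (mem_top a))
  have st : ∀ t, Good t → t ≠ [] → D t (Cx X a) ≤ Kr ρ a → D t (Cx X a) ≠ ⊥ → St X L a r p l W :=
    fun t ht h3 h4 h5 => h.st h1 (z5.trans z4) hW fun g => by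
      by_contra h6
      refine not_le_ker h.inj h5 fun x hx => ?_
      rw [MonoidHom.mem_ker, ← sub_eq_zero]
      exact eq_zero_of_orbit h.irr hW.ne fun g' v hv => by
        simp [qp h.sol (le_normalizer_of_normal (mem_top a)) h.hr h.ha h.cop ht h3 h4 (hS _) ⟨g, h.mem_sup g, h6⟩
          (h.mem_sup g') hx v hv]
  have hlr : l ≠ r := fun e => h.cop (by
    obtain ⟨n, h3, h4⟩ := hP.nontrivial_iff_card.1 ((nontrivial_iff_ne_bot L).2 hne)
    exact e ▸ (h4 ▸ dvd_pow_self l h3.ne' : l ∣ _).trans (card_dvd_of_le hLX))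
  obtain ⟨n, σ, h3, h4⟩ := exists_rep (AlgebraicClosure (ZMod l)) z5 z6
  obtain ⟨h4, h5⟩ := h4 a r h.ha (prime_ne_zero h.good.prime h.hr hlr.symm)
  rcases ih G X a _ l _ σ h.sol (le_normalizer_of_normal (mem_top a)) h.ha h.cop h.good.prime hlr
    (by simpa using h.good.ne.symm) fun h6 => h2 (z3.trans (commutator_le.2 fun d hd y hy => ((h3 d).1 (h6 hd) y hy).2))
    with ⟨t, ht, h6, h7, h8⟩ | ⟨t, ht, h6, h7, h8⟩
  · have ht' := ht.cons h.good.prime h7
    obtain ⟨y, e1, e2, e3⟩ : ∃ y ∈ D (l :: t) (Cx X a), y ∈ L ∧ y ≠ 1 := by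
      have key : ∀ y ∈ L, ⁅a, y⁆ ∈ Z → ∃ c ∈ L, Commute a c ∧ ∃ z ∈ Z, y = c * z := fun y hy h9 => by
        obtain ⟨c, e1, b, e2, e3⟩ := exists_dec h.hr h.ha (fun h9 => h.cop (h9.trans (card_dvd_of_le hLX)))
          (fun x hx => nL.conj_mem x hx a) (B := Z) (fun x hx => Normal.conj_mem inferInstance x hx a) hy (by
            simpa [commutatorElement_def, mul_assoc] using Normal.conj_mem' inferInstance _ h9 y)
        exact ⟨c, e1.1, (mem_Cx.1 e1).2, b, e2.2, e3⟩
      rcases h8 with ⟨rfl, v, h8, h9⟩ | h8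
      · have := mt h5 fun h10 => h8 (h10 v h9)
        push Not at this
        obtain ⟨y, hy, e1, e2⟩ := this
        obtain ⟨c, e3, e4, z, e5, rfl⟩ := key y hy e1
        exact ⟨c, mem_gen (mem_Cx.2 ⟨hLX e3, e4⟩) (pe_of_isPGroup hP e3), e3, fun e => e2 (by simpa [e] using e5)⟩
      · obtain ⟨d, hd, h9⟩ := SetLike.not_le_iff_exists.1 h8
        have := mt (h4 d) h9
        push Not at this
        obtain ⟨y, hy, e1, e2⟩ := this
        obtain ⟨c, e3, e4, z, e5, rfl⟩ := key y hy e1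
        obtain ⟨e6, e7, -⟩ := comm_mem hLX hd e3 e4
        refine ⟨_, mem_gen e6 (pe_of_isPGroup hP e7), e7, fun e => e2 ?_⟩
        rw [show ⁅d, c * z⁆ = ⁅d, c⁆ * (c * (d * z * d⁻¹ * z⁻¹) * c⁻¹) by simp only [commutatorElement_def]; group, e,
          one_mul]
        exact Normal.conj_mem inferInstance _ (mul_mem (Normal.conj_mem inferInstance z e5 d) (inv_mem e5)) c
    exact Or.inl ⟨l :: t, ht', by simp at h6 ⊢; omega, by simpa using h.lp, Or.inr fun h9 => e3
      ((st _ ht' (by simp) h9 fun e => e3 (mem_bot.1 (e ▸ e1))).Kr_inf hv e2 (mem_Cx.1 (D_le _ _ e1)).2 (h9 e1))⟩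
  obtain ⟨q', t, rfl⟩ := List.exists_cons_of_ne_nil h6
  have h9 : D (q' :: t) (Cx X a) ≠ ⊥ := fun e => h7 (e ▸ bot_le)
  simp only [List.length_cons, List.head?_cons, Option.some.injEq] at h8
  by_cases e : q' = p
  · exact Or.inr ⟨_, ht, h6, not_le_ker h.inj h9, Or.inr ⟨by
      have := h8.resolve_right fun h10 => h.lp (h10.2.symm.trans e)
      simp only [List.length_cons]; omega, by simp [e]⟩⟩
  by_cases hK : D (q' :: t) (Cx X a) ≤ Kr ρ a
  swap
  · exact Or.inl ⟨_, ht, by simp only [List.length_cons]; omega, by simpa using e, Or.inr hK⟩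
  obtain ⟨x, hx, h10⟩ := SetLike.not_le_iff_exists.1 h7
  rw [h3] at h10
  push Not at h10
  obtain ⟨y, hy, h10⟩ := h10
  have S := st _ ht h6 hK h9
  refine S.caseB hE hv ht (h8.imp (by omega) And.right) hK hx hy fun h11 => h10 ?_
  have h12 : ⁅x, y⁆ ∈ L := mul_mem (nL.conj_mem y hy x) (inv_mem hy)
  exact ⟨h12, z1 (L ⊓ centralizer (L : Set G)) inferInstance (inf_lt_left.2 fun h13 => ha fun z hz =>
    mem_centralizer_singleton_iff.2 (S.cent_a hz (h13 hz)).symm) ⟨h12, h11⟩⟩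

end

theorem mm (hE : Engine.{u}) {r : ℕ} (hr : r.Prime) : ∀ (s : List ℕ) (l : ℕ), Good (l :: s) → MM.{u} r (l :: s) := by
  intro s
  induction s with
  | nil => exact fun l hs => mm_of_co hr hs (by simp) fun _ _ _ _ _ _ _ _ _ _ _ _ _ _ _ h => h.one
  | cons q s ih =>
    exact fun l hs => mm_of_co hr hs (by simp) fun _ _ _ _ _ _ _ _ _ _ _ _ _ _ _ h => h.step hE (ih q hs.tail)

theorem exists_tower (hE : Engine.{u}) {r p q : ℕ} (hr : r.Prime) {s : List ℕ} (hs : Good (p :: q :: s)) :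
    ∀ (n : ℕ) {G : Type u} [Group G] [Finite G] (X : Subgroup G) [X.Normal] (a : G), Nat.card X = n →
      Group.IsSolvable X → a ^ r = 1 → ¬ r ∣ Nat.card X → D (p :: q :: s) X ≠ ⊥ →
      ∃ t, Good t ∧ s.length ≤ t.length ∧ D t (Cx X a) ≠ ⊥ := by
  intro n
  induction n using Nat.strong_induction_on with
  | _ n ih =>
  intro G _ _ X _ a hn hX ha hc hD
  have haX : ∀ x ∈ X, a * x * a⁻¹ ∈ X := fun x hx => Normal.conj_mem inferInstance x hx a
  obtain ⟨L, ⟨nL, h1, h2⟩, hmin⟩ := exists_minimal_of_wellFoundedLT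
    (fun L : Subgroup G => L.Normal ∧ L ≤ D (p :: q :: s) X ∧ L ≠ ⊥) ⟨_, inferInstance, le_rfl, hD⟩
  have hLX : L ≤ X := h1.trans (D_le _ _)
  by_cases h3 : D (p :: q :: s) X ≤ L
  swap
  · have := Normal.map ‹X.Normal› _ (QuotientGroup.mk'_surjective L)
    have hlt : Nat.card (X.map (QuotientGroup.mk' L)) < n := by
      have h5 : Nat.card (L.subgroupOf X) * (L.subgroupOf X).index = n := hn ▸ (L.subgroupOf X).card_mul_index
      have h6 : Nat.card (X.map (QuotientGroup.mk' L)) = (L.subgroupOf X).index := by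
        rw [← relIndex_ker, QuotientGroup.ker_mk', relIndex]
      have h7 : 1 < Nat.card (L.subgroupOf X) := by
        rw [Nat.card_congr (subgroupOfEquivOfLe hLX).toEquiv]
        exact (one_lt_card_iff_ne_bot L).2 h2
      have h8 := Nat.pos_of_ne_zero (L.subgroupOf X).index_ne_zero_of_finite
      rw [h6, ← h5]
      nlinarith
    obtain ⟨t, ht, h4, h5⟩ := ih _ hlt (X.map (QuotientGroup.mk' L)) (QuotientGroup.mk' L a) rfl (H21.sol_map _ hX)
      (by rw [← map_pow, ha, map_one]) (fun h4 => hc (h4.trans (card_map_dvd _ _)))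
      (by rwa [← map_D _ _ hs, Ne, Subgroup.map_eq_bot_iff, QuotientGroup.ker_mk'])
    exact ⟨t, ht, h4, fun e => h5 (by rw [← map_Cx hr ha hc haX, ← map_D _ _ ht, e, Subgroup.map_bot])⟩
  have z1 : ∀ M : Subgroup G, M.Normal → M < L → M = ⊥ := fun M nM h4 => by
    by_contra h5
    exact h4.not_ge (hmin ⟨nM, h4.le.trans h1, h5⟩ h4.le)
  have z5 : ⁅L, L⁆ ≤ ⊥ := (z1 _ inferInstance (H21.der_lt_of_sol (H21.sol_of_le hX hLX) h2)).le
  have := Fact.mk hs.prime
  have hab : Group.IsNilpotent L := by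
    letI : CommGroup L := { (inferInstance : Group L) with
      mul_comm := fun x y => Subtype.ext
        (commutatorElement_eq_one_iff_mul_comm.1 (z5 (commutator_mem_commutator x.2 y.2))) }
    exact CommGroup.isNilpotent
  have hP : IsPGroup p L := (isPGroup_gen_of_nil hs.prime (H := L) hab).to_le
    (h1.trans (gen_le_iff.2 fun x hx h4 => mem_gen (h3 (mem_gen hx h4)) h4))
  have z6 : ∀ x ∈ L, x ^ p ∈ (⊥ : Subgroup G) := fun x hx => (z1 ((frattini L).map L.subtype) inferInstance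
    (lt_of_le_of_ne (map_subtype_le _) fun e => by
      have := (nontrivial_iff_ne_bot L).2 h2
      refine H1.frattini_ne_top (G := L) (map_injective L.subtype_injective ?_)
      rw [e, ← MonoidHom.range_eq_map, subtype_range])).le ⟨_, H1.pow_mem_frattini hP ⟨x, hx⟩, rfl⟩
  have hpr : p ≠ r := fun e => hc (by
    obtain ⟨n, h3, h4⟩ := hP.nontrivial_iff_card.1 ((nontrivial_iff_ne_bot L).2 h2)
    exact e ▸ (h4 ▸ dvd_pow_self p h3.ne' : p ∣ _).trans (card_dvd_of_le hLX))
  obtain ⟨m, σ, h4, h5⟩ := exists_rep (AlgebraicClosure (ZMod p)) z5 z6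
  obtain ⟨h5, h5'⟩ := h5 a r ha (prime_ne_zero hs.prime hr hpr.symm)
  rcases mm hE hr s q hs.tail G X a _ p _ σ hX (le_normalizer_of_normal (mem_top a)) ha hc hs.prime hpr
    (by simpa using hs.ne.symm) fun h6 => hD (eq_bot_iff.2 (gen_le_of_comm hs.prime hs.tail.prime hs.ne (by simp)
      fun e he h7 d hd => by
        simpa [commutatorElement_def, mul_assoc] using
          Normal.conj_mem' inferInstance _ ((h4 d).1 (h6 hd) e (h3 (mem_gen he h7))) e))
    with ⟨t, ht, h6, h7, h8⟩ | ⟨t, ht, -, h7, h8⟩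
  · refine ⟨p :: t, ht.cons hs.prime h7, by simp only [List.length_cons] at h6 ⊢; omega, fun e => ?_⟩
    rcases h8 with ⟨rfl, v, h8, h9⟩ | h8
    · exact h8 (h5' (fun y hy e1 => e ▸ mem_gen (mem_Cx.2 ⟨hLX hy, commutatorElement_eq_one_iff_commute.1 e1⟩)
        (pe_of_isPGroup hP hy)) v h9)
    · refine h8 fun d hd => h5 d fun y hy e1 => ?_
      obtain ⟨e6, e7, -⟩ := comm_mem hLX hd hy (commutatorElement_eq_one_iff_commute.1 e1)
      exact e ▸ mem_gen e6 (pe_of_isPGroup hP e7)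
  · exact ⟨t, ht, by simp only [List.length_cons] at h8; omega, fun e => h7 (e ▸ bot_le)⟩

end Cfsg.Agent.L0.Tu
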